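import Mathlib

set_option autoImplicit false

namespace Cfsg.Agent.Lib.Helper61

open DihedralGroup

variable {G : Type*} [Group G]

theorem zpow_eq_of_cast_eq {x : G} {n : ℕ} (hx : x ^ n = 1) {a b : ℤ}
    (h : (a : ZMod n) = (b : ZMod n)) : x ^ a = x ^ b := by
  rw [zpow_eq_zpow_iff_modEq]
  have h1 : a ≡ b [ZMOD (n : ℤ)] := (ZMod.intCast_eq_intCast_iff a b n).mp h
  exact h1.of_dvd (Int.natCast_dvd_natCast.mpr (orderOf_dvd_of_pow_eq_one hx))

/-- The map from the dihedral group sending `r i` to `x ^ i` and `sr i` to `s * x ^ i`. -/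
def dihedralFun (s x : G) (n : ℕ) : DihedralGroup n → G
  | r i => x ^ (i.cast : ℤ)
  | sr i => s * x ^ (i.cast : ℤ)

theorem conj_zpow_of_conj {s x : G} (hs : s * s = 1) (hsx : s * x * s = x⁻¹) (k : ℤ) :
    x ^ k * s = s * x ^ (-k) := by
  have hsinv : s⁻¹ = s := inv_eq_of_mul_eq_one_right hs
  have h1 : s * x ^ k * s⁻¹ = (s * x * s⁻¹) ^ k := by
    rw [conj_zpow]
  rw [hsinv, hsx, inv_zpow, ← zpow_neg] at h1
  calc x ^ k * s = s * s * (x ^ k * s) := by rw [hs, one_mul]
    _ = s * (s * x ^ k * s) := by group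
    _ = s * x ^ (-k) := by rw [h1]

/-- The dihedral group of order `2n` maps to any group with elements `s`, `x` satisfying the
dihedral relations. -/
def dihedralLift (s x : G) (n : ℕ) (hs : s * s = 1) (hsx : s * x * s = x⁻¹) (hx : x ^ n = 1) :
    DihedralGroup n →* G :=
  MonoidHom.mk' (dihedralFun s x n) (by
    intro a b
    have key := conj_zpow_of_conj hs hsx
    rcases a with i | i <;> rcases b with j | j
    · show x ^ ((i + j : ZMod n).cast : ℤ) = x ^ (i.cast : ℤ) * x ^ (j.cast : ℤ)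
      rw [← zpow_add]
      apply zpow_eq_of_cast_eq hx
      simp
    · show s * x ^ ((j - i : ZMod n).cast : ℤ) = x ^ (i.cast : ℤ) * (s * x ^ (j.cast : ℤ))
      rw [← mul_assoc, key, mul_assoc, ← zpow_add]
      congr 1
      apply zpow_eq_of_cast_eq hx
      simp [sub_eq_neg_add]
    · show s * x ^ ((i + j : ZMod n).cast : ℤ) = (s * x ^ (i.cast : ℤ)) * x ^ (j.cast : ℤ)
      rw [mul_assoc, ← zpow_add]
      congr 1
      apply zpow_eq_of_cast_eq hx
      simp
    · show x ^ ((j - i : ZMod n).cast : ℤ) = (s * x ^ (i.cast : ℤ)) * (s * x ^ (j.cast : ℤ))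
      rw [mul_assoc, ← mul_assoc (x ^ _) s, key, mul_assoc, ← mul_assoc s s, hs, one_mul,
        ← zpow_add]
      apply zpow_eq_of_cast_eq hx
      simp [sub_eq_neg_add])

theorem dihedralLift_r (s x : G) (n : ℕ) (hs : s * s = 1) (hsx : s * x * s = x⁻¹)
    (hx : x ^ n = 1) (i : ZMod n) : dihedralLift s x n hs hsx hx (r i) = x ^ (i.cast : ℤ) := rfl

theorem dihedralLift_sr (s x : G) (n : ℕ) (hs : s * s = 1) (hsx : s * x * s = x⁻¹)
    (hx : x ^ n = 1) (i : ZMod n) :
    dihedralLift s x n hs hsx hx (sr i) = s * x ^ (i.cast : ℤ) := rfl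

theorem dihedralLift_surjective (s x : G) (n : ℕ) (hs : s * s = 1) (hsx : s * x * s = x⁻¹)
    (hx : x ^ n = 1) (hgen : Subgroup.closure ({s, x} : Set G) = ⊤) :
    Function.Surjective (dihedralLift s x n hs hsx hx) := by
  rw [← MonoidHom.range_eq_top, eq_top_iff, ← hgen, Subgroup.closure_le]
  intro g hg
  rcases hg with rfl | rfl
  · refine ⟨sr 0, ?_⟩
    rw [dihedralLift_sr]
    simp
  · refine ⟨r 1, ?_⟩
    rw [dihedralLift_r]
    have : g ^ (((1 : ZMod n).cast : ℤ)) = g ^ (1 : ℤ) := by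
      apply zpow_eq_of_cast_eq hx
      simp
    rw [this, zpow_one]

theorem dihedralLift_injective (s x : G) (hs : s * s = 1) (hsx : s * x * s = x⁻¹)
    (hns : s ∉ Subgroup.zpowers x) :
    Function.Injective (dihedralLift s x (orderOf x) hs hsx (pow_orderOf_eq_one x)) := by
  rw [injective_iff_map_eq_one]
  intro a ha
  rcases a with i | i
  · rw [dihedralLift_r] at ha
    have h0 : x ^ ((i.cast : ℤ)) = x ^ (0 : ℤ) := by rw [ha, zpow_zero]
    rw [zpow_eq_zpow_iff_modEq] at h0
    have : ((i.cast : ℤ) : ZMod (orderOf x)) = ((0 : ℤ) : ZMod (orderOf x)) :=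
      (ZMod.intCast_eq_intCast_iff _ _ _).mpr h0
    simp at this
    rw [this]; rfl
  · exfalso
    rw [dihedralLift_sr] at ha
    apply hns
    have : s = (x ^ (i.cast : ℤ))⁻¹ := eq_inv_of_mul_eq_one_left ha
    rw [this]
    exact Subgroup.inv_mem _ (Subgroup.zpow_mem_zpowers x _)

/-- A group generated by `s` and `x` satisfying the dihedral relations, with `s` not a power of
`x`, is dihedral. -/
noncomputable def dihedralEquiv (s x : G) (hs : s * s = 1) (hsx : s * x * s = x⁻¹)
    (hns : s ∉ Subgroup.zpowers x) (hgen : Subgroup.closure ({s, x} : Set G) = ⊤) :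
    DihedralGroup (orderOf x) ≃* G :=
  MulEquiv.ofBijective (dihedralLift s x (orderOf x) hs hsx (pow_orderOf_eq_one x))
    ⟨dihedralLift_injective s x hs hsx hns,
     dihedralLift_surjective s x _ hs hsx _ hgen⟩

end Cfsg.Agent.Lib.Helper61
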