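import Mathlib
import Cfsg.Agent.Lib.Helper6.Nc.Defs

/-! # Nc hive (S3894, architect helper6), leaf NC-U2 (helper61): the unipotent elements of `GL_2` and
the two coordinate lines. -/

set_option autoImplicit false

namespace Cfsg.Agent.Lib.Helper6.Nc

open Matrix

variable {F : Type*} [Field F]

theorem ncu2_mulVec (M : Matrix (Fin 2) (Fin 2) F) (x y : F) :
    M *ᵥ ![x, y] = ![M 0 0 * x + M 0 1 * y, M 1 0 * x + M 1 1 * y] := by
  ext i
  fin_cases i <;> simp [Matrix.mulVec, dotProduct, Fin.sum_univ_two]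

theorem ncu2_det_ne (g : GL (Fin 2) F) :
    (g : Matrix (Fin 2) (Fin 2) F) 0 0 * (g : Matrix (Fin 2) (Fin 2) F) 1 1 -
      (g : Matrix (Fin 2) (Fin 2) F) 0 1 * (g : Matrix (Fin 2) (Fin 2) F) 1 0 ≠ 0 := by
  have h : IsUnit (g : Matrix (Fin 2) (Fin 2) F).det :=
    (Matrix.isUnit_iff_isUnit_det _).mp (Units.isUnit g)
  rw [Matrix.det_fin_two] at h
  exact h.ne_zero

theorem ncu2_mem_e0 (g : GL (Fin 2) F) :
    g ∈ lineStab ![(1 : F), 0] ↔ (g : Matrix (Fin 2) (Fin 2) F) 1 0 = 0 := by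
  rw [mem_lineStab]
  constructor
  · rintro ⟨c, hc⟩
    rw [ncu2_mulVec] at hc
    have := congrFun hc 1
    simpa using this
  · intro h
    have hd := ncu2_det_ne g
    rw [h, mul_zero, sub_zero] at hd
    have h00 : (g : Matrix (Fin 2) (Fin 2) F) 0 0 ≠ 0 := left_ne_zero_of_mul hd
    refine ⟨Units.mk0 _ h00, ?_⟩
    rw [ncu2_mulVec, h]
    ext i
    fin_cases i <;> simp

theorem ncu2_mem_e1 (g : GL (Fin 2) F) :
    g ∈ lineStab ![(0 : F), 1] ↔ (g : Matrix (Fin 2) (Fin 2) F) 0 1 = 0 := by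
  rw [mem_lineStab]
  constructor
  · rintro ⟨c, hc⟩
    rw [ncu2_mulVec] at hc
    have := congrFun hc 0
    simpa using this
  · intro h
    have hd := ncu2_det_ne g
    rw [h, zero_mul, sub_zero] at hd
    have h11 : (g : Matrix (Fin 2) (Fin 2) F) 1 1 ≠ 0 := right_ne_zero_of_mul hd
    refine ⟨Units.mk0 _ h11, ?_⟩
    rw [ncu2_mulVec, h]
    ext i
    fin_cases i <;> simp

/-- if `g⁻¹ u g` fixes the line `⟨v⟩` with eigenvalue `c` then `u (g v) = c (g v)` -/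
theorem ncu2_transport (g u : GL (Fin 2) F) (v : Fin 2 → F) (c : F)
    (hc : ((g⁻¹ * u * g : GL (Fin 2) F) : Matrix (Fin 2) (Fin 2) F) *ᵥ v = c • v) :
    (u : Matrix (Fin 2) (Fin 2) F) *ᵥ ((g : Matrix (Fin 2) (Fin 2) F) *ᵥ v) =
      c • ((g : Matrix (Fin 2) (Fin 2) F) *ᵥ v) := by
  have h2 : (g : Matrix (Fin 2) (Fin 2) F) *ᵥ
      (((g⁻¹ * u * g : GL (Fin 2) F) : Matrix (Fin 2) (Fin 2) F) *ᵥ v) =
      (g : Matrix (Fin 2) (Fin 2) F) *ᵥ (c • v) := by rw [hc]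
  rw [Matrix.mulVec_mulVec, ← Units.val_mul, Matrix.mulVec_smul] at h2
  have e : g * (g⁻¹ * u * g) = u * g := by group
  rw [e, Units.val_mul, ← Matrix.mulVec_mulVec] at h2
  exact h2

/-- NC-U2 (a). -/
theorem uUg_mem : uUg F ∈ lineStab ![(1 : F), 0] := by
  rw [ncu2_mem_e0, coe_uUg]
  simp

/-- NC-U2 (b). -/
theorem uLg_mem : uLg F ∈ lineStab ![(0 : F), 1] := by
  rw [ncu2_mem_e1, coe_uLg]
  simp

/-- NC-U2 (c). -/
theorem uUg_not_mem_e1 : uUg F ∉ lineStab ![(0 : F), 1] := by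
  rw [ncu2_mem_e1, coe_uUg]
  simp

/-- NC-U2 (d). -/
theorem uLg_not_mem_e0 : uLg F ∉ lineStab ![(1 : F), 0] := by
  rw [ncu2_mem_e0, coe_uLg]
  simp

/-- NC-U2 (e).  The only line fixed by `[[1,1],[0,1]]` is `⟨e₀⟩`: `w = g e₀`, `u w = c w`. -/
theorem uUg_unique (g : GL (Fin 2) F) (h : g⁻¹ * uUg F * g ∈ lineStab ![(1 : F), 0]) :
    g ∈ lineStab ![(1 : F), 0] := by
  obtain ⟨c, hc⟩ := mem_lineStab.mp h
  have h2 := ncu2_transport g (uUg F) _ _ hc
  rw [ncu2_mem_e0]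
  rw [ncu2_mulVec (g : Matrix (Fin 2) (Fin 2) F), coe_uUg, ncu2_mulVec] at h2
  simp only [mul_one, mul_zero, add_zero, Matrix.of_apply, Matrix.cons_val', Matrix.cons_val_zero,
    Matrix.cons_val_one, Matrix.empty_val', Matrix.cons_val_fin_one, one_mul, zero_mul, zero_add,
    Matrix.smul_cons, smul_eq_mul, Matrix.smul_empty] at h2
  have e0 := congrFun h2 0
  have e1 := congrFun h2 1
  simp only [Matrix.cons_val_zero, Matrix.cons_val_one] at e0 e1
  by_contra hne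
  have hc1 : (c : F) = 1 := by
    have : ((c : F) - 1) * (g : Matrix (Fin 2) (Fin 2) F) 1 0 = 0 := by rw [sub_mul, one_mul, ← e1, sub_self]
    rcases mul_eq_zero.mp this with h' | h'
    · exact sub_eq_zero.mp h'
    · exact absurd h' hne
  rw [hc1, one_mul] at e0
  exact hne (by simpa using e0)

/-- NC-U2 (f). -/
theorem uLg_unique (g : GL (Fin 2) F) (h : g⁻¹ * uLg F * g ∈ lineStab ![(0 : F), 1]) :
    g ∈ lineStab ![(0 : F), 1] := by
  obtain ⟨c, hc⟩ := mem_lineStab.mp h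
  have h2 := ncu2_transport g (uLg F) _ _ hc
  rw [ncu2_mem_e1]
  rw [ncu2_mulVec (g : Matrix (Fin 2) (Fin 2) F), coe_uLg, ncu2_mulVec] at h2
  simp only [mul_one, mul_zero, add_zero, Matrix.of_apply, Matrix.cons_val', Matrix.cons_val_zero,
    Matrix.cons_val_one, Matrix.empty_val', Matrix.cons_val_fin_one, one_mul, zero_mul, zero_add,
    Matrix.smul_cons, smul_eq_mul, Matrix.smul_empty] at h2
  have e0 := congrFun h2 0
  have e1 := congrFun h2 1
  simp only [Matrix.cons_val_zero, Matrix.cons_val_one] at e0 e1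
  by_contra hne
  have hc1 : (c : F) = 1 := by
    have : ((c : F) - 1) * (g : Matrix (Fin 2) (Fin 2) F) 0 1 = 0 := by rw [sub_mul, one_mul, ← e0, sub_self]
    rcases mul_eq_zero.mp this with h' | h'
    · exact sub_eq_zero.mp h'
    · exact absurd h' hne
  rw [hc1, one_mul] at e1
  exact hne (by simpa using e1)

end Cfsg.Agent.Lib.Helper6.Nc
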