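import Mathlib
import Cfsg.Agent.Lib.Helper6.Nc.Defs
import Cfsg.Agent.Lib.Helper61.NcU2

/-! # Nc hive (S3894, architect helper6), leaf NC-SD (helper61): the diagonal element `diag(a, a⁻¹)` of
`GL_2`. -/

set_option autoImplicit false

namespace Cfsg.Agent.Lib.Helper6.Nc

open Matrix

variable {F : Type*} [Field F]

theorem ncsd_mem_diag (g : GL (Fin 2) F) :
    g ∈ diagSub F ↔ (g : Matrix (Fin 2) (Fin 2) F) 0 1 = 0 ∧ (g : Matrix (Fin 2) (Fin 2) F) 1 0 = 0 := by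
  unfold diagSub
  rw [Subgroup.mem_inf, ncu2_mem_e0, ncu2_mem_e1]
  exact and_comm

theorem ncsd_mul (a b : Fˣ) : (sDg (a * b) : GL (Fin 2) F) = sDg a * sDg b := by
  apply Units.ext
  rw [Units.val_mul, coe_sDg, coe_sDg, coe_sDg]
  ext i j
  fin_cases i <;> fin_cases j <;> simp [Matrix.mul_apply, Fin.sum_univ_two, mul_comm]

theorem ncsd_one : (sDg (1 : Fˣ) : GL (Fin 2) F) = 1 := by
  apply Units.ext
  rw [coe_sDg]
  ext i j
  fin_cases i <;> fin_cases j <;> simp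

theorem ncsd_inv (a : Fˣ) : (sDg a : GL (Fin 2) F)⁻¹ = sDg a⁻¹ := by
  apply inv_eq_of_mul_eq_one_right
  rw [← ncsd_mul, mul_inv_cancel, ncsd_one]

theorem ncsd_pow (a : Fˣ) (m : ℕ) : (sDg a : GL (Fin 2) F) ^ m = sDg (a ^ m) := by
  induction m with
  | zero => rw [pow_zero, pow_zero, ncsd_one]
  | succ k ih => rw [pow_succ, pow_succ, ih, ncsd_mul]

/-- NC-SD (a). -/
theorem sDg_mem_diag (a : Fˣ) : sDg a ∈ diagSub F := by
  rw [ncsd_mem_diag, coe_sDg]
  simp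

/-- NC-SD (b).  `s g = g d` with `d` diagonal, `a ≠ a⁻¹`: `g` is diagonal or antidiagonal;
antidiagonal `g` inverts `s`. -/
theorem sDg_conj (a : Fˣ) (ha : a ^ 2 ≠ 1) (g : GL (Fin 2) F)
    (h : g⁻¹ * sDg a * g ∈ diagSub F) (hg : g ∉ diagSub F) : g * sDg a * g⁻¹ = (sDg a)⁻¹ := by
  have haF : (a : F) ≠ ((a⁻¹ : Fˣ) : F) := by
    intro hh
    apply ha
    have h1 : a = a⁻¹ := Units.ext hh
    calc a ^ 2 = a * a := pow_two a
      _ = a * a⁻¹ := by rw [← h1]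
      _ = 1 := mul_inv_cancel a
  unfold diagSub at h
  rw [Subgroup.mem_inf] at h
  obtain ⟨⟨c, hc⟩, ⟨c', hc'⟩⟩ := h
  have h2 := ncu2_transport g (sDg a) _ _ hc
  have h2' := ncu2_transport g (sDg a) _ _ hc'
  rw [ncu2_mulVec (g : Matrix (Fin 2) (Fin 2) F), coe_sDg, ncu2_mulVec] at h2 h2'
  simp only [mul_one, mul_zero, add_zero, Matrix.of_apply, Matrix.cons_val', Matrix.cons_val_zero,
    Matrix.cons_val_one, Matrix.empty_val', Matrix.cons_val_fin_one, one_mul, zero_mul, zero_add,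
    Matrix.smul_cons, smul_eq_mul, Matrix.smul_empty] at h2 h2'
  have e00 := congrFun h2 0
  have e10 := congrFun h2 1
  have e01 := congrFun h2' 0
  have e11 := congrFun h2' 1
  simp only [Matrix.cons_val_zero, Matrix.cons_val_one] at e00 e10 e01 e11
  -- e00 : a * g00 = c * g00, e10 : a⁻¹ * g10 = c * g10, e01 : a * g01 = c' * g01, e11 : a⁻¹ * g11 = c' * g11
  set g00 := (g : Matrix (Fin 2) (Fin 2) F) 0 0 with hg00
  set g01 := (g : Matrix (Fin 2) (Fin 2) F) 0 1 with hg01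
  set g10 := (g : Matrix (Fin 2) (Fin 2) F) 1 0 with hg10
  set g11 := (g : Matrix (Fin 2) (Fin 2) F) 1 1 with hg11
  have hd : g00 * g11 - g01 * g10 ≠ 0 := ncu2_det_ne g
  have key : ∀ x y k : F, (a : F) * x = k * x → ((a⁻¹ : Fˣ) : F) * y = k * y → x = 0 ∨ y = 0 := by
    intro x y k hx hy
    by_contra hcon
    rw [not_or] at hcon
    have h1 : (a : F) = k := mul_right_cancel₀ hcon.1 hx
    have h3 : ((a⁻¹ : Fˣ) : F) = k := mul_right_cancel₀ hcon.2 hy
    exact haF (h1.trans h3.symm)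
  have hz : g00 = 0 ∧ g11 = 0 := by
    rcases key g00 g10 c e00 e10 with h0 | h0
    · rcases key g01 g11 c' e01 e11 with h1 | h1
      · exfalso; apply hd; rw [h0, h1]; ring
      · exact ⟨h0, h1⟩
    · rcases key g01 g11 c' e01 e11 with h1 | h1
      · exfalso; exact hg ((ncsd_mem_diag g).mpr ⟨h1, h0⟩)
      · exfalso; apply hd; rw [h0, h1]; ring
  rw [ncsd_inv, mul_inv_eq_iff_eq_mul]
  apply Units.ext
  rw [Units.val_mul, Units.val_mul, coe_sDg, coe_sDg]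
  ext i j
  fin_cases i <;> fin_cases j <;>
    simp [Matrix.mul_apply, Fin.sum_univ_two, ← hg00, ← hg11, hz.1, hz.2, mul_comm]

/-- NC-SD (c). -/
theorem sDg_pow (a : Fˣ) (m : ℕ) (h : (sDg a) ^ m = 1) : a ^ m = 1 := by
  rw [ncsd_pow] at h
  have h1 := congrArg (fun x : GL (Fin 2) F => (x : Matrix (Fin 2) (Fin 2) F) 0 0) h
  simp only [coe_sDg] at h1
  apply Units.ext
  simpa using h1

end Cfsg.Agent.Lib.Helper6.Nc
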