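import Cfsg.Agent.Lib.Helper12.D3Defs
import Cfsg.Agent.Lib.Helper65.D4gCOMM

/-! # D3 hive (S2183, helper12), leaf D3-CB (helper61): conjugation of `W(s,0,S,c,d,e)` by `x_b(τ)`.

Method: both sides of `x_b(τ) W = W' x_b(τ)` are collected into the normal form (root order
`18, 13, 12, 14, 19, 16, 15, 21, 17, 20, 22, 23`) by a terminating rewriting system made of the 66
pair relations of the positive root elements of `D₄` in characteristic 2. -/

set_option autoImplicit false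
set_option linter.unusedSimpArgs false

namespace Cfsg.Agent.Lib.Helper12.D3

open Cfsg Cfsg.Lie Cfsg.Agent.Lib.Helper36 Cfsg.Agent.Lib.Helper75.D4g

variable (K : Type*) [Field K] (φ : K →+* K)

theorem d3cb_tail {G : Type*} [Group G] {X Y : G} (h : X * Y = Y * X) (R : G) :
    X * (Y * R) = Y * (X * R) := by
  rw [← mul_assoc, h, mul_assoc]

theorem d3cb_tail3 {G : Type*} [Group G] {X Y Z : G} (h : X * Y = Y * X * Z) (R : G) :
    X * (Y * R) = Y * (X * (Z * R)) := by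
  rw [← mul_assoc, h, mul_assoc, mul_assoc]

theorem d3cb_coef [CharP K 2] (e : ℤ) (he : e = 1 ∨ e = -1) (b a : K) : (e : K) * (-b) * a = b * a := by
  rcases he with rfl | rfl
  · rw [CharTwo.neg_eq]; push_cast; ring
  · push_cast; ring

theorem d3cb_step (r : ℕ) {a b : K} {R1 R2 : GL chevD4.Idx K} (h : a = b) (hR : R1 = R2) :
    xg K r a * R1 = xg K r b * R2 := by rw [h, hR]

theorem d3cb_m (r : ℕ) (a b : K) : xg K r a * xg K r b = xg K r (a + b) :=
  (xGL_add chevD4 hD4 K r a b).symm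

theorem d3cb_mt (r : ℕ) (a b : K) (R : GL chevD4.Idx K) : xg K r a * (xg K r b * R) = xg K r (a + b) * R := by
  rw [← mul_assoc, d3cb_m]

theorem d3cb_c_13_18 (a b : K) : xg K 13 a * xg K 18 b = xg K 18 b * xg K 13 a :=
  (d4gcomm_nil 18 13 (by decide) (by decide) (by decide) (by decide) (by decide +kernel) b a).symm
theorem d3cb_ct_13_18 (a b : K) (R : GL chevD4.Idx K) :
    xg K 13 a * (xg K 18 b * R) = xg K 18 b * (xg K 13 a * R) := d3cb_tail (d3cb_c_13_18 K a b) R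

theorem d3cb_c_12_18 (a b : K) : xg K 12 a * xg K 18 b = xg K 18 b * xg K 12 a :=
  (d4gcomm_nil 18 12 (by decide) (by decide) (by decide) (by decide) (by decide +kernel) b a).symm
theorem d3cb_ct_12_18 (a b : K) (R : GL chevD4.Idx K) :
    xg K 12 a * (xg K 18 b * R) = xg K 18 b * (xg K 12 a * R) := d3cb_tail (d3cb_c_12_18 K a b) R

theorem d3cb_n_14_18 [CharP K 2] (a b : K) :
    xg K 14 a * xg K 18 b = xg K 18 b * xg K 14 a * xg K 19 (b * a) := by
  have h := d4gcomm_single (K := K) 18 14 19 (-1) (by decide) (by decide) (by decide) (by decide) (by decide +kernel) b a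
  rw [h, d3cb_coef K (-1) (Or.inr rfl) b a]
theorem d3cb_nn_14_18 [CharP K 2] (a b : K) :
    xg K 14 a * xg K 18 b = xg K 18 b * (xg K 14 a * xg K 19 (b * a)) := by
  rw [d3cb_n_14_18, mul_assoc]
theorem d3cb_nt_14_18 [CharP K 2] (a b : K) (R : GL chevD4.Idx K) :
    xg K 14 a * (xg K 18 b * R) = xg K 18 b * (xg K 14 a * (xg K 19 (b * a) * R)) :=
  d3cb_tail3 (d3cb_n_14_18 K a b) R

theorem d3cb_c_19_18 (a b : K) : xg K 19 a * xg K 18 b = xg K 18 b * xg K 19 a :=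
  (d4gcomm_nil 18 19 (by decide) (by decide) (by decide) (by decide) (by decide +kernel) b a).symm
theorem d3cb_ct_19_18 (a b : K) (R : GL chevD4.Idx K) :
    xg K 19 a * (xg K 18 b * R) = xg K 18 b * (xg K 19 a * R) := d3cb_tail (d3cb_c_19_18 K a b) R

theorem d3cb_n_16_18 [CharP K 2] (a b : K) :
    xg K 16 a * xg K 18 b = xg K 18 b * xg K 16 a * xg K 21 (b * a) := by
  have h := d4gcomm_single (K := K) 18 16 21 (-1) (by decide) (by decide) (by decide) (by decide) (by decide +kernel) b a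
  rw [h, d3cb_coef K (-1) (Or.inr rfl) b a]
theorem d3cb_nn_16_18 [CharP K 2] (a b : K) :
    xg K 16 a * xg K 18 b = xg K 18 b * (xg K 16 a * xg K 21 (b * a)) := by
  rw [d3cb_n_16_18, mul_assoc]
theorem d3cb_nt_16_18 [CharP K 2] (a b : K) (R : GL chevD4.Idx K) :
    xg K 16 a * (xg K 18 b * R) = xg K 18 b * (xg K 16 a * (xg K 21 (b * a) * R)) :=
  d3cb_tail3 (d3cb_n_16_18 K a b) R

theorem d3cb_n_15_18 [CharP K 2] (a b : K) :
    xg K 15 a * xg K 18 b = xg K 18 b * xg K 15 a * xg K 20 (b * a) := by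
  have h := d4gcomm_single (K := K) 18 15 20 (-1) (by decide) (by decide) (by decide) (by decide) (by decide +kernel) b a
  rw [h, d3cb_coef K (-1) (Or.inr rfl) b a]
theorem d3cb_nn_15_18 [CharP K 2] (a b : K) :
    xg K 15 a * xg K 18 b = xg K 18 b * (xg K 15 a * xg K 20 (b * a)) := by
  rw [d3cb_n_15_18, mul_assoc]
theorem d3cb_nt_15_18 [CharP K 2] (a b : K) (R : GL chevD4.Idx K) :
    xg K 15 a * (xg K 18 b * R) = xg K 18 b * (xg K 15 a * (xg K 20 (b * a) * R)) :=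
  d3cb_tail3 (d3cb_n_15_18 K a b) R

theorem d3cb_c_21_18 (a b : K) : xg K 21 a * xg K 18 b = xg K 18 b * xg K 21 a :=
  (d4gcomm_nil 18 21 (by decide) (by decide) (by decide) (by decide) (by decide +kernel) b a).symm
theorem d3cb_ct_21_18 (a b : K) (R : GL chevD4.Idx K) :
    xg K 21 a * (xg K 18 b * R) = xg K 18 b * (xg K 21 a * R) := d3cb_tail (d3cb_c_21_18 K a b) R

theorem d3cb_n_17_18 [CharP K 2] (a b : K) :
    xg K 17 a * xg K 18 b = xg K 18 b * xg K 17 a * xg K 22 (b * a) := by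
  have h := d4gcomm_single (K := K) 18 17 22 (-1) (by decide) (by decide) (by decide) (by decide) (by decide +kernel) b a
  rw [h, d3cb_coef K (-1) (Or.inr rfl) b a]
theorem d3cb_nn_17_18 [CharP K 2] (a b : K) :
    xg K 17 a * xg K 18 b = xg K 18 b * (xg K 17 a * xg K 22 (b * a)) := by
  rw [d3cb_n_17_18, mul_assoc]
theorem d3cb_nt_17_18 [CharP K 2] (a b : K) (R : GL chevD4.Idx K) :
    xg K 17 a * (xg K 18 b * R) = xg K 18 b * (xg K 17 a * (xg K 22 (b * a) * R)) :=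
  d3cb_tail3 (d3cb_n_17_18 K a b) R

theorem d3cb_c_20_18 (a b : K) : xg K 20 a * xg K 18 b = xg K 18 b * xg K 20 a :=
  (d4gcomm_nil 18 20 (by decide) (by decide) (by decide) (by decide) (by decide +kernel) b a).symm
theorem d3cb_ct_20_18 (a b : K) (R : GL chevD4.Idx K) :
    xg K 20 a * (xg K 18 b * R) = xg K 18 b * (xg K 20 a * R) := d3cb_tail (d3cb_c_20_18 K a b) R

theorem d3cb_c_22_18 (a b : K) : xg K 22 a * xg K 18 b = xg K 18 b * xg K 22 a :=
  (d4gcomm_nil 18 22 (by decide) (by decide) (by decide) (by decide) (by decide +kernel) b a).symm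
theorem d3cb_ct_22_18 (a b : K) (R : GL chevD4.Idx K) :
    xg K 22 a * (xg K 18 b * R) = xg K 18 b * (xg K 22 a * R) := d3cb_tail (d3cb_c_22_18 K a b) R

theorem d3cb_c_23_18 (a b : K) : xg K 23 a * xg K 18 b = xg K 18 b * xg K 23 a :=
  (d4gcomm_nil 18 23 (by decide) (by decide) (by decide) (by decide) (by decide +kernel) b a).symm
theorem d3cb_ct_23_18 (a b : K) (R : GL chevD4.Idx K) :
    xg K 23 a * (xg K 18 b * R) = xg K 18 b * (xg K 23 a * R) := d3cb_tail (d3cb_c_23_18 K a b) R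

theorem d3cb_c_12_13 (a b : K) : xg K 12 a * xg K 13 b = xg K 13 b * xg K 12 a :=
  (d4gcomm_nil 13 12 (by decide) (by decide) (by decide) (by decide) (by decide +kernel) b a).symm
theorem d3cb_ct_12_13 (a b : K) (R : GL chevD4.Idx K) :
    xg K 12 a * (xg K 13 b * R) = xg K 13 b * (xg K 12 a * R) := d3cb_tail (d3cb_c_12_13 K a b) R

theorem d3cb_n_14_13 [CharP K 2] (a b : K) :
    xg K 14 a * xg K 13 b = xg K 13 b * xg K 14 a * xg K 16 (b * a) := by
  have h := d4gcomm_single (K := K) 13 14 16 (1) (by decide) (by decide) (by decide) (by decide) (by decide +kernel) b a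
  rw [h, d3cb_coef K (1) (Or.inl rfl) b a]
theorem d3cb_nn_14_13 [CharP K 2] (a b : K) :
    xg K 14 a * xg K 13 b = xg K 13 b * (xg K 14 a * xg K 16 (b * a)) := by
  rw [d3cb_n_14_13, mul_assoc]
theorem d3cb_nt_14_13 [CharP K 2] (a b : K) (R : GL chevD4.Idx K) :
    xg K 14 a * (xg K 13 b * R) = xg K 13 b * (xg K 14 a * (xg K 16 (b * a) * R)) :=
  d3cb_tail3 (d3cb_n_14_13 K a b) R

theorem d3cb_n_19_13 [CharP K 2] (a b : K) :
    xg K 19 a * xg K 13 b = xg K 13 b * xg K 19 a * xg K 21 (b * a) := by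
  have h := d4gcomm_single (K := K) 13 19 21 (1) (by decide) (by decide) (by decide) (by decide) (by decide +kernel) b a
  rw [h, d3cb_coef K (1) (Or.inl rfl) b a]
theorem d3cb_nn_19_13 [CharP K 2] (a b : K) :
    xg K 19 a * xg K 13 b = xg K 13 b * (xg K 19 a * xg K 21 (b * a)) := by
  rw [d3cb_n_19_13, mul_assoc]
theorem d3cb_nt_19_13 [CharP K 2] (a b : K) (R : GL chevD4.Idx K) :
    xg K 19 a * (xg K 13 b * R) = xg K 13 b * (xg K 19 a * (xg K 21 (b * a) * R)) :=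
  d3cb_tail3 (d3cb_n_19_13 K a b) R

theorem d3cb_c_16_13 (a b : K) : xg K 16 a * xg K 13 b = xg K 13 b * xg K 16 a :=
  (d4gcomm_nil 13 16 (by decide) (by decide) (by decide) (by decide) (by decide +kernel) b a).symm
theorem d3cb_ct_16_13 (a b : K) (R : GL chevD4.Idx K) :
    xg K 16 a * (xg K 13 b * R) = xg K 13 b * (xg K 16 a * R) := d3cb_tail (d3cb_c_16_13 K a b) R

theorem d3cb_n_15_13 [CharP K 2] (a b : K) :
    xg K 15 a * xg K 13 b = xg K 13 b * xg K 15 a * xg K 17 (b * a) := by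
  have h := d4gcomm_single (K := K) 13 15 17 (1) (by decide) (by decide) (by decide) (by decide) (by decide +kernel) b a
  rw [h, d3cb_coef K (1) (Or.inl rfl) b a]
theorem d3cb_nn_15_13 [CharP K 2] (a b : K) :
    xg K 15 a * xg K 13 b = xg K 13 b * (xg K 15 a * xg K 17 (b * a)) := by
  rw [d3cb_n_15_13, mul_assoc]
theorem d3cb_nt_15_13 [CharP K 2] (a b : K) (R : GL chevD4.Idx K) :
    xg K 15 a * (xg K 13 b * R) = xg K 13 b * (xg K 15 a * (xg K 17 (b * a) * R)) :=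
  d3cb_tail3 (d3cb_n_15_13 K a b) R

theorem d3cb_c_21_13 (a b : K) : xg K 21 a * xg K 13 b = xg K 13 b * xg K 21 a :=
  (d4gcomm_nil 13 21 (by decide) (by decide) (by decide) (by decide) (by decide +kernel) b a).symm
theorem d3cb_ct_21_13 (a b : K) (R : GL chevD4.Idx K) :
    xg K 21 a * (xg K 13 b * R) = xg K 13 b * (xg K 21 a * R) := d3cb_tail (d3cb_c_21_13 K a b) R

theorem d3cb_c_17_13 (a b : K) : xg K 17 a * xg K 13 b = xg K 13 b * xg K 17 a :=
  (d4gcomm_nil 13 17 (by decide) (by decide) (by decide) (by decide) (by decide +kernel) b a).symm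
theorem d3cb_ct_17_13 (a b : K) (R : GL chevD4.Idx K) :
    xg K 17 a * (xg K 13 b * R) = xg K 13 b * (xg K 17 a * R) := d3cb_tail (d3cb_c_17_13 K a b) R

theorem d3cb_n_20_13 [CharP K 2] (a b : K) :
    xg K 20 a * xg K 13 b = xg K 13 b * xg K 20 a * xg K 22 (b * a) := by
  have h := d4gcomm_single (K := K) 13 20 22 (1) (by decide) (by decide) (by decide) (by decide) (by decide +kernel) b a
  rw [h, d3cb_coef K (1) (Or.inl rfl) b a]
theorem d3cb_nn_20_13 [CharP K 2] (a b : K) :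
    xg K 20 a * xg K 13 b = xg K 13 b * (xg K 20 a * xg K 22 (b * a)) := by
  rw [d3cb_n_20_13, mul_assoc]
theorem d3cb_nt_20_13 [CharP K 2] (a b : K) (R : GL chevD4.Idx K) :
    xg K 20 a * (xg K 13 b * R) = xg K 13 b * (xg K 20 a * (xg K 22 (b * a) * R)) :=
  d3cb_tail3 (d3cb_n_20_13 K a b) R

theorem d3cb_c_22_13 (a b : K) : xg K 22 a * xg K 13 b = xg K 13 b * xg K 22 a :=
  (d4gcomm_nil 13 22 (by decide) (by decide) (by decide) (by decide) (by decide +kernel) b a).symm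
theorem d3cb_ct_22_13 (a b : K) (R : GL chevD4.Idx K) :
    xg K 22 a * (xg K 13 b * R) = xg K 13 b * (xg K 22 a * R) := d3cb_tail (d3cb_c_22_13 K a b) R

theorem d3cb_c_23_13 (a b : K) : xg K 23 a * xg K 13 b = xg K 13 b * xg K 23 a :=
  (d4gcomm_nil 13 23 (by decide) (by decide) (by decide) (by decide) (by decide +kernel) b a).symm
theorem d3cb_ct_23_13 (a b : K) (R : GL chevD4.Idx K) :
    xg K 23 a * (xg K 13 b * R) = xg K 13 b * (xg K 23 a * R) := d3cb_tail (d3cb_c_23_13 K a b) R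

theorem d3cb_n_14_12 [CharP K 2] (a b : K) :
    xg K 14 a * xg K 12 b = xg K 12 b * xg K 14 a * xg K 15 (b * a) := by
  have h := d4gcomm_single (K := K) 12 14 15 (1) (by decide) (by decide) (by decide) (by decide) (by decide +kernel) b a
  rw [h, d3cb_coef K (1) (Or.inl rfl) b a]
theorem d3cb_nn_14_12 [CharP K 2] (a b : K) :
    xg K 14 a * xg K 12 b = xg K 12 b * (xg K 14 a * xg K 15 (b * a)) := by
  rw [d3cb_n_14_12, mul_assoc]
theorem d3cb_nt_14_12 [CharP K 2] (a b : K) (R : GL chevD4.Idx K) :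
    xg K 14 a * (xg K 12 b * R) = xg K 12 b * (xg K 14 a * (xg K 15 (b * a) * R)) :=
  d3cb_tail3 (d3cb_n_14_12 K a b) R

theorem d3cb_n_19_12 [CharP K 2] (a b : K) :
    xg K 19 a * xg K 12 b = xg K 12 b * xg K 19 a * xg K 20 (b * a) := by
  have h := d4gcomm_single (K := K) 12 19 20 (1) (by decide) (by decide) (by decide) (by decide) (by decide +kernel) b a
  rw [h, d3cb_coef K (1) (Or.inl rfl) b a]
theorem d3cb_nn_19_12 [CharP K 2] (a b : K) :
    xg K 19 a * xg K 12 b = xg K 12 b * (xg K 19 a * xg K 20 (b * a)) := by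
  rw [d3cb_n_19_12, mul_assoc]
theorem d3cb_nt_19_12 [CharP K 2] (a b : K) (R : GL chevD4.Idx K) :
    xg K 19 a * (xg K 12 b * R) = xg K 12 b * (xg K 19 a * (xg K 20 (b * a) * R)) :=
  d3cb_tail3 (d3cb_n_19_12 K a b) R

theorem d3cb_n_16_12 [CharP K 2] (a b : K) :
    xg K 16 a * xg K 12 b = xg K 12 b * xg K 16 a * xg K 17 (b * a) := by
  have h := d4gcomm_single (K := K) 12 16 17 (1) (by decide) (by decide) (by decide) (by decide) (by decide +kernel) b a
  rw [h, d3cb_coef K (1) (Or.inl rfl) b a]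
theorem d3cb_nn_16_12 [CharP K 2] (a b : K) :
    xg K 16 a * xg K 12 b = xg K 12 b * (xg K 16 a * xg K 17 (b * a)) := by
  rw [d3cb_n_16_12, mul_assoc]
theorem d3cb_nt_16_12 [CharP K 2] (a b : K) (R : GL chevD4.Idx K) :
    xg K 16 a * (xg K 12 b * R) = xg K 12 b * (xg K 16 a * (xg K 17 (b * a) * R)) :=
  d3cb_tail3 (d3cb_n_16_12 K a b) R

theorem d3cb_c_15_12 (a b : K) : xg K 15 a * xg K 12 b = xg K 12 b * xg K 15 a :=
  (d4gcomm_nil 12 15 (by decide) (by decide) (by decide) (by decide) (by decide +kernel) b a).symm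
theorem d3cb_ct_15_12 (a b : K) (R : GL chevD4.Idx K) :
    xg K 15 a * (xg K 12 b * R) = xg K 12 b * (xg K 15 a * R) := d3cb_tail (d3cb_c_15_12 K a b) R

theorem d3cb_n_21_12 [CharP K 2] (a b : K) :
    xg K 21 a * xg K 12 b = xg K 12 b * xg K 21 a * xg K 22 (b * a) := by
  have h := d4gcomm_single (K := K) 12 21 22 (1) (by decide) (by decide) (by decide) (by decide) (by decide +kernel) b a
  rw [h, d3cb_coef K (1) (Or.inl rfl) b a]
theorem d3cb_nn_21_12 [CharP K 2] (a b : K) :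
    xg K 21 a * xg K 12 b = xg K 12 b * (xg K 21 a * xg K 22 (b * a)) := by
  rw [d3cb_n_21_12, mul_assoc]
theorem d3cb_nt_21_12 [CharP K 2] (a b : K) (R : GL chevD4.Idx K) :
    xg K 21 a * (xg K 12 b * R) = xg K 12 b * (xg K 21 a * (xg K 22 (b * a) * R)) :=
  d3cb_tail3 (d3cb_n_21_12 K a b) R

theorem d3cb_c_17_12 (a b : K) : xg K 17 a * xg K 12 b = xg K 12 b * xg K 17 a :=
  (d4gcomm_nil 12 17 (by decide) (by decide) (by decide) (by decide) (by decide +kernel) b a).symm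
theorem d3cb_ct_17_12 (a b : K) (R : GL chevD4.Idx K) :
    xg K 17 a * (xg K 12 b * R) = xg K 12 b * (xg K 17 a * R) := d3cb_tail (d3cb_c_17_12 K a b) R

theorem d3cb_c_20_12 (a b : K) : xg K 20 a * xg K 12 b = xg K 12 b * xg K 20 a :=
  (d4gcomm_nil 12 20 (by decide) (by decide) (by decide) (by decide) (by decide +kernel) b a).symm
theorem d3cb_ct_20_12 (a b : K) (R : GL chevD4.Idx K) :
    xg K 20 a * (xg K 12 b * R) = xg K 12 b * (xg K 20 a * R) := d3cb_tail (d3cb_c_20_12 K a b) R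

theorem d3cb_c_22_12 (a b : K) : xg K 22 a * xg K 12 b = xg K 12 b * xg K 22 a :=
  (d4gcomm_nil 12 22 (by decide) (by decide) (by decide) (by decide) (by decide +kernel) b a).symm
theorem d3cb_ct_22_12 (a b : K) (R : GL chevD4.Idx K) :
    xg K 22 a * (xg K 12 b * R) = xg K 12 b * (xg K 22 a * R) := d3cb_tail (d3cb_c_22_12 K a b) R

theorem d3cb_c_23_12 (a b : K) : xg K 23 a * xg K 12 b = xg K 12 b * xg K 23 a :=
  (d4gcomm_nil 12 23 (by decide) (by decide) (by decide) (by decide) (by decide +kernel) b a).symm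
theorem d3cb_ct_23_12 (a b : K) (R : GL chevD4.Idx K) :
    xg K 23 a * (xg K 12 b * R) = xg K 12 b * (xg K 23 a * R) := d3cb_tail (d3cb_c_23_12 K a b) R

theorem d3cb_c_19_14 (a b : K) : xg K 19 a * xg K 14 b = xg K 14 b * xg K 19 a :=
  (d4gcomm_nil 14 19 (by decide) (by decide) (by decide) (by decide) (by decide +kernel) b a).symm
theorem d3cb_ct_19_14 (a b : K) (R : GL chevD4.Idx K) :
    xg K 19 a * (xg K 14 b * R) = xg K 14 b * (xg K 19 a * R) := d3cb_tail (d3cb_c_19_14 K a b) R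

theorem d3cb_c_16_14 (a b : K) : xg K 16 a * xg K 14 b = xg K 14 b * xg K 16 a :=
  (d4gcomm_nil 14 16 (by decide) (by decide) (by decide) (by decide) (by decide +kernel) b a).symm
theorem d3cb_ct_16_14 (a b : K) (R : GL chevD4.Idx K) :
    xg K 16 a * (xg K 14 b * R) = xg K 14 b * (xg K 16 a * R) := d3cb_tail (d3cb_c_16_14 K a b) R

theorem d3cb_c_15_14 (a b : K) : xg K 15 a * xg K 14 b = xg K 14 b * xg K 15 a :=
  (d4gcomm_nil 14 15 (by decide) (by decide) (by decide) (by decide) (by decide +kernel) b a).symm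
theorem d3cb_ct_15_14 (a b : K) (R : GL chevD4.Idx K) :
    xg K 15 a * (xg K 14 b * R) = xg K 14 b * (xg K 15 a * R) := d3cb_tail (d3cb_c_15_14 K a b) R

theorem d3cb_c_21_14 (a b : K) : xg K 21 a * xg K 14 b = xg K 14 b * xg K 21 a :=
  (d4gcomm_nil 14 21 (by decide) (by decide) (by decide) (by decide) (by decide +kernel) b a).symm
theorem d3cb_ct_21_14 (a b : K) (R : GL chevD4.Idx K) :
    xg K 21 a * (xg K 14 b * R) = xg K 14 b * (xg K 21 a * R) := d3cb_tail (d3cb_c_21_14 K a b) R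

theorem d3cb_c_17_14 (a b : K) : xg K 17 a * xg K 14 b = xg K 14 b * xg K 17 a :=
  (d4gcomm_nil 14 17 (by decide) (by decide) (by decide) (by decide) (by decide +kernel) b a).symm
theorem d3cb_ct_17_14 (a b : K) (R : GL chevD4.Idx K) :
    xg K 17 a * (xg K 14 b * R) = xg K 14 b * (xg K 17 a * R) := d3cb_tail (d3cb_c_17_14 K a b) R

theorem d3cb_c_20_14 (a b : K) : xg K 20 a * xg K 14 b = xg K 14 b * xg K 20 a :=
  (d4gcomm_nil 14 20 (by decide) (by decide) (by decide) (by decide) (by decide +kernel) b a).symm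
theorem d3cb_ct_20_14 (a b : K) (R : GL chevD4.Idx K) :
    xg K 20 a * (xg K 14 b * R) = xg K 14 b * (xg K 20 a * R) := d3cb_tail (d3cb_c_20_14 K a b) R

theorem d3cb_n_22_14 [CharP K 2] (a b : K) :
    xg K 22 a * xg K 14 b = xg K 14 b * xg K 22 a * xg K 23 (b * a) := by
  have h := d4gcomm_single (K := K) 14 22 23 (1) (by decide) (by decide) (by decide) (by decide) (by decide +kernel) b a
  rw [h, d3cb_coef K (1) (Or.inl rfl) b a]
theorem d3cb_nn_22_14 [CharP K 2] (a b : K) :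
    xg K 22 a * xg K 14 b = xg K 14 b * (xg K 22 a * xg K 23 (b * a)) := by
  rw [d3cb_n_22_14, mul_assoc]
theorem d3cb_nt_22_14 [CharP K 2] (a b : K) (R : GL chevD4.Idx K) :
    xg K 22 a * (xg K 14 b * R) = xg K 14 b * (xg K 22 a * (xg K 23 (b * a) * R)) :=
  d3cb_tail3 (d3cb_n_22_14 K a b) R

theorem d3cb_c_23_14 (a b : K) : xg K 23 a * xg K 14 b = xg K 14 b * xg K 23 a :=
  (d4gcomm_nil 14 23 (by decide) (by decide) (by decide) (by decide) (by decide +kernel) b a).symm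
theorem d3cb_ct_23_14 (a b : K) (R : GL chevD4.Idx K) :
    xg K 23 a * (xg K 14 b * R) = xg K 14 b * (xg K 23 a * R) := d3cb_tail (d3cb_c_23_14 K a b) R

theorem d3cb_c_16_19 (a b : K) : xg K 16 a * xg K 19 b = xg K 19 b * xg K 16 a :=
  (d4gcomm_nil 19 16 (by decide) (by decide) (by decide) (by decide) (by decide +kernel) b a).symm
theorem d3cb_ct_16_19 (a b : K) (R : GL chevD4.Idx K) :
    xg K 16 a * (xg K 19 b * R) = xg K 19 b * (xg K 16 a * R) := d3cb_tail (d3cb_c_16_19 K a b) R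

theorem d3cb_c_15_19 (a b : K) : xg K 15 a * xg K 19 b = xg K 19 b * xg K 15 a :=
  (d4gcomm_nil 19 15 (by decide) (by decide) (by decide) (by decide) (by decide +kernel) b a).symm
theorem d3cb_ct_15_19 (a b : K) (R : GL chevD4.Idx K) :
    xg K 15 a * (xg K 19 b * R) = xg K 19 b * (xg K 15 a * R) := d3cb_tail (d3cb_c_15_19 K a b) R

theorem d3cb_c_21_19 (a b : K) : xg K 21 a * xg K 19 b = xg K 19 b * xg K 21 a :=
  (d4gcomm_nil 19 21 (by decide) (by decide) (by decide) (by decide) (by decide +kernel) b a).symm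
theorem d3cb_ct_21_19 (a b : K) (R : GL chevD4.Idx K) :
    xg K 21 a * (xg K 19 b * R) = xg K 19 b * (xg K 21 a * R) := d3cb_tail (d3cb_c_21_19 K a b) R

theorem d3cb_n_17_19 [CharP K 2] (a b : K) :
    xg K 17 a * xg K 19 b = xg K 19 b * xg K 17 a * xg K 23 (b * a) := by
  have h := d4gcomm_single (K := K) 19 17 23 (-1) (by decide) (by decide) (by decide) (by decide) (by decide +kernel) b a
  rw [h, d3cb_coef K (-1) (Or.inr rfl) b a]
theorem d3cb_nn_17_19 [CharP K 2] (a b : K) :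
    xg K 17 a * xg K 19 b = xg K 19 b * (xg K 17 a * xg K 23 (b * a)) := by
  rw [d3cb_n_17_19, mul_assoc]
theorem d3cb_nt_17_19 [CharP K 2] (a b : K) (R : GL chevD4.Idx K) :
    xg K 17 a * (xg K 19 b * R) = xg K 19 b * (xg K 17 a * (xg K 23 (b * a) * R)) :=
  d3cb_tail3 (d3cb_n_17_19 K a b) R

theorem d3cb_c_20_19 (a b : K) : xg K 20 a * xg K 19 b = xg K 19 b * xg K 20 a :=
  (d4gcomm_nil 19 20 (by decide) (by decide) (by decide) (by decide) (by decide +kernel) b a).symm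
theorem d3cb_ct_20_19 (a b : K) (R : GL chevD4.Idx K) :
    xg K 20 a * (xg K 19 b * R) = xg K 19 b * (xg K 20 a * R) := d3cb_tail (d3cb_c_20_19 K a b) R

theorem d3cb_c_22_19 (a b : K) : xg K 22 a * xg K 19 b = xg K 19 b * xg K 22 a :=
  (d4gcomm_nil 19 22 (by decide) (by decide) (by decide) (by decide) (by decide +kernel) b a).symm
theorem d3cb_ct_22_19 (a b : K) (R : GL chevD4.Idx K) :
    xg K 22 a * (xg K 19 b * R) = xg K 19 b * (xg K 22 a * R) := d3cb_tail (d3cb_c_22_19 K a b) R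

theorem d3cb_c_23_19 (a b : K) : xg K 23 a * xg K 19 b = xg K 19 b * xg K 23 a :=
  (d4gcomm_nil 19 23 (by decide) (by decide) (by decide) (by decide) (by decide +kernel) b a).symm
theorem d3cb_ct_23_19 (a b : K) (R : GL chevD4.Idx K) :
    xg K 23 a * (xg K 19 b * R) = xg K 19 b * (xg K 23 a * R) := d3cb_tail (d3cb_c_23_19 K a b) R

theorem d3cb_c_15_16 (a b : K) : xg K 15 a * xg K 16 b = xg K 16 b * xg K 15 a :=
  (d4gcomm_nil 16 15 (by decide) (by decide) (by decide) (by decide) (by decide +kernel) b a).symm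
theorem d3cb_ct_15_16 (a b : K) (R : GL chevD4.Idx K) :
    xg K 15 a * (xg K 16 b * R) = xg K 16 b * (xg K 15 a * R) := d3cb_tail (d3cb_c_15_16 K a b) R

theorem d3cb_c_21_16 (a b : K) : xg K 21 a * xg K 16 b = xg K 16 b * xg K 21 a :=
  (d4gcomm_nil 16 21 (by decide) (by decide) (by decide) (by decide) (by decide +kernel) b a).symm
theorem d3cb_ct_21_16 (a b : K) (R : GL chevD4.Idx K) :
    xg K 21 a * (xg K 16 b * R) = xg K 16 b * (xg K 21 a * R) := d3cb_tail (d3cb_c_21_16 K a b) R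

theorem d3cb_c_17_16 (a b : K) : xg K 17 a * xg K 16 b = xg K 16 b * xg K 17 a :=
  (d4gcomm_nil 16 17 (by decide) (by decide) (by decide) (by decide) (by decide +kernel) b a).symm
theorem d3cb_ct_17_16 (a b : K) (R : GL chevD4.Idx K) :
    xg K 17 a * (xg K 16 b * R) = xg K 16 b * (xg K 17 a * R) := d3cb_tail (d3cb_c_17_16 K a b) R

theorem d3cb_n_20_16 [CharP K 2] (a b : K) :
    xg K 20 a * xg K 16 b = xg K 16 b * xg K 20 a * xg K 23 (b * a) := by
  have h := d4gcomm_single (K := K) 16 20 23 (-1) (by decide) (by decide) (by decide) (by decide) (by decide +kernel) b a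
  rw [h, d3cb_coef K (-1) (Or.inr rfl) b a]
theorem d3cb_nn_20_16 [CharP K 2] (a b : K) :
    xg K 20 a * xg K 16 b = xg K 16 b * (xg K 20 a * xg K 23 (b * a)) := by
  rw [d3cb_n_20_16, mul_assoc]
theorem d3cb_nt_20_16 [CharP K 2] (a b : K) (R : GL chevD4.Idx K) :
    xg K 20 a * (xg K 16 b * R) = xg K 16 b * (xg K 20 a * (xg K 23 (b * a) * R)) :=
  d3cb_tail3 (d3cb_n_20_16 K a b) R

theorem d3cb_c_22_16 (a b : K) : xg K 22 a * xg K 16 b = xg K 16 b * xg K 22 a :=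
  (d4gcomm_nil 16 22 (by decide) (by decide) (by decide) (by decide) (by decide +kernel) b a).symm
theorem d3cb_ct_22_16 (a b : K) (R : GL chevD4.Idx K) :
    xg K 22 a * (xg K 16 b * R) = xg K 16 b * (xg K 22 a * R) := d3cb_tail (d3cb_c_22_16 K a b) R

theorem d3cb_c_23_16 (a b : K) : xg K 23 a * xg K 16 b = xg K 16 b * xg K 23 a :=
  (d4gcomm_nil 16 23 (by decide) (by decide) (by decide) (by decide) (by decide +kernel) b a).symm
theorem d3cb_ct_23_16 (a b : K) (R : GL chevD4.Idx K) :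
    xg K 23 a * (xg K 16 b * R) = xg K 16 b * (xg K 23 a * R) := d3cb_tail (d3cb_c_23_16 K a b) R

theorem d3cb_n_21_15 [CharP K 2] (a b : K) :
    xg K 21 a * xg K 15 b = xg K 15 b * xg K 21 a * xg K 23 (b * a) := by
  have h := d4gcomm_single (K := K) 15 21 23 (-1) (by decide) (by decide) (by decide) (by decide) (by decide +kernel) b a
  rw [h, d3cb_coef K (-1) (Or.inr rfl) b a]
theorem d3cb_nn_21_15 [CharP K 2] (a b : K) :
    xg K 21 a * xg K 15 b = xg K 15 b * (xg K 21 a * xg K 23 (b * a)) := by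
  rw [d3cb_n_21_15, mul_assoc]
theorem d3cb_nt_21_15 [CharP K 2] (a b : K) (R : GL chevD4.Idx K) :
    xg K 21 a * (xg K 15 b * R) = xg K 15 b * (xg K 21 a * (xg K 23 (b * a) * R)) :=
  d3cb_tail3 (d3cb_n_21_15 K a b) R

theorem d3cb_c_17_15 (a b : K) : xg K 17 a * xg K 15 b = xg K 15 b * xg K 17 a :=
  (d4gcomm_nil 15 17 (by decide) (by decide) (by decide) (by decide) (by decide +kernel) b a).symm
theorem d3cb_ct_17_15 (a b : K) (R : GL chevD4.Idx K) :
    xg K 17 a * (xg K 15 b * R) = xg K 15 b * (xg K 17 a * R) := d3cb_tail (d3cb_c_17_15 K a b) R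

theorem d3cb_c_20_15 (a b : K) : xg K 20 a * xg K 15 b = xg K 15 b * xg K 20 a :=
  (d4gcomm_nil 15 20 (by decide) (by decide) (by decide) (by decide) (by decide +kernel) b a).symm
theorem d3cb_ct_20_15 (a b : K) (R : GL chevD4.Idx K) :
    xg K 20 a * (xg K 15 b * R) = xg K 15 b * (xg K 20 a * R) := d3cb_tail (d3cb_c_20_15 K a b) R

theorem d3cb_c_22_15 (a b : K) : xg K 22 a * xg K 15 b = xg K 15 b * xg K 22 a :=
  (d4gcomm_nil 15 22 (by decide) (by decide) (by decide) (by decide) (by decide +kernel) b a).symm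
theorem d3cb_ct_22_15 (a b : K) (R : GL chevD4.Idx K) :
    xg K 22 a * (xg K 15 b * R) = xg K 15 b * (xg K 22 a * R) := d3cb_tail (d3cb_c_22_15 K a b) R

theorem d3cb_c_23_15 (a b : K) : xg K 23 a * xg K 15 b = xg K 15 b * xg K 23 a :=
  (d4gcomm_nil 15 23 (by decide) (by decide) (by decide) (by decide) (by decide +kernel) b a).symm
theorem d3cb_ct_23_15 (a b : K) (R : GL chevD4.Idx K) :
    xg K 23 a * (xg K 15 b * R) = xg K 15 b * (xg K 23 a * R) := d3cb_tail (d3cb_c_23_15 K a b) R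

theorem d3cb_c_17_21 (a b : K) : xg K 17 a * xg K 21 b = xg K 21 b * xg K 17 a :=
  (d4gcomm_nil 21 17 (by decide) (by decide) (by decide) (by decide) (by decide +kernel) b a).symm
theorem d3cb_ct_17_21 (a b : K) (R : GL chevD4.Idx K) :
    xg K 17 a * (xg K 21 b * R) = xg K 21 b * (xg K 17 a * R) := d3cb_tail (d3cb_c_17_21 K a b) R

theorem d3cb_c_20_21 (a b : K) : xg K 20 a * xg K 21 b = xg K 21 b * xg K 20 a :=
  (d4gcomm_nil 21 20 (by decide) (by decide) (by decide) (by decide) (by decide +kernel) b a).symm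
theorem d3cb_ct_20_21 (a b : K) (R : GL chevD4.Idx K) :
    xg K 20 a * (xg K 21 b * R) = xg K 21 b * (xg K 20 a * R) := d3cb_tail (d3cb_c_20_21 K a b) R

theorem d3cb_c_22_21 (a b : K) : xg K 22 a * xg K 21 b = xg K 21 b * xg K 22 a :=
  (d4gcomm_nil 21 22 (by decide) (by decide) (by decide) (by decide) (by decide +kernel) b a).symm
theorem d3cb_ct_22_21 (a b : K) (R : GL chevD4.Idx K) :
    xg K 22 a * (xg K 21 b * R) = xg K 21 b * (xg K 22 a * R) := d3cb_tail (d3cb_c_22_21 K a b) R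

theorem d3cb_c_23_21 (a b : K) : xg K 23 a * xg K 21 b = xg K 21 b * xg K 23 a :=
  (d4gcomm_nil 21 23 (by decide) (by decide) (by decide) (by decide) (by decide +kernel) b a).symm
theorem d3cb_ct_23_21 (a b : K) (R : GL chevD4.Idx K) :
    xg K 23 a * (xg K 21 b * R) = xg K 21 b * (xg K 23 a * R) := d3cb_tail (d3cb_c_23_21 K a b) R

theorem d3cb_c_20_17 (a b : K) : xg K 20 a * xg K 17 b = xg K 17 b * xg K 20 a :=
  (d4gcomm_nil 17 20 (by decide) (by decide) (by decide) (by decide) (by decide +kernel) b a).symm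
theorem d3cb_ct_20_17 (a b : K) (R : GL chevD4.Idx K) :
    xg K 20 a * (xg K 17 b * R) = xg K 17 b * (xg K 20 a * R) := d3cb_tail (d3cb_c_20_17 K a b) R

theorem d3cb_c_22_17 (a b : K) : xg K 22 a * xg K 17 b = xg K 17 b * xg K 22 a :=
  (d4gcomm_nil 17 22 (by decide) (by decide) (by decide) (by decide) (by decide +kernel) b a).symm
theorem d3cb_ct_22_17 (a b : K) (R : GL chevD4.Idx K) :
    xg K 22 a * (xg K 17 b * R) = xg K 17 b * (xg K 22 a * R) := d3cb_tail (d3cb_c_22_17 K a b) R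

theorem d3cb_c_23_17 (a b : K) : xg K 23 a * xg K 17 b = xg K 17 b * xg K 23 a :=
  (d4gcomm_nil 17 23 (by decide) (by decide) (by decide) (by decide) (by decide +kernel) b a).symm
theorem d3cb_ct_23_17 (a b : K) (R : GL chevD4.Idx K) :
    xg K 23 a * (xg K 17 b * R) = xg K 17 b * (xg K 23 a * R) := d3cb_tail (d3cb_c_23_17 K a b) R

theorem d3cb_c_22_20 (a b : K) : xg K 22 a * xg K 20 b = xg K 20 b * xg K 22 a :=
  (d4gcomm_nil 20 22 (by decide) (by decide) (by decide) (by decide) (by decide +kernel) b a).symm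
theorem d3cb_ct_22_20 (a b : K) (R : GL chevD4.Idx K) :
    xg K 22 a * (xg K 20 b * R) = xg K 20 b * (xg K 22 a * R) := d3cb_tail (d3cb_c_22_20 K a b) R

theorem d3cb_c_23_20 (a b : K) : xg K 23 a * xg K 20 b = xg K 20 b * xg K 23 a :=
  (d4gcomm_nil 20 23 (by decide) (by decide) (by decide) (by decide) (by decide +kernel) b a).symm
theorem d3cb_ct_23_20 (a b : K) (R : GL chevD4.Idx K) :
    xg K 23 a * (xg K 20 b * R) = xg K 20 b * (xg K 23 a * R) := d3cb_tail (d3cb_c_23_20 K a b) R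

theorem d3cb_c_23_22 (a b : K) : xg K 23 a * xg K 22 b = xg K 22 b * xg K 23 a :=
  (d4gcomm_nil 22 23 (by decide) (by decide) (by decide) (by decide) (by decide +kernel) b a).symm
theorem d3cb_ct_23_22 (a b : K) (R : GL chevD4.Idx K) :
    xg K 23 a * (xg K 22 b * R) = xg K 22 b * (xg K 23 a * R) := d3cb_tail (d3cb_c_23_22 K a b) R

/-- D3-CB : conjugation by `x_b(τ)` -/
theorem conj_b [CharP K 2] (h3 : ∀ x : K, φ (φ (φ x)) = x) (τ : K) (hτ : φ τ = τ) (s S c d e : K) :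
    xg K 14 τ * W K φ s 0 S c d e * (xg K 14 τ)⁻¹ =
      W K φ s 0 (S + s * τ) (c + s * φ s * τ) (d + nm K φ s * τ)
        (e + d * τ + (φ (φ S) * s * φ s + φ S * s * φ (φ s) + S * φ s * φ (φ s)) * τ) := by
  rw [mul_inv_eq_iff_eq_mul]
  unfold W V T xa xab x2ab nm
  simp only [mul_assoc, d3cb_m, d3cb_mt, d3cb_c_13_18, d3cb_ct_13_18, d3cb_c_12_18, d3cb_ct_12_18, d3cb_c_19_18, d3cb_ct_19_18, d3cb_c_21_18, d3cb_ct_21_18, d3cb_c_20_18, d3cb_ct_20_18, d3cb_c_22_18, d3cb_ct_22_18, d3cb_c_23_18, d3cb_ct_23_18, d3cb_c_12_13, d3cb_ct_12_13, d3cb_c_16_13, d3cb_ct_16_13, d3cb_c_21_13, d3cb_ct_21_13, d3cb_c_17_13, d3cb_ct_17_13, d3cb_c_22_13, d3cb_ct_22_13, d3cb_c_23_13, d3cb_ct_23_13, d3cb_c_15_12, d3cb_ct_15_12, d3cb_c_17_12, d3cb_ct_17_12, d3cb_c_20_12, d3cb_ct_20_12, d3cb_c_22_12, d3cb_ct_22_12, d3cb_c_23_12, d3cb_ct_23_12, d3cb_c_19_14, d3cb_ct_19_14, d3cb_c_16_14, d3cb_ct_16_14, d3cb_c_15_14, d3cb_ct_15_14, d3cb_c_21_14, d3cb_ct_21_14,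 d3cb_c_17_14, d3cb_ct_17_14, d3cb_c_20_14, d3cb_ct_20_14, d3cb_c_23_14, d3cb_ct_23_14, d3cb_c_16_19, d3cb_ct_16_19, d3cb_c_15_19, d3cb_ct_15_19, d3cb_c_21_19, d3cb_ct_21_19, d3cb_c_20_19, d3cb_ct_20_19, d3cb_c_22_19, d3cb_ct_22_19, d3cb_c_23_19, d3cb_ct_23_19, d3cb_c_15_16, d3cb_ct_15_16, d3cb_c_21_16, d3cb_ct_21_16, d3cb_c_17_16, d3cb_ct_17_16, d3cb_c_22_16, d3cb_ct_22_16, d3cb_c_23_16, d3cb_ct_23_16, d3cb_c_17_15, d3cb_ct_17_15, d3cb_c_20_15, d3cb_ct_20_15, d3cb_c_22_15, d3cb_ct_22_15, d3cb_c_23_15, d3cb_ct_23_15, d3cb_c_17_21, d3cb_ct_17_21, d3cb_c_20_21, d3cb_ct_20_21, d3cb_c_22_21, d3cb_ct_22_21, d3cb_c_23_21, d3cb_ct_23_21, d3cb_c_20_17, d3cb_ct_20_17, d3cb_c_22_17, d3cb_ct_22_17, d3cb_c_23_17, d3cb_ct_23_17, d3cb_c_22_20, d3cb_ct_22_20, d3cb_c_23_20, d3cb_ct_23_20, d3cb_c_23_22, d3cb_ct_23_22, d3cb_nn_14_18, d3cb_nt_14_18, d3cb_nn_16_18, d3cb_nt_16_18, d3cb_nn_15_18, d3cb_nt_15_18, d3cb_nn_17_18, d3cb_nt_17_18, d3cb_nn_14_13,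 d3cb_nt_14_13, d3cb_nn_19_13, d3cb_nt_19_13, d3cb_nn_15_13, d3cb_nt_15_13, d3cb_nn_20_13, d3cb_nt_20_13, d3cb_nn_14_12, d3cb_nt_14_12, d3cb_nn_19_12, d3cb_nt_19_12, d3cb_nn_16_12, d3cb_nt_16_12, d3cb_nn_21_12, d3cb_nt_21_12, d3cb_nn_22_14, d3cb_nt_22_14, d3cb_nn_17_19, d3cb_nt_17_19, d3cb_nn_20_16, d3cb_nt_20_16, d3cb_nn_21_15, d3cb_nt_21_15]
  have h2 : (2 : K) = 0 := CharTwo.two_eq_zero
  refine d3cb_step K 18 rfl (d3cb_step K 13 rfl (d3cb_step K 12 rfl (d3cb_step K 14 (by ring)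
    (d3cb_step K 19 (by ring) (d3cb_step K 16 ?_ (d3cb_step K 15 ?_ (d3cb_step K 21 (by ring)
    (d3cb_step K 17 ?_ (d3cb_step K 20 ?_ (d3cb_step K 22 (by ring) ?_))))))))))
  · simp only [map_add, map_mul, hτ]; ring
  · simp only [map_add, map_mul, hτ]; ring
  · simp only [map_add, map_mul, hτ]; ring
  · simp only [map_add, map_mul, hτ, h3]; ring
  · congr 1
    linear_combination (-(d * τ)) * h2

end Cfsg.Agent.Lib.Helper12.D3
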