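import Cfsg.Agent.Lib.Helper37.D4O8Defs

/-! # Do hive (helper37, S1082), sub-hive Do-RED (helper13 / helper39), leaf DO-RED-S2A:
after `e₁, f₁` are scaled, `EE` moves `g e₂` to a multiple of `e₂` keeping `e₁, f₁`. -/

set_option autoImplicit false
set_option linter.unusedSectionVars false
set_option linter.unusedVariables false

namespace Cfsg.Agent.Lib.Helper37.D4O8

open Matrix Module QuadraticMap
open Cfsg.Agent.Lib.Helper8 Cfsg.Agent.Lib.Helper13 Cfsg.Agent.Lib.Helper37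

variable {F : Type*} [Field F]

/-! ### the root elements on the indices 2,3,4 fix `e₁` and `f₁` -/

theorem s2a_fix14 (t : F) : act (Q8 F) (X 14 t) ve1 = ve1 ∧ act (Q8 F) (X 14 t) vf1 = vf1 := by
  constructor <;> (rw [act_X14]; apply ext8 <;> simp [ve1, vf1])
theorem s2a_fix16 (t : F) : act (Q8 F) (X 16 t) ve1 = ve1 ∧ act (Q8 F) (X 16 t) vf1 = vf1 := by
  constructor <;> (rw [act_X16]; apply ext8 <;> simp [ve1, vf1])
theorem s2a_fix17 (t : F) : act (Q8 F) (X 17 t) ve1 = ve1 ∧ act (Q8 F) (X 17 t) vf1 = vf1 := by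
  constructor <;> (rw [act_X17]; apply ext8 <;> simp [ve1, vf1])
theorem s2a_fix15 (t : F) : act (Q8 F) (X 15 t) ve1 = ve1 ∧ act (Q8 F) (X 15 t) vf1 = vf1 := by
  constructor <;> (rw [act_X15]; apply ext8 <;> simp [ve1, vf1])
theorem s2a_fix9 (t : F) : act (Q8 F) (X 9 t) ve1 = ve1 ∧ act (Q8 F) (X 9 t) vf1 = vf1 := by
  constructor <;> (rw [act_X9]; apply ext8 <;> simp [ve1, vf1])
theorem s2a_fix7 (t : F) : act (Q8 F) (X 7 t) ve1 = ve1 ∧ act (Q8 F) (X 7 t) vf1 = vf1 := by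
  constructor <;> (rw [act_X7]; apply ext8 <;> simp [ve1, vf1])
theorem s2a_fix6 (t : F) : act (Q8 F) (X 6 t) ve1 = ve1 ∧ act (Q8 F) (X 6 t) vf1 = vf1 := by
  constructor <;> (rw [act_X6]; apply ext8 <;> simp [ve1, vf1])
theorem s2a_fix8 (t : F) : act (Q8 F) (X 8 t) ve1 = ve1 ∧ act (Q8 F) (X 8 t) vf1 = vf1 := by
  constructor <;> (rw [act_X8]; apply ext8 <;> simp [ve1, vf1])

/-- "good" elements: in `EE`, fixing `e₁` and `f₁` -/
def s2a_good (h : OG F) : Prop :=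
  h ∈ EE F ∧ act (Q8 F) h ve1 = ve1 ∧ act (Q8 F) h vf1 = vf1

theorem s2a_good_one : s2a_good (1 : OG F) := ⟨one_mem _, act_one _ _, act_one _ _⟩

theorem s2a_good_mul {h k : OG F} (hh : s2a_good h) (hk : s2a_good k) : s2a_good (h * k) :=
  ⟨mul_mem hh.1 hk.1, by rw [act_mul, hk.2.1, hh.2.1], by rw [act_mul, hk.2.2, hh.2.2]⟩

theorem s2a_good_X14 (t : F) : s2a_good (X 14 t) := ⟨X_mem_EE _ _, (s2a_fix14 t).1, (s2a_fix14 t).2⟩
theorem s2a_good_X16 (t : F) : s2a_good (X 16 t) := ⟨X_mem_EE _ _, (s2a_fix16 t).1, (s2a_fix16 t).2⟩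
theorem s2a_good_X17 (t : F) : s2a_good (X 17 t) := ⟨X_mem_EE _ _, (s2a_fix17 t).1, (s2a_fix17 t).2⟩
theorem s2a_good_X15 (t : F) : s2a_good (X 15 t) := ⟨X_mem_EE _ _, (s2a_fix15 t).1, (s2a_fix15 t).2⟩
theorem s2a_good_X9 (t : F) : s2a_good (X 9 t) := ⟨X_mem_EE _ _, (s2a_fix9 t).1, (s2a_fix9 t).2⟩
theorem s2a_good_X7 (t : F) : s2a_good (X 7 t) := ⟨X_mem_EE _ _, (s2a_fix7 t).1, (s2a_fix7 t).2⟩
theorem s2a_good_X6 (t : F) : s2a_good (X 6 t) := ⟨X_mem_EE _ _, (s2a_fix6 t).1, (s2a_fix6 t).2⟩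
theorem s2a_good_X8 (t : F) : s2a_good (X 8 t) := ⟨X_mem_EE _ _, (s2a_fix8 t).1, (s2a_fix8 t).2⟩

/-- a good element keeps the scaling of `e₁`, `f₁` -/
theorem s2a_good_keep {h g : OG F} (hh : s2a_good h) (c1 : F)
    (h1 : act (Q8 F) g ve1 = c1 • ve1) (h1' : act (Q8 F) g vf1 = c1⁻¹ • vf1) :
    act (Q8 F) (h * g) ve1 = c1 • ve1 ∧ act (Q8 F) (h * g) vf1 = c1⁻¹ • vf1 := by
  constructor
  · rw [act_mul, h1, act_smul, hh.2.1]
  · rw [act_mul, h1', act_smul, hh.2.2]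

/-- the vector `w = g e₂` -/
theorem s2a_w (g : OG F) (c1 : F) (hc1 : c1 ≠ 0) (h1 : act (Q8 F) g ve1 = c1 • ve1)
    (h1' : act (Q8 F) g vf1 = c1⁻¹ • vf1) :
    ca1 (act (Q8 F) g ve2) = 0 ∧ cb1 (act (Q8 F) g ve2) = 0 ∧ Q8 F (act (Q8 F) g ve2) = 0 ∧
      act (Q8 F) g ve2 ≠ 0 := by
  refine ⟨?_, ?_, ?_, ?_⟩
  · have hp := polar_act (Q8 F) g ve2 vf1
    rw [h1', polar_Q8, polar_Q8] at hp
    have hp' : ca1 (act (Q8 F) g ve2) * c1⁻¹ = 0 := by simpa [ve2, vf1] using hp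
    rcases mul_eq_zero.1 hp' with h | h
    · exact h
    · exact absurd h (inv_ne_zero hc1)
  · have hp := polar_act (Q8 F) g ve2 ve1
    rw [h1, polar_Q8, polar_Q8] at hp
    have hp' : cb1 (act (Q8 F) g ve2) * c1 = 0 := by simpa [ve2, ve1] using hp
    rcases mul_eq_zero.1 hp' with h | h
    · exact h
    · exact absurd h hc1
  · rw [Q_act, Q8_apply]; simp [ve2]
  · intro h0
    have h2 : (ve2 : I8 → F) = 0 := act_eq_zero (Q8 F) g ve2 h0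
    have := congrArg ca2 h2
    simp [ve2] at this

/-- step (i): make `ca2 ≠ 0` -/
theorem s2a_pivot (w : I8 → F) (ha1 : ca1 w = 0) (hb1 : cb1 w = 0) (hw : w ≠ 0) :
    ∃ h : OG F, s2a_good h ∧ ca2 (act (Q8 F) h w) ≠ 0 := by
  by_cases h2 : ca2 w = 0
  · by_cases h3 : ca3 w = 0
    · by_cases h4 : ca4 w = 0
      · by_cases k3 : cb3 w = 0
        · by_cases k4 : cb4 w = 0
          · have k2 : cb2 w ≠ 0 := by
              intro k2
              apply hw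
              apply ext8 <;> simp [*]
            refine ⟨X 17 1 * X 14 1, s2a_good_mul (s2a_good_X17 1) (s2a_good_X14 1), ?_⟩
            rw [act_mul, act_X17, act_X14]
            simp [h2, h3, k3, k2]
          · refine ⟨X 15 1, s2a_good_X15 1, ?_⟩
            rw [act_X15]
            simp [h2, k4]
        · refine ⟨X 17 1, s2a_good_X17 1, ?_⟩
          rw [act_X17]
          simp [h2, k3]
      · refine ⟨X 16 1, s2a_good_X16 1, ?_⟩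
        rw [act_X16]
        simp [h2, h4]
    · refine ⟨X 14 1, s2a_good_X14 1, ?_⟩
      rw [act_X14]
      simp [h2, h3]
  · exact ⟨1, s2a_good_one, by rw [act_one]; exact h2⟩

/-- step (ii): pivot on `ca2` -/
theorem s2a_kill (w : I8 → F) (ha1 : ca1 w = 0) (hb1 : cb1 w = 0) (hQ : Q8 F w = 0)
    (ha : ca2 w ≠ 0) :
    act (Q8 F) (X 8 (cb4 w / ca2 w) * X 6 (cb3 w / ca2 w) * X 7 (ca4 w / ca2 w) *
      X 9 (-(ca3 w) / ca2 w)) w = ca2 w • ve2 := by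
  rw [Q8_apply, ha1, hb1] at hQ
  simp only [act_mul, act_X9, act_X7, act_X6, act_X8, ca1_mk8, ca2_mk8, ca3_mk8, ca4_mk8,
    cb1_mk8, cb2_mk8, cb3_mk8, cb4_mk8]
  apply ext8
  · simp [ve2, ha1]
  · simp [ve2]
  · simp only [ca3_mk8, ca3_smul]; simp [ve2]; field_simp; ring
  · simp only [ca4_mk8, ca4_smul]; simp [ve2]; field_simp; ring
  · simp [ve2, hb1]
  · simp only [cb2_mk8, cb2_smul]; simp [ve2]; field_simp; linear_combination hQ
  · simp only [cb3_mk8, cb3_smul]; simp [ve2]; field_simp; ring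
  · simp only [cb4_mk8, cb4_smul]; simp [ve2]; field_simp; ring

/-- DO-RED-S2A. -/
theorem red_s2a (g : OG F) (c1 : F) (hc1 : c1 ≠ 0) (h1 : act (Q8 F) g ve1 = c1 • ve1)
    (h1' : act (Q8 F) g vf1 = c1⁻¹ • vf1) :
    ∃ h ∈ EE F, ∃ c2 : F, c2 ≠ 0 ∧ act (Q8 F) (h * g) ve1 = c1 • ve1 ∧
      act (Q8 F) (h * g) vf1 = c1⁻¹ • vf1 ∧ act (Q8 F) (h * g) ve2 = c2 • ve2 := by
  obtain ⟨ha1, hb1, hQ, hw⟩ := s2a_w g c1 hc1 h1 h1'
  obtain ⟨k, hk, hk2⟩ := s2a_pivot (act (Q8 F) g ve2) ha1 hb1 hw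
  obtain ⟨e1, e1'⟩ := s2a_good_keep hk c1 h1 h1'
  obtain ⟨ha1', hb1', hQ', hw'⟩ := s2a_w (k * g) c1 hc1 e1 e1'
  have hk2' : ca2 (act (Q8 F) (k * g) ve2) ≠ 0 := by rw [act_mul]; exact hk2
  set w := act (Q8 F) (k * g) ve2 with hwdef
  have hm : s2a_good (X 8 (cb4 w / ca2 w) * X 6 (cb3 w / ca2 w) * X 7 (ca4 w / ca2 w) *
      X 9 (-(ca3 w) / ca2 w)) :=
    s2a_good_mul (s2a_good_mul (s2a_good_mul (s2a_good_X8 _) (s2a_good_X6 _)) (s2a_good_X7 _))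
      (s2a_good_X9 _)
  obtain ⟨f1, f1'⟩ := s2a_good_keep hm c1 e1 e1'
  refine ⟨X 8 (cb4 w / ca2 w) * X 6 (cb3 w / ca2 w) * X 7 (ca4 w / ca2 w) *
      X 9 (-(ca3 w) / ca2 w) * k, mul_mem hm.1 hk.1, ca2 w, hk2', ?_, ?_, ?_⟩
  · rw [mul_assoc]; exact f1
  · rw [mul_assoc]; exact f1'
  · rw [mul_assoc, act_mul, ← hwdef]
    exact s2a_kill w ha1' hb1' hQ' hk2'

end Cfsg.Agent.Lib.Helper37.D4O8
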