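import Mathlib
import Cfsg.Prelude.Def_GeometricClasses
import Cfsg.Agent.Lib.Helper44.UfDefs
import Cfsg.Agent.Lib.Helper44.HermSpace

/-!
# S5982 hive, leaf UF-U1: `dvd_card_GU_rank`

An element `u ≠ 1` of prime order `r` (prime to the characteristic) of `GU_n(q₀)` restricts to an
isometry of order `r` of the nondegenerate hermitian space `im (u - 1)`.
-/

set_option autoImplicit false
set_option linter.unusedSimpArgs false
set_option linter.unusedSectionVars false

open scoped MatrixGroups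
open Matrix Module

namespace Cfsg.Agent.Lib.Helper44.Uf

universe v

variable {F : Type v} [Field F]

/-- Maschke-type decomposition in an algebra: if `x ^ r = 1` and `r` is invertible, there is `e`
with `(x - 1) * e = 0`, `e * (x - 1) = 0` and `1 = e + (x - 1) * c = e + c * (x - 1)`. -/
theorem u1_maschke {R : Type*} [Ring R] [Algebra F R] (x : R) (r : ℕ) (hr : (r : F) ≠ 0)
    (hx : x ^ r = 1) :
    ∃ e c : R, (x - 1) * e = 0 ∧ e * (x - 1) = 0 ∧ 1 = e + (x - 1) * c ∧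
      1 = e + c * (x - 1) := by
  classical
  refine ⟨(r : F)⁻¹ • ∑ i ∈ Finset.range r, x ^ i,
    -((r : F)⁻¹ • ∑ i ∈ Finset.range r, ∑ j ∈ Finset.range i, x ^ j), ?_, ?_, ?_, ?_⟩
  · rw [mul_smul_comm, mul_geom_sum, hx, sub_self, smul_zero]
  · rw [smul_mul_assoc, geom_sum_mul, hx, sub_self, smul_zero]
  · rw [mul_neg, mul_smul_comm, Finset.mul_sum, ← sub_eq_add_neg, ← smul_sub,
      ← Finset.sum_sub_distrib]
    have h1 : ∀ i ∈ Finset.range r, x ^ i - (x - 1) * ∑ j ∈ Finset.range i, x ^ j = 1 := by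
      intro i _
      rw [mul_geom_sum]
      abel
    rw [Finset.sum_congr rfl h1, Finset.sum_const, Finset.card_range, ← Nat.cast_smul_eq_nsmul F,
      smul_smul, inv_mul_cancel₀ hr, one_smul]
  · rw [neg_mul, smul_mul_assoc, Finset.sum_mul, ← sub_eq_add_neg, ← smul_sub,
      ← Finset.sum_sub_distrib]
    have h1 : ∀ i ∈ Finset.range r, x ^ i - (∑ j ∈ Finset.range i, x ^ j) * (x - 1) = 1 := by
      intro i _
      rw [geom_sum_mul]
      abel
    rw [Finset.sum_congr rfl h1, Finset.sum_const, Finset.card_range, ← Nat.cast_smul_eq_nsmul F,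
      smul_smul, inv_mul_cancel₀ hr, one_smul]

section herm

variable [Fintype F] {q₀ : ℕ}

theorem u1_frob_sub (hF : Fintype.card F = q₀ ^ 2) (a b : F) : (a - b) ^ q₀ = a ^ q₀ - b ^ q₀ := by
  have h := Cfsg.Agent.Lib.Helper44.frobK_add hF (a - b) b
  rw [sub_add_cancel] at h
  rw [h]
  ring

theorem u1_herm_add_left {n : ℕ} (a a' b : Fin n → F) :
    Cfsg.hermForm n F q₀ (a + a') b = Cfsg.hermForm n F q₀ a b + Cfsg.hermForm n F q₀ a' b := by
  unfold Cfsg.hermForm
  rw [← Finset.sum_add_distrib]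
  refine Finset.sum_congr rfl fun i _ => ?_
  rw [Pi.add_apply]
  ring

theorem u1_herm_smul_left {n : ℕ} (c : F) (a b : Fin n → F) :
    Cfsg.hermForm n F q₀ (c • a) b = c * Cfsg.hermForm n F q₀ a b := by
  unfold Cfsg.hermForm
  rw [Finset.mul_sum]
  refine Finset.sum_congr rfl fun i _ => ?_
  rw [Pi.smul_apply, smul_eq_mul]
  ring

theorem u1_herm_sub_right {n : ℕ} (hF : Fintype.card F = q₀ ^ 2) (a b b' : Fin n → F) :
    Cfsg.hermForm n F q₀ a (b - b') = Cfsg.hermForm n F q₀ a b - Cfsg.hermForm n F q₀ a b' := by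
  unfold Cfsg.hermForm
  rw [← Finset.sum_sub_distrib]
  refine Finset.sum_congr rfl fun i _ => ?_
  rw [Pi.sub_apply, u1_frob_sub hF]
  ring

theorem u1_herm_conj {n : ℕ} (hF : Fintype.card F = q₀ ^ 2) (a b : Fin n → F) :
    (Cfsg.hermForm n F q₀ a b) ^ q₀ = Cfsg.hermForm n F q₀ b a := by
  unfold Cfsg.hermForm
  rw [Cfsg.Agent.Lib.Helper44.frobK_sum hF]
  refine Finset.sum_congr rfl fun i _ => ?_
  rw [mul_pow, Cfsg.Agent.Lib.Helper44.frobK_frobK hF, mul_comm]

theorem u1_herm_nondeg {n : ℕ} (hF : Fintype.card F = q₀ ^ 2) (b : Fin n → F)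
    (h : ∀ a, Cfsg.hermForm n F q₀ a b = 0) : b = 0 := by
  classical
  have hq : q₀ ≠ 0 := by
    have := Cfsg.Agent.Lib.Helper44.two_le_q_of_card hF
    omega
  funext i
  have h1 := h (Pi.single i 1)
  unfold Cfsg.hermForm at h1
  rw [Finset.sum_eq_single i] at h1
  · rw [Pi.single_eq_same, one_mul] at h1
    exact pow_eq_zero_iff hq |>.1 h1
  · intro j _ hj
    rw [Pi.single_eq_of_ne hj, zero_mul]
  · intro hi
    exact absurd (Finset.mem_univ i) hi


/-- the core of UF-U1, for an arbitrary name `d` of the rank -/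
theorem u1_core {n : ℕ} (hF : Fintype.card F = q₀ ^ 2) (r : ℕ) (hr : r.Prime)
    (hrF : (r : F) ≠ 0) (u : GL (Fin n) F) (hu : u ∈ Cfsg.GU n F q₀) (hur : u ^ r = 1) (hu1 : u ≠ 1)
    (d : ℕ)
    (hd : finrank F (LinearMap.range ((u : Matrix (Fin n) (Fin n) F) - 1).mulVecLin) = d) :
    r ∣ Nat.card (Cfsg.GU d F q₀) := by
  classical
  obtain ⟨M, hM⟩ : ∃ M : Matrix (Fin n) (Fin n) F, M = (u : Matrix (Fin n) (Fin n) F) := ⟨_, rfl⟩
  rw [← hM] at hd
  have hMr : M ^ r = 1 := by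
    rw [hM, ← Units.val_pow_eq_pow_val, hur, Units.val_one]
  have hiso : ∀ a b, Cfsg.hermForm n F q₀ (M *ᵥ a) (M *ᵥ b) = Cfsg.hermForm n F q₀ a b := by
    intro a b
    rw [hM]
    exact hu a b
  obtain ⟨E, C, hE1, hE2, hE3, hE4⟩ := u1_maschke (F := F) M r hrF hMr
  set W : Submodule F (Fin n → F) := LinearMap.range (M - 1).mulVecLin with hW
  have hmemW : ∀ w, w ∈ W ↔ ∃ c, M *ᵥ c - c = w := by
    intro w
    rw [hW, LinearMap.mem_range]
    constructor
    · rintro ⟨c, hc⟩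
      refine ⟨c, ?_⟩
      rw [← hc, Matrix.mulVecLin_apply, Matrix.sub_mulVec, Matrix.one_mulVec]
    · rintro ⟨c, hc⟩
      refine ⟨c, ?_⟩
      rw [← hc, Matrix.mulVecLin_apply, Matrix.sub_mulVec, Matrix.one_mulVec]
  -- decomposition
  have hdec : ∀ v : Fin n → F, ∃ a w, M *ᵥ a = a ∧ w ∈ W ∧ v = a + w := by
    intro v
    refine ⟨E *ᵥ v, (M - 1) *ᵥ (C *ᵥ v), ?_, ?_, ?_⟩
    · have h1 : (M - 1) *ᵥ (E *ᵥ v) = 0 := by
        rw [Matrix.mulVec_mulVec, hE1, Matrix.zero_mulVec]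
      rw [Matrix.sub_mulVec, Matrix.one_mulVec, sub_eq_zero] at h1
      exact h1
    · rw [hmemW]
      exact ⟨C *ᵥ v, by rw [Matrix.sub_mulVec, Matrix.one_mulVec]⟩
    · have h1 := congrArg (fun A : Matrix (Fin n) (Fin n) F => A *ᵥ v) hE3
      simp only [Matrix.one_mulVec, Matrix.add_mulVec] at h1
      rw [Matrix.mulVec_mulVec]
      exact h1
  -- no fixed vectors in W
  have hfix : ∀ w ∈ W, M *ᵥ w = w → w = 0 := by
    intro w hw hfw
    obtain ⟨c, rfl⟩ := (hmemW w).1 hw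
    have h8 : M *ᵥ c - c = (M - 1) *ᵥ c := by rw [Matrix.sub_mulVec, Matrix.one_mulVec]
    have h1 : E *ᵥ (M *ᵥ c - c) = 0 := by
      rw [h8, Matrix.mulVec_mulVec, hE2, Matrix.zero_mulVec]
    have h7 : (M - 1) *ᵥ (M *ᵥ c - c) = 0 := by
      rw [Matrix.sub_mulVec, Matrix.one_mulVec, hfw, sub_self]
    have h2 := congrArg (fun A : Matrix (Fin n) (Fin n) F => A *ᵥ (M *ᵥ c - c)) hE4
    simp only [Matrix.one_mulVec, Matrix.add_mulVec] at h2
    rw [h1, zero_add, ← Matrix.mulVec_mulVec, h7, Matrix.mulVec_zero] at h2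
    exact h2
  -- W is M-invariant
  have hWinv : ∀ w ∈ W, M *ᵥ w ∈ W := by
    intro w hw
    obtain ⟨c, rfl⟩ := (hmemW w).1 hw
    rw [hmemW]
    refine ⟨M *ᵥ c, ?_⟩
    rw [Matrix.mulVec_sub]
  -- the hermitian space W
  let H : W → W → F := fun a b => Cfsg.hermForm n F q₀ (a : Fin n → F) (b : Fin n → F)
  have hH : Cfsg.Agent.Lib.Helper44.IsHermSpace q₀ H := by
    refine ⟨?_, ?_, ?_, ?_⟩
    · intro a a' b
      exact u1_herm_add_left (a : Fin n → F) a' b
    · intro c a b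
      exact u1_herm_smul_left c (a : Fin n → F) b
    · intro a b
      exact u1_herm_conj hF (a : Fin n → F) b
    · intro b hb
      have h1 : ∀ v : Fin n → F, Cfsg.hermForm n F q₀ v (b : Fin n → F) = 0 := by
        intro v
        obtain ⟨a, w, ha, hw, rfl⟩ := hdec v
        rw [u1_herm_add_left]
        have h2 : Cfsg.hermForm n F q₀ w (b : Fin n → F) = 0 := hb ⟨w, hw⟩
        obtain ⟨c, hc⟩ := (hmemW (b : Fin n → F)).1 b.2
        have h3 : Cfsg.hermForm n F q₀ a (b : Fin n → F) = 0 := by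
          rw [← hc, u1_herm_sub_right hF]
          conv_lhs => rw [← ha]
          rw [hiso, ha, sub_self]
        rw [h2, h3, add_zero]
      exact Subtype.ext (u1_herm_nondeg hF _ h1)
  obtain ⟨Θ, hΘ⟩ := Cfsg.Agent.Lib.Helper44.exists_herm_coords hF W H hH d hd
  -- the restriction of M to W
  let TW : W →ₗ[F] W := (M.mulVecLin).restrict (p := W) (q := W) (fun w hw => hWinv w hw)
  have hTW : ∀ w : W, ((TW w : W) : Fin n → F) = M *ᵥ (w : Fin n → F) := fun w => rfl
  let g : Matrix (Fin d) (Fin d) F :=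
    LinearMap.toMatrix' ((Θ : W →ₗ[F] (Fin d → F)) ∘ₗ TW ∘ₗ (Θ.symm : (Fin d → F) →ₗ[F] W))
  have hg : ∀ a : Fin d → F, g *ᵥ a = Θ (TW (Θ.symm a)) := by
    intro a
    show (LinearMap.toMatrix' _) *ᵥ a = _
    rw [← Matrix.toLin'_apply, Matrix.toLin'_toMatrix']
    rfl
  have hgpow : ∀ (k : ℕ) (a : Fin d → F),
      ((Θ.symm ((g ^ k) *ᵥ a) : W) : Fin n → F) = (M ^ k) *ᵥ ((Θ.symm a : W) : Fin n → F) := by
    intro k
    induction k with
    | zero =>
      intro a
      rw [pow_zero, pow_zero, Matrix.one_mulVec, Matrix.one_mulVec]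
    | succ k ih =>
      intro a
      rw [pow_succ', pow_succ', ← Matrix.mulVec_mulVec, hg, LinearEquiv.symm_apply_apply, hTW, ih,
        Matrix.mulVec_mulVec]
  have hgr : g ^ r = 1 := by
    apply Matrix.toLin'.injective
    apply LinearMap.ext
    intro a
    rw [Matrix.toLin'_apply, Matrix.toLin'_one, LinearMap.id_apply]
    have h1 := hgpow r a
    rw [hMr, Matrix.one_mulVec] at h1
    have h2 : Θ.symm ((g ^ r) *ᵥ a) = Θ.symm a := Subtype.ext h1
    exact Θ.symm.injective h2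
  have hrpos : 0 < r := hr.pos
  have hgg : g * g ^ (r - 1) = 1 := by
    rw [← pow_succ', Nat.sub_add_cancel hrpos, hgr]
  have hgg' : g ^ (r - 1) * g = 1 := by
    rw [← pow_succ, Nat.sub_add_cancel hrpos, hgr]
  let gU : GL (Fin d) F := ⟨g, g ^ (r - 1), hgg, hgg'⟩
  have hgU : gU ∈ Cfsg.GU d F q₀ := by
    intro a b
    show Cfsg.hermForm d F q₀ (g *ᵥ a) (g *ᵥ b) = Cfsg.hermForm d F q₀ a b
    rw [hg, hg, hΘ]
    show Cfsg.hermForm n F q₀ ((TW (Θ.symm a) : W) : Fin n → F) ((TW (Θ.symm b) : W) : Fin n → F) = _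
    rw [hTW, hTW, hiso]
    have h1 := hΘ (Θ.symm a) (Θ.symm b)
    rw [LinearEquiv.apply_symm_apply, LinearEquiv.apply_symm_apply] at h1
    exact h1.symm
  have hgU1 : gU ≠ 1 := by
    intro h
    have h1 : g = 1 := congrArg Units.val h
    apply hu1
    -- every vector of W is fixed, so W = 0, so M = 1
    have h2 : ∀ w : W, M *ᵥ (w : Fin n → F) = w := by
      intro w
      have h3 := hg (Θ w)
      rw [h1, Matrix.one_mulVec, LinearEquiv.symm_apply_apply] at h3
      have h4 : TW w = w := Θ.injective h3.symm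
      rw [← hTW, h4]
    have h5 : ∀ c : Fin n → F, M *ᵥ c = c := by
      intro c
      have hw : M *ᵥ c - c ∈ W := (hmemW _).2 ⟨c, rfl⟩
      have := hfix _ hw (h2 ⟨_, hw⟩)
      exact sub_eq_zero.1 this
    apply Units.ext
    rw [Units.val_one, ← hM]
    apply Matrix.toLin'.injective
    apply LinearMap.ext
    intro c
    rw [Matrix.toLin'_apply, h5 c, Matrix.toLin'_one, LinearMap.id_apply]
  have hgUr : gU ^ r = 1 := by
    apply Units.ext
    rw [Units.val_pow_eq_pow_val, Units.val_one]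
    exact hgr
  have hord : orderOf (⟨gU, hgU⟩ : Cfsg.GU d F q₀) = r := by
    have : Fact r.Prime := ⟨hr⟩
    apply orderOf_eq_prime
    · apply Subtype.ext
      rw [SubgroupClass.coe_pow]
      exact hgUr
    · intro h
      exact hgU1 (congrArg Subtype.val h)
  rw [← hord]
  exact orderOf_dvd_natCard _


end herm

/-- UF-U1 : an element `u ≠ 1` of `GU_n(q₀)` of prime order `r ≠ p` gives an element of order `r` of `GU_d(q₀)`,
`d = rank (u - 1)`  (`F^n = ker (u - 1) ⊥ im (u - 1)`, `im (u - 1)` is a nondegenerate hermitian space of dimension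
`d`; `Cfsg.Agent.Lib.Helper44.exists_herm_coords`) -/
theorem dvd_card_GU_rank [Fintype F] {n q₀ : ℕ} (hF : Fintype.card F = q₀ ^ 2) (r : ℕ) (hr : r.Prime)
    (hrF : (r : F) ≠ 0) (u : GL (Fin n) F) (hu : u ∈ Cfsg.GU n F q₀) (hur : u ^ r = 1) (hu1 : u ≠ 1) :
    r ∣ Nat.card (Cfsg.GU (((u : Matrix (Fin n) (Fin n) F) - 1).rank) F q₀) :=
  u1_core hF r hr hrF u hu hur hu1 _ rfl


end Cfsg.Agent.Lib.Helper44.Uf
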