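import Mathlib

/-!
# Orthogonal groups: reflections and isometries (tools for BAL-ORTH)
-/

set_option autoImplicit false

namespace Cfsg.Agent.Lib.Helper61.Orth

open LinearMap (BilinForm)

variable {F : Type*} [Field F] {V : Type*} [AddCommGroup V] [Module F V]

/-- isometries of a bilinear form -/
def IsIso (B : BilinForm F V) (f : V ≃ₗ[F] V) : Prop := ∀ a b, B (f a) (f b) = B a b

theorem IsIso.one (B : BilinForm F V) : IsIso B (1 : V ≃ₗ[F] V) := fun _ _ => rfl

theorem IsIso.mul {B : BilinForm F V} {f g : V ≃ₗ[F] V} (hf : IsIso B f) (hg : IsIso B g) :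
    IsIso B (f * g) := fun a b => by
  rw [LinearEquiv.mul_apply, LinearEquiv.mul_apply, hf, hg]

theorem IsIso.inv {B : BilinForm F V} {f : V ≃ₗ[F] V} (hf : IsIso B f) : IsIso B f⁻¹ :=
  fun a b => by
    have h := hf (f⁻¹ a) (f⁻¹ b)
    have e1 : f (f⁻¹ a) = a := by rw [← LinearEquiv.mul_apply, mul_inv_cancel]; rfl
    have e2 : f (f⁻¹ b) = b := by rw [← LinearEquiv.mul_apply, mul_inv_cancel]; rfl
    rw [e1, e2] at h
    exact h.symm

theorem apply_inv_apply (f : V ≃ₗ[F] V) (a : V) : f (f⁻¹ a) = a := by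
  rw [← LinearEquiv.mul_apply, mul_inv_cancel]; rfl

theorem inv_apply_apply (f : V ≃ₗ[F] V) (a : V) : f⁻¹ (f a) = a := by
  rw [← LinearEquiv.mul_apply, inv_mul_cancel]; rfl

theorem IsIso.apply_inv {B : BilinForm F V} {f : V ≃ₗ[F] V} (hf : IsIso B f) (a b : V) :
    B (f a) b = B a (f⁻¹ b) := by
  have h := hf a (f⁻¹ b)
  rw [apply_inv_apply] at h
  exact h

/-- the reflection as a linear map -/
noncomputable def reflLin (B : BilinForm F V) (v : V) : V →ₗ[F] V :=
  LinearMap.id - (2 / B v v) • (B.flip v).smulRight v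

theorem reflLin_apply (B : BilinForm F V) (v z : V) :
    reflLin B v z = z - (2 / B v v * B z v) • v := by
  simp [reflLin, LinearMap.smulRight_apply, smul_smul]

theorem reflLin_invol (B : BilinForm F V) {v : V} (hv : B v v ≠ 0) (z : V) :
    reflLin B v (reflLin B v z) = z := by
  rw [reflLin_apply, reflLin_apply]
  have h1 : B (z - (2 / B v v * B z v) • v) v = - B z v := by
    rw [map_sub, LinearMap.sub_apply, map_smul, LinearMap.smul_apply, smul_eq_mul]
    field_simp
    ring
  rw [h1]
  rw [sub_sub, ← add_smul]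
  have : (2 / B v v * B z v + 2 / B v v * -B z v) = 0 := by ring
  rw [this, zero_smul, sub_zero]

/-- the reflection in a nonsingular vector -/
noncomputable def refl (B : BilinForm F V) (v : V) (hv : B v v ≠ 0) : V ≃ₗ[F] V :=
  LinearEquiv.ofInvolutive (reflLin B v) (reflLin_invol B hv)

theorem refl_apply (B : BilinForm F V) {v : V} (hv : B v v ≠ 0) (z : V) :
    refl B v hv z = z - (2 / B v v * B z v) • v := by
  show reflLin B v z = _
  exact reflLin_apply B v z

theorem refl_refl (B : BilinForm F V) {v : V} (hv : B v v ≠ 0) (z : V) :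
    refl B v hv (refl B v hv z) = z := reflLin_invol B hv z

theorem refl_mul_self (B : BilinForm F V) {v : V} (hv : B v v ≠ 0) :
    refl B v hv * refl B v hv = 1 := by
  ext z
  rw [LinearEquiv.mul_apply, refl_refl]; rfl

theorem refl_inv (B : BilinForm F V) {v : V} (hv : B v v ≠ 0) :
    (refl B v hv)⁻¹ = refl B v hv := inv_eq_of_mul_eq_one_right (refl_mul_self B hv)

theorem refl_self (B : BilinForm F V) {v : V} (hv : B v v ≠ 0) : refl B v hv v = -v := by
  rw [refl_apply]
  have : (2 / B v v * B v v) = 2 := by field_simp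
  rw [this, two_smul]
  abel

theorem refl_of_ortho (B : BilinForm F V) {v : V} (hv : B v v ≠ 0) {z : V} (h : B z v = 0) :
    refl B v hv z = z := by
  rw [refl_apply, h, mul_zero, zero_smul, sub_zero]

theorem refl_isIso {B : BilinForm F V} (hs : B.IsSymm) {v : V} (hv : B v v ≠ 0) :
    IsIso B (refl B v hv) := by
  intro a b
  rw [refl_apply, refl_apply]
  simp only [map_sub, map_smul, LinearMap.sub_apply, LinearMap.smul_apply, smul_eq_mul]
  rw [hs.eq v b]
  field_simp
  ring

/-- conjugating a reflection by an isometry -/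
theorem conj_refl {B : BilinForm F V} {f : V ≃ₗ[F] V} (hf : IsIso B f) {v : V} (hv : B v v ≠ 0)
    (hv' : B (f⁻¹ v) (f⁻¹ v) ≠ 0) :
    f⁻¹ * refl B v hv * f = refl B (f⁻¹ v) hv' := by
  ext z
  rw [LinearEquiv.mul_apply, LinearEquiv.mul_apply, refl_apply, refl_apply, map_sub, map_smul,
    inv_apply_apply, hf.inv v v, hf.apply_inv z v]

theorem IsIso.self_inv {B : BilinForm F V} {f : V ≃ₗ[F] V} (hf : IsIso B f) (v : V) :
    B (f⁻¹ v) (f⁻¹ v) = B v v := hf.inv v v

end Cfsg.Agent.Lib.Helper61.Orth
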