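import Mathlib
import Cfsg.Agent.Lib.Helper61.BalORTH1

/-!
# An isometry all of whose nonsingular vectors are eigenvectors is `±1`
-/

set_option autoImplicit false
set_option linter.style.haveILetI false
set_option linter.unusedSimpArgs false

namespace Cfsg.Agent.Lib.Helper61.Orth

open LinearMap (BilinForm)
open Module

variable {F : Type*} [Field F] {V : Type*} [AddCommGroup V] [Module F V]

theorem eigen_sq {B : BilinForm F V} {f : V ≃ₗ[F] V} (hf : IsIso B f) {v : V} (hv : B v v ≠ 0)
    {e : F} (he : f v = e • v) : e = 1 ∨ e = -1 := by
  have h := hf v v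
  rw [he] at h
  simp only [map_smul, LinearMap.smul_apply, smul_eq_mul] at h
  have h1 : (e * e - 1) * B v v = 0 := by linear_combination h
  rcases mul_eq_zero.1 h1 with h2 | h2
  · have h3 : (e - 1) * (e + 1) = 0 := by linear_combination h2
    rcases mul_eq_zero.1 h3 with h4 | h4
    · left; linear_combination h4
    · right; linear_combination h4
  · exact absurd h2 hv

theorem eq_one_or_neg_one_of_eigen [FiniteDimensional F V] (h2 : (2 : F) ≠ 0)
    {B : BilinForm F V} (hs : B.IsSymm) (hnd : B.Nondegenerate) (hdim : 3 ≤ finrank F V)
    {f : V ≃ₗ[F] V} (hf : IsIso B f) (he : ∀ v, B v v ≠ 0 → ∃ e : F, f v = e • v) :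
    (∀ v, f v = v) ∨ (∀ v, f v = -v) := by
  classical
  haveI : Invertible (2 : F) := invertibleOfNonzero h2
  obtain ⟨b, hb⟩ := LinearMap.BilinForm.exists_orthogonal_basis (LinearMap.BilinForm.isSymm_iff.1 hs)
  have hb' : ∀ i j, i ≠ j → B (b i) (b j) = 0 := fun i j hij => hb hij
  have hns : ∀ i, B (b i) (b i) ≠ 0 := fun i =>
    LinearMap.IsOrthoᵢ.not_isOrtho_basis_self_of_separatingLeft hb hnd.1 i
  choose e hE using fun i => he (b i) (hns i)
  -- all eigenvalues agree
  have hpair : ∀ i j, i ≠ j → e i = e j := by
    intro i j hij
    -- a third index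
    obtain ⟨l, hli, hlj⟩ : ∃ l, l ≠ i ∧ l ≠ j := by
      have hc : ({i, j} : Finset (Fin (finrank F V))).card <
          (Finset.univ : Finset (Fin (finrank F V))).card := by
        have := Finset.card_le_two (a := i) (b := j)
        rw [Finset.card_univ, Fintype.card_fin]
        omega
      obtain ⟨l, _, hl⟩ := Finset.exists_mem_notMem_of_card_lt_card hc
      refine ⟨l, fun h => hl (by rw [h]; simp), fun h => hl (by rw [h]; simp)⟩
    by_cases hsum : B (b i) (b i) + B (b j) (b j) = 0
    · -- use `b i + b j + b l`
      have hq : B (b i + b j + b l) (b i + b j + b l) ≠ 0 := by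
        simp only [map_add, LinearMap.add_apply]
        rw [hb' i j hij, hb' j i hij.symm, hb' i l hli.symm, hb' l i hli, hb' j l hlj.symm,
          hb' l j hlj]
        intro h
        apply hns l
        linear_combination h - hsum
      obtain ⟨e', he'⟩ := he _ hq
      rw [map_add, map_add, hE i, hE j, hE l] at he'
      have h1 := congrArg (fun z => b.repr z i) he'
      have h2 := congrArg (fun z => b.repr z j) he'
      simp only [map_add, map_smul, Basis.repr_self, Finsupp.coe_add, Finsupp.coe_smul,
        Pi.add_apply, Pi.smul_apply, smul_eq_mul, Finsupp.single_apply] at h1 h2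
      simp only [hij, hij.symm, hli, hli.symm, hlj, hlj.symm, if_true, if_false] at h1 h2
      have h1' : e i = e' := by linear_combination h1
      have h2' : e j = e' := by linear_combination h2
      rw [h1', h2']
    · have hq : B (b i + b j) (b i + b j) ≠ 0 := by
        simp only [map_add, LinearMap.add_apply]
        rw [hb' i j hij, hb' j i hij.symm]
        intro h
        apply hsum
        linear_combination h
      obtain ⟨e', he'⟩ := he _ hq
      rw [map_add, hE i, hE j] at he'
      have h1 := congrArg (fun z => b.repr z i) he'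
      have h2 := congrArg (fun z => b.repr z j) he'
      simp only [map_add, map_smul, Basis.repr_self, Finsupp.coe_add, Finsupp.coe_smul,
        Pi.add_apply, Pi.smul_apply, smul_eq_mul, Finsupp.single_apply] at h1 h2
      simp only [hij, hij.symm, if_true, if_false] at h1 h2
      have h1' : e i = e' := by linear_combination h1
      have h2' : e j = e' := by linear_combination h2
      rw [h1', h2']
  have hpos : 0 < finrank F V := by omega
  set i₀ : Fin (finrank F V) := ⟨0, hpos⟩ with hi₀
  have hall : ∀ i, e i = e i₀ := by
    intro i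
    by_cases h : i = i₀
    · rw [h]
    · exact hpair i i₀ h
  have hlin : f.toLinearMap = e i₀ • LinearMap.id := by
    apply b.ext
    intro i
    simp only [LinearEquiv.coe_coe, LinearMap.smul_apply, LinearMap.id_coe, id_eq]
    rw [hE i, hall i]
  have hfv : ∀ v, f v = e i₀ • v := by
    intro v
    have := congrArg (fun g => g v) hlin
    simpa using this
  rcases eigen_sq hf (hns i₀) (hE i₀) with h | h
  · left; intro v; rw [hfv, h, one_smul]
  · right; intro v; rw [hfv, h, neg_smul, one_smul]

end Cfsg.Agent.Lib.Helper61.Orth
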