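import Mathlib
import Cfsg.Agent.Lib.Helper61.BalORTH2

/-!
# Restriction to the orthogonal complement of a nonsingular vector, and the inductive step
-/

set_option autoImplicit false
set_option linter.deprecated false

namespace Cfsg.Agent.Lib.Helper61.Orth

open LinearMap (BilinForm)
open Module

universe u

variable {F : Type*} [Field F] {V : Type u} [AddCommGroup V] [Module F V]

/-- hypotheses on a subgroup `N` of linear automorphisms -/
structure Hyp (B : BilinForm F V) (N : Subgroup (V ≃ₗ[F] V)) : Prop where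
  iso : ∀ f ∈ N, IsIso B f
  norm : ∀ y : V ≃ₗ[F] V, IsIso B y → ∀ f ∈ N, y * f * y⁻¹ ∈ N
  odd : ∀ f ∈ N, ∃ k : ℕ, Odd k ∧ ((∀ v, (f ^ k) v = v) ∨ (∀ v, (f ^ k) v = -v))

/-- the conclusion: every element is `±1` -/
def Concl (N : Subgroup (V ≃ₗ[F] V)) : Prop := ∀ f ∈ N, (∀ v, f v = v) ∨ (∀ v, f v = -v)

theorem pow_apply_of_fix (f : V ≃ₗ[F] V) {z : V} (h : f z = z) (k : ℕ) : (f ^ k) z = z := by
  induction k with
  | zero => rfl
  | succ k ih => rw [pow_succ, LinearEquiv.mul_apply, h, ih]

theorem pow_apply_of_neg (f : V ≃ₗ[F] V) (h : ∀ z, f z = -z) (k : ℕ) (z : V) :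
    (f ^ k) z = ((-1 : F) ^ k) • z := by
  induction k generalizing z with
  | zero => simp
  | succ k ih =>
    rw [pow_succ, LinearEquiv.mul_apply, h, ih, pow_succ, smul_neg, mul_neg_one, neg_smul]

section restrict

variable (B : BilinForm F V) (u : V)

/-- the orthogonal complement of `u` -/
abbrev perp : Submodule F V := B.orthogonal (F ∙ u)

theorem mem_perp {B : BilinForm F V} {u z : V} : z ∈ perp B u ↔ B u z = 0 := by
  rw [LinearMap.BilinForm.mem_orthogonal_iff]
  constructor
  · intro h
    exact h u (Submodule.mem_span_singleton_self u)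
  · intro h n hn
    obtain ⟨a, rfl⟩ := Submodule.mem_span_singleton.1 hn
    show B (a • u) z = 0
    rw [map_smul, LinearMap.smul_apply, h, smul_zero]

variable {B} {u}

/-- the projection onto `u^⊥` -/
noncomputable def proj (hu : B u u ≠ 0) : V →ₗ[F] perp B u :=
  LinearMap.codRestrict (perp B u) (LinearMap.id - (1 / B u u) • (B u).smulRight u) (by
    intro z
    rw [mem_perp]
    simp only [LinearMap.sub_apply, LinearMap.id_coe, id_eq, LinearMap.smul_apply,
      LinearMap.smulRight_apply, map_sub, map_smul, smul_eq_mul]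
    field_simp
    ring)

theorem proj_coe (hu : B u u ≠ 0) (z : V) :
    ((proj hu z : perp B u) : V) = z - (B u z / B u u) • u := by
  simp [proj, LinearMap.smulRight_apply, smul_smul, div_eq_inv_mul]

theorem proj_of_mem (hu : B u u ≠ 0) (t : perp B u) : proj hu (t : V) = t := by
  apply Subtype.ext
  rw [proj_coe, mem_perp.1 t.2, zero_div, zero_smul, sub_zero]

/-- decomposition `z = (B u z / B u u) u + proj z` -/
theorem decomp (hu : B u u ≠ 0) (z : V) :
    z = (B u z / B u u) • u + ((proj hu z : perp B u) : V) := by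
  rw [proj_coe]; abel

/-- extension of an endomorphism of `u^⊥` by the identity on `u` -/
noncomputable def extLin (hu : B u u ≠ 0) (φ : perp B u →ₗ[F] perp B u) : V →ₗ[F] V :=
  (1 / B u u) • (B u).smulRight u + (perp B u).subtype ∘ₗ φ ∘ₗ proj hu

theorem extLin_apply (hu : B u u ≠ 0) (φ : perp B u →ₗ[F] perp B u) (z : V) :
    extLin hu φ z = (B u z / B u u) • u + ((φ (proj hu z) : perp B u) : V) := by
  simp [extLin, LinearMap.smulRight_apply, smul_smul, div_eq_inv_mul]

theorem B_u_extLin (hu : B u u ≠ 0) (φ : perp B u →ₗ[F] perp B u) (z : V) :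
    B u (extLin hu φ z) = B u z := by
  rw [extLin_apply, map_add, map_smul, smul_eq_mul, mem_perp.1 (φ (proj hu z)).2, add_zero]
  field_simp

theorem proj_extLin (hu : B u u ≠ 0) (φ : perp B u →ₗ[F] perp B u) (z : V) :
    proj hu (extLin hu φ z) = φ (proj hu z) := by
  apply Subtype.ext
  rw [proj_coe, B_u_extLin, extLin_apply]
  abel

theorem extLin_comp (hu : B u u ≠ 0) (φ ψ : perp B u →ₗ[F] perp B u) (z : V) :
    extLin hu φ (extLin hu ψ z) = extLin hu (φ ∘ₗ ψ) z := by
  rw [extLin_apply, B_u_extLin, proj_extLin, extLin_apply]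
  rfl

theorem extLin_id (hu : B u u ≠ 0) (z : V) : extLin hu LinearMap.id z = z := by
  rw [extLin_apply]
  exact (decomp hu z).symm

/-- extension of an automorphism of `u^⊥` by the identity on `u` -/
noncomputable def extEquiv (hu : B u u ≠ 0) (y : perp B u ≃ₗ[F] perp B u) : V ≃ₗ[F] V :=
  LinearEquiv.ofLinear (extLin hu y.toLinearMap) (extLin hu y.symm.toLinearMap)
    (by
      ext z
      rw [LinearMap.comp_apply, extLin_comp]
      have : y.toLinearMap ∘ₗ y.symm.toLinearMap = LinearMap.id := by
        ext t; simp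
      rw [this, extLin_id]; rfl)
    (by
      ext z
      rw [LinearMap.comp_apply, extLin_comp]
      have : y.symm.toLinearMap ∘ₗ y.toLinearMap = LinearMap.id := by
        ext t; simp
      rw [this, extLin_id]; rfl)

theorem extEquiv_apply (hu : B u u ≠ 0) (y : perp B u ≃ₗ[F] perp B u) (z : V) :
    extEquiv hu y z = (B u z / B u u) • u + ((y (proj hu z) : perp B u) : V) := by
  show extLin hu y.toLinearMap z = _
  rw [extLin_apply]; rfl

theorem extEquiv_self (hu : B u u ≠ 0) (y : perp B u ≃ₗ[F] perp B u) : extEquiv hu y u = u := by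
  rw [extEquiv_apply]
  have h0 : proj hu u = 0 := by
    apply Subtype.ext
    rw [proj_coe]
    have : B u u / B u u = 1 := div_self hu
    rw [this, one_smul, sub_self]; rfl
  rw [h0, map_zero, div_self hu, one_smul]
  simp

theorem extEquiv_of_mem (hu : B u u ≠ 0) (y : perp B u ≃ₗ[F] perp B u) (t : perp B u) :
    extEquiv hu y (t : V) = ((y t : perp B u) : V) := by
  rw [extEquiv_apply, proj_of_mem, mem_perp.1 t.2, zero_div, zero_smul, zero_add]

theorem extEquiv_isIso (hs : B.IsSymm) (hu : B u u ≠ 0) (y : perp B u ≃ₗ[F] perp B u)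
    (hy : IsIso (B.restrict (perp B u)) y) : IsIso B (extEquiv hu y) := by
  intro a b
  have key : ∀ (c d : F) (s t : perp B u),
      B (c • u + (s : V)) (d • u + (t : V)) = c * d * B u u + B (s : V) (t : V) := by
    intro c d s t
    simp only [map_add, map_smul, LinearMap.add_apply, LinearMap.smul_apply, smul_eq_mul]
    rw [mem_perp.1 t.2, hs.eq (s : V) u, mem_perp.1 s.2]
    ring
  rw [extEquiv_apply, extEquiv_apply, key]
  have h1 : B ((y (proj hu a) : perp B u) : V) ((y (proj hu b) : perp B u) : V) =
      B ((proj hu a : perp B u) : V) ((proj hu b : perp B u) : V) := hy (proj hu a) (proj hu b)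
  rw [h1]
  conv_rhs => rw [decomp hu a, decomp hu b]
  rw [key]

/-- restriction to `u^⊥` of an isometry fixing `u` -/
noncomputable def resEquiv (f : V ≃ₗ[F] V) (hf : IsIso B f) (hfu : f u = u) :
    perp B u ≃ₗ[F] perp B u :=
  LinearEquiv.ofLinear
    (f.toLinearMap.restrict (p := perp B u) (q := perp B u) (by
      intro t ht
      rw [mem_perp] at ht ⊢
      show B u (f t) = 0
      have := hf u t
      rw [hfu] at this
      rw [this, ht]))
    (f.symm.toLinearMap.restrict (p := perp B u) (q := perp B u) (by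
      intro t ht
      rw [mem_perp] at ht ⊢
      show B u (f.symm t) = 0
      have := hf u (f.symm t)
      rw [hfu, LinearEquiv.apply_symm_apply] at this
      rw [← this, ht]))
    (by ext t; simp)
    (by ext t; simp)

theorem resEquiv_coe (f : V ≃ₗ[F] V) (hf : IsIso B f) (hfu : f u = u) (t : perp B u) :
    ((resEquiv f hf hfu t : perp B u) : V) = f (t : V) := rfl

end restrict

end Cfsg.Agent.Lib.Helper61.Orth
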