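import Mathlib
import Cfsg.Agent.Lib.Helper61.BalORTH3

/-!
# The inductive step for BAL-ORTH
-/

set_option autoImplicit false

namespace Cfsg.Agent.Lib.Helper61.Orth

open LinearMap (BilinForm)
open Module

universe u

variable {F : Type*} [Field F] {V : Type u} [AddCommGroup V] [Module F V]

/-- the subgroup of restrictions to `u^⊥` of the elements of `N` fixing `u` -/
def resSub (B : BilinForm F V) (u : V) (N : Subgroup (V ≃ₗ[F] V)) :
    Subgroup (perp B u ≃ₗ[F] perp B u) where
  carrier := {φ | ∃ f ∈ N, f u = u ∧ ∀ t : perp B u, ((φ t : perp B u) : V) = f (t : V)}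
  one_mem' := ⟨1, N.one_mem, rfl, fun _ => rfl⟩
  mul_mem' := by
    rintro φ ψ ⟨f, hf, hfu, hφ⟩ ⟨g, hg, hgu, hψ⟩
    refine ⟨f * g, N.mul_mem hf hg, ?_, ?_⟩
    · rw [LinearEquiv.mul_apply, hgu, hfu]
    · intro t
      rw [LinearEquiv.mul_apply, LinearEquiv.mul_apply, hφ, hψ]
  inv_mem' := by
    rintro φ ⟨f, hf, hfu, hφ⟩
    refine ⟨f⁻¹, N.inv_mem hf, ?_, ?_⟩
    · have := inv_apply_apply f u
      rw [hfu] at this
      exact this
    · intro t
      have h1 := hφ (φ⁻¹ t)
      rw [apply_inv_apply φ t] at h1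
      rw [h1, inv_apply_apply]

theorem mem_resSub {B : BilinForm F V} {u : V} {N : Subgroup (V ≃ₗ[F] V)}
    {φ : perp B u ≃ₗ[F] perp B u} :
    φ ∈ resSub B u N ↔ ∃ f ∈ N, f u = u ∧ ∀ t : perp B u, ((φ t : perp B u) : V) = f (t : V) :=
  Iff.rfl

theorem pow_res {B : BilinForm F V} {u : V} {φ : perp B u ≃ₗ[F] perp B u} {f : V ≃ₗ[F] V}
    (h : ∀ t : perp B u, ((φ t : perp B u) : V) = f (t : V)) (k : ℕ) (t : perp B u) :
    (((φ ^ k) t : perp B u) : V) = (f ^ k) (t : V) := by
  induction k generalizing t with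
  | zero => rfl
  | succ k ih =>
    rw [pow_succ, pow_succ, LinearEquiv.mul_apply, LinearEquiv.mul_apply, ih, h]

theorem ne_zero_of_nonsing {B : BilinForm F V} {u : V} (hu : B u u ≠ 0) : u ≠ 0 := by
  intro h
  apply hu
  rw [h, map_zero]

theorem resSub_odd (h2 : (2 : F) ≠ 0) {B : BilinForm F V} {u : V} (hu : B u u ≠ 0)
    {N : Subgroup (V ≃ₗ[F] V)} (hN : Hyp B N) (φ : perp B u ≃ₗ[F] perp B u)
    (hφ : φ ∈ resSub B u N) : ∃ k : ℕ, Odd k ∧ ∀ t, (φ ^ k) t = t := by
  obtain ⟨f, hf, hfu, hres⟩ := hφ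
  obtain ⟨k, hk, hpow⟩ := hN.odd f hf
  refine ⟨k, hk, ?_⟩
  have hku : (f ^ k) u = u := pow_apply_of_fix f hfu k
  have h1 : ∀ v, (f ^ k) v = v := by
    rcases hpow with h | h
    · exact h
    · exfalso
      have h3 := h u
      rw [hku] at h3
      have h4 : (2 : F) • u = 0 := by
        rw [two_smul]
        nth_rewrite 1 [h3]
        exact neg_add_cancel u
      rcases smul_eq_zero.1 h4 with h5 | h5
      · exact h2 h5
      · exact ne_zero_of_nonsing hu h5
  intro t
  apply Subtype.ext
  rw [pow_res hres, h1]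

theorem resSub_hyp (h2 : (2 : F) ≠ 0) {B : BilinForm F V} (hs : B.IsSymm) {u : V}
    (hu : B u u ≠ 0) {N : Subgroup (V ≃ₗ[F] V)} (hN : Hyp B N) :
    Hyp (B.restrict (perp B u)) (resSub B u N) := by
  refine ⟨?_, ?_, ?_⟩
  · rintro φ ⟨f, hf, hfu, hres⟩ s t
    show B ((φ s : perp B u) : V) ((φ t : perp B u) : V) = B (s : V) (t : V)
    rw [hres, hres, hN.iso f hf]
  · rintro y hy φ ⟨f, hf, hfu, hres⟩
    have hyI := extEquiv_isIso hs hu y hy
    have hyu : extEquiv hu y u = u := extEquiv_self hu y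
    have hyu' : (extEquiv hu y)⁻¹ u = u := by
      have := inv_apply_apply (extEquiv hu y) u
      rw [hyu] at this
      exact this
    refine ⟨extEquiv hu y * f * (extEquiv hu y)⁻¹, hN.norm _ hyI f hf, ?_, ?_⟩
    · rw [LinearEquiv.mul_apply, LinearEquiv.mul_apply, hyu', hfu, hyu]
    · intro t
      have h1 : (extEquiv hu y)⁻¹ (t : V) = ((y⁻¹ t : perp B u) : V) := by
        have h3 := extEquiv_of_mem hu y (y⁻¹ t)
        rw [apply_inv_apply y t] at h3
        rw [← h3, inv_apply_apply]
      rw [LinearEquiv.mul_apply, LinearEquiv.mul_apply, LinearEquiv.mul_apply,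
        LinearEquiv.mul_apply, h1, ← hres, extEquiv_of_mem]
  · intro φ hφ
    obtain ⟨k, hk, h⟩ := resSub_odd h2 hu hN φ hφ
    exact ⟨k, hk, Or.inl h⟩

/-- existence of a nonsingular vector orthogonal to two given vectors, in dimension at least 4 -/
theorem exists_nonsing_ortho [FiniteDimensional F V] (h2 : (2 : F) ≠ 0) {B : BilinForm F V}
    (hs : B.IsSymm) (hnd : B.Nondegenerate) (hdim : 4 ≤ finrank F V) (v w : V)
    (hv : B v v ≠ 0) : ∃ u, B u u ≠ 0 ∧ B u v = 0 ∧ B u w = 0 := by
  classical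
  by_contra hcon
  push Not at hcon
  set P : Submodule F V := Submodule.span F {v, w} with hP
  set U : Submodule F V := B.orthogonal P with hU
  have hPle : finrank F P ≤ 2 := by
    have h1 := finrank_span_le_card (R := F) ({v, w} : Set V)
    have h3 : ({v, w} : Set V).toFinset.card ≤ 2 := by
      have : ({v, w} : Set V).toFinset = {v, w} := by
        ext z; simp
      rw [this]
      exact Finset.card_le_two
    exact le_trans h1 h3
  have hUfin : finrank F U = finrank F V - finrank F P :=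
    LinearMap.BilinForm.finrank_orthogonal hnd P
  have hmemU : ∀ z, z ∈ U ↔ B v z = 0 ∧ B w z = 0 := by
    intro z
    rw [hU, LinearMap.BilinForm.mem_orthogonal_iff]
    constructor
    · intro h
      exact ⟨h v (Submodule.subset_span (by simp)), h w (Submodule.subset_span (by simp))⟩
    · rintro ⟨h1, h3⟩ n hn
      show B n z = 0
      induction hn using Submodule.span_induction with
      | mem x hx =>
        rcases hx with rfl | hx
        · exact h1
        · rw [Set.mem_singleton_iff.1 hx]; exact h3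
      | zero => simp
      | add x y _ _ hx hy => rw [map_add, LinearMap.add_apply, hx, hy, add_zero]
      | smul a x _ hx => rw [map_smul, LinearMap.smul_apply, hx, smul_zero]
  have hsing : ∀ z ∈ U, B z z = 0 := by
    intro z hz
    by_contra hz0
    have := (hmemU z).1 hz
    exact hcon z hz0 (by rw [hs.eq z v]; exact this.1) (by rw [hs.eq z w]; exact this.2)
  have hzero : ∀ a ∈ U, ∀ b ∈ U, B a b = 0 := by
    intro a ha b hb
    have h1 := hsing (a + b) (U.add_mem ha hb)
    simp only [map_add, LinearMap.add_apply] at h1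
    rw [hsing a ha, hsing b hb, hs.eq b a] at h1
    have h3 : (2 : F) * B a b = 0 := by linear_combination h1
    rcases mul_eq_zero.1 h3 with h4 | h4
    · exact absurd h4 h2
    · exact h4
  have hUle : U ≤ B.orthogonal U := by
    intro a ha
    rw [LinearMap.BilinForm.mem_orthogonal_iff]
    intro b hb
    exact hzero b hb a ha
  have hUo : finrank F (B.orthogonal U) = finrank F V - finrank F U :=
    LinearMap.BilinForm.finrank_orthogonal hnd U
  have hUeq : U = B.orthogonal U := by
    apply Submodule.eq_of_le_of_finrank_le hUle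
    rw [hUo, hUfin]
    omega
  have hvU : v ∈ B.orthogonal U := by
    rw [LinearMap.BilinForm.mem_orthogonal_iff]
    intro a ha
    show B a v = 0
    rw [hs.eq a v]
    exact ((hmemU a).1 ha).1
  rw [← hUeq] at hvU
  exact hv (hsing v hvU)

end Cfsg.Agent.Lib.Helper61.Orth
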