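import Mathlib
import Cfsg.Agent.Lib.Helper61.BalORTH4

/-!
# The inductive step for BAL-ORTH (assembly)
-/

set_option autoImplicit false

namespace Cfsg.Agent.Lib.Helper61.Orth

open LinearMap (BilinForm)
open Module

universe u

/-- the statement for all spaces of dimension `n` -/
def PAll (F : Type*) [Field F] (n : ℕ) : Prop :=
  ∀ (V : Type u) [AddCommGroup V] [Module F V] [FiniteDimensional F V] (B : BilinForm F V),
    B.IsSymm → B.Nondegenerate → finrank F V = n →
      ∀ N : Subgroup (V ≃ₗ[F] V), Hyp B N → Concl N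

variable {F : Type*} [Field F]

theorem step (h2 : (2 : F) ≠ 0) (n : ℕ) (hn : 4 ≤ n) (IH : PAll.{u} F (n - 1)) :
    PAll.{u} F n := by
  intro V _ _ _ B hs hnd hdim N hN f hf
  apply eq_one_or_neg_one_of_eigen h2 hs hnd (by omega) (hN.iso f hf)
  intro v hv
  have key : ∀ g ∈ N, ∃ e : F, g⁻¹ v = e • v := by
    intro g hg
    by_contra hne
    push Not at hne
    have hgI := hN.iso g hg
    have hwq : B (g⁻¹ v) (g⁻¹ v) ≠ 0 := by rw [hgI.self_inv]; exact hv
    have hcN : g⁻¹ * (refl B v hv * g * (refl B v hv)⁻¹) ∈ N :=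
      N.mul_mem (N.inv_mem hg) (hN.norm _ (refl_isIso hs hv) g hg)
    have hc' : g⁻¹ * (refl B v hv * g * (refl B v hv)⁻¹) =
        refl B (g⁻¹ v) hwq * refl B v hv := by
      rw [refl_inv, ← conj_refl hgI hv hwq]
      simp only [mul_assoc]
    rw [hc'] at hcN
    obtain ⟨u, huq, huv, huw⟩ := exists_nonsing_ortho h2 hs hnd (by omega) v (g⁻¹ v) hv
    have hcu : (refl B (g⁻¹ v) hwq * refl B v hv) u = u := by
      rw [LinearEquiv.mul_apply, refl_of_ortho B hv huv, refl_of_ortho B hwq huw]
    have hres : resEquiv _ (hN.iso _ hcN) hcu ∈ resSub B u N := ⟨_, hcN, hcu, fun t => rfl⟩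
    have hH := resSub_hyp h2 hs huq hN
    have hdim' : finrank F (perp B u) = n - 1 := by
      rw [LinearMap.BilinForm.finrank_orthogonal hnd,
        finrank_span_singleton (ne_zero_of_nonsing huq), hdim]
    have hnd' : (B.restrict (perp B u)).Nondegenerate :=
      LinearMap.BilinForm.restrict_nondegenerate_orthogonal_spanSingleton B hnd hs.isRefl huq
    have hconcl := IH (perp B u) (B.restrict (perp B u)) (hs.restrict _) hnd' hdim'
      (resSub B u N) hH _ hres
    have hc1 : ∀ t : perp B u, (refl B (g⁻¹ v) hwq * refl B v hv) (t : V) = t := by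
      rcases hconcl with h | h
      · intro t
        exact congrArg Subtype.val (h t)
      · exfalso
        obtain ⟨k, hk, hpow⟩ := resSub_odd h2 huq hN _ hres
        have hpos : 0 < finrank F (perp B u) := by omega
        obtain ⟨t, ht⟩ := finrank_pos_iff_exists_ne_zero.1 hpos
        have h3 := hpow t
        rw [pow_apply_of_neg _ h k t, hk.neg_one_pow, neg_smul, one_smul] at h3
        have h4 : (2 : F) • t = 0 := by
          rw [two_smul]
          nth_rewrite 1 [← h3]
          exact neg_add_cancel t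
        rcases smul_eq_zero.1 h4 with h5 | h5
        · exact h2 h5
        · exact ht h5
    have hcall : ∀ z, (refl B (g⁻¹ v) hwq * refl B v hv) z = z := by
      intro z
      conv_lhs => rw [decomp huq z]
      rw [map_add, map_smul, hcu, hc1]
      exact (decomp huq z).symm
    have h5 := hcall (refl B v hv (g⁻¹ v))
    rw [LinearEquiv.mul_apply, refl_refl, refl_self, refl_apply] at h5
    -- h5 : -w = w - μ • v
    set μ : F := 2 / B v v * B (g⁻¹ v) v with hμ
    have h6 : μ • v = g⁻¹ v + g⁻¹ v := by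
      calc μ • v = g⁻¹ v - (g⁻¹ v - μ • v) := by abel
        _ = g⁻¹ v - (-(g⁻¹ v)) := by rw [← h5]
        _ = g⁻¹ v + g⁻¹ v := by abel
    apply hne (μ / 2)
    have h7 : (μ / 2) • v = (1 / 2 : F) • (μ • v) := by
      rw [smul_smul]; congr 1; ring
    rw [h7, h6, ← two_smul F (g⁻¹ v), smul_smul]
    have : (1 / 2 : F) * 2 = 1 := by field_simp
    rw [this, one_smul]
  obtain ⟨e, he⟩ := key f⁻¹ (N.inv_mem hf)
  rw [inv_inv] at he
  exact ⟨e, he⟩

end Cfsg.Agent.Lib.Helper61.Orth
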