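import Mathlib
import Cfsg.Agent.Lib.Helper61.BalORTH5

/-!
# Dimension three: singular vectors and hyperbolic frames
-/

set_option autoImplicit false
set_option linter.style.haveILetI false

namespace Cfsg.Agent.Lib.Helper61.Orth

open LinearMap (BilinForm)
open Module Polynomial

universe u

variable {F : Type*} [Field F] {V : Type u} [AddCommGroup V] [Module F V]

theorem exists_sing [Fintype F] [FiniteDimensional F V] (h2 : (2 : F) ≠ 0) {B : BilinForm F V}
    (hs : B.IsSymm) (hnd : B.Nondegenerate) (hdim : finrank F V = 3) :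
    ∃ x : V, x ≠ 0 ∧ B x x = 0 := by
  classical
  haveI : Invertible (2 : F) := invertibleOfNonzero h2
  obtain ⟨b0, hb0⟩ := LinearMap.BilinForm.exists_orthogonal_basis (LinearMap.BilinForm.isSymm_iff.1 hs)
  have hns0 : ∀ i, B (b0 i) (b0 i) ≠ 0 := fun i =>
    LinearMap.IsOrthoᵢ.not_isOrtho_basis_self_of_separatingLeft hb0 hnd.1 i
  set b : Basis (Fin 3) F V := b0.reindex (finCongr hdim) with hb
  have hbo : ∀ i j, i ≠ j → B (b i) (b j) = 0 := by
    intro i j hij
    rw [hb, Basis.reindex_apply, Basis.reindex_apply]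
    apply hb0
    intro h
    exact hij ((finCongr hdim).symm.injective h)
  have hns : ∀ i, B (b i) (b i) ≠ 0 := by
    intro i
    rw [hb, Basis.reindex_apply]
    exact hns0 _
  have hodd : Fintype.card F % 2 = 1 := by
    apply FiniteField.odd_card_of_char_ne_two
    intro h
    apply h2
    have := ringChar.Nat.cast_ringChar (R := F)
    rw [h] at this
    exact_mod_cast this
  have hf2 : degree (C (B (b 0) (b 0)) * X ^ 2 : F[X]) = 2 := degree_C_mul_X_pow 2 (hns 0)
  have hg2 : degree (C (B (b 1) (b 1)) * X ^ 2 + C (B (b 2) (b 2)) : F[X]) = 2 := by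
    rw [degree_add_C]
    · exact degree_C_mul_X_pow 2 (hns 1)
    · rw [degree_C_mul_X_pow 2 (hns 1)]; norm_num
  obtain ⟨α, β, hαβ⟩ := FiniteField.exists_root_sum_quadratic hf2 hg2 hodd
  simp only [eval_mul, eval_C, eval_pow, eval_X, eval_add] at hαβ
  refine ⟨α • b 0 + β • b 1 + b 2, ?_, ?_⟩
  · intro h
    have h1 := congrArg (fun z => b.repr z 2) h
    simp only [map_add, map_smul, Basis.repr_self, Finsupp.coe_add, Finsupp.coe_smul,
      Pi.add_apply, Pi.smul_apply, smul_eq_mul, Finsupp.single_apply, map_zero,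
      Finsupp.coe_zero, Pi.zero_apply] at h1
    simp at h1
  · simp only [map_add, map_smul, LinearMap.add_apply, LinearMap.smul_apply, smul_eq_mul]
    rw [hbo 0 1 (by decide), hbo 1 0 (by decide), hbo 0 2 (by decide), hbo 2 0 (by decide),
      hbo 1 2 (by decide), hbo 2 1 (by decide)]
    linear_combination hαβ

theorem exists_hyp_pair (h2 : (2 : F) ≠ 0) {B : BilinForm F V} (hs : B.IsSymm)
    (hnd : B.Nondegenerate) {x : V} (hx0 : x ≠ 0) (hxx : B x x = 0) :
    ∃ y, B y y = 0 ∧ B x y = 1 := by
  obtain ⟨z, hz⟩ : ∃ z, B x z ≠ 0 := by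
    by_contra h
    push Not at h
    exact hx0 (hnd.1 x h)
  obtain ⟨z', hz'⟩ : ∃ z' : V, z' = (B x z)⁻¹ • z := ⟨_, rfl⟩
  have h1 : B x z' = 1 := by
    rw [hz', map_smul, smul_eq_mul, inv_mul_cancel₀ hz]
  have h1' : B z' x = 1 := by rw [hs.eq]; exact h1
  refine ⟨z' - (B z' z' / 2) • x, ?_, ?_⟩
  · simp only [map_sub, map_smul, LinearMap.sub_apply, LinearMap.smul_apply, smul_eq_mul]
    rw [h1, h1', hxx]
    field_simp
    ring
  · rw [map_sub, map_smul, smul_eq_mul, hxx, mul_zero, sub_zero, h1]

/-- a hyperbolic frame of a three-dimensional space -/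
structure Frame (B : BilinForm F V) (x y z : V) : Prop where
  xx : B x x = 0
  yy : B y y = 0
  xy : B x y = 1
  xz : B x z = 0
  yz : B y z = 0
  zz : B z z ≠ 0
  exp : ∀ v, v = B v y • x + B v x • y + (B v z / B z z) • z

theorem exists_frame [FiniteDimensional F V] (h2 : (2 : F) ≠ 0) {B : BilinForm F V}
    (hs : B.IsSymm) (hnd : B.Nondegenerate) (hdim : finrank F V = 3) {x : V} (hx0 : x ≠ 0)
    (hxx : B x x = 0) : ∃ y z, Frame B x y z := by
  classical
  obtain ⟨y, hyy, hxy⟩ := exists_hyp_pair h2 hs hnd hx0 hxx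
  have hyx : B y x = 1 := by rw [hs.eq]; exact hxy
  -- a vector outside the span of `x, y`
  obtain ⟨t, ht⟩ : ∃ t, t ∉ Submodule.span F ({x, y} : Set V) := by
    by_contra h
    push Not at h
    have htop : Submodule.span F ({x, y} : Set V) = ⊤ := by
      rw [eq_top_iff]; intro t _; exact h t
    have h1 := finrank_span_le_card (R := F) ({x, y} : Set V)
    have h3 : ({x, y} : Set V).toFinset.card ≤ 2 := by
      have : ({x, y} : Set V).toFinset = {x, y} := by
        ext z; simp
      rw [this]
      exact Finset.card_le_two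
    rw [htop, finrank_top, hdim] at h1
    omega
  set z : V := t - B t y • x - B t x • y with hz
  have hxz : B x z = 0 := by
    rw [hz]
    simp only [map_sub, map_smul, smul_eq_mul]
    rw [hxx, hxy, hs.eq t x]; ring
  have hyz : B y z = 0 := by
    rw [hz]
    simp only [map_sub, map_smul, smul_eq_mul]
    rw [hyy, hyx, hs.eq t y]; ring
  have hzx : B z x = 0 := by rw [hs.eq]; exact hxz
  have hzy : B z y = 0 := by rw [hs.eq]; exact hyz
  have hz0 : z ≠ 0 := by
    intro h
    apply ht
    have : t = B t y • x + B t x • y := by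
      have h' := h
      rw [hz] at h'
      have : t = (t - B t y • x - B t x • y) + (B t y • x + B t x • y) := by abel
      rw [h', zero_add] at this
      exact this
    rw [this]
    exact Submodule.add_mem _ (Submodule.smul_mem _ _ (Submodule.subset_span (by simp)))
      (Submodule.smul_mem _ _ (Submodule.subset_span (by simp)))
  have hli : LinearIndependent F ![x, y, z] := by
    rw [Fintype.linearIndependent_iff]
    intro g hg
    rw [Fin.sum_univ_three] at hg
    change g 0 • x + g 1 • y + g 2 • z = 0 at hg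
    have e0 : g 0 = 0 := by
      have := congrArg (fun w => B y w) hg
      simp only [map_add, map_smul, smul_eq_mul, map_zero] at this
      rw [hyx, hyy, hyz] at this
      linear_combination this
    have e1 : g 1 = 0 := by
      have := congrArg (fun w => B x w) hg
      simp only [map_add, map_smul, smul_eq_mul, map_zero] at this
      rw [hxx, hxy, hxz] at this
      linear_combination this
    have e2 : g 2 = 0 := by
      rw [e0, e1, zero_smul, zero_smul, zero_add, zero_add] at hg
      rcases smul_eq_zero.1 hg with h | h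
      · exact h
      · exact absurd h hz0
    intro i
    fin_cases i
    · exact e0
    · exact e1
    · exact e2
  have hcard : Fintype.card (Fin 3) = finrank F V := by rw [hdim]; rfl
  obtain ⟨bb, hbb⟩ : ∃ bb : Basis (Fin 3) F V, ⇑bb = ![x, y, z] :=
    ⟨basisOfLinearIndependentOfCardEqFinrank hli hcard,
      coe_basisOfLinearIndependentOfCardEqFinrank hli hcard⟩
  have hb0 : bb 0 = x := congrFun hbb 0
  have hb1 : bb 1 = y := congrFun hbb 1
  have hb2 : bb 2 = z := congrFun hbb 2
  have hcomb : ∀ v : V, ∃ c0 c1 c2 : F, v = c0 • x + c1 • y + c2 • z := by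
    intro v
    refine ⟨bb.repr v 0, bb.repr v 1, bb.repr v 2, ?_⟩
    have h := (bb.sum_repr v).symm
    rw [Fin.sum_univ_three, hb0, hb1, hb2] at h
    exact h
  have hzz : B z z ≠ 0 := by
    intro h
    apply hz0
    apply hnd.1 z
    intro v
    obtain ⟨c0, c1, c2, rfl⟩ := hcomb v
    simp only [map_add, map_smul, smul_eq_mul]
    rw [hzx, hzy, h]; ring
  refine ⟨y, z, hxx, hyy, hxy, hxz, hyz, hzz, ?_⟩
  intro v
  obtain ⟨c0, c1, c2, hv⟩ := hcomb v
  have e0 : B v y = c0 := by
    rw [hv]
    simp only [map_add, map_smul, LinearMap.add_apply, LinearMap.smul_apply, smul_eq_mul]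
    rw [hxy, hyy, hzy]; ring
  have e1 : B v x = c1 := by
    rw [hv]
    simp only [map_add, map_smul, LinearMap.add_apply, LinearMap.smul_apply, smul_eq_mul]
    rw [hxx, hyx, hzx]; ring
  have e2 : B v z / B z z = c2 := by
    rw [hv]
    simp only [map_add, map_smul, LinearMap.add_apply, LinearMap.smul_apply, smul_eq_mul]
    rw [hxz, hyz]
    field_simp
    ring
  rw [e0, e1, e2]
  exact hv

end Cfsg.Agent.Lib.Helper61.Orth
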