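import Mathlib
import Cfsg.Agent.Lib.Helper61.BalORTH6

/-!
# Dimension three: singular points and transitivity
-/

set_option autoImplicit false

namespace Cfsg.Agent.Lib.Helper61.Orth

open LinearMap (BilinForm)
open Module
open scoped Pointwise

universe u

variable {F : Type*} [Field F] {V : Type u} [AddCommGroup V] [Module F V]

/-- the set of singular points -/
def SP (B : BilinForm F V) : Set (Submodule F V) := {p | ∃ s, s ≠ 0 ∧ B s s = 0 ∧ p = F ∙ s}

theorem smul_span_singleton (f : V ≃ₗ[F] V) (s : V) : f • (F ∙ s) = F ∙ (f s) := by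
  rw [Submodule.pointwise_smul_def, Submodule.map_span, Set.image_singleton]
  rfl

theorem smul_mem_SP {B : BilinForm F V} {f : V ≃ₗ[F] V} (hf : IsIso B f) {p : Submodule F V}
    (hp : p ∈ SP B) : f • p ∈ SP B := by
  obtain ⟨s, hs0, hss, rfl⟩ := hp
  refine ⟨f s, ?_, ?_, smul_span_singleton f s⟩
  · intro h
    apply hs0
    have := congrArg (fun z => f⁻¹ z) h
    simpa [inv_apply_apply] using this
  · rw [hf s s]; exact hss

theorem span_eq_of_smul {s s' : V} {c : F} (hc : c ≠ 0) (h : s' = c • s) : F ∙ s' = F ∙ s := by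
  rw [h]
  exact Submodule.span_singleton_smul_eq (IsUnit.mk0 c hc) s

/-- in dimension three, orthogonal singular vectors are proportional -/
theorem prop_of_sing_ortho [FiniteDimensional F V] (h2 : (2 : F) ≠ 0) {B : BilinForm F V}
    (hs : B.IsSymm) (hnd : B.Nondegenerate) (hdim : finrank F V = 3) {s s' : V} (hs0 : s ≠ 0)
    (hss : B s s = 0) (hss' : B s' s' = 0) (ho : B s s' = 0) : ∃ c : F, s' = c • s := by
  obtain ⟨y, z, fr⟩ := exists_frame h2 hs hnd hdim hs0 hss
  have h1 := fr.exp s'
  have hs's : B s' s = 0 := by rw [hs.eq]; exact ho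
  rw [hs's, zero_smul, add_zero] at h1
  -- s' = α s + γ z, so Q(s') = γ² Q(z)
  have hzs : B z s = 0 := by rw [hs.eq]; exact fr.xz
  have h3 : B s' s' = (B s' z / B z z) * (B s' z / B z z) * B z z := by
    conv_lhs => rw [h1]
    simp only [map_add, map_smul, LinearMap.add_apply, LinearMap.smul_apply, smul_eq_mul]
    rw [hss, fr.xz, hzs]; ring
  rw [hss'] at h3
  have h4 : B s' z / B z z = 0 := by
    rcases mul_eq_zero.1 h3.symm with h | h
    · rcases mul_eq_zero.1 h with h' | h' <;> exact h'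
    · exact absurd h fr.zz
  rw [h4, zero_smul, add_zero] at h1
  exact ⟨_, h1⟩

/-- a nonzero multiple -/
theorem prop_of_sing_ortho' [FiniteDimensional F V] (h2 : (2 : F) ≠ 0) {B : BilinForm F V}
    (hs : B.IsSymm) (hnd : B.Nondegenerate) (hdim : finrank F V = 3) {s s' : V} (hs0 : s ≠ 0)
    (hs0' : s' ≠ 0) (hss : B s s = 0) (hss' : B s' s' = 0) (ho : B s s' = 0) :
    F ∙ s' = F ∙ s := by
  obtain ⟨c, hc⟩ := prop_of_sing_ortho h2 hs hnd hdim hs0 hss hss' ho
  have hc0 : c ≠ 0 := by
    intro h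
    apply hs0'
    rw [hc, h, zero_smul]
  exact span_eq_of_smul hc0 hc

/-- transitivity of the isometry group on singular points -/
theorem exists_iso_smul [FiniteDimensional F V] (h2 : (2 : F) ≠ 0) {B : BilinForm F V}
    (hs : B.IsSymm) (hnd : B.Nondegenerate) (hdim : finrank F V = 3) {s s' : V} (hs0 : s ≠ 0)
    (hs0' : s' ≠ 0) (hss : B s s = 0) (hss' : B s' s' = 0) :
    ∃ g : V ≃ₗ[F] V, IsIso B g ∧ g • (F ∙ s) = F ∙ s' := by
  by_cases ho : B s s' = 0
  · refine ⟨1, IsIso.one B, ?_⟩
    rw [one_smul]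
    exact (prop_of_sing_ortho' h2 hs hnd hdim hs0 hs0' hss hss' ho).symm
  · have hs's : B s' s = B s s' := hs.eq s' s
    have hq : B (s - s') (s - s') ≠ 0 := by
      simp only [map_sub, LinearMap.sub_apply]
      rw [hss, hss', hs's]
      intro h
      apply ho
      have h3 : (2 : F) * B s s' = 0 := by linear_combination -h
      rcases mul_eq_zero.1 h3 with h4 | h4
      · exact absurd h4 h2
      · exact h4
    refine ⟨refl B (s - s') hq, refl_isIso hs hq, ?_⟩
    rw [smul_span_singleton]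
    congr 1
    rw [refl_apply]
    have h5 : (2 / B (s - s') (s - s') * B s (s - s')) = 1 := by
      have e1 : B (s - s') (s - s') = -2 * B s s' := by
        simp only [map_sub, LinearMap.sub_apply]
        rw [hss, hss', hs's]; ring
      have e2 : B s (s - s') = - B s s' := by
        rw [map_sub, hss]; ring
      rw [e1, e2]
      field_simp
    rw [h5, one_smul]
    abel

/-- transitivity of the stabilizer of a singular vector -/
theorem exists_iso_fix_smul [FiniteDimensional F V] (h2 : (2 : F) ≠ 0) {B : BilinForm F V}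
    (hs : B.IsSymm) (hnd : B.Nondegenerate) (hdim : finrank F V = 3) {x y₀ y₁ : V}
    (hyy0 : B y₀ y₀ = 0) (hyy1 : B y₁ y₁ = 0)
    (hb0 : B x y₀ ≠ 0) (hb1 : B x y₁ ≠ 0) :
    ∃ g : V ≃ₗ[F] V, IsIso B g ∧ g x = x ∧ g • (F ∙ y₀) = F ∙ y₁ := by
  obtain ⟨a, ha⟩ : ∃ a : V, a = (B x y₀)⁻¹ • y₀ := ⟨_, rfl⟩
  obtain ⟨b, hb⟩ : ∃ b : V, b = (B x y₁)⁻¹ • y₁ := ⟨_, rfl⟩
  have hxa : B x a = 1 := by rw [ha, map_smul, smul_eq_mul, inv_mul_cancel₀ hb0]
  have hxb : B x b = 1 := by rw [hb, map_smul, smul_eq_mul, inv_mul_cancel₀ hb1]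
  have haa : B a a = 0 := by
    rw [ha]; simp only [map_smul, LinearMap.smul_apply, smul_eq_mul]; rw [hyy0]; ring
  have hbb : B b b = 0 := by
    rw [hb]; simp only [map_smul, LinearMap.smul_apply, smul_eq_mul]; rw [hyy1]; ring
  have ha0 : a ≠ 0 := by
    intro h; rw [h, map_zero] at hxa; exact zero_ne_one hxa
  have hspa : F ∙ a = F ∙ y₀ := span_eq_of_smul (inv_ne_zero hb0) ha
  have hspb : F ∙ b = F ∙ y₁ := span_eq_of_smul (inv_ne_zero hb1) hb
  by_cases hab : a = b
  · refine ⟨1, IsIso.one B, rfl, ?_⟩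
    rw [one_smul, ← hspa, ← hspb, hab]
  · have hba : B b a = B a b := hs.eq b a
    have hne : B a b ≠ 0 := by
      intro ho
      obtain ⟨c, hc⟩ := prop_of_sing_ortho h2 hs hnd hdim ha0 haa hbb ho
      apply hab
      have : B x b = c * B x a := by rw [hc, map_smul, smul_eq_mul]
      rw [hxa, hxb, mul_one] at this
      rw [hc, ← this, one_smul]
    have hq : B (b - a) (b - a) ≠ 0 := by
      simp only [map_sub, LinearMap.sub_apply]
      rw [haa, hbb, hba]
      intro h
      apply hne
      have h3 : (2 : F) * B a b = 0 := by linear_combination -h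
      rcases mul_eq_zero.1 h3 with h4 | h4
      · exact absurd h4 h2
      · exact h4
    refine ⟨refl B (b - a) hq, refl_isIso hs hq, ?_, ?_⟩
    · apply refl_of_ortho
      rw [map_sub, hxa, hxb, sub_self]
    · rw [← hspa, ← hspb, smul_span_singleton]
      congr 1
      rw [refl_apply]
      have h5 : (2 / B (b - a) (b - a) * B a (b - a)) = -1 := by
        have e1 : B (b - a) (b - a) = -2 * B a b := by
          simp only [map_sub, LinearMap.sub_apply]
          rw [haa, hbb, hba]; ring
        have e2 : B a (b - a) = B a b := by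
          rw [map_sub, haa]; ring
        rw [e1, e2]
        field_simp
      rw [h5, neg_smul, one_smul]
      abel

end Cfsg.Agent.Lib.Helper61.Orth
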