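import Mathlib
import Cfsg.Agent.Lib.Helper61.BalORTH7

/-!
# Dimension three: the base case of BAL-ORTH
-/

set_option autoImplicit false
set_option linter.style.haveILetI false

namespace Cfsg.Agent.Lib.Helper61.Orth

open LinearMap (BilinForm)
open Module
open scoped Pointwise

universe u

variable {F : Type*} [Field F] {V : Type u} [AddCommGroup V] [Module F V]

theorem transitive_of_moves [FiniteDimensional F V] (h2 : (2 : F) ≠ 0) {B : BilinForm F V}
    (hs : B.IsSymm) (hnd : B.Nondegenerate) (hdim : finrank F V = 3)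
    {N : Subgroup (V ≃ₗ[F] V)} (hN : Hyp B N) {f₀ : V ≃ₗ[F] V} (hf₀ : f₀ ∈ N)
    {p₀ : Submodule F V} (hp₀ : p₀ ∈ SP B) (hmove : f₀ • p₀ ≠ p₀) :
    ∀ a ∈ SP B, ∀ b ∈ SP B, ∃ n ∈ N, n • a = b := by
  intro a ha b hb
  by_cases hab : a = b
  · exact ⟨1, N.one_mem, by rw [one_smul, hab]⟩
  obtain ⟨s, hs0, hss, rfl⟩ := hp₀
  obtain ⟨sa, hsa0, hsasa, rfl⟩ := ha
  obtain ⟨sb, hsb0, hsbsb, rfl⟩ := hb
  have hf₀I := hN.iso f₀ hf₀
  rw [smul_span_singleton] at hmove
  have hs'0 : f₀ s ≠ 0 := by
    intro h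
    apply hs0
    have := congrArg (fun z => f₀⁻¹ z) h
    simpa [inv_apply_apply] using this
  have hs's' : B (f₀ s) (f₀ s) = 0 := by rw [hf₀I]; exact hss
  obtain ⟨g₁, hg₁, hg₁s⟩ := exists_iso_smul h2 hs hnd hdim hs0 hsa0 hss hsasa
  have ht0 : g₁ (f₀ s) ≠ 0 := by
    intro h
    apply hs'0
    have := congrArg (fun z => g₁⁻¹ z) h
    simpa [inv_apply_apply] using this
  have htt : B (g₁ (f₀ s)) (g₁ (f₀ s)) = 0 := by rw [hg₁]; exact hs's'
  have htne : F ∙ g₁ (f₀ s) ≠ F ∙ sa := by
    intro h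
    apply hmove
    rw [← smul_span_singleton, ← hg₁s] at h
    exact smul_left_cancel g₁ h
  have hb1 : B sa (g₁ (f₀ s)) ≠ 0 := by
    intro ho
    exact htne (prop_of_sing_ortho' h2 hs hnd hdim hsa0 ht0 hsasa htt ho)
  have hb2 : B sa sb ≠ 0 := by
    intro ho
    exact hab (prop_of_sing_ortho' h2 hs hnd hdim hsa0 hsb0 hsasa hsbsb ho).symm
  obtain ⟨g₂, hg₂, hg₂x, hg₂t⟩ := exists_iso_fix_smul h2 hs hnd hdim htt hsbsb hb1 hb2
  have hyI : IsIso B (g₂ * g₁) := hg₂.mul hg₁
  refine ⟨g₂ * g₁ * f₀ * (g₂ * g₁)⁻¹, hN.norm _ hyI f₀ hf₀, ?_⟩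
  have h1 : (g₂ * g₁) • (F ∙ s) = F ∙ sa := by
    rw [mul_smul, hg₁s, smul_span_singleton, hg₂x]
  have h2' : (g₂ * g₁)⁻¹ • (F ∙ sa) = F ∙ s := by
    rw [inv_smul_eq_iff, h1]
  rw [mul_smul, mul_smul, h2', smul_span_singleton f₀, mul_smul, smul_span_singleton g₁, hg₂t]

/-- the fixed singular points of the reflection in `z` -/
theorem refl_fixed_iff (h2 : (2 : F) ≠ 0) {B : BilinForm F V} (hs : B.IsSymm) {x y z : V}
    (fr : Frame B x y z) {s : V} (hs0 : s ≠ 0) (hss : B s s = 0) :
    refl B z fr.zz • (F ∙ s) = F ∙ s ↔ (F ∙ s = F ∙ x ∨ F ∙ s = F ∙ y) := by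
  have hzx : B z x = 0 := by rw [hs.eq]; exact fr.xz
  have hzy : B z y = 0 := by rw [hs.eq]; exact fr.yz
  have hyx : B y x = 1 := by rw [hs.eq]; exact fr.xy
  constructor
  · intro h
    rw [smul_span_singleton] at h
    have hmem : refl B z fr.zz s ∈ F ∙ s := by
      rw [← h]; exact Submodule.mem_span_singleton_self _
    obtain ⟨c, hc⟩ := Submodule.mem_span_singleton.1 hmem
    rw [refl_apply] at hc
    -- pair with z
    have hzs : B z s = B s z := hs.eq z s
    have h3 : (c + 1) * B s z = 0 := by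
      have := congrArg (fun w => B z w) hc
      simp only [map_sub, map_smul, smul_eq_mul] at this
      rw [hzs] at this
      have e : 2 / B z z * B s z * B z z = 2 * B s z := by
        field_simp [fr.zz]
      linear_combination this - e
    rcases mul_eq_zero.1 h3 with h4 | h4
    · -- c = -1
      exfalso
      have hc1 : c = -1 := by linear_combination h4
      obtain ⟨γ, hγ⟩ : ∃ γ : F, γ = 2 / B z z * B s z := ⟨_, rfl⟩
      rw [hc1, neg_smul, one_smul, ← hγ] at hc
      -- -s = s - γ z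
      have h5 : (2 : F) • s = γ • z := by
        rw [two_smul]
        have : s + s = s - (-s) := by abel
        rw [this, hc]; abel
      have h6 : s = (γ / 2) • z := by
        calc s = (1 / 2 : F) • ((2 : F) • s) := by
              rw [smul_smul]
              have : (1 / 2 : F) * 2 = 1 := by field_simp
              rw [this, one_smul]
          _ = (1 / 2 : F) • (γ • z) := by rw [h5]
          _ = (γ / 2) • z := by rw [smul_smul]; congr 1; ring
      have h7 : B s s = (γ / 2) * (γ / 2) * B z z := by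
        rw [h6]
        simp only [map_smul, LinearMap.smul_apply, smul_eq_mul]; ring
      rw [hss] at h7
      have h8 : γ / 2 = 0 := by
        rcases mul_eq_zero.1 h7.symm with h | h
        · rcases mul_eq_zero.1 h with h' | h' <;> exact h'
        · exact absurd h fr.zz
      rw [h8, zero_smul] at h6
      exact hs0 h6
    · -- B s z = 0
      have hexp := fr.exp s
      rw [h4, zero_div, zero_smul, add_zero] at hexp
      have h5 : B s s = 2 * (B s y * B s x) := by
        conv_lhs => rw [hexp]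
        simp only [map_add, map_smul, LinearMap.add_apply, LinearMap.smul_apply, smul_eq_mul]
        rw [fr.xx, fr.yy, fr.xy, hyx]; ring
      rw [hss] at h5
      have h6 : B s y * B s x = 0 := by
        rcases mul_eq_zero.1 h5.symm with h | h
        · exact absurd h h2
        · exact h
      rcases mul_eq_zero.1 h6 with h7 | h7
      · right
        rw [h7, zero_smul, zero_add] at hexp
        have hc0 : B s x ≠ 0 := by
          intro h; rw [h, zero_smul] at hexp; exact hs0 hexp
        exact span_eq_of_smul hc0 hexp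
      · left
        rw [h7, zero_smul, add_zero] at hexp
        have hc0 : B s y ≠ 0 := by
          intro h; rw [h, zero_smul] at hexp; exact hs0 hexp
        exact span_eq_of_smul hc0 hexp
  · intro h
    rcases h with h | h
    · rw [h, smul_span_singleton, refl_of_ortho B fr.zz fr.xz]
    · rw [h, smul_span_singleton, refl_of_ortho B fr.zz fr.yz]

theorem even_card_SP [Finite F] [FiniteDimensional F V] (h2 : (2 : F) ≠ 0) {B : BilinForm F V}
    (hs : B.IsSymm) (hnd : B.Nondegenerate) (hdim : finrank F V = 3) :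
    Even (Nat.card (SP B)) := by
  classical
  haveI : Fintype F := Fintype.ofFinite F
  haveI : Finite V := Module.finite_of_finite F
  haveI : Fintype (SP B) := Fintype.ofFinite _
  obtain ⟨x, hx0, hxx⟩ := exists_sing h2 hs hnd hdim
  obtain ⟨y, z, fr⟩ := exists_frame h2 hs hnd hdim hx0 hxx
  have hrI : IsIso B (refl B z fr.zz) := refl_isIso hs fr.zz
  let φ : Function.End (SP B) := fun p => ⟨refl B z fr.zz • p.1, smul_mem_SP hrI p.2⟩
  have hφ : φ ^ 2 ^ 1 = 1 := by
    rw [pow_one, pow_two]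
    funext p
    apply Subtype.ext
    show refl B z fr.zz • (refl B z fr.zz • p.1) = p.1
    rw [smul_smul, refl_mul_self, one_smul]
  haveI : Fact (Nat.Prime 2) := ⟨Nat.prime_two⟩
  have hmod := Equiv.Perm.card_fixedPoints_modEq (f := φ) (p := 2) (n := 1) hφ
  have hy0 : y ≠ 0 := by
    intro h
    have := fr.xy
    rw [h, map_zero] at this
    exact zero_ne_one this
  have hpx : F ∙ x ∈ SP B := ⟨x, hx0, hxx, rfl⟩
  have hpy : F ∙ y ∈ SP B := ⟨y, hy0, fr.yy, rfl⟩
  have hfx : (⟨F ∙ x, hpx⟩ : SP B) ∈ Function.fixedPoints φ := by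
    apply Subtype.ext
    exact (refl_fixed_iff h2 hs fr hx0 hxx).2 (Or.inl rfl)
  have hfy : (⟨F ∙ y, hpy⟩ : SP B) ∈ Function.fixedPoints φ := by
    apply Subtype.ext
    exact (refl_fixed_iff h2 hs fr hy0 fr.yy).2 (Or.inr rfl)
  have hxy : F ∙ x ≠ F ∙ y := by
    intro h
    have hmem : y ∈ F ∙ x := by rw [h]; exact Submodule.mem_span_singleton_self _
    obtain ⟨c, hc⟩ := Submodule.mem_span_singleton.1 hmem
    have := fr.xy
    rw [← hc, map_smul, hxx, smul_zero] at this
    exact zero_ne_one this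
  have h2card : Fintype.card (Function.fixedPoints φ) = 2 := by
    rw [← Nat.card_eq_fintype_card, Nat.card_eq_two_iff]
    refine ⟨⟨⟨F ∙ x, hpx⟩, hfx⟩, ⟨⟨F ∙ y, hpy⟩, hfy⟩, ?_, ?_⟩
    · intro h
      apply hxy
      have := congrArg (fun q => (q.1 : SP B).1) h
      exact this
    · rw [Set.eq_univ_iff_forall]
      rintro ⟨⟨p, hp⟩, hfp⟩
      obtain ⟨s, hs0, hss, rfl⟩ := hp
      have h3 : refl B z fr.zz • (F ∙ s) = F ∙ s := congrArg Subtype.val hfp
      rcases (refl_fixed_iff h2 hs fr hs0 hss).1 h3 with h | h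
      · left
        apply Subtype.ext; apply Subtype.ext; exact h
      · right
        apply Subtype.ext; apply Subtype.ext; exact h
  rw [h2card] at hmod
  rw [Nat.card_eq_fintype_card]
  have : Fintype.card (SP B) % 2 = 0 := by
    have := hmod
    unfold Nat.ModEq at this
    omega
  exact Nat.even_iff.2 this

end Cfsg.Agent.Lib.Helper61.Orth
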