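import Mathlib
import Cfsg.Agent.Lib.Helper61.BalORTH8

/-!
# The base case and the induction for BAL-ORTH
-/

set_option autoImplicit false
set_option linter.style.haveILetI false

namespace Cfsg.Agent.Lib.Helper61.Orth

open LinearMap (BilinForm)
open Module
open scoped Pointwise

universe u

variable {F : Type*} [Field F] {V : Type u} [AddCommGroup V] [Module F V]

/-- an isometry of a three-dimensional space fixing all singular points is `±1` -/
theorem eq_pm_one_of_fix_SP [Finite F] [FiniteDimensional F V] (h2 : (2 : F) ≠ 0)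
    {B : BilinForm F V} (hs : B.IsSymm) (hnd : B.Nondegenerate) (hdim : finrank F V = 3)
    {f : V ≃ₗ[F] V} (hf : IsIso B f) (hfix : ∀ p ∈ SP B, f • p = p) :
    (∀ v, f v = v) ∨ (∀ v, f v = -v) := by
  classical
  haveI : Fintype F := Fintype.ofFinite F
  obtain ⟨x, hx0, hxx⟩ := exists_sing h2 hs hnd hdim
  obtain ⟨y, z, fr⟩ := exists_frame h2 hs hnd hdim hx0 hxx
  have hzx : B z x = 0 := by rw [hs.eq]; exact fr.xz
  have hzy : B z y = 0 := by rw [hs.eq]; exact fr.yz
  have hyx : B y x = 1 := by rw [hs.eq]; exact fr.xy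
  have hy0 : y ≠ 0 := by
    intro h
    have := fr.xy
    rw [h, map_zero] at this
    exact zero_ne_one this
  obtain ⟨c, hc⟩ : ∃ c : F, c = B z z / 2 := ⟨_, rfl⟩
  have hc0 : c ≠ 0 := by
    rw [hc]; exact div_ne_zero fr.zz h2
  have h2c : 2 * c = B z z := by rw [hc]; field_simp
  obtain ⟨s, hsdef⟩ : ∃ s : V, s = z + x - c • y := ⟨_, rfl⟩
  have hxs : B x s = -c := by
    rw [hsdef]; simp only [map_add, map_sub, map_smul, smul_eq_mul]
    rw [fr.xz, fr.xx, fr.xy]; ring
  have hys : B y s = 1 := by
    rw [hsdef]; simp only [map_add, map_sub, map_smul, smul_eq_mul]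
    rw [fr.yz, hyx, fr.yy]; ring
  have hss : B s s = 0 := by
    rw [hsdef]
    simp only [map_add, map_sub, map_smul, LinearMap.add_apply, LinearMap.sub_apply,
      LinearMap.smul_apply, smul_eq_mul]
    rw [fr.xz, fr.xx, fr.xy, fr.yz, hyx, fr.yy, hzx, hzy]
    linear_combination -h2c
  have hs0 : s ≠ 0 := by
    intro h
    rw [h, map_zero] at hys
    exact zero_ne_one hys
  -- eigenvalues
  have heig : ∀ t : V, t ≠ 0 → B t t = 0 → ∃ a : F, f t = a • t := by
    intro t ht0 htt
    have h := hfix (F ∙ t) ⟨t, ht0, htt, rfl⟩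
    rw [smul_span_singleton] at h
    have hmem : f t ∈ F ∙ t := by rw [← h]; exact Submodule.mem_span_singleton_self _
    obtain ⟨a, ha⟩ := Submodule.mem_span_singleton.1 hmem
    exact ⟨a, ha.symm⟩
  obtain ⟨a, ha⟩ := heig x hx0 hxx
  obtain ⟨a', ha'⟩ := heig y hy0 fr.yy
  obtain ⟨a'', ha''⟩ := heig s hs0 hss
  have e1 : a * a' = 1 := by
    have := hf x y
    rw [ha, ha'] at this
    simp only [map_smul, LinearMap.smul_apply, smul_eq_mul] at this
    rw [fr.xy] at this
    linear_combination this
  have e2 : a * a'' = 1 := by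
    have := hf x s
    rw [ha, ha''] at this
    simp only [map_smul, LinearMap.smul_apply, smul_eq_mul] at this
    rw [hxs] at this
    have h3 : (a * a'' - 1) * c = 0 := by linear_combination -this
    rcases mul_eq_zero.1 h3 with h | h
    · linear_combination h
    · exact absurd h hc0
  have e3 : a' * a'' = 1 := by
    have := hf y s
    rw [ha', ha''] at this
    simp only [map_smul, LinearMap.smul_apply, smul_eq_mul] at this
    rw [hys] at this
    linear_combination this
  have ha0 : a ≠ 0 := by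
    intro h; rw [h, zero_mul] at e1; exact zero_ne_one e1
  have e4 : a' = a'' := by
    have : a * (a' - a'') = 0 := by linear_combination e1 - e2
    rcases mul_eq_zero.1 this with h | h
    · exact absurd h ha0
    · linear_combination h
  have e5 : a' * a' = 1 := by rw [← e4] at e3; exact e3
  have e6 : a = a' := by
    have ha'0 : a' ≠ 0 := by
      intro h; rw [h, mul_zero] at e1; exact zero_ne_one e1
    have : a' * (a - a') = 0 := by linear_combination e1 - e5
    rcases mul_eq_zero.1 this with h | h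
    · exact absurd h ha'0
    · linear_combination h
  have hfz : f z = a • z := by
    have hz : z = s - x + c • y := by rw [hsdef]; abel
    conv_lhs => rw [hz]
    rw [map_add, map_sub, map_smul, ha, ha', ha'', ← e4, ← e6]
    conv_rhs => rw [hz]
    rw [smul_add, smul_sub, smul_comm]
  have hall : ∀ v, f v = a • v := by
    intro v
    conv_lhs => rw [fr.exp v]
    rw [map_add, map_add, map_smul, map_smul, map_smul, ha, ha', hfz, ← e6]
    conv_rhs => rw [fr.exp v]
    rw [smul_add, smul_add, smul_comm a, smul_comm a, smul_comm a]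
  have e7 : a = 1 ∨ a = -1 := by
    rw [← e6] at e5
    have : (a - 1) * (a + 1) = 0 := by linear_combination e5
    rcases mul_eq_zero.1 this with h | h
    · left; linear_combination h
    · right; linear_combination h
  rcases e7 with h | h
  · left; intro v; rw [hall, h, one_smul]
  · right; intro v; rw [hall, h, neg_smul, one_smul]

/-- a 2-element whose odd power is `±1` acts as a scalar -/
theorem scalar_of_two_elt (g : V ≃ₗ[F] V) (j : ℕ) (hg : g ^ 2 ^ j = 1) (k : ℕ) (hk : Odd k)
    (hpow : (∀ v, (g ^ k) v = v) ∨ (∀ v, (g ^ k) v = -v)) :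
    ∃ ε : F, ε ≠ 0 ∧ ∀ v, g v = ε • v := by
  have hcop : Nat.Coprime k (orderOf g) := by
    have hdvd : orderOf g ∣ 2 ^ j := orderOf_dvd_of_pow_eq_one hg
    have h1 : Nat.Coprime k (2 ^ j) := Nat.Coprime.pow_right j (Nat.coprime_two_right.2 hk)
    exact Nat.Coprime.coprime_dvd_right hdvd h1
  obtain ⟨m, hm⟩ := exists_pow_eq_self_of_coprime hcop
  rcases hpow with h | h
  · have h1 : g ^ k = 1 := by
      ext v; rw [h v]; rfl
    rw [h1, one_pow] at hm
    refine ⟨1, one_ne_zero, fun v => ?_⟩
    rw [← hm, one_smul]; rfl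
  · refine ⟨(-1) ^ m, pow_ne_zero _ (neg_ne_zero.2 one_ne_zero), fun v => ?_⟩
    conv_lhs => rw [← hm]
    exact pow_apply_of_neg _ h m v

theorem base [Finite F] (h2 : (2 : F) ≠ 0) : PAll.{u} F 3 := by
  intro V _ _ _ B hs hnd hdim N hN
  classical
  haveI : Finite V := Module.finite_of_finite F
  haveI : Finite (V ≃ₗ[F] V) := Finite.of_injective (fun f => (f : V → V)) DFunLike.coe_injective
  haveI : Fact (Nat.Prime 2) := ⟨Nat.prime_two⟩
  have key : ∀ f ∈ N, ∀ p ∈ SP B, f • p = p := by
    by_contra hcon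
    push Not at hcon
    obtain ⟨f₀, hf₀, p₀, hp₀, hmove⟩ := hcon
    have htr := transitive_of_moves h2 hs hnd hdim hN hf₀ hp₀ hmove
    have horb : MulAction.orbit ↥N p₀ = SP B := by
      ext q
      constructor
      · rintro ⟨n, rfl⟩
        exact smul_mem_SP (hN.iso n n.2) hp₀
      · intro hq
        obtain ⟨n, hn, hnq⟩ := htr p₀ hp₀ q hq
        exact ⟨⟨n, hn⟩, hnq⟩
    have hcard : Nat.card (SP B) = (MulAction.stabilizer ↥N p₀).index := by
      rw [MulAction.index_stabilizer, horb, Nat.card_coe_set_eq]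
    have heven := even_card_SP h2 hs hnd hdim
    obtain ⟨S⟩ : Nonempty (Sylow 2 ↥N) := inferInstance
    have hS : (S : Subgroup ↥N) ≤ MulAction.stabilizer ↥N p₀ := by
      intro s hsS
      rw [MulAction.mem_stabilizer_iff]
      obtain ⟨j, hj⟩ := S.isPGroup' ⟨s, hsS⟩
      have hj' : (s : V ≃ₗ[F] V) ^ 2 ^ j = 1 := by
        have h1 := congrArg (fun t : ↥(S : Subgroup ↥N) => ((t : ↥N) : V ≃ₗ[F] V)) hj
        simpa using h1
      obtain ⟨k, hk, hpow⟩ := hN.odd s s.2
      obtain ⟨ε, hε, hsv⟩ := scalar_of_two_elt (s : V ≃ₗ[F] V) j hj' k hk hpow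
      obtain ⟨s₀, hs₀, hss₀, rfl⟩ := hp₀
      show (s : V ≃ₗ[F] V) • (F ∙ s₀) = F ∙ s₀
      rw [smul_span_singleton, hsv]
      exact span_eq_of_smul hε rfl
    have hdvd := Subgroup.index_dvd_of_le hS
    have hodd := S.not_dvd_index
    rw [hcard] at heven
    exact hodd (dvd_trans (even_iff_two_dvd.1 heven) hdvd)
  intro f hf
  exact eq_pm_one_of_fix_SP h2 hs hnd hdim (hN.iso f hf) (key f hf)

/-- the statement in all dimensions at least three -/
theorem pall [Finite F] (h2 : (2 : F) ≠ 0) : ∀ n : ℕ, 3 ≤ n → PAll.{u} F n := by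
  intro n hn
  induction n, hn using Nat.le_induction with
  | base => exact base h2
  | succ n hn ih =>
    have := step h2 (n + 1) (by omega) (by simpa using ih)
    exact this

end Cfsg.Agent.Lib.Helper61.Orth
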