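import Mathlib
import Cfsg.Agent.Lib.Helper61.BalORTH9

/-!
# BAL-ORTH: the matrix form

`orth_odd_normal`: a subgroup of the isometry group of a nondegenerate symmetric form in dimension
at least three over a finite field of odd characteristic which is normalized by all isometries and
all of whose elements have an odd power equal to `±1` consists of `±1`.
-/

set_option autoImplicit false
set_option linter.style.haveILetI false

namespace Cfsg.Agent.Lib.Helper61.Orth

open Matrix

variable {F : Type*} [Field F] {n : ℕ}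

/-- `GL_n(F)` as linear automorphisms of `F^n` -/
noncomputable def glEquiv : GL (Fin n) F ≃* ((Fin n → F) ≃ₗ[F] (Fin n → F)) :=
  Matrix.GeneralLinearGroup.toLin.trans
    (LinearMap.GeneralLinearGroup.generalLinearEquiv F (Fin n → F))

theorem glEquiv_apply (x : GL (Fin n) F) (v : Fin n → F) : glEquiv x v = x.1 *ᵥ v := rfl

theorem isIso_glEquiv (g : Matrix (Fin n) (Fin n) F) (x : GL (Fin n) F)
    (hx : x.1ᵀ * g * x.1 = g) : IsIso (Matrix.toBilin' g) (glEquiv x) := by
  intro a b
  rw [glEquiv_apply, glEquiv_apply, Matrix.toBilin'_apply', Matrix.toBilin'_apply']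
  have e : (x.1 *ᵥ a) = a ᵥ* x.1ᵀ := (Matrix.vecMul_transpose x.1 a).symm
  rw [Matrix.mulVec_mulVec, Matrix.dotProduct_mulVec, e, Matrix.vecMul_vecMul, ← mul_assoc, hx,
    ← Matrix.dotProduct_mulVec]

theorem mat_of_isIso (g : Matrix (Fin n) (Fin n) F) (x : GL (Fin n) F)
    (hx : IsIso (Matrix.toBilin' g) (glEquiv x)) : x.1ᵀ * g * x.1 = g := by
  have h1 : (Matrix.toBilin' g).comp (Matrix.toLin' x.1) (Matrix.toLin' x.1) =
      Matrix.toBilin' g := by
    apply LinearMap.ext; intro a; apply LinearMap.ext; intro b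
    rw [LinearMap.BilinForm.comp_apply, Matrix.toLin'_apply, Matrix.toLin'_apply]
    exact hx a b
  rw [Matrix.toBilin'_comp] at h1
  exact Matrix.toBilin'.injective h1

end Cfsg.Agent.Lib.Helper61.Orth

namespace Cfsg.Agent.Lib.Helper5.Bal

open Matrix Cfsg.Agent.Lib.Helper61.Orth

/-- BAL-ORTH (Mathlib only) -/
theorem orth_odd_normal {F : Type*} [Field F] [Fintype F] (h2 : (2 : F) ≠ 0) {n : ℕ} (hn : 3 ≤ n)
    (g : Matrix (Fin n) (Fin n) F) (hdet : IsUnit g.det) (hsymm : gᵀ = g)
    (N : Subgroup (GL (Fin n) F))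
    (hN : ∀ x ∈ N, x.1ᵀ * g * x.1 = g)
    (hnorm : ∀ y : GL (Fin n) F, y.1ᵀ * g * y.1 = g → ∀ x ∈ N, y * x * y⁻¹ ∈ N)
    (hodd : ∀ x ∈ N, ∃ k : ℕ, Odd k ∧ (x.1 ^ k = 1 ∨ x.1 ^ k = -1)) :
    ∀ x ∈ N, x.1 = 1 ∨ x.1 = -1 := by
  classical
  set B : LinearMap.BilinForm F (Fin n → F) := Matrix.toBilin' g with hB
  have hs : B.IsSymm := by
    refine ⟨fun v w => ?_⟩
    rw [hB, Matrix.toBilin'_apply', Matrix.toBilin'_apply']
    rw [Matrix.dotProduct_mulVec, dotProduct_comm, ← Matrix.mulVec_transpose, hsymm]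
  have hnd : B.Nondegenerate :=
    LinearMap.BilinForm.nondegenerate_toBilin'_of_det_ne_zero' g hdet.ne_zero
  have hdim : Module.finrank F (Fin n → F) = n := Module.finrank_fin_fun F
  set N' : Subgroup ((Fin n → F) ≃ₗ[F] (Fin n → F)) := N.map glEquiv.toMonoidHom with hN'
  have hH : Hyp B N' := by
    refine ⟨?_, ?_, ?_⟩
    · rintro f ⟨x, hx, rfl⟩
      exact isIso_glEquiv g x (hN x hx)
    · rintro y hy f ⟨x, hx, rfl⟩
      have hy' : IsIso (Matrix.toBilin' g) (glEquiv (glEquiv.symm y)) := by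
        rw [MulEquiv.apply_symm_apply]; exact hy
      have h1 := hnorm (glEquiv.symm y) (mat_of_isIso g _ hy') x hx
      refine ⟨glEquiv.symm y * x * (glEquiv.symm y)⁻¹, h1, ?_⟩
      show glEquiv (glEquiv.symm y * x * (glEquiv.symm y)⁻¹) = y * glEquiv x * y⁻¹
      rw [map_mul, map_mul, map_inv, MulEquiv.apply_symm_apply]
    · rintro f ⟨x, hx, rfl⟩
      obtain ⟨k, hk, hpow⟩ := hodd x hx
      refine ⟨k, hk, ?_⟩
      have hpw : ∀ v, ((glEquiv.toMonoidHom x) ^ k) v = (x.1 ^ k) *ᵥ v := by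
        intro v
        show ((glEquiv x) ^ k) v = _
        rw [← map_pow, glEquiv_apply, Units.val_pow_eq_pow_val]
      rcases hpow with h | h
      · left; intro v; rw [hpw, h, Matrix.one_mulVec]
      · right; intro v; rw [hpw, h, Matrix.neg_mulVec, Matrix.one_mulVec]
  have hconcl := pall h2 n hn (Fin n → F) B hs hnd hdim N' hH
  intro x hx
  have hx' : glEquiv x ∈ N' := ⟨x, hx, rfl⟩
  rcases hconcl _ hx' with h | h
  · left
    apply Matrix.toLin'.injective
    apply LinearMap.ext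
    intro v
    rw [Matrix.toLin'_apply, Matrix.toLin'_one]
    exact h v
  · right
    apply Matrix.toLin'.injective
    apply LinearMap.ext
    intro v
    rw [Matrix.toLin'_apply, map_neg, Matrix.toLin'_one]
    exact h v

end Cfsg.Agent.Lib.Helper5.Bal
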