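import Mathlib

/-! # G2i mini-hive (helper2, S2177), leaf G2I-K6, abstract core: in any group with root elements
`X r a` satisfying the char-2 relations of `G₂` (statements of `Helper2.G2iRel`), the element
`x₆(t) x₉(c) x₁₁(e)`, `t ≠ 0`, is conjugate to `x₆(t)` (if `c = 0`) or to `x₉(c)` (if `c ≠ 0`). -/

set_option autoImplicit false

namespace Cfsg.Agent.Lib.Helper2.G2i

/-- squaring is onto in a finite field of characteristic 2 -/
theorem k6_sqrt {F : Type*} [Field F] [Fintype F] [CharP F 2] (a : F) : ∃ σ : F, σ ^ 2 = a := by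
  haveI : Fact (Nat.Prime 2) := ⟨Nat.prime_two⟩
  haveI : ExpChar F 2 := ExpChar.prime Nat.prime_two
  have hinj : Function.Injective (frobenius F 2) := frobenius_inj F 2
  obtain ⟨σ, hσ⟩ := Finite.surjective_of_injective hinj a
  exact ⟨σ, by simpa [frobenius_def] using hσ⟩

section core

variable {F : Type*} [Field F] [CharP F 2] {Γ : Type*} [Group Γ] (X : ℕ → F → Γ)
  (hadd : ∀ r a b, X r (a + b) = X r a * X r b) (hzero : ∀ r, X r 0 = 1)
  (hself : ∀ r a, X r a * X r a = 1)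
  (rel6_10 : ∀ t u : F, X 10 u * X 6 t = X 6 t * X 10 u * X 11 (t * u))
  (rel94 : ∀ t u : F, X 4 u * X 9 t = X 9 t * X 4 u * (X 11 (t ^ 2 * u) * X 6 (t * u ^ 2)))
  (rel98 : ∀ t u : F, X 8 u * X 9 t = X 9 t * X 8 u * X 11 (t * u))
  (comm46 : ∀ a b, Commute (X 4 a) (X 6 b)) (comm4_11 : ∀ a b, Commute (X 4 a) (X 11 b))
  (comm69 : ∀ a b, Commute (X 6 a) (X 9 b)) (comm6_11 : ∀ a b, Commute (X 6 a) (X 11 b))
  (comm8_11 : ∀ a b, Commute (X 8 a) (X 11 b))
  (comm9_10 : ∀ a b, Commute (X 9 a) (X 10 b)) (comm9_11 : ∀ a b, Commute (X 9 a) (X 11 b))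
  (comm10_11 : ∀ a b, Commute (X 10 a) (X 11 b))

include hadd hzero hself rel6_10 comm9_10 comm9_11 comm10_11 in
/-- step 1: `x₁₀(e/t)` kills the `x₁₁`-coordinate -/
theorem k6_step1 (t c e : F) (ht : t ≠ 0) :
    X 10 (e / t) * (X 6 t * (X 9 c * X 10 0 * X 11 e)) * (X 10 (e / t))⁻¹ = X 6 t * X 9 c := by
  have hinv : (X 10 (e / t))⁻¹ = X 10 (e / t) := inv_eq_of_mul_eq_one_right (hself _ _)
  have hte : t * (e / t) = e := by field_simp
  have h2 : (2 : F) = 0 := CharP.cast_eq_zero F 2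
  have hee : e + e = 0 := by rw [← two_mul, h2, zero_mul]
  rw [hinv, hzero, mul_one]
  calc X 10 (e / t) * (X 6 t * (X 9 c * X 11 e)) * X 10 (e / t)
      = (X 10 (e / t) * X 6 t) * X 9 c * X 11 e * X 10 (e / t) := by simp only [mul_assoc]
    _ = X 6 t * X 10 (e / t) * X 11 (t * (e / t)) * X 9 c * X 11 e * X 10 (e / t) := by rw [rel6_10]
    _ = X 6 t * X 10 (e / t) * X 11 e * X 9 c * X 11 e * X 10 (e / t) := by rw [hte]
    _ = X 6 t * X 9 c * (X 10 (e / t) * X 10 (e / t)) * (X 11 e * X 11 e) := by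
        have c1 := (comm9_10 c (e / t)).eq
        have c2 := (comm9_11 c e).eq
        have c3 := (comm10_11 (e / t) e).eq
        -- move `X 9 c` to the front, then pair up
        calc X 6 t * X 10 (e / t) * X 11 e * X 9 c * X 11 e * X 10 (e / t)
            = X 6 t * X 10 (e / t) * (X 11 e * X 9 c) * X 11 e * X 10 (e / t) := by
              simp only [mul_assoc]
          _ = X 6 t * X 10 (e / t) * (X 9 c * X 11 e) * X 11 e * X 10 (e / t) := by rw [c2]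
          _ = X 6 t * (X 10 (e / t) * X 9 c) * X 11 e * X 11 e * X 10 (e / t) := by
              simp only [mul_assoc]
          _ = X 6 t * (X 9 c * X 10 (e / t)) * X 11 e * X 11 e * X 10 (e / t) := by rw [c1]
          _ = X 6 t * X 9 c * X 10 (e / t) * (X 11 e * X 11 e) * X 10 (e / t) := by
              simp only [mul_assoc]
          _ = X 6 t * X 9 c * X 10 (e / t) * X 10 (e / t) := by rw [hself, mul_one]
          _ = X 6 t * X 9 c * (X 10 (e / t) * X 10 (e / t)) * (X 11 e * X 11 e) := by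
              rw [hself, hself, mul_one, mul_one, mul_assoc, hself, mul_one]
    _ = X 6 t * X 9 c := by rw [hself, hself, mul_one, mul_one]

include hadd hzero hself rel94 comm46 comm4_11 comm69 comm6_11 in
/-- step 2: `x₄(σ)`, `c σ² = t`, turns `x₆(t) x₉(c)` into `x₉(c) x₁₁(c² σ)` -/
theorem k6_step2 (t c σ : F) (hσ : c * σ ^ 2 = t) :
    X 4 σ * (X 6 t * X 9 c) * (X 4 σ)⁻¹ = X 9 c * X 11 (c ^ 2 * σ) := by
  have hinv : (X 4 σ)⁻¹ = X 4 σ := inv_eq_of_mul_eq_one_right (hself _ _)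
  have h2 : (2 : F) = 0 := CharP.cast_eq_zero F 2
  have htt : t + t = 0 := by rw [← two_mul, h2, zero_mul]
  rw [hinv]
  have c46 := (comm46 σ t).eq
  have c4_11 := (comm4_11 σ (c ^ 2 * σ)).eq
  have c46' := (comm46 σ (c * σ ^ 2)).eq
  have c69 := (comm69 (c * σ ^ 2) c).eq
  have c6_11 := (comm6_11 (c * σ ^ 2) (c ^ 2 * σ)).eq
  calc X 4 σ * (X 6 t * X 9 c) * X 4 σ
      = (X 4 σ * X 6 t) * X 9 c * X 4 σ := by simp only [mul_assoc]
    _ = (X 6 t * X 4 σ) * X 9 c * X 4 σ := by rw [c46]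
    _ = X 6 t * (X 4 σ * X 9 c) * X 4 σ := by simp only [mul_assoc]
    _ = X 6 t * (X 9 c * X 4 σ * (X 11 (c ^ 2 * σ) * X 6 (c * σ ^ 2))) * X 4 σ := by rw [rel94]
    _ = X 6 t * X 9 c * (X 4 σ * X 11 (c ^ 2 * σ)) * X 6 (c * σ ^ 2) * X 4 σ := by
        simp only [mul_assoc]
    _ = X 6 t * X 9 c * (X 11 (c ^ 2 * σ) * X 4 σ) * X 6 (c * σ ^ 2) * X 4 σ := by rw [c4_11]
    _ = X 6 t * X 9 c * X 11 (c ^ 2 * σ) * (X 4 σ * X 6 (c * σ ^ 2)) * X 4 σ := by
        simp only [mul_assoc]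
    _ = X 6 t * X 9 c * X 11 (c ^ 2 * σ) * (X 6 (c * σ ^ 2) * X 4 σ) * X 4 σ := by rw [c46']
    _ = X 6 t * X 9 c * X 11 (c ^ 2 * σ) * X 6 (c * σ ^ 2) * (X 4 σ * X 4 σ) := by
        simp only [mul_assoc]
    _ = X 6 t * X 9 c * (X 11 (c ^ 2 * σ) * X 6 (c * σ ^ 2)) := by
        rw [hself, mul_one]; simp only [mul_assoc]
    _ = X 6 t * X 9 c * (X 6 (c * σ ^ 2) * X 11 (c ^ 2 * σ)) := by rw [c6_11]
    _ = X 6 t * (X 9 c * X 6 (c * σ ^ 2)) * X 11 (c ^ 2 * σ) := by simp only [mul_assoc]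
    _ = X 6 t * (X 6 (c * σ ^ 2) * X 9 c) * X 11 (c ^ 2 * σ) := by rw [c69]
    _ = (X 6 t * X 6 (c * σ ^ 2)) * X 9 c * X 11 (c ^ 2 * σ) := by simp only [mul_assoc]
    _ = X 9 c * X 11 (c ^ 2 * σ) := by rw [← hadd, hσ, htt, hzero, one_mul]

include hadd hzero hself rel98 comm8_11 comm9_11 in
/-- step 3: `x₈(e'/c)` kills the `x₁₁`-coordinate of `x₉(c) x₁₁(e')`, `c ≠ 0` -/
theorem k6_step3 (c e' : F) (hc : c ≠ 0) :
    X 8 (e' / c) * (X 9 c * X 11 e') * (X 8 (e' / c))⁻¹ = X 9 c := by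
  have hinv : (X 8 (e' / c))⁻¹ = X 8 (e' / c) := inv_eq_of_mul_eq_one_right (hself _ _)
  have hce : c * (e' / c) = e' := by field_simp
  have c8_11 := (comm8_11 (e' / c) e').eq
  have c9_11 := (comm9_11 c e').eq
  rw [hinv]
  calc X 8 (e' / c) * (X 9 c * X 11 e') * X 8 (e' / c)
      = (X 8 (e' / c) * X 9 c) * X 11 e' * X 8 (e' / c) := by simp only [mul_assoc]
    _ = X 9 c * X 8 (e' / c) * X 11 (c * (e' / c)) * X 11 e' * X 8 (e' / c) := by rw [rel98]
    _ = X 9 c * X 8 (e' / c) * (X 11 e' * X 11 e') * X 8 (e' / c) := by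
        rw [hce]; simp only [mul_assoc]
    _ = X 9 c := by rw [hself, mul_one, mul_assoc, hself, mul_one]

end core

end Cfsg.Agent.Lib.Helper2.G2i
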