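import Cfsg.Agent.Lib.Helper2.G2iRel
import Cfsg.Agent.Lib.Helper61.G2iK6core

/-! # G2i mini-hive (helper2, S2177), leaf G2I-K6 (helper61): for `t ≠ 0` the involution
`x₆(t) x₉(c) x₁₁(e)` of `G₂(F)`, `F` finite of characteristic 2, is conjugate in `G₂(F)` to `x₆(t)`
(if `c = 0`) or to `x₉(c)` (if `c ≠ 0`).  The group-theoretic content is in `G2iK6core`. -/

set_option autoImplicit false

namespace Cfsg.Agent.Lib.Helper2.G2i

open Cfsg Cfsg.Lie Cfsg.Agent.Lib.Helper36 Cfsg.Agent.Lib.Helper20.G2c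

variable (F : Type*) [Field F]

/-- G2I-K6 -/
theorem kill6 [Fintype F] [CharP F 2] (t c e : F) (ht : t ≠ 0) :
    (c = 0 → ∃ h ∈ chevG2.group F, h * (xg F 6 t * T F c 0 e) * h⁻¹ = xg F 6 t) ∧
    (c ≠ 0 → ∃ h ∈ chevG2.group F, h * (xg F 6 t * T F c 0 e) * h⁻¹ = xg F 9 c) := by
  have hadd : ∀ (r : ℕ) (a b : F), xg F r (a + b) = xg F r a * xg F r b := fun r a b => ufact_add F r a b
  have hzero : ∀ r : ℕ, xg F r 0 = 1 := fun r => ufact_zero F r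
  have hself : ∀ (r : ℕ) (a : F), xg F r a * xg F r a = 1 := fun r a => xg_mul_self F r a
  have s1 : xg F 10 (e / t) * (xg F 6 t * T F c 0 e) * (xg F 10 (e / t))⁻¹ = xg F 6 t * xg F 9 c := by
    unfold T
    exact k6_step1 (fun r a => xg F r a) hadd hzero hself (rel6_10 F) (comm9_10 F) (comm9_11 F)
      (comm10_11 F) t c e ht
  constructor
  · intro hc
    refine ⟨xg F 10 (e / t), xGL_mem_group chevG2 hG2 F 10 (e / t), ?_⟩
    rw [s1, hc, hzero, mul_one]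
  · intro hc
    obtain ⟨σ, hσ⟩ := k6_sqrt (t / c)
    have hσ' : c * σ ^ 2 = t := by rw [hσ]; field_simp
    have s2 : xg F 4 σ * (xg F 6 t * xg F 9 c) * (xg F 4 σ)⁻¹ = xg F 9 c * xg F 11 (c ^ 2 * σ) :=
      k6_step2 (fun r a => xg F r a) hadd hzero hself (rel94 F) (comm46 F) (comm4_11 F) (comm69 F)
        (comm6_11 F) t c σ hσ'
    have s3 : xg F 8 (c ^ 2 * σ / c) * (xg F 9 c * xg F 11 (c ^ 2 * σ)) * (xg F 8 (c ^ 2 * σ / c))⁻¹ =
        xg F 9 c :=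
      k6_step3 (fun r a => xg F r a) hadd hzero hself (rel98 F) (comm8_11 F) (comm9_11 F) c (c ^ 2 * σ) hc
    refine ⟨xg F 8 (c ^ 2 * σ / c) * xg F 4 σ * xg F 10 (e / t), ?_, ?_⟩
    · exact Subgroup.mul_mem _ (Subgroup.mul_mem _ (xGL_mem_group chevG2 hG2 F 8 _)
        (xGL_mem_group chevG2 hG2 F 4 _)) (xGL_mem_group chevG2 hG2 F 10 _)
    · calc xg F 8 (c ^ 2 * σ / c) * xg F 4 σ * xg F 10 (e / t) * (xg F 6 t * T F c 0 e) *
            (xg F 8 (c ^ 2 * σ / c) * xg F 4 σ * xg F 10 (e / t))⁻¹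
          = xg F 8 (c ^ 2 * σ / c) * (xg F 4 σ * (xg F 10 (e / t) * (xg F 6 t * T F c 0 e) *
              (xg F 10 (e / t))⁻¹) * (xg F 4 σ)⁻¹) * (xg F 8 (c ^ 2 * σ / c))⁻¹ := by
            simp only [mul_inv_rev, mul_assoc]
        _ = xg F 9 c := by rw [s1, s2, s3]

end Cfsg.Agent.Lib.Helper2.G2i
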