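import Cfsg.Agent.Lib.Helper2.G2oDefs

/-! # G2o hive (S4278, architect helper2), leaf G2O-W0N (helper61): multiplying a monomial element of
Weyl type `w₀ = -1` by `h_6(d)` keeps the type and scales the constant at the root `7` by `d^{±1}`. -/

set_option autoImplicit false

namespace Cfsg.Agent.Lib.Helper2.G2o

open Cfsg Cfsg.Lie Cfsg.Agent.Lib.Helper36 Cfsg.Agent.Lib.Helper20.G2c

variable (F : Type*) [Field F]

theorem w0n_neg_lt : ∀ r < chevG2.nroots, chevG2.neg r < chevG2.nroots := by decide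

theorem w0n_gc : gc chevG2 6 4 = 1 ∨ gc chevG2 6 4 = -1 := by decide

theorem w0n_conj (n : GL chevG2.Idx F) (d : F) (hd : d ≠ 0) (r r' : ℕ) (hr' : r' < chevG2.nroots) (c : F)
    (hc : ∀ t : F, n * xg F r t * n⁻¹ = xg F r' (c * t)) (t : F) :
    (hGL chevG2 hG2 F 6 d * n) * xg F r t * (hGL chevG2 hG2 F 6 d * n)⁻¹ =
      xg F r' (d ^ (gc chevG2 6 r') * c * t) := by
  have e : (hGL chevG2 hG2 F 6 d * n) * xg F r t * (hGL chevG2 hG2 F 6 d * n)⁻¹ =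
      hGL chevG2 hG2 F 6 d * (n * xg F r t * n⁻¹) * (hGL chevG2 hG2 F 6 d)⁻¹ := by
    simp only [mul_inv_rev, mul_assoc]
  rw [e, hc t, hGL_conj_xGL chevG2 hG2 F 6 r' (by decide) hr' d hd, mul_assoc]

/-- G2O-W0N -/
theorem w0n (n : GL chevG2.Idx F) (h : Acts F n chevG2.neg) (d : F) (hd : d ≠ 0) :
    Acts F (hGL chevG2 hG2 F 6 d * n) chevG2.neg ∧
    ∃ k : ℤ, (k = 1 ∨ k = -1) ∧ ∀ c : F, (∀ s : F, n * xg F 7 s * n⁻¹ = xg F 4 (c * s)) →
      ∀ s : F, (hGL chevG2 hG2 F 6 d * n) * xg F 7 s * (hGL chevG2 hG2 F 6 d * n)⁻¹ =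
        xg F 4 (d ^ k * c * s) := by
  constructor
  · intro r hr
    obtain ⟨c, hc0, hc⟩ := h r hr
    refine ⟨d ^ (gc chevG2 6 (chevG2.neg r)) * c, mul_ne_zero (zpow_ne_zero _ hd) hc0, fun t => ?_⟩
    exact w0n_conj F n d hd r (chevG2.neg r) (w0n_neg_lt r hr) c hc t
  · refine ⟨gc chevG2 6 4, w0n_gc, fun c hc s => ?_⟩
    exact w0n_conj F n d hd 7 4 (by decide) c hc s

end Cfsg.Agent.Lib.Helper2.G2o
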