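import Cfsg.Agent.Lib.Helper60.U3ConjDefs

/-! # U3-CONJ sub-hive (helper60) of the U3 hive (helper23, S2283), leaf CJ-INV2a (core):
`N' e = vec v`, `N'² e = vec w`, `N'³ e = 0` for `N' = u2 - 1`, from `u2` in frame coordinates
(CJ-U2V) and the three polynomial identities (CJ-ALG), both taken as hypotheses. -/

set_option autoImplicit false
set_option linter.unusedSectionVars false

namespace Cfsg.Agent.Lib.Helper23.U3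

open Matrix Cfsg.Agent.Lib.Helper99 Cfsg.Agent.Lib.Helper13 Cfsg.Agent.Lib.Helper90.Psu

variable {F : Type*} [Field F] [Fintype F] {q : ℕ}

local notation "hh" => Cfsg.hermForm 3 F q

/-- `vec` is additive and homogeneous in the coordinates -/
theorem cjinv2a_vec_sub (C : Cfg q F) (x1 x2 x3 y1 y2 y3 : F) :
    C.vec x1 x2 x3 - C.vec y1 y2 y3 = C.vec (x1 - y1) (x2 - y2) (x3 - y3) := by
  unfold Cfg.vec
  module

theorem cjinv2a_vec_zero (C : Cfg q F) : C.vec 0 0 0 = 0 := by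
  unfold Cfg.vec
  simp

theorem cjinv2a_e (C : Cfg q F) : C.e = C.vec 1 0 0 := by
  unfold Cfg.vec
  simp

/-- `N' x = u2 x - x` -/
theorem cjinv2a_nilp (u : GL (Fin 3) F) (x : Fin 3 → F) :
    nilp u *ᵥ x = (u : Matrix (Fin 3) (Fin 3) F) *ᵥ x - x := by
  unfold nilp
  rw [Matrix.sub_mulVec, Matrix.one_mulVec]

/-- the statement of CJ-U2V -/
def CjU2VStmt (C : Cfg q F) : Prop := ∀ x1 x2 x3 : F,
    (C.u2 : Matrix (Fin 3) (Fin 3) F) *ᵥ C.vec x1 x2 x3 =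
      C.vec (C.μ * (1 + C.c * C.β) * x1 - C.μ⁻¹ ^ 2 * C.a ^ q * x2 + C.μ * C.β * x3)
        (C.μ * C.c * C.a * x1 + C.μ⁻¹ ^ 2 * x2 + C.μ * C.a * x3) (C.μ * C.c * x1 + C.μ * x3)

/-- the statement of CJ-ALG -/
def CjALGStmt (F : Type*) [Field F] : Prop := ∀ (m c a A β : F), m ≠ 0 → c ≠ 0 →
    c * β = 3 * m⁻¹ - 2 - m⁻¹ ^ 3 → a * A * c = (m⁻¹ - m) ^ 3 →
    let v1 := m * (1 + c * β) - 1
    let v2 := m * c * a
    let v3 := m * c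
    let w1 := (m * (1 + c * β) - 1) * v1 - m⁻¹ ^ 2 * A * v2 + m * β * v3
    let w2 := m * c * a * v1 + (m⁻¹ ^ 2 - 1) * v2 + m * a * v3
    let w3 := m * c * v1 + (m - 1) * v3
    (m * (1 + c * β) - 1) * w1 - m⁻¹ ^ 2 * A * w2 + m * β * w3 = 0 ∧
      m * c * a * w1 + (m⁻¹ ^ 2 - 1) * w2 + m * a * w3 = 0 ∧
      m * c * w1 + (m - 1) * w3 = 0

/-- `N'` in frame coordinates -/
theorem cjinv2a_nilp_vec (C : Cfg q F) (hU : CjU2VStmt C) (x1 x2 x3 : F) :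
    nilp C.u2 *ᵥ C.vec x1 x2 x3 =
      C.vec ((C.μ * (1 + C.c * C.β) - 1) * x1 - C.μ⁻¹ ^ 2 * C.a ^ q * x2 + C.μ * C.β * x3)
        (C.μ * C.c * C.a * x1 + (C.μ⁻¹ ^ 2 - 1) * x2 + C.μ * C.a * x3)
        (C.μ * C.c * x1 + (C.μ - 1) * x3) := by
  rw [cjinv2a_nilp, hU, cjinv2a_vec_sub]
  congr 1 <;> ring

/-- CJ-INV2a, core version: CJ-U2V and CJ-ALG as hypotheses. -/
theorem cjinv2a_core (C : Cfg q F) (hU : CjU2VStmt C) (hA : CjALGStmt F) :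
    nilp C.u2 *ᵥ C.e = C.vec C.v1 C.v2 C.v3 ∧
      nilp C.u2 *ᵥ (nilp C.u2 *ᵥ C.e) = C.vec C.w1 C.w2 C.w3 ∧
      nilp C.u2 *ᵥ (nilp C.u2 *ᵥ (nilp C.u2 *ᵥ C.e)) = 0 := by
  have h1 : nilp C.u2 *ᵥ C.e = C.vec C.v1 C.v2 C.v3 := by
    rw [cjinv2a_e C, cjinv2a_nilp_vec C hU]
    unfold Cfg.v1 Cfg.v2 Cfg.v3
    congr 1 <;> ring
  have h2 : nilp C.u2 *ᵥ (nilp C.u2 *ᵥ C.e) = C.vec C.w1 C.w2 C.w3 := by
    rw [h1, cjinv2a_nilp_vec C hU]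
    rfl
  refine ⟨h1, h2, ?_⟩
  rw [h2, cjinv2a_nilp_vec C hU]
  have ha' : C.a * C.a ^ q * C.c = (C.μ⁻¹ - C.μ) ^ 3 := by
    rw [← C.ha, pow_succ]; ring
  obtain ⟨e1, e2, e3⟩ := hA C.μ C.c C.a (C.a ^ q) C.β C.μ_ne_zero C.hc0 C.hβ ha'
  have e1' : (C.μ * (1 + C.c * C.β) - 1) * C.w1 - C.μ⁻¹ ^ 2 * C.a ^ q * C.w2 + C.μ * C.β * C.w3 = 0 := e1
  have e2' : C.μ * C.c * C.a * C.w1 + (C.μ⁻¹ ^ 2 - 1) * C.w2 + C.μ * C.a * C.w3 = 0 := e2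
  have e3' : C.μ * C.c * C.w1 + (C.μ - 1) * C.w3 = 0 := e3
  rw [e1', e2', e3']
  exact cjinv2a_vec_zero C

end Cfsg.Agent.Lib.Helper23.U3
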