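import Cfsg.Agent.Lib.Helper60.U3ConjDefs
import Cfsg.Agent.Lib.Helper61.U3CjINV2a

/-! # U3-CONJ sub-hive (helper60) of the U3 hive (helper23, S2283), leaf CJ-INV2c (core):
`det[e, N' e, N'² e] = -a c² Δ`, from the frame coordinates of `N' e`, `N'² e` (CJ-INV2a) and the
determinant in frame coordinates (CJ-DET3), taken as hypotheses. -/

set_option autoImplicit false
set_option linter.unusedSectionVars false

namespace Cfsg.Agent.Lib.Helper23.U3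

open Matrix Cfsg.Agent.Lib.Helper99 Cfsg.Agent.Lib.Helper13 Cfsg.Agent.Lib.Helper90.Psu

variable {F : Type*} [Field F] [Fintype F] {q : ℕ}

local notation "hh" => Cfsg.hermForm 3 F q

/-- the statement of CJ-DET3 -/
def CjDET3Stmt (C : Cfg q F) : Prop := ∀ x1 x2 x3 y1 y2 y3 z1 z2 z3 : F,
    (Matrix.of ![C.vec x1 x2 x3, C.vec y1 y2 y3, C.vec z1 z2 z3]).det =
      (Matrix.of ![![x1, x2, x3], ![y1, y2, y3], ![z1, z2, z3]]).det * C.frame.det

/-- the polynomial identity `v2 w3 - v3 w2 = -a c²` -/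
theorem cjinv2c_alg (C : Cfg q F) : C.v2 * C.w3 - C.v3 * C.w2 = -(C.a * C.c ^ 2) := by
  have hμ : C.μ ≠ 0 := C.μ_ne_zero
  unfold Cfg.w3 Cfg.w2 Cfg.v1 Cfg.v2 Cfg.v3
  field_simp
  ring

/-- CJ-INV2c, core version: the first two conjuncts of CJ-INV2a and CJ-DET3 as hypotheses. -/
theorem cjinv2c_core (C : Cfg q F)
    (hN1 : nilp C.u2 *ᵥ C.e = C.vec C.v1 C.v2 C.v3)
    (hN2 : nilp C.u2 *ᵥ (nilp C.u2 *ᵥ C.e) = C.vec C.w1 C.w2 C.w3)
    (hD : CjDET3Stmt C) :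
    (tri C.u2 C.e).det = - (C.a * C.c ^ 2) * C.frame.det := by
  have h1 : tri C.u2 C.e = Matrix.of ![C.vec 1 0 0, C.vec C.v1 C.v2 C.v3, C.vec C.w1 C.w2 C.w3] := by
    unfold tri
    rw [hN2, hN1, ← cjinv2a_e C]
  have h2 : (Matrix.of ![![(1 : F), 0, 0], ![C.v1, C.v2, C.v3], ![C.w1, C.w2, C.w3]]).det =
      C.v2 * C.w3 - C.v3 * C.w2 := by
    rw [Matrix.det_fin_three]
    simp
  rw [h1, hD, h2, cjinv2c_alg C]

end Cfsg.Agent.Lib.Helper23.U3
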