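import Cfsg.Agent.Lib.Helper60.U3ConjDefs
import Cfsg.Agent.Lib.Helper61.U3CjINV2a
import Cfsg.Agent.Lib.Helper61.U3CjINV2c
import Cfsg.Agent.Lib.Helper54.U3CjU2V
import Cfsg.Agent.Lib.Helper43.U3CjALG
import Cfsg.Agent.Lib.Helper49.U3CjDET3

/-! # U3-CONJ sub-hive (helper60) of the U3 hive (helper23, S2283): the exact-name leaves CJ-INV2a
`inv_u2_nil` and CJ-INV2c `inv_u2_det` (wrappers of the cores over CJ-U2V, CJ-ALG, CJ-DET3). -/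

set_option autoImplicit false
set_option linter.unusedSectionVars false

namespace Cfsg.Agent.Lib.Helper23.U3

open Matrix Cfsg.Agent.Lib.Helper99 Cfsg.Agent.Lib.Helper13 Cfsg.Agent.Lib.Helper90.Psu

variable {F : Type*} [Field F] [Fintype F] {q : ℕ}

local notation "hh" => Cfsg.hermForm 3 F q

/-- CJ-INV2a (M): `N'³ e = 0`. -/
theorem inv_u2_nil (hF : Fintype.card F = q ^ 2) (C : Cfg q F) :
    nilp C.u2 *ᵥ C.e = C.vec C.v1 C.v2 C.v3 ∧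
      nilp C.u2 *ᵥ (nilp C.u2 *ᵥ C.e) = C.vec C.w1 C.w2 C.w3 ∧
      nilp C.u2 *ᵥ (nilp C.u2 *ᵥ (nilp C.u2 *ᵥ C.e)) = 0 :=
  cjinv2a_core C (fun x1 x2 x3 => u2_vec hF C x1 x2 x3)
    (fun m c a A β hm hc hβ ha => u2_alg m c a A β hm hc hβ ha)

/-- CJ-INV2c (E/M): `det[e, N' e, N'² e] = -a c² Δ`. -/
theorem inv_u2_det (hF : Fintype.card F = q ^ 2) (C : Cfg q F) :
    (tri C.u2 C.e).det = - (C.a * C.c ^ 2) * C.frame.det := by
  obtain ⟨h1, h2, -⟩ := inv_u2_nil hF C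
  exact cjinv2c_core C h1 h2 (fun x1 x2 x3 y1 y2 y3 z1 z2 z3 => det_vec C x1 x2 x3 y1 y2 y3 z1 z2 z3)

end Cfsg.Agent.Lib.Helper23.U3
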