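import Cfsg.Agent.Lib.Helper60.U3ConjDefs
import Cfsg.Agent.Lib.Helper33.U3MEM

/-! # U3-CONJ sub-hive (helper60) of the U3 hive (helper23, S2283), leaf CJ-MEM: `u1` and `u2 = u1 T S`
are unitary (wrapper of U3-MEM, helper33). -/

set_option autoImplicit false
set_option linter.unusedSectionVars false

namespace Cfsg.Agent.Lib.Helper23.U3

open Matrix Cfsg.Agent.Lib.Helper99 Cfsg.Agent.Lib.Helper13 Cfsg.Agent.Lib.Helper90.Psu

variable {F : Type*} [Field F] [Fintype F] {q : ℕ}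

local notation "hh" => Cfsg.hermForm 3 F q

/-- CJ-MEM (E): both elements are unitary. -/
theorem u1_u2_mem_GU (hF : Fintype.card F = q ^ 2) (C : Cfg q F) :
    C.u1 ∈ Cfsg.GU 3 F q ∧ C.u2 ∈ Cfsg.GU 3 F q := by
  have h1 : C.u1 ∈ suGL (F := F) 3 q := u1_mem_suGL hF C
  have h2 : C.T ∈ suGL (F := F) 3 q := T_mem_suGL hF C
  have h3 : C.S ∈ suGL (F := F) 3 q := S_mem_suGL hF C
  have hle : suGL (F := F) 3 q ≤ Cfsg.GU 3 F q := inf_le_left
  refine ⟨hle h1, ?_⟩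
  unfold Cfg.u2
  exact hle (mul_mem (mul_mem h1 h2) h3)

end Cfsg.Agent.Lib.Helper23.U3
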