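import Cfsg.Agent.Lib.Helper37.B2O5Defs

/-! # Bo hive (helper37, S1083), leaf BO-DG: the diagonal isometries `diag(1; a₁, a₂; a₁⁻¹, a₂⁻¹)` -/

set_option autoImplicit false
set_option linter.unusedSectionVars false
set_option linter.unusedVariables false

namespace Cfsg.Agent.Lib.Helper37.B2O5

open Matrix Module QuadraticMap
open Cfsg.Agent.Lib.Helper8 Cfsg.Agent.Lib.Helper13 Cfsg.Agent.Lib.Helper37 Cfsg.Agent.Lib.Helper43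

variable {F : Type*} [Field F]

/-- the diagonal map in coordinates -/
def dg_fun (a1 a2 b1 b2 : F) (x : I5 → F) : I5 → F :=
  mk5 (cz x) (a1 * ca1 x) (a2 * ca2 x) (b1 * cb1 x) (b2 * cb2 x)

/-- the diagonal map as a linear map -/
def dg_lin (a1 a2 b1 b2 : F) : (I5 → F) →ₗ[F] (I5 → F) where
  toFun := dg_fun a1 a2 b1 b2
  map_add' x y := by
    unfold dg_fun
    apply ext5 <;> simp <;> ring
  map_smul' c x := by
    unfold dg_fun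
    apply ext5 <;> simp <;> ring

theorem dg_fun_comp (a1 a2 b1 b2 : F) (h1 : b1 * a1 = 1) (h2 : b2 * a2 = 1) (x : I5 → F) :
    dg_fun b1 b2 a1 a2 (dg_fun a1 a2 b1 b2 x) = x := by
  unfold dg_fun
  have h1' : a1 * b1 = 1 := by rw [mul_comm]; exact h1
  have h2' : a2 * b2 = 1 := by rw [mul_comm]; exact h2
  apply ext5
  · simp
  · simp only [ca1_mk5]; rw [← mul_assoc, h1, one_mul]
  · simp only [ca2_mk5]; rw [← mul_assoc, h2, one_mul]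
  · simp only [cb1_mk5]; rw [← mul_assoc, h1', one_mul]
  · simp only [cb2_mk5]; rw [← mul_assoc, h2', one_mul]

/-- the diagonal map as a linear equivalence -/
def dg_equiv (a1 a2 : F) (h1 : a1 ≠ 0) (h2 : a2 ≠ 0) : (I5 → F) ≃ₗ[F] (I5 → F) :=
  { dg_lin a1 a2 a1⁻¹ a2⁻¹ with
    invFun := dg_fun a1⁻¹ a2⁻¹ a1 a2
    left_inv := fun x => dg_fun_comp a1 a2 a1⁻¹ a2⁻¹ (inv_mul_cancel₀ h1) (inv_mul_cancel₀ h2) x
    right_inv := fun x => dg_fun_comp a1⁻¹ a2⁻¹ a1 a2 (mul_inv_cancel₀ h1) (mul_inv_cancel₀ h2) x }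

theorem dg_equiv_apply (a1 a2 : F) (h1 : a1 ≠ 0) (h2 : a2 ≠ 0) (x : I5 → F) :
    dg_equiv a1 a2 h1 h2 x =
      mk5 (cz x) (a1 * ca1 x) (a2 * ca2 x) (a1⁻¹ * cb1 x) (a2⁻¹ * cb2 x) := rfl

theorem dg_Q (a1 a2 : F) (h1 : a1 ≠ 0) (h2 : a2 ≠ 0) (x : I5 → F) :
    Q5 F (dg_equiv a1 a2 h1 h2 x) = Q5 F x := by
  rw [dg_equiv_apply, Q5_apply, Q5_apply]
  simp only [cz_mk5, ca1_mk5, ca2_mk5, cb1_mk5, cb2_mk5]
  field_simp

/-- BO-DG. -/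
theorem exists_dg (a1 a2 : F) (h1 : a1 ≠ 0) (h2 : a2 ≠ 0) : ∃ d : OG F, ∀ x : I5 → F,
    act (Q5 F) d x = mk5 (cz x) (a1 * ca1 x) (a2 * ca2 x) (a1⁻¹ * cb1 x) (a2⁻¹ * cb2 x) := by
  refine ⟨isoOfEquiv (Q5 F) (dg_equiv a1 a2 h1 h2) (dg_Q a1 a2 h1 h2), fun x => ?_⟩
  unfold act
  rw [isoOfEquiv_mulVec, dg_equiv_apply]

end Cfsg.Agent.Lib.Helper37.B2O5
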