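import Cfsg.Agent.Lib.Helper37.B2O5Defs
import Cfsg.Agent.Lib.Helper61.Bo_DG

/-! # Bo hive (helper37, S1083), leaf BO-EIN: every root element `X r t` is a commutator
`⁅d, X r s⁆` with a diagonal isometry `d` (when `F` has an element `a ≠ 0, 1`). -/

set_option autoImplicit false
set_option linter.unusedSectionVars false
set_option linter.unusedVariables false

namespace Cfsg.Agent.Lib.Helper37.B2O5

open Matrix Module QuadraticMap
open Cfsg.Agent.Lib.Helper8 Cfsg.Agent.Lib.Helper13 Cfsg.Agent.Lib.Helper37 Cfsg.Agent.Lib.Helper43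

variable {F : Type*} [Field F]

/-- from a conjugation formula `d x_r(s) = x_r(χ s) d` with `χ ≠ 1` to membership in the commutator
subgroup -/
theorem ein_of_conj (d : OG F) (r : Fin 8) (χ : F) (hχ : χ ≠ 1)
    (h : ∀ s : F, d * X r s = X r (χ * s) * d) (t : F) : X r t ∈ commutator (OG F) := by
  have hne : χ - 1 ≠ 0 := sub_ne_zero.2 hχ
  have key : X r t = d * X r (t / (χ - 1)) * d⁻¹ * (X r (t / (χ - 1)))⁻¹ := by
    rw [h, X_inv]
    have e1 : X r (χ * (t / (χ - 1))) * d * d⁻¹ * X r (-(t / (χ - 1)))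
        = X r (χ * (t / (χ - 1))) * X r (-(t / (χ - 1))) := by group
    rw [e1, X_add]
    congr 1
    field_simp
    ring
  rw [key]
  exact Subgroup.commutator_mem_commutator (G := OG F) (g₁ := d) (g₂ := X r (t / (χ - 1)))
    (Subgroup.mem_top _) (Subgroup.mem_top _)

section conj

variable (d : OG F) (A1 A2 : F) (h1 : A1 ≠ 0) (h2 : A2 ≠ 0)
  (hd : ∀ x : I5 → F, act (Q5 F) d x =
    mk5 (cz x) (A1 * ca1 x) (A2 * ca2 x) (A1⁻¹ * cb1 x) (A2⁻¹ * cb2 x))

include h1 h2 hd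

theorem ein_conj0 (s : F) : d * X 0 s = X 0 ((A1 * A2)⁻¹ * s) * d := by
  apply reflElt_ext
  intro x
  simp only [act_mul, hd, act_X0]
  apply ext5 <;> simp <;> field_simp

theorem ein_conj1 (s : F) : d * X 1 s = X 1 (A1⁻¹ * s) * d := by
  apply reflElt_ext
  intro x
  simp only [act_mul, hd, act_X1]
  apply ext5 <;> simp <;> field_simp

theorem ein_conj2 (s : F) : d * X 2 s = X 2 (A2⁻¹ * s) * d := by
  apply reflElt_ext
  intro x
  simp only [act_mul, hd, act_X2]
  apply ext5 <;> simp <;> field_simp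

theorem ein_conj3 (s : F) : d * X 3 s = X 3 (A2 * A1⁻¹ * s) * d := by
  apply reflElt_ext
  intro x
  simp only [act_mul, hd, act_X3]
  apply ext5 <;> simp <;> field_simp

theorem ein_conj4 (s : F) : d * X 4 s = X 4 (A1 * A2⁻¹ * s) * d := by
  apply reflElt_ext
  intro x
  simp only [act_mul, hd, act_X4]
  apply ext5 <;> simp <;> field_simp

theorem ein_conj5 (s : F) : d * X 5 s = X 5 (A2 * s) * d := by
  apply reflElt_ext
  intro x
  simp only [act_mul, hd, act_X5]
  apply ext5 <;> simp <;> field_simp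

theorem ein_conj6 (s : F) : d * X 6 s = X 6 (A1 * s) * d := by
  apply reflElt_ext
  intro x
  simp only [act_mul, hd, act_X6]
  apply ext5 <;> simp <;> field_simp

theorem ein_conj7 (s : F) : d * X 7 s = X 7 (A1 * A2 * s) * d := by
  apply reflElt_ext
  intro x
  simp only [act_mul, hd, act_X7]
  apply ext5 <;> simp <;> field_simp

end conj

/-- BO-EIN. -/
theorem X_mem_commutator (hF : ∃ a : F, a ≠ 0 ∧ a ≠ 1) (r : Fin 8) (t : F) :
    X r t ∈ commutator (OG F) := by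
  obtain ⟨a, ha0, ha1⟩ := hF
  have hinv : a⁻¹ ≠ 1 := fun h => ha1 (by rw [← inv_inv a, h, inv_one])
  have h10 : (1 : F) ≠ 0 := one_ne_zero
  obtain ⟨d, hd⟩ := exists_dg a 1 ha0 h10
  obtain ⟨d', hd'⟩ := exists_dg 1 a h10 ha0
  fin_cases r
  · exact ein_of_conj d 0 ((a * 1)⁻¹) (by rw [mul_one]; exact hinv)
      (ein_conj0 d a 1 ha0 h10 hd) t
  · exact ein_of_conj d 1 (a⁻¹) hinv (ein_conj1 d a 1 ha0 h10 hd) t
  · exact ein_of_conj d' 2 (a⁻¹) hinv (ein_conj2 d' 1 a h10 ha0 hd') t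
  · exact ein_of_conj d 3 (1 * a⁻¹) (by rw [one_mul]; exact hinv)
      (ein_conj3 d a 1 ha0 h10 hd) t
  · exact ein_of_conj d 4 (a * 1⁻¹) (by rw [inv_one, mul_one]; exact ha1)
      (ein_conj4 d a 1 ha0 h10 hd) t
  · exact ein_of_conj d' 5 a ha1 (ein_conj5 d' 1 a h10 ha0 hd') t
  · exact ein_of_conj d 6 a ha1 (ein_conj6 d a 1 ha0 h10 hd) t
  · exact ein_of_conj d 7 (a * 1) (by rw [mul_one]; exact ha1)
      (ein_conj7 d a 1 ha0 h10 hd) t

end Cfsg.Agent.Lib.Helper37.B2O5
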