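import Mathlib
import Cfsg.Agent.Lib.Helper37.FusDefs

/-!
# FUSC-A7 : the Gram determinants of `ε s_i w₁` and `ε s_i (y w₁)` differ by a norm
-/

set_option autoImplicit false

namespace Cfsg.Agent.Lib.Helper37.Fus

open Polynomial

universe u v

variable {F : Type u} [Field F]

section partA

variable {W : Type v} [AddCommGroup W] [Module F W]

section field

variable {L : Type u} [Field L] [Algebra F L]

/-- FUSC-A7 : the Gram determinants of `ε s_i w₁` and of `ε s_i (y w₁)`, `y = ρ s + ε ρ t`, differ by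
the norm of `s² - δ t²` (`δ = θ² - 4`, `ρ δ = ε²`). -/
theorem fusC_gram_rel [FiniteDimensional F L] (β : LinearMap.BilinForm F W)
    (hs : ∀ u v, β u v = β v u)
    (α α' : W →ₗ[F] W) (hα : ∀ u v, β (α u) (α v) = β u v) (hαα' : α * α' = 1) (hα'α : α' * α = 1)
    (ρ : L →ₐ[F] Module.End F W) (θ : L) (hθ : ρ θ = α + α') (hρα : ∀ s : L, ρ s * α = α * ρ s)
    (hρsa : ∀ (s : L) (u v : W), β (ρ s u) v = β u (ρ s v))
    {k : ℕ} (sb : Module.Basis (Fin k) F L) (w₁ : W) (s t : L) :
    (Matrix.of fun i j : Fin k =>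
        β ((α - α') (ρ (sb i) ((ρ s + (α - α') * ρ t) w₁)))
          ((α - α') (ρ (sb j) ((ρ s + (α - α') * ρ t) w₁)))).det =
      (Matrix.of fun i j : Fin k =>
        β ((α - α') (ρ (sb i) w₁)) ((α - α') (ρ (sb j) w₁))).det *
        Algebra.norm F (s ^ 2 - (θ ^ 2 - 4) * t ^ 2) := by
  classical
  set E : W →ₗ[F] W := α - α' with hEdef
  -- commutation
  have hα'pt : ∀ w, α (α' w) = w := fun w => by
    have := LinearMap.congr_fun hαα' w
    simpa using this
  have hαpt : ∀ w, α' (α w) = w := fun w => by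
    have := LinearMap.congr_fun hα'α w
    simpa using this
  have cρα : ∀ x : L, Commute (ρ x) α := fun x => hρα x
  have cρα' : ∀ x : L, Commute (ρ x) α' := by
    intro x
    show ρ x * α' = α' * ρ x
    calc ρ x * α' = (α' * α) * (ρ x * α') := by rw [hα'α, one_mul]
      _ = α' * (α * ρ x) * α' := by simp only [mul_assoc]
      _ = α' * (ρ x * α) * α' := by rw [(cρα x).eq]
      _ = α' * ρ x * (α * α') := by simp only [mul_assoc]
      _ = α' * ρ x := by rw [hαα', mul_one]
  have cρE : ∀ x : L, Commute (ρ x) E := fun x => (cρα x).sub_right (cρα' x)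
  have cρρ : ∀ x x' : L, Commute (ρ x) (ρ x') := by
    intro x x'
    show ρ x * ρ x' = ρ x' * ρ x
    rw [← map_mul, ← map_mul, mul_comm]
  -- `ρ (θ² - 4) = ε²`
  set δ : L := θ ^ 2 - 4 with hδdef
  have hδ : ρ δ = E * E := by
    rw [hδdef, map_sub, map_pow, hθ, map_ofNat, hEdef]
    have e1 : (α + α') ^ 2 = α * α + α' * α' + (1 + 1) := by
      rw [pow_two, mul_add, add_mul, add_mul, hαα', hα'α]
      abel
    have e2 : (α - α') * (α - α') = α * α + α' * α' - (1 + 1) := by
      rw [mul_sub, sub_mul, sub_mul, hαα', hα'α]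
      abel
    have h4 : (4 : Module.End F W) = (1 + 1) + (1 + 1) := by norm_num
    rw [e1, e2, h4]
    abel
  set nn : L := s ^ 2 - δ * t ^ 2 with hnndef
  set y : W →ₗ[F] W := ρ s + E * ρ t with hydef
  set yb : W →ₗ[F] W := ρ s - E * ρ t with hybdef
  -- adjoints
  have hα'iso : ∀ u v, β (α' u) (α' v) = β u v := by
    intro u v
    rw [← hα (α' u) (α' v), hα'pt, hα'pt]
  have hEadj : ∀ u v, β (E u) v = - β u (E v) := by
    intro u v
    have h1 : β (α u) v = β u (α' v) := by
      rw [← hα u (α' v), hα'pt]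
    have h3 : β (α' u) v = β u (α v) := by
      rw [← hα'iso u (α v), hαpt]
    show β (α u - α' u) v = - β u (α v - α' v)
    rw [map_sub, LinearMap.sub_apply, map_sub, h1, h3]
    ring
  have hyadj : ∀ u v, β (y u) v = β u (yb v) := by
    intro u v
    show β (ρ s u + E (ρ t u)) v = β u (ρ s v - E (ρ t v))
    rw [map_add, LinearMap.add_apply, map_sub, hρsa, hEadj, hρsa]
    have : ρ t (E v) = E (ρ t v) := by
      rw [← Module.End.mul_apply, ← Module.End.mul_apply, (cρE t).eq]
    rw [this]
    ring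
  have hyby : yb * y = ρ nn := by
    have c1 : Commute (ρ s) (E * ρ t) := (cρE s).mul_right (cρρ s t)
    have c2 : Commute (ρ s - E * ρ t) (ρ s + E * ρ t) :=
      (((cρρ s s).sub_left ((cρE s).symm.mul_left (cρρ t s))).add_right
        ((((cρE s).mul_right (cρρ s t))).sub_left (Commute.refl (E * ρ t))))
    rw [hybdef, hydef, c2.eq, ← c1.mul_self_sub_mul_self_eq, hnndef, map_sub, map_mul, map_pow,
      map_pow, hδ, pow_two, pow_two]
    congr 1
    exact Commute.mul_mul_mul_comm (cρE t) E (ρ t)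
  -- the vectors
  set e : Fin k → W := fun i => E (ρ (sb i) w₁) with hedef
  have hye : ∀ i, E (ρ (sb i) (y w₁)) = y (e i) := by
    intro i
    have c3 : Commute (E * ρ (sb i)) y := by
      have cEy : Commute E y :=
        ((cρE s).symm).add_right ((Commute.refl E).mul_right (cρE t).symm)
      have cρy : Commute (ρ (sb i)) y :=
        (cρρ _ s).add_right ((cρE _).mul_right (cρρ _ t))
      exact cEy.mul_left cρy
    show (E * ρ (sb i) * y) w₁ = (y * (E * ρ (sb i))) w₁
    rw [← c3.eq, mul_assoc]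
  -- the matrix of multiplication by `nn`
  set M : Matrix (Fin k) (Fin k) F := Algebra.leftMulMatrix sb nn with hMdef
  have hnne : ∀ j, ρ nn (e j) = ∑ l, M l j • e l := by
    intro j
    have h1 : nn * sb j = ∑ l, M l j • sb l := by
      conv_lhs => rw [← sb.sum_repr (nn * sb j)]
      apply Finset.sum_congr _root_.rfl
      intro l _
      rw [hMdef, Algebra.leftMulMatrix_eq_repr_mul]
    have h3 : E (ρ (nn * sb j) w₁) = ∑ l, M l j • e l := by
      rw [h1, map_sum, LinearMap.sum_apply, map_sum]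
      apply Finset.sum_congr _root_.rfl
      intro l _
      rw [map_smul, LinearMap.smul_apply, map_smul]
    rw [← h3, map_mul]
    show (ρ nn * (E * ρ (sb j))) w₁ = (E * (ρ nn * ρ (sb j))) w₁
    rw [← mul_assoc, (cρE nn).eq, mul_assoc]
  have hmat : (Matrix.of fun i j : Fin k => β (E (ρ (sb i) (y w₁))) (E (ρ (sb j) (y w₁)))) =
      (Matrix.of fun i j : Fin k => β (e i) (e j)) * M := by
    ext i j
    rw [Matrix.of_apply, Matrix.mul_apply, hye, hye, hyadj]
    have : yb (y (e j)) = ρ nn (e j) := by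
      rw [← Module.End.mul_apply, hyby]
    rw [this, hnne, map_sum]
    apply Finset.sum_congr _root_.rfl
    intro l _
    rw [map_smul, Matrix.of_apply, smul_eq_mul, mul_comm]
  rw [hmat, Matrix.det_mul, Algebra.norm_eq_matrix_det sb nn]

end field

end partA

end Cfsg.Agent.Lib.Helper37.Fus
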