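import Mathlib
import Cfsg.Agent.Lib.Helper37.FusDefs
import Cfsg.Agent.Lib.Helper45.FusCA2
import Cfsg.Agent.Lib.Helper35.FusCA5
import Cfsg.Agent.Lib.Helper95.FusCA1
import Cfsg.Agent.Lib.Helper95.FusCA6
import Cfsg.Agent.Lib.Helper61.FusCA7

/-!
# FUS-C : assembly of the block lemma, given the field `L`
-/

set_option autoImplicit false

namespace Cfsg.Agent.Lib.Helper37.Fus

open Polynomial

universe u v

variable {F : Type u} [Field F]

/-- an operator commuting with `α` commutes with every polynomial in `α` -/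
theorem fusCAsm_commute_aeval {W : Type v} [AddCommGroup W] [Module F W] (y α : W →ₗ[F] W)
    (h : y * α = α * y) (f : F[X]) : y * aeval α f = aeval α f * y := by
  induction f using Polynomial.induction_on' with
  | add p q hp hq => rw [map_add, mul_add, add_mul, hp, hq]
  | monomial k c =>
    rw [aeval_monomial]
    exact (Commute.mul_right (Algebra.commute_algebraMap_right c y)
      ((show Commute y α from h).pow_right k)).eq

/-- the linear map `x ↦ ε (ρ x w')` -/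
noncomputable def fusCAsm_phi {W : Type v} [AddCommGroup W] [Module F W] {L : Type u} [Field L]
    [Algebra F L] (ρ : L →ₐ[F] Module.End F W) (E : W →ₗ[F] W) (w' : W) : L →ₗ[F] W :=
  E ∘ₗ (LinearMap.applyₗ w' : (W →ₗ[F] W) →ₗ[F] W) ∘ₗ ρ.toLinearMap

theorem fusCAsm_phi_apply {W : Type v} [AddCommGroup W] [Module F W] {L : Type u} [Field L]
    [Algebra F L] (ρ : L →ₐ[F] Module.End F W) (E : W →ₗ[F] W) (w' : W) (x : L) :
    fusCAsm_phi ρ E w' x = E (ρ x w') := by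
  simp [fusCAsm_phi]

/-- ASSEMBLY : the block lemma, given the field `L`. -/
theorem fusC_block_field [Fintype F] {W : Type v} [AddCommGroup W] [Module F W] [FiniteDimensional F W]
    [Nontrivial W] (h2 : (2 : F) ≠ 0)
    (β : LinearMap.BilinForm F W) (hs : ∀ u v, β u v = β v u) (hnd : ∀ u, (∀ v, β u v = 0) → u = 0)
    (α : W →ₗ[F] W) (hα : ∀ u v, β (α u) (α v) = β u v) (n : ℕ) (hodd : Odd n) (hαn : α ^ n = 1)
    (hfix : ∀ w, α w = w → w = 0) (w₁ : W) (hcyc : ∀ w, ∃ f : F[X], w = aeval α f w₁)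
    {L : Type u} [Field L] [Algebra F L] [Finite L] (ρ : L →ₐ[F] Module.End F W) (θ : L)
    (hθ : ρ θ = α + α ^ (n - 1)) (hgen : ∀ s : L, ∃ g : F[X], s = aeval θ g)
    (hρα : ∀ s : L, ρ s * α = α * ρ s) (hρsa : ∀ (s : L) (u v : W), β (ρ s u) v = β u (ρ s v)) :
    ∃ ws : List W, (∀ w ∈ ws, β w w ≠ 0) ∧ Even ws.length ∧
      ¬ IsSquare (ws.map (fun w => β w w)).prod ∧
      (ws.map (rfl β)).prod * α = α * (ws.map (rfl β)).prod := by
  classical
  have hn1 : 1 ≤ n := hodd.pos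
  set α' : W →ₗ[F] W := α ^ (n - 1) with hα'def
  have hαα' : α * α' = 1 := by
    rw [hα'def, ← pow_succ', Nat.sub_add_cancel hn1, hαn]
  have hα'α : α' * α = 1 := by
    rw [hα'def, ← pow_succ, Nat.sub_add_cancel hn1, hαn]
  -- `ε` is injective
  have hε : ∀ w, α w = α' w → w = 0 := by
    intro w hw
    apply hfix
    have h1 : α (α w) = w := by
      rw [hw]
      have := LinearMap.congr_fun hαα' w
      simpa using this
    have h3 : ∀ m : ℕ, (α ^ (2 * m)) w = w := by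
      intro m
      induction m with
      | zero => simp
      | succ m ih =>
        rw [Nat.mul_succ, pow_add, Module.End.mul_apply, pow_two, Module.End.mul_apply, h1, ih]
    obtain ⟨m, hm⟩ := hodd
    have h4 : (α ^ n) w = w := by rw [hαn]; rfl
    rw [hm, pow_succ, Module.End.mul_apply] at h4
    have h5 := h3 m
    -- α^(2m) (α w) = w, and α^(2m) w = w
    have h6 : (α ^ (2 * m)) (α w) = α ((α ^ (2 * m)) w) := by
      rw [← Module.End.mul_apply, ← Module.End.mul_apply, ← pow_succ, ← pow_succ']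
    rw [h6, h5] at h4
    exact h4
  set E : W →ₗ[F] W := α - α' with hEdef
  have hEinj : ∀ w, E w = 0 → w = 0 := by
    intro w hw
    apply hε
    have : α w - α' w = 0 := hw
    exact sub_eq_zero.1 this
  -- commutation
  have cρα : ∀ x : L, Commute (ρ x) α := fun x => hρα x
  have cρα' : ∀ x : L, Commute (ρ x) α' := fun x => (cρα x).pow_right _
  have cρE : ∀ x : L, Commute (ρ x) E := fun x => (cρα x).sub_right (cρα' x)
  have cρρ : ∀ x x' : L, Commute (ρ x) (ρ x') := by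
    intro x x'
    show ρ x * ρ x' = ρ x' * ρ x
    rw [← map_mul, ← map_mul, mul_comm]
  have cαα' : Commute α α' := (Commute.refl α).pow_right _
  have cEα : Commute E α := (Commute.refl α).sub_left cαα'.symm
  -- `δ`
  set δ : L := θ ^ 2 - 4 with hδdef
  have hδ : ρ δ = E * E := by
    rw [hδdef, map_sub, map_pow, hθ, map_ofNat, hEdef]
    have e1 : (α + α') ^ 2 = α * α + α' * α' + (1 + 1) := by
      rw [pow_two, mul_add, add_mul, add_mul, hαα', hα'α]
      abel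
    have e2 : (α - α') * (α - α') = α * α + α' * α' - (1 + 1) := by
      rw [mul_sub, sub_mul, sub_mul, hαα', hα'α]
      abel
    have h4 : (4 : Module.End F W) = (1 + 1) + (1 + 1) := by norm_num
    rw [e1, e2, h4]
    abel
  have hδ0 : δ ≠ 0 := by
    intro h0
    obtain ⟨w, hw⟩ := exists_ne (0 : W)
    apply hw
    apply hEinj
    apply hEinj
    have : (E * E) w = 0 := by rw [← hδ, h0, map_zero]; rfl
    exact this
  obtain ⟨s, t, hnn0, hnsq⟩ := fusC_exists_norm_nonsquare (F := F) h2 δ hδ0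
  set nn : L := s ^ 2 - δ * t ^ 2 with hnndef
  set y : W →ₗ[F] W := ρ s + E * ρ t with hydef
  set y' : W →ₗ[F] W := (ρ s - E * ρ t) * ρ nn⁻¹ with hy'def
  have cyα : Commute y α := (cρα s).add_left (cEα.mul_left (cρα t))
  have hyy : (ρ s + E * ρ t) * (ρ s - E * ρ t) = ρ nn := by
    have c1 : Commute (ρ s) (E * ρ t) := (cρE s).mul_right (cρρ s t)
    rw [← c1.mul_self_sub_mul_self_eq, hnndef, map_sub, map_mul, map_pow, map_pow, hδ, pow_two, pow_two]
    congr 1
    exact Commute.mul_mul_mul_comm (cρE t) E (ρ t)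
  have hyy' : y * y' = 1 := by
    rw [hydef, hy'def, ← mul_assoc, hyy, ← map_mul, mul_inv_cancel₀ hnn0, map_one]
  have hy'y : y' * y = 1 := by
    have c1 : Commute (ρ s - E * ρ t) (ρ s + E * ρ t) :=
      (((cρρ s s).sub_left ((cρE s).symm.mul_left (cρρ t s))).add_right
        ((((cρE s).mul_right (cρρ s t))).sub_left
          (Commute.refl (E * ρ t))))
    have c2 : Commute (ρ nn⁻¹) (ρ s + E * ρ t) :=
      (cρρ _ s).add_right ((cρE _).mul_right (cρρ _ t))
    rw [hydef, hy'def, mul_assoc, c2.eq, ← mul_assoc, c1.eq, hyy, ← map_mul, mul_inv_cancel₀ hnn0,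
      map_one]
  -- the second cyclic vector
  set w₂ : W := y w₁ with hw₂def
  have hcyc₂ : ∀ w, ∃ f : F[X], w = aeval α f w₂ := by
    intro w
    obtain ⟨f, hf⟩ := hcyc (y' w)
    refine ⟨f, ?_⟩
    have h1 : w = y (y' w) := by
      have := LinearMap.congr_fun hyy' w
      simpa using this.symm
    rw [h1, hf, hw₂def, ← Module.End.mul_apply, ← Module.End.mul_apply,
      fusCAsm_commute_aeval y α cyα.eq f]
  -- cyclic for `α'`
  have hαpow : α = α' ^ (n - 1) := by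
    have h1 : α' ^ (n - 1) * α ^ (n - 1) = 1 := by
      rw [← cαα'.symm.mul_pow, hα'α, one_pow]
    calc α = 1 * α := (one_mul _).symm
      _ = α' ^ (n - 1) * α ^ (n - 1) * α := by rw [h1]
      _ = α' ^ (n - 1) * α ^ n := by rw [mul_assoc, ← pow_succ, Nat.sub_add_cancel hn1]
      _ = α' ^ (n - 1) := by rw [hαn, mul_one]
  have hcyc'_of : ∀ w' : W, (∀ w, ∃ f : F[X], w = aeval α f w') →
      ∀ w, ∃ f : F[X], w = aeval α' f w' := by
    intro w' h w
    obtain ⟨f, hf⟩ := h w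
    refine ⟨f.comp (X ^ (n - 1)), ?_⟩
    rw [aeval_comp, aeval_X_pow, ← hαpow]
    exact hf
  obtain ⟨σ₁, hσ₁w, hσ₁2, hσ₁iso, hσ₁α⟩ :=
    fusC_sigma β hs hnd α α' hα hαα' hα'α w₁ hcyc (hcyc'_of w₁ hcyc)
  obtain ⟨σ₂, hσ₂w, hσ₂2, hσ₂iso, hσ₂α⟩ :=
    fusC_sigma β hs hnd α α' hα hαα' hα'α w₂ hcyc₂ (hcyc'_of w₂ hcyc₂)
  obtain ⟨hker₁, hinj₁⟩ := fusC_ker_sigma h2 α α' hαα' hα'α hε ρ θ hθ hgen hρα w₁ hcyc σ₁ hσ₁w hσ₁2 hσ₁α
  obtain ⟨hker₂, hinj₂⟩ := fusC_ker_sigma h2 α α' hαα' hα'α hε ρ θ hθ hgen hρα w₂ hcyc₂ σ₂ hσ₂w hσ₂2 hσ₂α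
  -- the bases of the two `-1`-eigenspaces
  have : Module.Finite F L := Module.Finite.of_finite
  set k : ℕ := Module.finrank F L with hkdef
  let sb : Module.Basis (Fin k) F L := Module.finBasis F L
  have hφ : ∀ w' : W, (∀ x : L, E (ρ x w') = 0 → x = 0) →
      LinearIndependent F (fun i : Fin k => E (ρ (sb i) w')) := by
    intro w' hinj
    have h1 : LinearMap.ker (fusCAsm_phi ρ E w') = ⊥ := by
      rw [LinearMap.ker_eq_bot']
      intro x hx
      rw [fusCAsm_phi_apply] at hx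
      exact hinj x hx
    have h3 := sb.linearIndependent.map' (fusCAsm_phi ρ E w') h1
    have h4 : (⇑(fusCAsm_phi ρ E w') ∘ ⇑sb) = fun i : Fin k => E (ρ (sb i) w') := by
      funext i
      simp [fusCAsm_phi_apply]
    rw [h4] at h3
    exact h3
  have hspan : ∀ (w' w : W), (∃ x : L, w = E (ρ x w')) ↔
      w ∈ Submodule.span F (Set.range (fun i : Fin k => E (ρ (sb i) w'))) := by
    intro w' w
    have h4 : (fun i : Fin k => E (ρ (sb i) w')) = (⇑(fusCAsm_phi ρ E w') ∘ ⇑sb) := by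
      funext i
      simp [fusCAsm_phi_apply]
    rw [h4, Set.range_comp, ← Submodule.map_span, sb.span_eq, Submodule.map_top, LinearMap.mem_range]
    constructor
    · rintro ⟨x, hx⟩
      exact ⟨x, by rw [fusCAsm_phi_apply, hx]⟩
    · rintro ⟨x, hx⟩
      exact ⟨x, by rw [← hx, fusCAsm_phi_apply]⟩
  obtain ⟨os₁, hlen₁, han₁, hprod₁, d₁, hd₁, hdisc₁⟩ :=
    fusC_invol_refl h2 β hs hnd σ₁ hσ₁2 hσ₁iso (fun i : Fin k => E (ρ (sb i) w₁)) (hφ w₁ hinj₁)
      (fun w => (hker₁ w).trans (hspan w₁ w))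
  obtain ⟨os₂, hlen₂, han₂, hprod₂, d₂, hd₂, hdisc₂⟩ :=
    fusC_invol_refl h2 β hs hnd σ₂ hσ₂2 hσ₂iso (fun i : Fin k => E (ρ (sb i) w₂)) (hφ w₂ hinj₂)
      (fun w => (hker₂ w).trans (hspan w₂ w))
  have hrel := fusC_gram_rel β hs α α' hα hαα' hα'α ρ θ hθ hρα hρsa sb w₁ s t
  set G₁ : F := (Matrix.of fun i j : Fin k => β (E (ρ (sb i) w₁)) (E (ρ (sb j) w₁))).det with hG₁
  set G₂ : F := (Matrix.of fun i j : Fin k => β (E (ρ (sb i) w₂)) (E (ρ (sb j) w₂))).det with hG₂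
  have hrel' : G₂ = G₁ * Algebra.norm F nn := hrel
  have hdisc₁' : (os₁.map (fun o => β o o)).prod = d₁ ^ 2 * G₁ := hdisc₁
  have hdisc₂' : (os₂.map (fun o => β o o)).prod = d₂ ^ 2 * G₂ := hdisc₂
  have hP₁ : (os₁.map (fun o => β o o)).prod ≠ 0 := by
    apply List.prod_ne_zero
    intro h0
    obtain ⟨o, ho, ho0⟩ := List.mem_map.1 h0
    exact han₁ o ho ho0
  have hG₁0 : G₁ ≠ 0 := by
    intro h0
    apply hP₁
    rw [hdisc₁', h0, mul_zero]
  have hσ₂α' : σ₂ * α' = α * σ₂ := by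
    calc σ₂ * α' = σ₂ * α' * (σ₂ * σ₂) := by rw [hσ₂2, mul_one]
      _ = σ₂ * (α' * σ₂) * σ₂ := by simp only [mul_assoc]
      _ = σ₂ * (σ₂ * α) * σ₂ := by rw [hσ₂α]
      _ = (σ₂ * σ₂) * α * σ₂ := by simp only [mul_assoc]
      _ = α * σ₂ := by rw [hσ₂2, one_mul]
  refine ⟨os₂ ++ os₁, ?_, ?_, ?_, ?_⟩
  · intro w hw
    rcases List.mem_append.1 hw with h | h
    · exact han₂ w h
    · exact han₁ w h
  · rw [List.length_append, hlen₁, hlen₂]
    exact ⟨k, _root_.rfl⟩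
  · rw [List.map_append, List.prod_append, hdisc₁', hdisc₂', hrel']
    rintro ⟨r, hr⟩
    apply hnsq
    refine ⟨r / (d₂ * d₁ * G₁), ?_⟩
    field_simp
    linear_combination hr
  · rw [List.map_append, List.prod_append, hprod₁, hprod₂]
    calc σ₂ * σ₁ * α = σ₂ * (σ₁ * α) := mul_assoc _ _ _
      _ = σ₂ * (α' * σ₁) := by rw [hσ₁α]
      _ = (σ₂ * α') * σ₁ := (mul_assoc _ _ _).symm
      _ = α * σ₂ * σ₁ := by rw [hσ₂α']
      _ = α * (σ₂ * σ₁) := mul_assoc _ _ _

end Cfsg.Agent.Lib.Helper37.Fus
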