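import Mathlib
import Cfsg.Agent.Lib.Helper37.FusDefs
import Cfsg.Agent.Lib.Helper61.FusCAsm1
import Cfsg.Agent.Lib.Helper95.FusCL

/-!
# FUS-C : assembly of the block lemma and of `exists_refl_prod_commute`
-/

set_option autoImplicit false

namespace Cfsg.Agent.Lib.Helper37.Fus

open Polynomial

universe u v

section block

variable {F : Type u} [Field F]

/-- ASSEMBLY : the block lemma. -/
theorem fusC_block [Fintype F] {W : Type v} [AddCommGroup W] [Module F W] [FiniteDimensional F W]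
    (h2 : (2 : F) ≠ 0)
    (β : LinearMap.BilinForm F W) (hs : ∀ u v, β u v = β v u) (hnd : ∀ u, (∀ v, β u v = 0) → u = 0)
    (α : W →ₗ[F] W) (hα : ∀ u v, β (α u) (α v) = β u v) (n : ℕ) (hodd : Odd n) (hαn : α ^ n = 1)
    (hfix : ∀ w, α w = w → w = 0) (w₁ : W) (hw₁ : β w₁ w₁ ≠ 0)
    (hcyc : ∀ w, ∃ f : F[X], w = aeval α f w₁)
    (hdich : ∀ f : F[X], (∀ u v, β (aeval α f u) v = β u (aeval α f v)) →
      aeval α f = 0 ∨ ∀ w, aeval α f w = 0 → w = 0) :
    ∃ ws : List W, (∀ w ∈ ws, β w w ≠ 0) ∧ Even ws.length ∧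
      ¬ IsSquare (ws.map (fun w => β w w)).prod ∧
      (ws.map (rfl β)).prod * α = α * (ws.map (rfl β)).prod := by
  have hw₁0 : w₁ ≠ 0 := by
    rintro h
    rw [h] at hw₁
    simp at hw₁
  have : Nontrivial W := ⟨⟨w₁, 0, hw₁0⟩⟩
  have hn1 : 1 ≤ n := hodd.pos
  have hαα' : α * α ^ (n - 1) = 1 := by
    rw [← pow_succ', Nat.sub_add_cancel hn1, hαn]
  have hα'α : α ^ (n - 1) * α = 1 := by
    rw [← pow_succ, Nat.sub_add_cancel hn1, hαn]
  obtain ⟨L, instF, instA, instFin, ρ, θ, hθ, hgen, hρα, hρsa⟩ :=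
    fusC_exists_field β hs α (α ^ (n - 1)) hα hαα' hα'α (n - 1) _root_.rfl hdich
  exact fusC_block_field h2 β hs hnd α hα n hodd hαn hfix w₁ hcyc ρ θ hθ hgen hρα hρsa

/-- polynomials in a restricted endomorphism -/
theorem fusCAsm_aeval_restrict {V : Type v} [AddCommGroup V] [Module F V] (a : V →ₗ[F] V)
    (W : Submodule F V) (hWa : ∀ w ∈ W, a w ∈ W) (f : F[X]) (w : W) :
    ((aeval (a.restrict hWa) f w : W) : V) = aeval a f (w : V) := by
  have hpow : ∀ (k : ℕ) (w : W), (((a.restrict hWa) ^ k) w : V) = (a ^ k) (w : V) := by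
    intro k
    induction k with
    | zero => intro w; simp
    | succ k ih =>
      intro w
      rw [pow_succ, pow_succ, Module.End.mul_apply, Module.End.mul_apply, ih]
      rfl
  induction f using Polynomial.induction_on' with
  | add p q hp hq =>
    rw [map_add, map_add, LinearMap.add_apply, LinearMap.add_apply, Submodule.coe_add, hp, hq]
  | monomial k c =>
    rw [aeval_monomial, aeval_monomial, Module.End.mul_apply, Module.End.mul_apply,
      Module.algebraMap_end_apply, Module.algebraMap_end_apply, Submodule.coe_smul, hpow]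

end block

end Cfsg.Agent.Lib.Helper37.Fus
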