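import Mathlib
import Cfsg.Agent.Lib.Helper37.FusDefs
import Cfsg.Agent.Lib.Helper61.FusCAsm2
import Cfsg.Agent.Lib.Helper72.FusCB0
import Cfsg.Agent.Lib.Helper72.FusCB2
import Cfsg.Agent.Lib.Helper55.FusCEXT

/-!
# FUS-C : `exists_refl_prod_commute` (S2720 / S2721 hive of helper37)
-/

set_option autoImplicit false

namespace Cfsg.Agent.Lib.Helper37.Fus

open Polynomial

variable {F : Type*} [Field F] {V : Type*} [AddCommGroup V] [Module F V]

/-- FUS-C -/
theorem exists_refl_prod_commute [Fintype F] [FiniteDimensional F V] (h2 : (2 : F) ≠ 0)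
    (B : LinearMap.BilinForm F V)
    (hs : ∀ u v, B u v = B v u) (hnd : ∀ u, (∀ v, B u v = 0) → u = 0)
    (a : V →ₗ[F] V) (ha : ∀ u v, B (a u) (a v) = B u v) (n : ℕ) (hodd : Odd n)
    (hnF : (n : F) ≠ 0) (han : a ^ n = 1) (ha1 : a ≠ 1) :
    ∃ vs : List V, (∀ v ∈ vs, B v v ≠ 0) ∧ Even vs.length ∧
      ¬ IsSquare (vs.map (fun v => B v v)).prod ∧
      (vs.map (rfl B)).prod * a = a * (vs.map (rfl B)).prod := by
  obtain ⟨W, hW0, hWa, hWnd, hWfix, hmin⟩ := fusC_exists_block B hs hnd a ha n hnF han ha1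
  obtain ⟨w₁, hw₁W, hw₁, hcycV⟩ := fusC_cyclic h2 B hs a ha n hnF han W hW0 hWa hWnd hmin
  set β : LinearMap.BilinForm F W := B.restrict W with hβdef
  set α : W →ₗ[F] W := a.restrict hWa with hαdef
  have hβ : ∀ u v : W, β u v = B (u : V) (v : V) := fun u v => _root_.rfl
  have hαv : ∀ w : W, ((α w : W) : V) = a (w : V) := fun w => _root_.rfl
  have hs' : ∀ u v : W, β u v = β v u := fun u v => hs _ _
  have hnd' : ∀ u : W, (∀ v : W, β u v = 0) → u = 0 := by
    intro u hu
    apply Subtype.ext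
    exact hWnd u.1 u.2 (fun v hv => hu ⟨v, hv⟩)
  have hα : ∀ u v : W, β (α u) (α v) = β u v := fun u v => ha _ _
  have hK : ∀ (f : F[X]) (w : W), ((aeval α f w : W) : V) = aeval a f (w : V) :=
    fun f w => fusCAsm_aeval_restrict a W hWa f w
  have hαn : α ^ n = 1 := by
    apply LinearMap.ext
    intro w
    apply Subtype.ext
    have h1 := hK (X ^ n) w
    rw [aeval_X_pow, aeval_X_pow, han] at h1
    rw [h1]
    rfl
  have hfix' : ∀ w : W, α w = w → w = 0 := by
    intro w hw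
    apply Subtype.ext
    apply hWfix w.1 w.2
    have := congrArg Subtype.val hw
    exact this
  have hcyc' : ∀ w : W, ∃ f : F[X], w = aeval α f ⟨w₁, hw₁W⟩ := by
    intro w
    obtain ⟨f, hf⟩ := hcycV w.1 w.2
    refine ⟨f, ?_⟩
    apply Subtype.ext
    rw [hK]
    exact hf
  have hdich' : ∀ f : F[X], (∀ u v : W, β (aeval α f u) v = β u (aeval α f v)) →
      aeval α f = 0 ∨ ∀ w : W, aeval α f w = 0 → w = 0 := by
    intro f hf
    have hfV : ∀ u ∈ W, ∀ v ∈ W, B (aeval a f u) v = B u (aeval a f v) := by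
      intro u hu v hv
      have := hf ⟨u, hu⟩ ⟨v, hv⟩
      rw [hβ, hβ, hK, hK] at this
      exact this
    rcases fusC_dichotomy B hs a ha n hnF han W hWa hWnd hmin f hfV with h | h
    · left
      apply LinearMap.ext
      intro w
      apply Subtype.ext
      rw [hK]
      exact h w.1 w.2
    · right
      intro w hw
      apply Subtype.ext
      apply h w.1 w.2
      rw [← hK, hw]
      rfl
  obtain ⟨ws, hws, hlen, hnsq, hcomm⟩ :=
    fusC_block h2 β hs' hnd' α hα n hodd hαn hfix' ⟨w₁, hw₁W⟩ hw₁ hcyc' hdich'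
  refine ⟨ws.map Subtype.val, ?_, ?_, ?_, ?_⟩
  · intro v hv
    obtain ⟨w, hw, rfl⟩ := List.mem_map.1 hv
    exact hws w hw
  · rw [List.length_map]
    exact hlen
  · rw [List.map_map]
    exact hnsq
  · rw [List.map_map]
    exact fusC_extend B hs hnd a ha W hWa hWnd ws hcomm

end Cfsg.Agent.Lib.Helper37.Fus
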