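import Mathlib
import Cfsg.Agent.Lib.Helper37.MBalDefs

/-!
# S2733 hive, leaf MB-G1C: `cent_invol`

A semilinear semi-similarity commuting with the part of the centralizer of an isometry involution
`t` inside `Omega` is a scalar multiple of `1` or of `t`.
-/

set_option autoImplicit false
set_option linter.unusedSimpArgs false
set_option linter.style.haveILetI false

namespace Cfsg.Agent.Lib.Helper37.MBal

open LinearMap (BilinForm)
open Module Polynomial

universe u v

variable {K : Type u} [Field K] {V : Type v} [AddCommGroup V] [Module K V]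

/-- universality of nondegenerate binary forms over a finite field of odd characteristic -/
theorem g1c_univ [Finite K] (h2 : (2 : K) ≠ 0) {b1 b2 : K} (hb1 : b1 ≠ 0) (hb2 : b2 ≠ 0) (a : K) :
    ∃ x y : K, b1 * x ^ 2 + b2 * y ^ 2 = a := by
  classical
  haveI := Fintype.ofFinite K
  have hodd : Fintype.card K % 2 = 1 := by
    apply FiniteField.odd_card_of_char_ne_two
    intro h
    apply h2
    have := ringChar.Nat.cast_ringChar (R := K)
    rw [h] at this
    exact_mod_cast this
  have hf2 : degree (C b1 * X ^ 2 : K[X]) = 2 := degree_C_mul_X_pow 2 hb1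
  have hg2 : degree (C b2 * X ^ 2 + C (-a) : K[X]) = 2 := by
    rw [degree_add_C]
    · exact degree_C_mul_X_pow 2 hb2
    · rw [degree_C_mul_X_pow 2 hb2]; norm_num
  obtain ⟨α, β, h⟩ := FiniteField.exists_root_sum_quadratic hf2 hg2 hodd
  simp only [eval_mul, eval_C, eval_pow, eval_X, eval_add] at h
  exact ⟨α, β, by linear_combination h⟩

/-- two orthogonal vectors of prescribed norm in a submodule containing three pairwise orthogonal
nonsingular vectors -/
theorem g1c_pair [Finite K] (h2 : (2 : K) ≠ 0) {B : BilinForm K V} (hs : B.IsSymm)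
    (Z : Submodule K V) {z1 z2 z3 : V} (h1 : z1 ∈ Z) (h2' : z2 ∈ Z) (h3 : z3 ∈ Z)
    (h12 : B z1 z2 = 0) (h13 : B z1 z3 = 0) (h23 : B z2 z3 = 0)
    (n1 : B z1 z1 ≠ 0) (n2 : B z2 z2 ≠ 0) (n3 : B z3 z3 ≠ 0) {a : K} (ha : a ≠ 0) :
    ∃ w1 ∈ Z, ∃ w2 ∈ Z, B w1 w1 = a ∧ B w2 w2 = a ∧ B w1 w2 = 0 := by
  have h21 : B z2 z1 = 0 := by rw [hs.eq z2 z1]; exact h12
  have h31 : B z3 z1 = 0 := by rw [hs.eq z3 z1]; exact h13
  have h32 : B z3 z2 = 0 := by rw [hs.eq z3 z2]; exact h23
  obtain ⟨x, y, hxy⟩ := g1c_univ h2 n1 n2 a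
  have hn : B z1 z1 * B z2 z2 * a ≠ 0 := mul_ne_zero (mul_ne_zero n1 n2) ha
  obtain ⟨x', y', hxy'⟩ := g1c_univ h2 hn n3 a
  refine ⟨x • z1 + y • z2, Z.add_mem (Z.smul_mem _ h1) (Z.smul_mem _ h2'),
    x' • ((B z2 z2 * y) • z1 - (B z1 z1 * x) • z2) + y' • z3,
    Z.add_mem (Z.smul_mem _ (Z.sub_mem (Z.smul_mem _ h1) (Z.smul_mem _ h2'))) (Z.smul_mem _ h3),
    ?_, ?_, ?_⟩
  · simp only [map_add, map_smul, LinearMap.add_apply, LinearMap.smul_apply, smul_eq_mul, h12, h21]
    linear_combination hxy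
  · simp only [map_add, map_sub, map_smul, LinearMap.add_apply, LinearMap.sub_apply,
      LinearMap.smul_apply, smul_eq_mul, h12, h21, h13, h31, h23, h32]
    linear_combination hxy' + (B z1 z1 * B z2 z2 * x' ^ 2) * hxy
  · simp only [map_add, map_sub, map_smul, LinearMap.add_apply, LinearMap.sub_apply,
      LinearMap.smul_apply, smul_eq_mul, h12, h21, h13, h31, h23, h32]
    ring

/-- a submodule with an orthogonal supplement has an orthogonal basis of nonsingular vectors -/
theorem g1c_orthobasis [FiniteDimensional K V] (h2 : (2 : K) ≠ 0) {B : BilinForm K V}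
    (hs : B.IsSymm) (hnd : B.Nondegenerate) (Z Z' : Submodule K V) (hsup : Z ⊔ Z' = ⊤)
    (hperp : ∀ z ∈ Z, ∀ z' ∈ Z', B z z' = 0) :
    ∃ b : Basis (Fin (finrank K Z)) K Z,
      (∀ i j, i ≠ j → B (b i : V) (b j : V) = 0) ∧ ∀ i, B (b i : V) (b i : V) ≠ 0 := by
  classical
  haveI : Invertible (2 : K) := invertibleOfNonzero h2
  have hsZ : (B.restrict Z).IsSymm := by
    constructor
    intro x y
    exact hs.eq x y
  obtain ⟨b, hb⟩ := LinearMap.BilinForm.exists_orthogonal_basis
    (LinearMap.BilinForm.isSymm_iff.1 hsZ)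
  have hbo : ∀ i j, i ≠ j → B (b i : V) (b j : V) = 0 := by
    intro i j hij
    exact hb hij
  refine ⟨b, hbo, ?_⟩
  intro i hi
  have hZ : ∀ z : Z, B (b i : V) (z : V) = 0 := by
    intro z
    have : (B (b i : V)) ∘ₗ Z.subtype = 0 := by
      apply b.ext
      intro j
      by_cases hij : i = j
      · subst hij; simpa using hi
      · simpa using hbo i j hij
    have h3 := LinearMap.congr_fun this z
    simpa using h3
  have hall : ∀ y : V, B (b i : V) y = 0 := by
    intro y
    have hy : y ∈ Z ⊔ Z' := by rw [hsup]; trivial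
    obtain ⟨z, hz, z', hz', rfl⟩ := Submodule.mem_sup.1 hy
    rw [map_add, hZ ⟨z, hz⟩, hperp _ (b i).2 z' hz', add_zero]
  have h0 : (b i : V) = 0 := hnd.1 _ hall
  exact b.ne_zero i (Subtype.ext h0)

/-- three pairwise orthogonal nonsingular vectors orthogonal to `u`, inside `W` or `W'` -/
theorem g1c_three [FiniteDimensional K V] (h2 : (2 : K) ≠ 0) {B : BilinForm K V}
    (hs : B.IsSymm) (hnd : B.Nondegenerate) (W W' : Submodule K V) (hsup : W ⊔ W' = ⊤)
    (hperp : ∀ z ∈ W, ∀ z' ∈ W', B z z' = 0) (hdim : 4 ≤ finrank K W ∨ 3 ≤ finrank K W')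
    {u : V} (huW : u ∈ W) (hu : B u u ≠ 0) :
    ∃ Z : Submodule K V, (Z ≤ W ∨ Z ≤ W') ∧ ∃ z1 ∈ Z, ∃ z2 ∈ Z, ∃ z3 ∈ Z,
      (∀ z ∈ Z, B u z = 0) ∧ B z1 z2 = 0 ∧ B z1 z3 = 0 ∧ B z2 z3 = 0 ∧
      B z1 z1 ≠ 0 ∧ B z2 z2 ≠ 0 ∧ B z3 z3 ≠ 0 := by
  classical
  by_cases h3 : 3 ≤ finrank K W'
  · have hsup' : W' ⊔ W = ⊤ := by rw [sup_comm]; exact hsup
    have hperp' : ∀ z ∈ W', ∀ z' ∈ W, B z z' = 0 := by
      intro z hz z' hz'
      rw [hs.eq z z']
      exact hperp z' hz' z hz
    obtain ⟨b, hbo, hbn⟩ := g1c_orthobasis h2 hs hnd W' W hsup' hperp'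
    refine ⟨W', Or.inr le_rfl, b ⟨0, by omega⟩, (b _).2, b ⟨1, by omega⟩, (b _).2,
      b ⟨2, by omega⟩, (b _).2, fun z hz => hperp u huW z hz,
      hbo _ _ ?_, hbo _ _ ?_, hbo _ _ ?_, hbn _, hbn _, hbn _⟩
    · intro h; simpa using congrArg Fin.val h
    · intro h; simpa using congrArg Fin.val h
    · intro h; simpa using congrArg Fin.val h
  · have h4 : 4 ≤ finrank K W := by
      rcases hdim with h | h
      · exact h
      · exact absurd h h3
    have hu0 : u ≠ 0 := by
      intro h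
      apply hu
      rw [h]
      simp
    set Z : Submodule K V := W ⊓ LinearMap.ker (B u) with hZ
    have hmemZ : ∀ z, z ∈ Z ↔ z ∈ W ∧ B u z = 0 := by
      intro z
      rw [hZ, Submodule.mem_inf, LinearMap.mem_ker]
    have hWle : W ≤ Z ⊔ K ∙ u := by
      intro w hw
      have h1 : w - (B u w / B u u) • u ∈ Z := by
        rw [hmemZ]
        refine ⟨W.sub_mem hw (W.smul_mem _ huW), ?_⟩
        rw [map_sub, map_smul, smul_eq_mul]
        field_simp
        ring
      have h5 : w = (w - (B u w / B u u) • u) + (B u w / B u u) • u := by abel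
      rw [h5]
      exact Submodule.add_mem_sup h1 (Submodule.smul_mem _ _ (Submodule.mem_span_singleton_self u))
    have hfin : 3 ≤ finrank K Z := by
      have h6 : finrank K W ≤ finrank K ↥(Z ⊔ K ∙ u) := Submodule.finrank_mono hWle
      have h7 := Submodule.finrank_add_le_finrank_add_finrank Z (K ∙ u)
      have h8 : finrank K (K ∙ u) = 1 := finrank_span_singleton hu0
      omega
    have hsup' : Z ⊔ (W' ⊔ K ∙ u) = ⊤ := by
      rw [eq_top_iff, ← hsup]
      apply sup_le
      · calc W ≤ Z ⊔ K ∙ u := hWle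
          _ ≤ Z ⊔ (W' ⊔ K ∙ u) := sup_le_sup_left le_sup_right Z
      · exact le_trans le_sup_left le_sup_right
    have hperp' : ∀ z ∈ Z, ∀ z' ∈ W' ⊔ K ∙ u, B z z' = 0 := by
      intro z hz z' hz'
      obtain ⟨hzW, hzu⟩ := (hmemZ z).1 hz
      obtain ⟨w', hw', x, hx, rfl⟩ := Submodule.mem_sup.1 hz'
      obtain ⟨c, rfl⟩ := Submodule.mem_span_singleton.1 hx
      rw [map_add, map_smul, hperp z hzW w' hw', hs.eq z u, hzu]
      simp
    obtain ⟨b, hbo, hbn⟩ := g1c_orthobasis h2 hs hnd Z _ hsup' hperp'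
    refine ⟨Z, Or.inl inf_le_left, b ⟨0, by omega⟩, (b _).2, b ⟨1, by omega⟩, (b _).2,
      b ⟨2, by omega⟩, (b _).2, fun z hz => ((hmemZ z).1 hz).2, hbo _ _ ?_, hbo _ _ ?_, hbo _ _ ?_,
      hbn _, hbn _, hbn _⟩
    · intro h; simpa using congrArg Fin.val h
    · intro h; simpa using congrArg Fin.val h
    · intro h; simpa using congrArg Fin.val h

/-- the hypotheses of `cent_invol`, bundled -/
structure g1c_Hyp (B : BilinForm K V) (t : V ≃ₗ[K] V) (τ : K ≃+* K) (s : V → V) (ν : K) :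
    Prop where
  h2 : (2 : K) ≠ 0
  hs : B.IsSymm
  hnd : B.Nondegenerate
  ht : ∀ u w, B (t u) (t w) = B u w
  htt : t * t = 1
  hadd : ∀ u w, s (u + w) = s u + s w
  hsmul : ∀ (c : K) v, s (c • v) = τ c • s v
  hinj : Function.Injective s
  hν : ∀ u w, B (s u) (s w) = ν * τ (B u w)
  hcomm : ∀ l : List V, (∀ u ∈ l, B u u ≠ 0) → Even l.length →
      IsSquare (l.map (fun u => B u u)).prod →
      (l.map (fun u => reflE B u)).prod * t = t * (l.map (fun u => reflE B u)).prod →
      ∀ v, s ((l.map (fun u => reflE B u)).prod v) = (l.map (fun u => reflE B u)).prod (s v)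

/-- the `+1`-eigenspace -/
def g1c_Wp (t : V ≃ₗ[K] V) : Submodule K V := LinearMap.ker ((t : V →ₗ[K] V) - 1)

/-- the `-1`-eigenspace -/
def g1c_Wm (t : V ≃ₗ[K] V) : Submodule K V := LinearMap.ker ((t : V →ₗ[K] V) + 1)

theorem g1c_mem_Wp {t : V ≃ₗ[K] V} {v : V} : v ∈ g1c_Wp t ↔ t v = v := by
  rw [g1c_Wp, LinearMap.mem_ker, LinearMap.sub_apply, sub_eq_zero]
  rfl

theorem g1c_mem_Wm {t : V ≃ₗ[K] V} {v : V} : v ∈ g1c_Wm t ↔ t v = -v := by
  rw [g1c_Wm, LinearMap.mem_ker, LinearMap.add_apply, add_eq_zero_iff_eq_neg]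
  rfl

/-- the reflection in an eigenvector of an isometry commutes with it -/
theorem g1c_refl_comm {B : BilinForm K V} (_hs : B.IsSymm) {t : V ≃ₗ[K] V}
    (ht : ∀ u w, B (t u) (t w) = B u w) {u : V} (hu : t u = u ∨ t u = -u) :
    reflE B u * t = t * reflE B u := by
  ext x
  rw [LinearEquiv.mul_apply, LinearEquiv.mul_apply, reflE_apply, reflE_apply]
  rcases hu with h | h
  · have h1 : B (t x) u = B x u := by
      conv_lhs => rw [← h]
      exact ht x u
    rw [h1, map_sub, map_smul, map_smul, h]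
  · have h1 : B (t x) u = - B x u := by
      have : u = - t u := by rw [h, neg_neg]
      conv_lhs => rw [this]
      rw [map_neg, ht x u]
    rw [h1, map_sub, map_smul, map_smul, h]
    simp

namespace g1c_Hyp

variable {B : BilinForm K V} {t : V ≃ₗ[K] V} {τ : K ≃+* K} {s : V → V} {ν : K}

theorem s_neg (H : g1c_Hyp B t τ s ν) (u : V) : s (-u) = - s u := by
  have := H.hsmul (-1) u
  simpa using this

theorem s_zero (H : g1c_Hyp B t τ s ν) : s 0 = 0 := by
  have := H.hsmul 0 0
  simpa using this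

/-- the basic consequence of the commutation hypothesis -/
theorem step (H : g1c_Hyp B t τ s ν) {u w : V} (hu : B u u ≠ 0) (hw : B w w ≠ 0)
    (hut : t u = u ∨ t u = -u) (hwt : t w = w ∨ t w = -w) (huw : B u w = 0)
    (hsq : IsSquare (B u u * B w w)) :
    s u = (B (s u) w / B w w) • w + (B (s u) u / B u u) • u := by
  have hwu : B w u = 0 := by rw [H.hs.eq w u]; exact huw
  have hc := H.hcomm [u, w] (by
      intro x hx
      simp only [List.mem_cons, List.not_mem_nil, or_false] at hx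
      rcases hx with rfl | rfl
      · exact hu
      · exact hw) ⟨1, rfl⟩ (by simpa using hsq) (by
      simp only [List.map_cons, List.map_nil, List.prod_cons, List.prod_nil, mul_one]
      rw [mul_assoc, g1c_refl_comm H.hs H.ht hwt, ← mul_assoc, g1c_refl_comm H.hs H.ht hut,
        mul_assoc]) u
  simp only [List.map_cons, List.map_nil, List.prod_cons, List.prod_nil, mul_one] at hc
  rw [LinearEquiv.mul_apply, LinearEquiv.mul_apply] at hc
  have h1 : reflE B w u = u := by
    rw [reflE_apply, huw, zero_smul, sub_zero]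
  have h2 : reflE B u u = -u := by
    rw [reflE_apply, smul_smul]
    have : B u u * (2 * (B u u)⁻¹) = 2 := by field_simp
    rw [this, two_smul]
    abel
  rw [h1, h2, H.s_neg] at hc
  obtain ⟨y, hy⟩ : ∃ y, y = s u := ⟨_, rfl⟩
  rw [← hy] at hc ⊢
  rw [reflE_apply, reflE_apply] at hc
  have h3 : B (y - (B y w) • ((2 * (B w w)⁻¹) • w)) u = B y u := by
    simp only [map_sub, map_smul, LinearMap.sub_apply, LinearMap.smul_apply, smul_eq_mul, hwu]
    ring
  rw [h3] at hc
  have h4 : (2 : K) • y = (2 : K) • ((B y w / B w w) • w + (B y u / B u u) • u) := by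
    have h5 : (2 : K) • y = (B y w) • ((2 * (B w w)⁻¹) • w) + (B y u) • ((2 * (B u u)⁻¹) • u) := by
      rw [two_smul]
      have h6 : y + y = y - -y := by abel
      rw [h6, hc]
      abel
    rw [h5, smul_add, smul_smul, smul_smul, smul_smul, smul_smul]
    congr 2
    · field_simp
    · field_simp
  exact smul_right_injective V H.h2 h4


/-- `s` preserves the line of `u` as soon as two suitable orthogonal witnesses exist -/
theorem line (H : g1c_Hyp B t τ s ν) {u w1 w2 : V} (hu : B u u ≠ 0) (hw1 : B w1 w1 ≠ 0)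
    (hw2 : B w2 w2 ≠ 0) (hut : t u = u ∨ t u = -u) (hw1t : t w1 = w1 ∨ t w1 = -w1)
    (hw2t : t w2 = w2 ∨ t w2 = -w2) (huw1 : B u w1 = 0) (huw2 : B u w2 = 0) (hw12 : B w1 w2 = 0)
    (hsq1 : IsSquare (B u u * B w1 w1)) (hsq2 : IsSquare (B u u * B w2 w2)) :
    s u = (B (s u) u / B u u) • u := by
  have e1 := H.step hu hw1 hut hw1t huw1 hsq1
  have e2 := H.step hu hw2 hut hw2t huw2 hsq2
  have h21 : B w2 w1 = 0 := by rw [H.hs.eq w2 w1]; exact hw12
  have h0 : B (s u) w1 = 0 := by
    have := congrArg (fun z => B z w1) e2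
    simp only [map_add, map_smul, LinearMap.add_apply, LinearMap.smul_apply, smul_eq_mul, h21,
      huw1, mul_zero, add_zero] at this
    exact this
  rw [h0, zero_div, zero_smul, zero_add] at e1
  exact e1

theorem sup_eq_top (H : g1c_Hyp B t τ s ν) : g1c_Wp t ⊔ g1c_Wm t = ⊤ := by
  rw [eq_top_iff]
  intro v _
  have htt : ∀ x, t (t x) = x := by
    intro x
    have := congrArg (fun f : V ≃ₗ[K] V => f x) H.htt
    simpa [LinearEquiv.mul_apply] using this
  have h1 : (2 : K)⁻¹ • (v + t v) ∈ g1c_Wp t := by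
    rw [g1c_mem_Wp, map_smul, map_add, htt, add_comm]
  have h2 : (2 : K)⁻¹ • (v - t v) ∈ g1c_Wm t := by
    rw [g1c_mem_Wm, map_smul, map_sub, htt, ← smul_neg, neg_sub]
  have h3 : v = (2 : K)⁻¹ • (v + t v) + (2 : K)⁻¹ • (v - t v) := by
    rw [← smul_add]
    have : v + t v + (v - t v) = (2 : K) • v := by rw [two_smul]; abel
    rw [this, smul_smul, inv_mul_cancel₀ H.h2, one_smul]
  rw [h3]
  exact Submodule.add_mem_sup h1 h2

theorem perp (H : g1c_Hyp B t τ s ν) : ∀ z ∈ g1c_Wp t, ∀ z' ∈ g1c_Wm t, B z z' = 0 := by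
  intro z hz z' hz'
  rw [g1c_mem_Wp] at hz
  rw [g1c_mem_Wm] at hz'
  have h1 := H.ht z z'
  rw [hz, hz', map_neg] at h1
  have h2 : (2 : K) * B z z' = 0 := by linear_combination -h1
  rcases mul_eq_zero.1 h2 with h | h
  · exact absurd h H.h2
  · exact h

theorem perp' (H : g1c_Hyp B t τ s ν) : ∀ z ∈ g1c_Wm t, ∀ z' ∈ g1c_Wp t, B z z' = 0 := by
  intro z hz z' hz'
  rw [H.hs.eq z z']
  exact H.perp z' hz' z hz

theorem dim_le [FiniteDimensional K V] (H : g1c_Hyp B t τ s ν) :
    finrank K V ≤ finrank K (g1c_Wp t) + finrank K (g1c_Wm t) := by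
  have h1 := Submodule.finrank_add_le_finrank_add_finrank (g1c_Wp t) (g1c_Wm t)
  rw [H.sup_eq_top, finrank_top] at h1
  exact h1

/-- the scalar by which `s` acts on the line of `z` -/
noncomputable def _root_.Cfsg.Agent.Lib.Helper37.MBal.g1c_cf (B : BilinForm K V) (s : V → V)
    (z : V) : K := B (s z) z / B z z

/-- Claim A: `s` preserves every nonsingular eigenline of `t` -/
theorem eigen [Finite K] [FiniteDimensional K V] (H : g1c_Hyp B t τ s ν)
    (hp : Odd (finrank K (g1c_Wp t))) (hm : Odd (finrank K (g1c_Wm t)))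
    (hdim : 6 ≤ finrank K V) {u : V} (hu : B u u ≠ 0) (hut : u ∈ g1c_Wp t ∨ u ∈ g1c_Wm t) :
    s u = g1c_cf B s u • u := by
  have hd := H.dim_le
  have key : ∀ W W' : Submodule K V, W ⊔ W' = ⊤ → (∀ z ∈ W, ∀ z' ∈ W', B z z' = 0) →
      (4 ≤ finrank K W ∨ 3 ≤ finrank K W') →
      (∀ z ∈ W, t z = z ∨ t z = -z) → (∀ z ∈ W', t z = z ∨ t z = -z) → u ∈ W →
      s u = g1c_cf B s u • u := by
    intro W W' hsup hperp hdim' hW hW' huW
    obtain ⟨Z, hZ, z1, hz1, z2, hz2, z3, hz3, hZu, h12, h13, h23, n1, n2, n3⟩ :=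
      g1c_three H.h2 H.hs H.hnd W W' hsup hperp hdim' huW hu
    obtain ⟨w1, hw1, w2, hw2, e1, e2, e12⟩ := g1c_pair H.h2 H.hs Z hz1 hz2 hz3 h12 h13 h23 n1 n2 n3 hu
    have hZt : ∀ z ∈ Z, t z = z ∨ t z = -z := by
      intro z hz
      rcases hZ with h | h
      · exact hW z (h hz)
      · exact hW' z (h hz)
    exact H.line hu (by rw [e1]; exact hu) (by rw [e2]; exact hu) (hW u huW) (hZt w1 hw1)
      (hZt w2 hw2) (hZu w1 hw1) (hZu w2 hw2) e12 ⟨B u u, by rw [e1]⟩ ⟨B u u, by rw [e2]⟩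
  have hWp : ∀ z ∈ g1c_Wp t, t z = z ∨ t z = -z := fun z hz => Or.inl (g1c_mem_Wp.1 hz)
  have hWm : ∀ z ∈ g1c_Wm t, t z = z ∨ t z = -z := fun z hz => Or.inr (g1c_mem_Wm.1 hz)
  obtain ⟨a, ha⟩ := hp
  obtain ⟨b, hb⟩ := hm
  rcases hut with h | h
  · exact key _ _ H.sup_eq_top H.perp (by omega) hWp hWm h
  · exact key _ _ (by rw [sup_comm]; exact H.sup_eq_top) H.perp' (by omega) hWm hWp h


/-- the abstract situation after Claim A: a submodule `W` on whose nonsingular vectors `s` acts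
by the scalar `g1c_cf` -/
theorem adj (H : g1c_Hyp B t τ s ν) (W : Submodule K V)
    (hA : ∀ z ∈ W, B z z ≠ 0 → s z = g1c_cf B s z • z) {x y : V} (hx : x ∈ W) (hy : y ∈ W)
    (nx : B x x ≠ 0) (ny : B y y ≠ 0) (hxy : B x y = 0) (hne : B x x + B y y ≠ 0) :
    g1c_cf B s x = g1c_cf B s y ∧ g1c_cf B s (x + y) = g1c_cf B s x := by
  have hyx : B y x = 0 := by rw [H.hs.eq y x]; exact hxy
  have nxy : B (x + y) (x + y) ≠ 0 := by
    simp only [map_add, LinearMap.add_apply, hxy, hyx, add_zero, zero_add]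
    exact hne
  have e := hA (x + y) (W.add_mem hx hy) nxy
  rw [H.hadd, hA x hx nx, hA y hy ny] at e
  have h1 : g1c_cf B s (x + y) = g1c_cf B s x := by
    have := congrArg (fun z => B z x) e
    simp only [map_add, map_smul, LinearMap.add_apply, LinearMap.smul_apply, smul_eq_mul, hyx,
      mul_zero, add_zero] at this
    exact (mul_right_cancel₀ nx this).symm
  have h2 : g1c_cf B s (x + y) = g1c_cf B s y := by
    have := congrArg (fun z => B z y) e
    simp only [map_add, map_smul, LinearMap.add_apply, LinearMap.smul_apply, smul_eq_mul, hxy,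
      mul_zero, add_zero, zero_add] at this
    exact (mul_right_cancel₀ ny this).symm
  exact ⟨h1.symm.trans h2, h1⟩

theorem conn (H : g1c_Hyp B t τ s ν) (W : Submodule K V)
    (hA : ∀ z ∈ W, B z z ≠ 0 → s z = g1c_cf B s z • z) {x y e : V} (hx : x ∈ W) (hy : y ∈ W)
    (he : e ∈ W) (nx : B x x ≠ 0) (ny : B y y ≠ 0) (ne : B e e ≠ 0) (hxy : B x y = 0)
    (hxe : B x e = 0) (hye : B y e = 0) : g1c_cf B s x = g1c_cf B s y := by
  have hex : B e x = 0 := by rw [H.hs.eq e x]; exact hxe
  have hey : B e y = 0 := by rw [H.hs.eq e y]; exact hye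
  have hyx : B y x = 0 := by rw [H.hs.eq y x]; exact hxy
  have h2 := H.h2
  by_cases h1 : B x x + B y y = 0
  · have hyy : B y y = - B x x := by linear_combination h1
    by_cases h3 : B x x + B e e = 0
    · -- b = -a
      have hee : B e e = - B x x := by linear_combination h3
      have n1 : B y y + B e e ≠ 0 := by
        rw [hyy, hee]
        intro h
        apply nx
        have : (2 : K) * B x x = 0 := by linear_combination -h
        rcases mul_eq_zero.1 this with h' | h'
        · exact absurd h' h2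
        · exact h'
      obtain ⟨_, a2⟩ := H.adj W hA hy he ny ne hye n1
      have n2 : B (y + e) (y + e) ≠ 0 := by
        simp only [map_add, LinearMap.add_apply, hye, hey, add_zero, zero_add]
        exact n1
      have n3 : B (y + e) (y + e) + B x x ≠ 0 := by
        simp only [map_add, LinearMap.add_apply, hye, hey, add_zero, zero_add]
        rw [hyy, hee]
        intro h
        apply nx
        linear_combination -h
      have o1 : B (y + e) x = 0 := by
        simp only [map_add, LinearMap.add_apply, hyx, hex, add_zero]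
      obtain ⟨a3, _⟩ := H.adj W hA (W.add_mem hy he) hx n2 nx o1 n3
      rw [← a3, a2]
    · by_cases h4 : B e e + B y y = 0
      · -- b = a
        have hee : B e e = B x x := by linear_combination h4 - h1
        obtain ⟨_, a2⟩ := H.adj W hA hx he nx ne hxe h3
        have n2 : B (x + e) (x + e) ≠ 0 := by
          simp only [map_add, LinearMap.add_apply, hxe, hex, add_zero, zero_add]
          exact h3
        have n3 : B (x + e) (x + e) + B y y ≠ 0 := by
          simp only [map_add, LinearMap.add_apply, hxe, hex, add_zero, zero_add]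
          rw [hyy, hee]
          intro h
          apply nx
          linear_combination h
        have o1 : B (x + e) y = 0 := by
          simp only [map_add, LinearMap.add_apply, hxy, hey, add_zero]
        obtain ⟨a3, _⟩ := H.adj W hA (W.add_mem hx he) hy n2 ny o1 n3
        rw [← a2, a3]
      · obtain ⟨a1, _⟩ := H.adj W hA hx he nx ne hxe h3
        obtain ⟨a2, _⟩ := H.adj W hA he hy ne ny hey h4
        rw [a1, a2]
  · exact (H.adj W hA hx hy nx ny hxy h1).1

theorem cf_ne_zero (H : g1c_Hyp B t τ s ν) {z : V} (hz : s z = g1c_cf B s z • z) (nz : B z z ≠ 0) :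
    g1c_cf B s z ≠ 0 := by
  intro h
  rw [h, zero_smul, ← H.s_zero] at hz
  have := H.hinj hz
  apply nz
  rw [this]
  simp

/-- `τ` is trivial, from three pairwise orthogonal nonsingular vectors of `W` -/
theorem tau (H : g1c_Hyp B t τ s ν) (W : Submodule K V)
    (hA : ∀ z ∈ W, B z z ≠ 0 → s z = g1c_cf B s z • z) {e1 e2 e3 : V} (h1 : e1 ∈ W) (h2 : e2 ∈ W)
    (h3 : e3 ∈ W) (n1 : B e1 e1 ≠ 0) (n2 : B e2 e2 ≠ 0) (n3 : B e3 e3 ≠ 0) (h12 : B e1 e2 = 0)
    (h13 : B e1 e3 = 0) (h23 : B e2 e3 = 0) (c : K) : τ c = c := by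
  by_cases hc : c = 0
  · rw [hc, map_zero]
  have nc : B (c • e1) (c • e1) ≠ 0 := by
    simp only [map_smul, LinearMap.smul_apply, smul_eq_mul]
    exact mul_ne_zero hc (mul_ne_zero hc n1)
  have a1 : g1c_cf B s (c • e1) = g1c_cf B s e2 :=
    H.conn W hA (W.smul_mem c h1) h2 h3 nc n2 n3 (by simp [h12]) (by simp [h13]) h23
  have a2 : g1c_cf B s e1 = g1c_cf B s e2 := H.conn W hA h1 h2 h3 n1 n2 n3 h12 h13 h23
  have e := hA (c • e1) (W.smul_mem c h1) nc
  rw [H.hsmul, hA e1 h1 n1, a1, ← a2, smul_smul, smul_smul] at e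
  have hne : e1 ≠ 0 := by
    intro h
    apply n1
    rw [h]
    simp
  have h5 : τ c * g1c_cf B s e1 = g1c_cf B s e1 * c := by
    by_contra hcon
    have : (τ c * g1c_cf B s e1 - g1c_cf B s e1 * c) • e1 = 0 := by
      rw [sub_smul, e, sub_self]
    rcases smul_eq_zero.1 this with h | h
    · exact hcon (sub_eq_zero.1 h)
    · exact hne h
  have h6 := H.cf_ne_zero (hA e1 h1 n1) n1
  have h7 : τ c * g1c_cf B s e1 = c * g1c_cf B s e1 := by rw [h5, mul_comm]
  exact mul_right_cancel₀ h6 h7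

/-- `s` is a scalar on an odd-dimensional eigenspace -/
theorem const [FiniteDimensional K V] (H : g1c_Hyp B t τ s ν) (hτ : ∀ c, τ c = c)
    (W : Submodule K V) (hA : ∀ z ∈ W, B z z ≠ 0 → s z = g1c_cf B s z • z)
    (b : Basis (Fin (finrank K W)) K W) (hbo : ∀ i j, i ≠ j → B (b i : V) (b j : V) = 0)
    (hbn : ∀ i, B (b i : V) (b i : V) ≠ 0) (hodd : Odd (finrank K W)) :
    ∃ c : K, c ≠ 0 ∧ c * c = ν ∧ ∀ v ∈ W, s v = c • v := by
  obtain ⟨a, ha⟩ := hodd
  have hpos : 0 < finrank K W := by omega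
  set i0 : Fin (finrank K W) := ⟨0, hpos⟩ with hi0
  have hc : ∀ i, g1c_cf B s (b i : V) = g1c_cf B s (b i0 : V) := by
    intro i
    by_cases hi : i = i0
    · rw [hi]
    · have hiv : i.val ≠ 0 := by
        intro h
        apply hi
        apply Fin.ext
        rw [h]
      have h3 : 3 ≤ finrank K W := by
        have := i.2
        omega
      obtain ⟨k, hki, hk0⟩ : ∃ k : Fin (finrank K W), k ≠ i ∧ k ≠ i0 := by
        by_cases h1 : i.val = 1
        · refine ⟨⟨2, by omega⟩, ?_, ?_⟩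
          · intro h
            have := congrArg Fin.val h
            simp at this
            omega
          · intro h
            have := congrArg Fin.val h
            simp [hi0] at this
        · refine ⟨⟨1, by omega⟩, ?_, ?_⟩
          · intro h
            have := congrArg Fin.val h
            simp at this
            omega
          · intro h
            have := congrArg Fin.val h
            simp [hi0] at this
      exact H.conn W hA (b i).2 (b i0).2 (b k).2 (hbn i) (hbn i0) (hbn k) (hbo i i0 hi)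
        (hbo i k (Ne.symm hki)) (hbo i0 k (Ne.symm hk0))
  set c := g1c_cf B s (b i0 : V) with hcdef
  have hsb : ∀ i, s (b i : V) = c • (b i : V) := by
    intro i
    rw [hA _ (b i).2 (hbn i), hc i]
  let T : Submodule K V :=
    { carrier := {v | s v = c • v}
      add_mem' := by
        intro x y hx hy
        simp only [Set.mem_ofPred_eq] at hx hy ⊢
        rw [H.hadd, hx, hy, smul_add]
      zero_mem' := by
        simp only [Set.mem_ofPred_eq]
        rw [H.s_zero, smul_zero]
      smul_mem' := by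
        intro d x hx
        simp only [Set.mem_ofPred_eq] at hx ⊢
        rw [H.hsmul, hτ, hx, smul_comm] }
  have hWT : ∀ v ∈ W, v ∈ T := by
    intro v hv
    have h1 := b.sum_repr ⟨v, hv⟩
    have h2 := congrArg Subtype.val h1
    simp only [Submodule.coe_sum, Submodule.coe_smul] at h2
    rw [← h2]
    exact T.sum_mem (fun i _ => T.smul_mem _ (hsb i))
  refine ⟨c, ?_, ?_, fun v hv => hWT v hv⟩
  · rw [hcdef]
    exact H.cf_ne_zero (hA _ (b i0).2 (hbn i0)) (hbn i0)
  · have h1 := H.hν (b i0 : V) (b i0 : V)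
    rw [hsb i0, hτ] at h1
    simp only [map_smul, LinearMap.smul_apply, smul_eq_mul] at h1
    have h2 : (c * c) * B (b i0 : V) (b i0 : V) = ν * B (b i0 : V) (b i0 : V) := by
      linear_combination h1
    exact mul_right_cancel₀ (hbn i0) h2

end g1c_Hyp

section invol

variable [Finite K] [FiniteDimensional K V]

/-- (MB-G1C) a semilinear semi-similarity `s` commuting with every element of the centralizer of
the isometry involution `t` that is an even product of reflections with square norm product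
is a scalar times `1` or `t`, and its field automorphism is trivial. -/
theorem cent_invol (h2 : (2 : K) ≠ 0) (B : LinearMap.BilinForm K V) (hs : B.IsSymm)
    (hnd : B.Nondegenerate)
    (t : V ≃ₗ[K] V) (ht : ∀ u w, B (t u) (t w) = B u w) (htt : t * t = 1)
    (hp : Odd (Module.finrank K (LinearMap.ker ((t : V →ₗ[K] V) - 1))))
    (hm : Odd (Module.finrank K (LinearMap.ker ((t : V →ₗ[K] V) + 1))))
    (hdim : 6 ≤ Module.finrank K V)
    (τ : K ≃+* K) (s : V → V) (hadd : ∀ u w, s (u + w) = s u + s w)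
    (hsmul : ∀ (c : K) v, s (c • v) = τ c • s v) (hinj : Function.Injective s)
    (ν : K) (hν : ∀ u w, B (s u) (s w) = ν * τ (B u w))
    (hcomm : ∀ l : List V, (∀ u ∈ l, B u u ≠ 0) → Even l.length →
      IsSquare (l.map (fun u => B u u)).prod →
      (l.map (fun u => reflE B u)).prod * t = t * (l.map (fun u => reflE B u)).prod →
      ∀ v, s ((l.map (fun u => reflE B u)).prod v) = (l.map (fun u => reflE B u)).prod (s v)) :
    τ = 1 ∧ ∃ c : K, c ≠ 0 ∧ ((∀ v, s v = c • v) ∨ (∀ v, s v = c • t v)) := by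
  have H : g1c_Hyp B t τ s ν := ⟨h2, hs, hnd, ht, htt, hadd, hsmul, hinj, hν, hcomm⟩
  have hp' : Odd (finrank K (g1c_Wp t)) := hp
  have hm' : Odd (finrank K (g1c_Wm t)) := hm
  have hd := H.dim_le
  have hAp : ∀ z ∈ g1c_Wp t, B z z ≠ 0 → s z = g1c_cf B s z • z :=
    fun z hz nz => H.eigen hp' hm' hdim nz (Or.inl hz)
  have hAm : ∀ z ∈ g1c_Wm t, B z z ≠ 0 → s z = g1c_cf B s z • z :=
    fun z hz nz => H.eigen hp' hm' hdim nz (Or.inr hz)
  obtain ⟨bp, hbpo, hbpn⟩ := g1c_orthobasis h2 hs hnd _ _ H.sup_eq_top H.perp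
  obtain ⟨bm, hbmo, hbmn⟩ := g1c_orthobasis h2 hs hnd (g1c_Wm t) (g1c_Wp t)
    (by rw [sup_comm]; exact H.sup_eq_top) H.perp'
  have hτ : ∀ c, τ c = c := by
    by_cases h3 : 3 ≤ finrank K (g1c_Wp t)
    · exact H.tau _ hAp (bp ⟨0, by omega⟩).2 (bp ⟨1, by omega⟩).2 (bp ⟨2, by omega⟩).2
        (hbpn _) (hbpn _) (hbpn _)
        (hbpo _ _ (by intro h; simpa using congrArg Fin.val h))
        (hbpo _ _ (by intro h; simpa using congrArg Fin.val h))
        (hbpo _ _ (by intro h; simpa using congrArg Fin.val h))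
    · have h3' : 3 ≤ finrank K (g1c_Wm t) := by omega
      exact H.tau _ hAm (bm ⟨0, by omega⟩).2 (bm ⟨1, by omega⟩).2 (bm ⟨2, by omega⟩).2
        (hbmn _) (hbmn _) (hbmn _)
        (hbmo _ _ (by intro h; simpa using congrArg Fin.val h))
        (hbmo _ _ (by intro h; simpa using congrArg Fin.val h))
        (hbmo _ _ (by intro h; simpa using congrArg Fin.val h))
  obtain ⟨cp, hcp0, hcp2, hcp⟩ := H.const hτ _ hAp bp hbpo hbpn hp'
  obtain ⟨cm, hcm0, hcm2, hcm⟩ := H.const hτ _ hAm bm hbmo hbmn hm'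
  refine ⟨RingEquiv.ext hτ, cp, hcp0, ?_⟩
  have htt' : ∀ x, t (t x) = x := by
    intro x
    have := congrArg (fun f : V ≃ₗ[K] V => f x) htt
    simpa [LinearEquiv.mul_apply] using this
  have hdec : ∀ v : V, ∃ a ∈ g1c_Wp t, ∃ b ∈ g1c_Wm t, v = a + b := by
    intro v
    have hv : v ∈ g1c_Wp t ⊔ g1c_Wm t := by rw [H.sup_eq_top]; trivial
    obtain ⟨a, ha, b, hb, rfl⟩ := Submodule.mem_sup.1 hv
    exact ⟨a, ha, b, hb, rfl⟩
  have hcc : (cm - cp) * (cm + cp) = 0 := by linear_combination hcm2 - hcp2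
  rcases mul_eq_zero.1 hcc with h | h
  · left
    have hcm' : cm = cp := by linear_combination h
    intro v
    obtain ⟨a, ha, b, hb, rfl⟩ := hdec v
    rw [hadd, hcp a ha, hcm b hb, hcm', smul_add]
  · right
    have hcm' : cm = -cp := by linear_combination h
    intro v
    obtain ⟨a, ha, b, hb, rfl⟩ := hdec v
    rw [hadd, hcp a ha, hcm b hb, hcm', map_add, g1c_mem_Wp.1 ha, g1c_mem_Wm.1 hb, smul_add,
      smul_neg, neg_smul]

end invol

end Cfsg.Agent.Lib.Helper37.MBal
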