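import Mathlib

namespace Cfsg.Agent.Lib.Helper61.Miller

open Equiv Equiv.Perm

set_option linter.unusedSectionVars false
variable {α : Type*} [Fintype α] [DecidableEq α]

/-- partial-injection form of `t`-fold transitivity -/
def Ext (G : Subgroup (Perm α)) (t : ℕ) : Prop :=
  ∀ s : Finset α, s.card ≤ t → ∀ f : α → α, Set.InjOn f (s : Set α) →
    ∃ g ∈ G, ∀ x ∈ s, g x = f x

theorem Ext.mono {G : Subgroup (Perm α)} {t u : ℕ} (h : Ext G t) (hu : u ≤ t) : Ext G u :=
  fun s hs f hf => h s (hs.trans hu) f hf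

theorem ext_of_pretransitive (G : Subgroup (Perm α)) (t : ℕ)
    (hG : MulAction.IsMultiplyPretransitive G α t) (ht : t ≤ Fintype.card α) : Ext G t := by
  intro s hs f hf
  have hm : MulAction.IsMultiplyPretransitive G α s.card :=
    MulAction.isMultiplyPretransitive_of_le (n := t) hs (by rwa [Nat.card_eq_fintype_card])
  let x : Fin s.card ↪ α := (s.equivFin.symm.toEmbedding).trans (Function.Embedding.subtype _)
  have hx : ∀ i, x i ∈ s := fun i => (s.equivFin.symm i).2
  let y : Fin s.card ↪ α := ⟨fun i => f (x i), by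
    intro i j hij
    have := hf (hx i) (hx j) hij
    exact x.injective this⟩
  obtain ⟨g, hg⟩ := MulAction.exists_smul_eq G x y
  refine ⟨g, g.2, ?_⟩
  intro a ha
  have h1 : x (s.equivFin ⟨a, ha⟩) = a := by simp [x]
  have h2 := congrArg (fun e : Fin s.card ↪ α => e (s.equivFin ⟨a, ha⟩)) hg
  simp only [Function.Embedding.smul_apply] at h2
  rw [h1] at h2
  have h3 : y (s.equivFin ⟨a, ha⟩) = f a := by
    show f (x _) = f a
    rw [h1]
  rw [h3] at h2
  simpa [Subgroup.smul_def, Perm.smul_def] using h2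


theorem conj_eq_of_agree (y h σ : Perm α) (hs : ∀ x ∈ y.support, h x = σ x) :
    h * y * h⁻¹ = σ * y * σ⁻¹ := by
  ext x
  simp only [Perm.mul_apply]
  by_cases hw : h⁻¹ x ∈ y.support
  · have h1 : h (h⁻¹ x) = σ (h⁻¹ x) := hs _ hw
    have h2 : σ⁻¹ x = h⁻¹ x := by
      rw [Perm.inv_eq_iff_eq, ← h1]; simp
    rw [h2]
    have h3 : y (h⁻¹ x) ∈ y.support := Perm.apply_mem_support.mpr hw
    exact hs _ h3
  · have hy : y (h⁻¹ x) = h⁻¹ x := Perm.notMem_support.mp hw
    rw [hy]
    by_cases hw' : σ⁻¹ x ∈ y.support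
    · exfalso
      have h4 := hs _ hw'
      have h5 : h⁻¹ x = σ⁻¹ x := by rw [Perm.inv_eq_iff_eq, h4]; simp
      exact hw (h5 ▸ hw')
    · rw [Perm.notMem_support.mp hw']; simp

theorem alt_le_of_threeCycle (G : Subgroup (Perm α)) (hE : Ext G 3) {z : Perm α} (hzG : z ∈ G)
    (hz : z.IsThreeCycle) : alternatingGroup α ≤ G := by
  rw [← Equiv.Perm.closure_three_cycles_eq_alternating, Subgroup.closure_le]
  intro w hw
  have hconj : IsConj z w := Equiv.Perm.isConj_iff_cycleType_eq.mpr (hz.trans hw.symm)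
  obtain ⟨σ, hσ⟩ := isConj_iff.mp hconj
  obtain ⟨h, hhG, hh⟩ := hE z.support (by rw [hz.card_support]) σ (σ.injective.injOn)
  have := conj_eq_of_agree z h σ hh
  rw [hσ] at this
  rw [SetLike.mem_coe, ← this]
  exact G.mul_mem (G.mul_mem hhG hzG) (G.inv_mem hhG)

/-- Lemma Y: a nontrivial element of small support yields a 3-cycle. -/
theorem exists_threeCycle (G : Subgroup (Perm α)) (t : ℕ) (hE : Ext G t) {y : Perm α} (hyG : y ∈ G)
    (hy1 : y ≠ 1) (hcard : y.support.card ≤ t) {c' : α} (hc' : c' ∉ y.support) :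
    ∃ z ∈ G, z.IsThreeCycle := by
  have hne : y.support.Nonempty := by
    rw [Finset.nonempty_iff_ne_empty, Ne, Perm.support_eq_empty_iff]; exact hy1
  obtain ⟨c, hc⟩ := hne
  have hcc' : c ≠ c' := fun h => hc' (h ▸ hc)
  obtain ⟨h, hhG, hh⟩ := hE y.support hcard (swap c c') ((swap c c').injective.injOn)
  have h1 := conj_eq_of_agree y h (swap c c') hh
  refine ⟨y⁻¹ * (h * y * h⁻¹), G.mul_mem (G.inv_mem hyG) (G.mul_mem (G.mul_mem hhG hyG) (G.inv_mem hhG)), ?_⟩
  rw [h1, swap_inv]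
  have h2 : y⁻¹ * (swap c c' * y * swap c c') = swap (y⁻¹ c) (y⁻¹ c') * swap c c' := by
    rw [swap_apply_apply]; group
  rw [h2]
  have h3 : y⁻¹ c' = c' := by
    rw [Perm.inv_eq_iff_eq]; exact (Perm.notMem_support.mp hc').symm
  have h4 : y⁻¹ c ≠ c := by
    intro h
    rw [Perm.inv_eq_iff_eq] at h
    exact (Perm.mem_support.mp hc) h.symm
  have h5 : y⁻¹ c ≠ c' := by
    intro h
    rw [Perm.inv_eq_iff_eq] at h
    rw [Perm.notMem_support.mp hc'] at h
    exact hcc' h
  rw [h3, swap_comm (y⁻¹ c) c', swap_comm c c']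
  exact isThreeCycle_swap_mul_swap_same h5.symm hcc'.symm h4

theorem alt_le_of_small_support (G : Subgroup (Perm α)) (t : ℕ) (ht : 3 ≤ t) (hE : Ext G t)
    {y : Perm α} (hyG : y ∈ G) (hy1 : y ≠ 1) (hcard : y.support.card ≤ t)
    (hlt : y.support.card < Fintype.card α) : alternatingGroup α ≤ G := by
  have : ∃ c', c' ∉ y.support := by
    by_contra hcon
    push Not at hcon
    have : y.support = Finset.univ := Finset.eq_univ_iff_forall.mpr hcon
    rw [this, Finset.card_univ] at hlt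
    exact lt_irrefl _ hlt
  obtain ⟨c', hc'⟩ := this
  obtain ⟨z, hzG, hz⟩ := exists_threeCycle G t hE hyG hy1 hcard hc'
  exact alt_le_of_threeCycle G (hE.mono ht) hzG hz

end Cfsg.Agent.Lib.Helper61.Miller
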