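import Mathlib
import Cfsg.Agent.Lib.Helper61.Miller1

set_option autoImplicit false
set_option linter.unusedVariables false
set_option linter.unusedSectionVars false

namespace Cfsg.Agent.Lib.Helper61.Miller

section
variable {G : Type*} [Group G] [Finite G]

/-- `P` is a Sylow `p`-subgroup of the subgroup `K` (cardinality version). -/
def IsSyl (p : ℕ) (K P : Subgroup G) : Prop :=
  P ≤ K ∧ Nat.card P = p ^ (Nat.card K).factorization p

theorem exists_isSyl (p : ℕ) [Fact p.Prime] (K : Subgroup G) : ∃ P, IsSyl p K P := by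
  obtain ⟨S⟩ : Nonempty (Sylow p ↥K) := inferInstance
  refine ⟨(S : Subgroup ↥K).map K.subtype, Subgroup.map_subtype_le _, ?_⟩
  rw [Subgroup.card_map_of_injective K.subtype_injective]
  exact S.card_eq_multiplicity

theorem isSyl_conj (p : ℕ) [Fact p.Prime] (K P1 P2 : Subgroup G) (h1 : IsSyl p K P1)
    (h2 : IsSyl p K P2) : ∃ k ∈ K, ∀ y, y ∈ P2 ↔ k⁻¹ * y * k ∈ P1 := by
  have c1 : Nat.card (P1.subgroupOf K) = p ^ (Nat.card K).factorization p := by
    rw [← h1.2]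
    exact Nat.card_congr (Subgroup.subgroupOfEquivOfLe h1.1).toEquiv
  have c2 : Nat.card (P2.subgroupOf K) = p ^ (Nat.card K).factorization p := by
    rw [← h2.2]
    exact Nat.card_congr (Subgroup.subgroupOfEquivOfLe h2.1).toEquiv
  let S1 : Sylow p ↥K := Sylow.ofCard (P1.subgroupOf K) c1
  let S2 : Sylow p ↥K := Sylow.ofCard (P2.subgroupOf K) c2
  obtain ⟨k, hk⟩ := MulAction.exists_smul_eq ↥K S1 S2
  have hk' : ∀ z : ↥K, z ∈ P2.subgroupOf K ↔ k⁻¹ * z * k ∈ P1.subgroupOf K := by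
    intro z
    have e1 : (S2 : Subgroup ↥K) = P2.subgroupOf K := rfl
    have e2 : (S1 : Subgroup ↥K) = P1.subgroupOf K := rfl
    rw [← e1, ← hk, Sylow.coe_subgroup_smul, Subgroup.mem_pointwise_smul_iff_inv_smul_mem, e2]
    simp [MulAut.smul_def, mul_assoc]
  refine ⟨k, k.2, ?_⟩
  intro y
  constructor
  · intro hy
    have hyK : y ∈ K := h2.1 hy
    have h3 := (hk' ⟨y, hyK⟩).mp (by rw [Subgroup.mem_subgroupOf]; exact hy)
    rw [Subgroup.mem_subgroupOf] at h3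
    simpa using h3
  · intro hy
    have hyK : y ∈ K := by
      have := K.mul_mem (K.mul_mem k.2 (h1.1 hy)) (K.inv_mem k.2)
      have e : (k : G) * ((k : G)⁻¹ * y * k) * (k : G)⁻¹ = y := by group
      rwa [e] at this
    have h3 := (hk' ⟨y, hyK⟩).mpr (by rw [Subgroup.mem_subgroupOf]; simpa using hy)
    rw [Subgroup.mem_subgroupOf] at h3
    exact h3

theorem IsSyl.isPGroup {p : ℕ} [Fact p.Prime] {K P : Subgroup G} (h : IsSyl p K P) : IsPGroup p P :=
  IsPGroup.of_card h.2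

/-- a `p`-subgroup of `K` is contained in a conjugate (under `K`) of a given Sylow subgroup. -/
theorem IsSyl.exists_conj_le {p : ℕ} [Fact p.Prime] {K P Q : Subgroup G} (h : IsSyl p K P)
    (hQK : Q ≤ K) (hQ : IsPGroup p Q) : ∃ k ∈ K, ∀ y ∈ Q, k⁻¹ * y * k ∈ P := by
  have hQ' : IsPGroup p (Q.subgroupOf K) := hQ.comap_subtype
  obtain ⟨S, hS⟩ := hQ'.exists_le_sylow
  have hS' : IsSyl p K ((S : Subgroup ↥K).map K.subtype) := by
    refine ⟨Subgroup.map_subtype_le _, ?_⟩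
    rw [Subgroup.card_map_of_injective K.subtype_injective]
    exact S.card_eq_multiplicity
  obtain ⟨k, hk, hk2⟩ := isSyl_conj p K P _ h hS'
  refine ⟨k, hk, fun y hy => ?_⟩
  apply (hk2 y).mp
  refine ⟨⟨y, hQK hy⟩, hS ?_, rfl⟩
  rw [Subgroup.mem_subgroupOf]
  exact hy

end

section perm
open Equiv

variable {α : Type*} [Fintype α] [DecidableEq α]

/-- pointwise stabilizer of a finset in `G` -/
def fixG (G : Subgroup (Perm α)) (s : Finset α) : Subgroup (Perm α) where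
  carrier := {g | g ∈ G ∧ ∀ x ∈ s, g x = x}
  one_mem' := ⟨G.one_mem, fun _ _ => rfl⟩
  mul_mem' := by
    rintro a b ⟨ha, ha'⟩ ⟨hb, hb'⟩
    refine ⟨G.mul_mem ha hb, fun x hx => ?_⟩
    rw [Perm.mul_apply, hb' x hx, ha' x hx]
  inv_mem' := by
    rintro a ⟨ha, ha'⟩
    refine ⟨G.inv_mem ha, fun x hx => ?_⟩
    rw [Perm.inv_eq_iff_eq, ha' x hx]

theorem mem_fixG {G : Subgroup (Perm α)} {s : Finset α} {g : Perm α} :
    g ∈ fixG G s ↔ g ∈ G ∧ ∀ x ∈ s, g x = x := Iff.rfl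

theorem fixG_le (G : Subgroup (Perm α)) (s : Finset α) : fixG G s ≤ G := fun _ h => h.1

/-- `a` is fixed by all of `U` -/
def FixedBy (U : Subgroup (Perm α)) (a : α) : Prop := ∀ u ∈ U, u a = a

theorem FixedBy.map {U : Subgroup (Perm α)} {a : α} (h : FixedBy U a) {x : Perm α}
    (hx : x ∈ Subgroup.normalizer (U : Set (Perm α))) : FixedBy U (x a) := by
  intro u hu
  have h1 : x⁻¹ * u * x⁻¹⁻¹ ∈ U :=
    (Subgroup.mem_normalizer_iff.mp ((Subgroup.normalizer (U : Set (Perm α))).inv_mem hx) u).mp hu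
  have h2 := h _ h1
  simp only [inv_inv, Perm.mul_apply] at h2
  rw [Perm.inv_eq_iff_eq] at h2
  exact h2

theorem FixedBy.map_iff {U : Subgroup (Perm α)} {a : α} {x : Perm α}
    (hx : x ∈ Subgroup.normalizer (U : Set (Perm α))) : FixedBy U (x a) ↔ FixedBy U a := by
  refine ⟨fun h => ?_, fun h => h.map hx⟩
  have := h.map ((Subgroup.normalizer (U : Set (Perm α))).inv_mem hx)
  simpa using this


/-- Witt's lemma -/
theorem witt (p : ℕ) [Fact p.Prime] (G : Subgroup (Perm α)) (t : ℕ) (hE : Ext G t) (Δ : Finset α)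
    (hΔ : Δ.card ≤ t) (U : Subgroup (Perm α)) (hU : IsSyl p (fixG G Δ) U) (f : α → α)
    (hf : Set.InjOn f (Δ : Set α)) (hfU : ∀ δ ∈ Δ, FixedBy U (f δ)) :
    ∃ x ∈ G, x ∈ Subgroup.normalizer (U : Set (Perm α)) ∧ ∀ δ ∈ Δ, x δ = f δ := by
  obtain ⟨g, hgG, hg⟩ := hE Δ hΔ f hf
  let U' : Subgroup (Perm α) := U.map (MulAut.conj g⁻¹).toMonoidHom
  have key : ∀ z, z ∈ U' ↔ g * z * g⁻¹ ∈ U := by
    intro z
    constructor
    · rintro ⟨u, hu, rfl⟩
      simp only [MulEquiv.coe_toMonoidHom, MulAut.conj_apply, inv_inv]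
      have e : g * (g⁻¹ * u * g) * g⁻¹ = u := by group
      rw [e]; exact hu
    · intro hz
      refine ⟨g * z * g⁻¹, hz, ?_⟩
      simp only [MulEquiv.coe_toMonoidHom, MulAut.conj_apply, inv_inv]
      group
  have hU' : IsSyl p (fixG G Δ) U' := by
    refine ⟨?_, ?_⟩
    · intro z hz
      have hz' := (key z).mp hz
      have hzG : g * z * g⁻¹ ∈ G := (fixG_le G Δ) (hU.1 hz')
      refine ⟨?_, ?_⟩
      · have := G.mul_mem (G.mul_mem (G.inv_mem hgG) hzG) hgG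
        have e : g⁻¹ * (g * z * g⁻¹) * g = z := by group
        rwa [e] at this
      · intro δ hδ
        have h1 := hfU δ hδ _ hz'
        rw [← hg δ hδ] at h1
        simp only [Perm.mul_apply] at h1
        rw [show g⁻¹ (g δ) = δ by simp] at h1
        exact g.injective h1
    · rw [Subgroup.card_map_of_injective (MulAut.conj g⁻¹).injective]
      exact hU.2
  obtain ⟨k, hk, hk2⟩ := isSyl_conj p (fixG G Δ) U U' hU hU'
  refine ⟨g * k, G.mul_mem hgG hk.1, ?_, ?_⟩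
  · rw [Subgroup.mem_normalizer_iff]
    intro v
    have h1 := hk2 (k * v * k⁻¹)
    rw [key] at h1
    have e1 : k⁻¹ * (k * v * k⁻¹) * k = v := by group
    have e2 : g * (k * v * k⁻¹) * g⁻¹ = g * k * v * (g * k)⁻¹ := by group
    rw [e1, e2] at h1
    exact h1.symm
  · intro δ hδ
    rw [Perm.mul_apply, hk.2 δ hδ, hg δ hδ]


/-- group induced by `M` on the subtype of a finset `S` -/
def indGroup (M : Subgroup (Perm α)) (S : Finset α) : Subgroup (Perm ↥S) where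
  carrier := {σ | ∃ x ∈ M, ∀ b : ↥S, x (b : α) = (σ b : α)}
  one_mem' := ⟨1, M.one_mem, fun b => rfl⟩
  mul_mem' := by
    rintro σ τ ⟨x, hx, hx'⟩ ⟨y, hy, hy'⟩
    refine ⟨x * y, M.mul_mem hx hy, fun b => ?_⟩
    rw [Perm.mul_apply, hy' b, hx' (τ b)]; rfl
  inv_mem' := by
    rintro σ ⟨x, hx, hx'⟩
    refine ⟨x⁻¹, M.inv_mem hx, fun b => ?_⟩
    rw [Perm.inv_eq_iff_eq, hx' (σ⁻¹ b)]; simp

theorem mem_indGroup {M : Subgroup (Perm α)} {S : Finset α} {σ : Perm ↥S} :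
    σ ∈ indGroup M S ↔ ∃ x ∈ M, ∀ b : ↥S, x (b : α) = (σ b : α) := Iff.rfl

theorem witt_ext (p : ℕ) [Fact p.Prime] (G : Subgroup (Perm α)) (t : ℕ) (hE : Ext G t)
    (Δ : Finset α) (hΔ : Δ.card = t) (U : Subgroup (Perm α)) (hU : IsSyl p (fixG G Δ) U)
    (Φ : Finset α) (hΦ : ∀ a, a ∈ Φ ↔ FixedBy U a) :
    Ext (indGroup (G ⊓ Subgroup.normalizer (U : Set (Perm α))) Φ) t := by
  have hsub : Δ ⊆ Φ := by
    intro δ hδ
    rw [hΦ]
    intro u hu
    exact (hU.1 hu).2 δ hδ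
  apply ext_of_pretransitive
  swap
  · rw [Fintype.card_coe, ← hΔ]; exact Finset.card_le_card hsub
  rw [MulAction.isMultiplyPretransitive_iff]
  let e : ↥Δ ≃ Fin t := Δ.equivFin.trans (finCongr hΔ)
  have lift : ∀ x : Fin t ↪ ↥Φ, ∃ n ∈ G, n ∈ Subgroup.normalizer (U : Set (Perm α)) ∧
      ∀ i : Fin t, n ((e.symm i : ↥Δ) : α) = (x i : α) := by
    intro x
    let f : α → α := fun a => if h : a ∈ Δ then (x (e ⟨a, h⟩) : α) else a
    have hf : Set.InjOn f (Δ : Set α) := by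
      intro a ha b hb hab
      have ha' : a ∈ Δ := ha
      have hb' : b ∈ Δ := hb
      simp only [f, dif_pos ha', dif_pos hb'] at hab
      have h1 := x.injective (Subtype.ext hab)
      have h2 := e.injective h1
      exact congrArg Subtype.val h2
    have hfU : ∀ δ ∈ Δ, FixedBy U (f δ) := by
      intro δ hδ
      simp only [f, dif_pos hδ]
      exact (hΦ _).mp (x (e ⟨δ, hδ⟩)).2
    obtain ⟨n, hnG, hnN, hn⟩ := witt p G t hE Δ hΔ.le U hU f hf hfU
    refine ⟨n, hnG, hnN, fun i => ?_⟩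
    have := hn (e.symm i : ↥Δ) (e.symm i).2
    rw [this]
    simp only [f, dif_pos (e.symm i).2]
    simp
  intro x y
  obtain ⟨nx, hxG, hxN, hx⟩ := lift x
  obtain ⟨ny, hyG, hyN, hy⟩ := lift y
  set N := G ⊓ Subgroup.normalizer (U : Set (Perm α)) with hN
  have hnxN : nx ∈ N := ⟨hxG, hxN⟩
  have hnyN : ny ∈ N := ⟨hyG, hyN⟩
  have hnN : ny * nx⁻¹ ∈ N := N.mul_mem hnyN (N.inv_mem hnxN)
  have hpres : ∀ a, (ny * nx⁻¹) a ∈ Φ ↔ a ∈ Φ := by
    intro a
    rw [hΦ, hΦ]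
    exact FixedBy.map_iff hnN.2
  let σ : Perm ↥Φ := (ny * nx⁻¹).subtypePerm hpres
  have hσ : σ ∈ indGroup N Φ := ⟨ny * nx⁻¹, hnN, fun b => rfl⟩
  refine ⟨⟨σ, hσ⟩, ?_⟩
  ext i
  simp only [Function.Embedding.smul_apply]
  show ((σ (x i) : ↥Φ) : α) = (y i : α)
  show (ny * nx⁻¹) (x i : α) = (y i : α)
  rw [Perm.mul_apply, ← hx i, ← hy i]
  simp

end perm

end Cfsg.Agent.Lib.Helper61.Miller
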