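import Mathlib
import Cfsg.Agent.Lib.Helper61.Miller1

set_option autoImplicit false
set_option linter.unusedVariables false
set_option linter.unusedSectionVars false

namespace Cfsg.Agent.Lib.Helper61.Marggraf

open Equiv Equiv.Perm

variable {α : Type*} [Fintype α] [DecidableEq α]

/-- image of a finset under a permutation -/
def im (g : Perm α) (s : Finset α) : Finset α := s.map g.toEmbedding

theorem mem_im {g : Perm α} {s : Finset α} {x : α} : x ∈ im g s ↔ g⁻¹ x ∈ s := by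
  unfold im
  rw [Finset.mem_map_equiv]; rfl

theorem apply_mem_im {g : Perm α} {s : Finset α} {x : α} : g x ∈ im g s ↔ x ∈ s := by
  rw [mem_im]; simp

theorem card_im (g : Perm α) (s : Finset α) : (im g s).card = s.card := by
  unfold im; exact Finset.card_map _

theorem im_one (s : Finset α) : im 1 s = s := by
  ext x; rw [mem_im]; simp

theorem im_mul (g h : Perm α) (s : Finset α) : im (g * h) s = im g (im h s) := by
  ext x; simp only [mem_im, mul_inv_rev, Perm.mul_apply]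

theorem im_inv_im (g : Perm α) (s : Finset α) : im g⁻¹ (im g s) = s := by
  rw [← im_mul]; simp [im_one]

theorem im_im_inv (g : Perm α) (s : Finset α) : im g (im g⁻¹ s) = s := by
  rw [← im_mul]; simp [im_one]

theorem im_compl (g : Perm α) (s : Finset α) : im g sᶜ = (im g s)ᶜ := by
  ext x; simp only [mem_im, Finset.mem_compl]

theorem im_union (g : Perm α) (s t : Finset α) : im g (s ∪ t) = im g s ∪ im g t := by
  ext x; simp only [mem_im, Finset.mem_union]

theorem im_inter (g : Perm α) (s t : Finset α) : im g (s ∩ t) = im g s ∩ im g t := by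
  ext x; simp only [mem_im, Finset.mem_inter]

theorem im_sdiff (g : Perm α) (s t : Finset α) : im g (s \ t) = im g s \ im g t := by
  ext x; simp only [mem_im, Finset.mem_sdiff]

theorem im_subset {g : Perm α} {s t : Finset α} (h : s ⊆ t) : im g s ⊆ im g t := by
  intro x hx; rw [mem_im] at hx ⊢; exact h hx

theorem im_subset_iff {g : Perm α} {s t : Finset α} : im g s ⊆ im g t ↔ s ⊆ t := by
  constructor
  · intro h x hx
    have := h (apply_mem_im.mpr hx)
    exact apply_mem_im.mp this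
  · exact im_subset

theorem im_injective (g : Perm α) {s t : Finset α} (h : im g s = im g t) : s = t := by
  have := congrArg (im g⁻¹) h
  rwa [im_inv_im, im_inv_im] at this

/-- a permutation fixing the complement of `s` pointwise preserves `s` -/
theorem mem_iff_of_fix {g : Perm α} {s : Finset α} (h : ∀ x, x ∉ s → g x = x) (x : α) :
    g x ∈ s ↔ x ∈ s := by
  constructor
  · intro hx
    by_contra hn
    rw [h x hn] at hx
    exact hn hx
  · intro hx
    by_contra hn
    have h1 : g (g x) = g x := h _ hn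
    have h2 : g x = x := g.injective h1
    rw [h2] at hn
    exact hn hx

theorem im_eq_of_fix {g : Perm α} {s : Finset α} (h : ∀ x, x ∉ s → g x = x) : im g s = s := by
  ext x
  rw [mem_im]
  have := mem_iff_of_fix h (g⁻¹ x)
  have e : g (g⁻¹ x) = x := by simp
  rw [e] at this
  exact this.symm

theorem fix_inv {g : Perm α} {s : Finset α} (h : ∀ x, x ∉ s → g x = x) :
    ∀ x, x ∉ s → g⁻¹ x = x := by
  intro x hx
  rw [Perm.inv_eq_iff_eq, h x hx]

theorem fix_mul {g h : Perm α} {s : Finset α} (hg : ∀ x, x ∉ s → g x = x)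
    (hh : ∀ x, x ∉ s → h x = x) : ∀ x, x ∉ s → (g * h) x = x := by
  intro x hx
  rw [Perm.mul_apply, hh x hx, hg x hx]

/-- `Γ` is a Jordan set for the permutation group `G` -/
def IsJ (G : Subgroup (Perm α)) (Γ : Finset α) : Prop :=
  ∀ a ∈ Γ, ∀ b ∈ Γ, ∃ g ∈ G, (∀ x, x ∉ Γ → g x = x) ∧ g a = b

theorem IsJ.conj {G : Subgroup (Perm α)} {Γ : Finset α} (h : IsJ G Γ) {g : Perm α} (hg : g ∈ G) :
    IsJ G (im g Γ) := by
  intro a ha b hb
  rw [mem_im] at ha hb
  obtain ⟨k, hk, hfix, hab⟩ := h _ ha _ hb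
  refine ⟨g * k * g⁻¹, G.mul_mem (G.mul_mem hg hk) (G.inv_mem hg), ?_, ?_⟩
  · intro x hx
    rw [mem_im] at hx
    simp only [Perm.mul_apply]
    rw [hfix _ hx]; simp
  · simp only [Perm.mul_apply]
    rw [hab]; simp

theorem IsJ.union {G : Subgroup (Perm α)} {Γ₁ Γ₂ : Finset α} (h1 : IsJ G Γ₁) (h2 : IsJ G Γ₂)
    (hne : (Γ₁ ∩ Γ₂).Nonempty) : IsJ G (Γ₁ ∪ Γ₂) := by
  obtain ⟨c, hc⟩ := hne
  rw [Finset.mem_inter] at hc
  have key : ∀ a ∈ Γ₁ ∪ Γ₂, ∃ g ∈ G, (∀ x, x ∉ Γ₁ ∪ Γ₂ → g x = x) ∧ g a = c := by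
    intro a ha
    rcases Finset.mem_union.mp ha with ha | ha
    · obtain ⟨g, hg, hfix, hgc⟩ := h1 a ha c hc.1
      exact ⟨g, hg, fun x hx => hfix x (fun h => hx (Finset.mem_union_left _ h)), hgc⟩
    · obtain ⟨g, hg, hfix, hgc⟩ := h2 a ha c hc.2
      exact ⟨g, hg, fun x hx => hfix x (fun h => hx (Finset.mem_union_right _ h)), hgc⟩
  intro a ha b hb
  obtain ⟨g, hg, hgf, hgc⟩ := key a ha
  obtain ⟨k, hk, hkf, hkc⟩ := key b hb
  refine ⟨k⁻¹ * g, G.mul_mem (G.inv_mem hk) hg, fix_mul (fix_inv hkf) hgf, ?_⟩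
  rw [Perm.mul_apply, hgc, Perm.inv_eq_iff_eq, hkc]

theorem IsJ.mono_group {G K : Subgroup (Perm α)} (hGK : G ≤ K) {Γ : Finset α} (h : IsJ G Γ) :
    IsJ K Γ := by
  intro a ha b hb
  obtain ⟨g, hg, h1, h2⟩ := h a ha b hb
  exact ⟨g, hGK hg, h1, h2⟩

/-- elementary 2-transitivity -/
def TwoTrans (G : Subgroup (Perm α)) : Prop :=
  ∀ a b c d : α, a ≠ b → c ≠ d → ∃ g ∈ G, g a = c ∧ g b = d

/-- elementary transitivity -/
def Trans (G : Subgroup (Perm α)) : Prop := ∀ a b : α, ∃ g ∈ G, g a = b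

/-- quasiprimitivity, elementary form -/
def QP (G : Subgroup (Perm α)) : Prop :=
  ∀ N : Subgroup (Perm α), N ≤ G → (∀ g ∈ G, ∀ n ∈ N, g * n * g⁻¹ ∈ N) → N ≠ ⊥ → Trans N

theorem TwoTrans.qp {G : Subgroup (Perm α)} (h : TwoTrans G) : QP G := by
  intro N hNG hnorm hne a b
  by_cases hab : a = b
  · exact ⟨1, N.one_mem, by simpa using hab⟩
  · obtain ⟨n, hn, hn1⟩ : ∃ n ∈ N, n ≠ 1 := by
      by_contra hcon
      push Not at hcon
      apply hne
      rw [Subgroup.eq_bot_iff_forall]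
      exact hcon
    obtain ⟨x, hx⟩ : ∃ x, n x ≠ x := by
      by_contra hcon
      push Not at hcon
      exact hn1 (Perm.ext hcon)
    obtain ⟨g, hg, hg1, hg2⟩ := h x (n x) a b (Ne.symm hx) hab
    refine ⟨g * n * g⁻¹, hnorm g hg n hn, ?_⟩
    simp only [Perm.mul_apply]
    rw [← hg1]; simp [hg2]

theorem TwoTrans.trans {G : Subgroup (Perm α)} (h : TwoTrans G) (hcard : 2 ≤ Fintype.card α) :
    Trans G := by
  intro a b
  by_cases hab : a = b
  · exact ⟨1, G.one_mem, by simpa using hab⟩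
  · obtain ⟨g, hg, h1, _⟩ := h a b b a hab (Ne.symm hab)
    exact ⟨g, hg, h1⟩

end Cfsg.Agent.Lib.Helper61.Marggraf
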