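import Mathlib
import Cfsg.Agent.Lib.Helper61.Marg1

set_option autoImplicit false
set_option linter.unusedVariables false
set_option linter.unusedSectionVars false

namespace Cfsg.Agent.Lib.Helper61.Marggraf

open Equiv Equiv.Perm MulAction
open scoped Pointwise

variable {α : Type*} [Fintype α] [DecidableEq α]

/-- elementary primitivity -/
def Prim (G : Subgroup (Perm α)) : Prop :=
  Trans G ∧ ∀ B : Finset α, (∀ g ∈ G, im g B = B ∨ Disjoint (im g B) B) →
    B.card ≤ 1 ∨ B = Finset.univ

theorem sub_smul_def (G : Subgroup (Perm α)) (g : ↥G) (x : α) : g • x = (g : Perm α) x := rfl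

theorem mem_smul_set_iff' (G : Subgroup (Perm α)) (g : ↥G) (B : Set α) (x : α) :
    x ∈ g • B ↔ (g : Perm α)⁻¹ x ∈ B := by
  rw [Set.mem_smul_set_iff_inv_smul_mem]
  rfl

theorem Prim.isPreprimitive {G : Subgroup (Perm α)} (h : Prim G) : IsPreprimitive ↥G α := by
  classical
  have hT : IsPretransitive ↥G α := ⟨fun a b => by
    obtain ⟨g, hg, hgab⟩ := h.1 a b
    exact ⟨⟨g, hg⟩, hgab⟩⟩
  refine { toIsPretransitive := hT, isTrivialBlock_of_isBlock := ?_ }
  intro B hB
  rw [isBlock_iff_smul_eq_or_disjoint] at hB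
  have hmem : ∀ x, x ∈ B.toFinset ↔ x ∈ B := fun x => Set.mem_toFinset
  have key := h.2 B.toFinset (by
    intro g hg
    rcases hB ⟨g, hg⟩ with h1 | h1
    · left
      ext x
      rw [mem_im, hmem, hmem]
      have := Set.ext_iff.mp h1 x
      rw [mem_smul_set_iff'] at this
      exact this
    · right
      rw [Finset.disjoint_left]
      intro x hx hx'
      rw [mem_im, hmem] at hx
      rw [hmem] at hx'
      have h2 : x ∈ (⟨g, hg⟩ : ↥G) • B := by
        rw [mem_smul_set_iff']; exact hx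
      exact Set.disjoint_left.mp h1 h2 hx')
  rcases key with h1 | h1
  · left
    intro x hx y hy
    have h2 : B.toFinset.card ≤ 1 := h1
    rw [Finset.card_le_one] at h2
    exact h2 x ((hmem x).mpr hx) y ((hmem y).mpr hy)
  · right
    ext x
    simp only [Set.mem_univ, iff_true]
    rw [← hmem, h1]; exact Finset.mem_univ x

/-- Mathlib form of the Jordan-set property -/
theorem IsJ.pretransitive {G : Subgroup (Perm α)} {Γ : Finset α} (h : IsJ G Γ) :
    IsPretransitive (fixingSubgroup ↥G ((Γᶜ : Finset α) : Set α))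
      (SubMulAction.ofFixingSubgroup ↥G ((Γᶜ : Finset α) : Set α)) := by
  refine ⟨fun x y => ?_⟩
  have hx : (x : α) ∈ Γ := by
    have := x.2
    rw [SubMulAction.mem_ofFixingSubgroup_iff] at this
    simpa using this
  have hy : (y : α) ∈ Γ := by
    have := y.2
    rw [SubMulAction.mem_ofFixingSubgroup_iff] at this
    simpa using this
  obtain ⟨g, hg, hfix, hgxy⟩ := h _ hx _ hy
  refine ⟨⟨⟨g, hg⟩, ?_⟩, ?_⟩
  · rw [mem_fixingSubgroup_iff]
    intro z hz
    have : z ∉ Γ := by simpa using hz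
    exact hfix z this
  · apply Subtype.ext
    exact hgxy

theorem isJ_of_pretransitive {G : Subgroup (Perm α)} {Γ : Finset α}
    (h : IsPretransitive (fixingSubgroup ↥G ((Γᶜ : Finset α) : Set α))
      (SubMulAction.ofFixingSubgroup ↥G ((Γᶜ : Finset α) : Set α))) : IsJ G Γ := by
  intro a ha b hb
  have ha' : a ∈ SubMulAction.ofFixingSubgroup ↥G ((Γᶜ : Finset α) : Set α) := by
    rw [SubMulAction.mem_ofFixingSubgroup_iff]; simpa using ha
  have hb' : b ∈ SubMulAction.ofFixingSubgroup ↥G ((Γᶜ : Finset α) : Set α) := by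
    rw [SubMulAction.mem_ofFixingSubgroup_iff]; simpa using hb
  obtain ⟨g, hg⟩ := h.exists_smul_eq ⟨a, ha'⟩ ⟨b, hb'⟩
  refine ⟨(g : ↥G), (g : ↥G).2, ?_, ?_⟩
  · intro x hx
    have := (mem_fixingSubgroup_iff ↥G).mp g.2 x (by simpa using hx)
    exact this
  · have := congrArg Subtype.val hg
    exact this

theorem Prim.twoTrans {G : Subgroup (Perm α)} (hP : Prim G) {Γ : Finset α} (hJ : IsJ G Γ)
    (h2 : 2 ≤ Γ.card) (hlt : Γ.card < Fintype.card α) : TwoTrans G := by
  have hprim := hP.isPreprimitive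
  have hc : (Γᶜ : Finset α).card = Fintype.card α - Γ.card := Finset.card_compl Γ
  have hsn : (((Γᶜ : Finset α) : Set α)).ncard = ((Γᶜ : Finset α).card - 1) + 1 := by
    rw [Set.ncard_coe_finset]; omega
  have hsn' : ((Γᶜ : Finset α).card - 1) + 2 < Nat.card α := by
    rw [Nat.card_eq_fintype_card]; omega
  have h2t := hprim.is_two_pretransitive hsn hsn' hJ.pretransitive
  rw [is_two_pretransitive_iff] at h2t
  intro a b c d hab hcd
  obtain ⟨g, hg1, hg2⟩ := h2t hab hcd
  exact ⟨g, g.2, hg1, hg2⟩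

theorem Prim.alt_of_threeCycle {G : Subgroup (Perm α)} (hP : Prim G) {g : Perm α}
    (hg : g ∈ G) (h3 : g.IsThreeCycle) : alternatingGroup α ≤ G :=
  alternatingGroup_le_of_isPreprimitive_of_isThreeCycle_mem hP.isPreprimitive h3 hg

theorem Prim.alt_of_swap {G : Subgroup (Perm α)} (hP : Prim G) {g : Perm α}
    (hg : g ∈ G) (h2 : g.IsSwap) : alternatingGroup α ≤ G := by
  have := subgroup_eq_top_of_isPreprimitive_of_isSwap_mem hP.isPreprimitive g h2 hg
  rw [this]; exact le_top

/-- Jordan 13.2 wrapper: a Jordan set with 2-transitive fixator gives high transitivity. -/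
theorem Prim.ext_of_twoTransJ {G : Subgroup (Perm α)} (hP : Prim G) {P : Finset α}
    (h2 : 2 ≤ P.card) (hlt : P.card < Fintype.card α)
    (hJ2 : ∀ a ∈ P, ∀ b ∈ P, ∀ c ∈ P, ∀ d ∈ P, a ≠ b → c ≠ d →
      ∃ g ∈ G, (∀ x, x ∉ P → g x = x) ∧ g a = c ∧ g b = d) :
    Miller.Ext G (Fintype.card α - P.card + 1) := by
  have hprim := hP.isPreprimitive
  have hc : (Pᶜ : Finset α).card = Fintype.card α - P.card := Finset.card_compl P
  set s : Set α := ((Pᶜ : Finset α) : Set α) with hs
  have hsn : s.ncard = ((Pᶜ : Finset α).card - 1) + 1 := by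
    rw [hs, Set.ncard_coe_finset]; omega
  have hsn' : ((Pᶜ : Finset α).card - 1) + 2 < Nat.card α := by
    rw [Nat.card_eq_fintype_card]; omega
  have hmemP : ∀ x : SubMulAction.ofFixingSubgroup ↥G s, (x : α) ∈ P := by
    intro x
    have := x.2
    rw [SubMulAction.mem_ofFixingSubgroup_iff] at this
    simpa [hs] using this
  have h2t : IsMultiplyPretransitive (fixingSubgroup ↥G s) (SubMulAction.ofFixingSubgroup ↥G s) 2 := by
    rw [is_two_pretransitive_iff]
    intro a b c d hab hcd
    have hab' : (a : α) ≠ b := fun h => hab (Subtype.ext h)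
    have hcd' : (c : α) ≠ d := fun h => hcd (Subtype.ext h)
    obtain ⟨g, hg, hfix, hg1, hg2⟩ := hJ2 _ (hmemP a) _ (hmemP b) _ (hmemP c) _ (hmemP d) hab' hcd'
    refine ⟨⟨⟨g, hg⟩, ?_⟩, ?_, ?_⟩
    · rw [mem_fixingSubgroup_iff]
      intro z hz
      have : z ∉ P := by simpa [hs] using hz
      exact hfix z this
    · apply Subtype.ext; exact hg1
    · apply Subtype.ext; exact hg2
  have hpp := isPreprimitive_of_is_two_pretransitive h2t
  have hmp := hprim.isMultiplyPreprimitive hsn hsn' hpp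
  have hmt : IsMultiplyPretransitive ↥G α ((Pᶜ : Finset α).card - 1 + 2) :=
    IsMultiplyPreprimitive.isMultiplyPretransitive ↥G α _
  have e : (Pᶜ : Finset α).card - 1 + 2 = Fintype.card α - P.card + 1 := by omega
  rw [e] at hmt
  exact Miller.ext_of_pretransitive G _ hmt (by omega)

end Cfsg.Agent.Lib.Helper61.Marggraf
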