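import Mathlib
import Cfsg.Agent.Lib.Helper61.Marg2

set_option autoImplicit false
set_option linter.unusedVariables false
set_option linter.unusedSectionVars false

namespace Cfsg.Agent.Lib.Helper61.Marggraf

open Equiv Equiv.Perm

variable {α : Type*} [Fintype α] [DecidableEq α]

theorem im_pair (g : Perm α) (a b : α) : im g {a, b} = {g a, g b} := by
  ext x
  rw [mem_im]
  simp only [Finset.mem_insert, Finset.mem_singleton, Perm.inv_eq_iff_eq]

theorem card_union_le_of_inter {s t : Finset α} (h : (s ∩ t).Nonempty) :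
    (s ∪ t).card + 1 ≤ s.card + t.card := by
  have := Finset.card_union_add_card_inter s t
  have h1 : 1 ≤ (s ∩ t).card := Finset.card_pos.mpr h
  omega

theorem inter_nonempty_of_card {s t : Finset α} (h : Fintype.card α < s.card + t.card) :
    (s ∩ t).Nonempty := by
  have := Finset.card_union_add_card_inter s t
  have h1 : (s ∪ t).card ≤ Fintype.card α := Finset.card_le_univ _
  rw [← Finset.card_pos]
  omega

/-- Theorem A: a primitive group with a Jordan set of size between 2 and less than half the
degree is 3-transitive, in Jordan-set form. -/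
theorem three_trans {G : Subgroup (Perm α)} (hP : Prim G) {Γ : Finset α} (hJ : IsJ G Γ)
    (h2 : 2 ≤ Γ.card) (hlt : 2 * Γ.card < Fintype.card α) :
    ∀ a b : α, a ≠ b → IsJ G ({a, b}ᶜ : Finset α) := by
  classical
  have hTT : TwoTrans G := hP.twoTrans hJ h2 (by omega)
  by_contra hcon
  push Not at hcon
  obtain ⟨a₀, b₀, hab₀, hnJ⟩ := hcon
  set n := Fintype.card α with hn
  -- no Jordan set of size n - 2
  have star : ∀ P : Finset α, IsJ G P → P.card ≠ n - 2 := by
    intro P hPJ hc
    have hc2 : (Pᶜ : Finset α).card = 2 := by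
      rw [Finset.card_compl]; omega
    obtain ⟨a, b, hab, hPab⟩ := Finset.card_eq_two.mp hc2
    obtain ⟨g, hg, hga, hgb⟩ := hTT a b a₀ b₀ hab hab₀
    have h1 : im g P = ({a₀, b₀}ᶜ : Finset α) := by
      have : P = ({a, b}ᶜ : Finset α) := by rw [← hPab, compl_compl]
      rw [this, im_compl, im_pair, hga, hgb]
    apply hnJ
    rw [← h1]
    exact hPJ.conj hg
  -- maximal Jordan set of size ≤ n - 2 containing Γ
  let S : Finset (Finset α) :=
    Finset.univ.filter (fun P => IsJ G P ∧ Γ ⊆ P ∧ P.card ≤ n - 2)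
  have hΓS : Γ ∈ S := by
    simp only [S, Finset.mem_filter, Finset.mem_univ, true_and]
    exact ⟨hJ, Finset.Subset.refl _, by omega⟩
  obtain ⟨M, hMS, hMmax⟩ := Finset.exists_max_image S Finset.card ⟨Γ, hΓS⟩
  simp only [S, Finset.mem_filter, Finset.mem_univ, true_and] at hMS hMmax
  obtain ⟨hMJ, hΓM, hMc⟩ := hMS
  have hMc3 : M.card ≤ n - 3 := by
    have := star M hMJ
    omega
  have hMc2 : 2 ≤ M.card := le_trans h2 (Finset.card_le_card hΓM)
  -- property (P)
  have propP : ∀ g ∈ G, ∀ Q : Finset α, IsJ G Q → (Q ∩ im g M).Nonempty →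
      (Q ∪ im g M).card ≤ n - 2 → Q ⊆ im g M := by
    intro g hg Q hQJ hne hcard
    have hQ'J : IsJ G (im g⁻¹ Q) := hQJ.conj (G.inv_mem hg)
    have hne' : (im g⁻¹ Q ∩ M).Nonempty := by
      obtain ⟨x, hx⟩ := hne
      rw [Finset.mem_inter] at hx
      refine ⟨g⁻¹ x, ?_⟩
      rw [Finset.mem_inter]
      refine ⟨apply_mem_im.mpr hx.1, ?_⟩
      exact mem_im.mp hx.2
    have hUJ : IsJ G (im g⁻¹ Q ∪ M) := hQ'J.union hMJ hne'
    have hUc : (im g⁻¹ Q ∪ M).card = (Q ∪ im g M).card := by
      have : im g (im g⁻¹ Q ∪ M) = Q ∪ im g M := by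
        rw [im_union, im_im_inv]
      rw [← this, card_im]
    have hle := hMmax (im g⁻¹ Q ∪ M)
      ⟨hUJ, hΓM.trans Finset.subset_union_right, by rw [hUc]; exact hcard⟩
    have heq : M = im g⁻¹ Q ∪ M :=
      Finset.eq_of_subset_of_card_le Finset.subset_union_right hle
    have hsub : im g⁻¹ Q ⊆ M := by
      rw [heq]; exact Finset.subset_union_left
    have := im_subset (g := g) hsub
    rwa [im_im_inv] at this
  rcases Nat.lt_or_ge (2 * M.card) n with hcase | hcase
  · -- Case I : M is a block
    have hblock : ∀ g ∈ G, im g M = M ∨ Disjoint (im g M) M := by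
      intro g hg
      by_cases hne : (im g M ∩ M).Nonempty
      · left
        have h1 := card_union_le_of_inter hne
        rw [card_im] at h1
        have h3 : im g M ⊆ im 1 M := by
          apply propP 1 G.one_mem (im g M) (hMJ.conj hg)
          · rw [im_one]; exact hne
          · rw [im_one]; omega
        rw [im_one] at h3
        exact Finset.eq_of_subset_of_card_le h3 (by rw [card_im])
      · right
        rw [Finset.not_nonempty_iff_eq_empty] at hne
        exact Finset.disjoint_iff_inter_eq_empty.mpr hne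
    rcases hP.2 M hblock with h1 | h1
    · omega
    · rw [h1, Finset.card_univ] at hMc3
      omega
  · -- Case II
    set R : Finset α := Mᶜ with hR
    have hRc : R.card = n - M.card := by rw [hR, Finset.card_compl]
    have hRc3 : 3 ≤ R.card := by omega
    have him_R : ∀ g : Perm α, im g R = (im g M)ᶜ := fun g => by rw [hR, im_compl]
    have propQ : ∀ g ∈ G, 2 ≤ (im g R ∩ R).card → im g R = R := by
      intro g hg hc
      have h1 : (im g M ∪ M)ᶜ = im g R ∩ R := by
        rw [him_R, hR, Finset.compl_union]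
      have h2c : (im g M ∪ M).card = n - (im g R ∩ R).card := by
        have := Finset.card_compl (im g M ∪ M)
        rw [h1] at this
        have h3 : (im g M ∪ M).card ≤ n := Finset.card_le_univ _
        omega
      have h4 := Finset.card_union_add_card_inter (im g M) M
      rw [card_im] at h4
      have h5 : (im g R ∩ R).card ≤ n := Finset.card_le_univ _
      have hne : (im g M ∩ M).Nonempty := by
        rw [← Finset.card_pos]; omega
      have h3 : im g M ⊆ im 1 M := by
        apply propP 1 G.one_mem (im g M) (hMJ.conj hg)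
        · rw [im_one]; exact hne
        · rw [im_one]; omega
      rw [im_one] at h3
      have h6 : im g M = M := Finset.eq_of_subset_of_card_le h3 (by rw [card_im])
      rw [him_R, h6]
    have propQ' : ∀ g ∈ G, ∀ k ∈ G, 2 ≤ (im g R ∩ im k R).card → im g R = im k R := by
      intro g hg k hk hc
      have h1 : im (k⁻¹ * g) R ∩ R = im k⁻¹ (im g R ∩ im k R) := by
        rw [im_inter, im_inv_im, im_mul]
      have h2' : im (k⁻¹ * g) R = R := by
        apply propQ _ (G.mul_mem (G.inv_mem hk) hg)
        rw [h1, card_im]; exact hc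
      rw [im_mul] at h2'
      have := congrArg (im k) h2'
      rwa [im_im_inv] at this
    have propL : ∀ x y : α, x ≠ y → ∃ g ∈ G, x ∈ im g R ∧ y ∈ im g R := by
      intro x y hxy
      obtain ⟨r₁, hr₁, r₂, hr₂, hr⟩ := Finset.one_lt_card.mp (show 1 < R.card by omega)
      obtain ⟨g, hg, h1, h2'⟩ := hTT r₁ r₂ x y hr hxy
      refine ⟨g, hg, ?_, ?_⟩
      · rw [← h1]; exact apply_mem_im.mpr hr₁
      · rw [← h2']; exact apply_mem_im.mpr hr₂
    have tri : ∀ g ∈ G, Γ ⊆ im g R ∨ (im g R \ Γ).card ≤ 1 ∨ Disjoint Γ (im g R) := by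
      intro g hg
      by_cases h1 : (Γ ∩ im g M).Nonempty
      · by_cases h2' : 2 ≤ (im g R \ Γ).card
        · right; right
          have h3 : (Γ ∪ im g M)ᶜ = im g R \ Γ := by
            rw [him_R]
            ext x
            simp only [Finset.mem_compl, Finset.mem_union, Finset.mem_sdiff, not_or]
            tauto
          have h4 := Finset.card_compl (Γ ∪ im g M)
          rw [h3] at h4
          have h5 : (Γ ∪ im g M).card ≤ n := Finset.card_le_univ _
          have h6 : Γ ⊆ im g M := propP g hg Γ hJ h1 (by omega)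
          rw [him_R, Finset.disjoint_left]
          intro x hx hx'
          exact (Finset.mem_compl.mp hx') (h6 hx)
        · right; left; omega
      · left
        rw [Finset.not_nonempty_iff_eq_empty] at h1
        intro x hx
        rw [him_R, Finset.mem_compl]
        intro hx'
        have : x ∈ Γ ∩ im g M := Finset.mem_inter.mpr ⟨hx, hx'⟩
        rw [h1] at this
        exact (Finset.notMem_empty x) this
    obtain ⟨γ, hγ, γ', hγ', hγγ'⟩ := Finset.one_lt_card.mp (show 1 < Γ.card by omega)
    -- third point on a line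
    have third : ∀ g : Perm α, ∀ u v : α, ∃ x ∈ im g R, x ≠ u ∧ x ≠ v := by
      intro g u v
      have hc : 3 ≤ (im g R).card := by rw [card_im]; exact hRc3
      have h1 : 1 ≤ (((im g R).erase u).erase v).card := by
        have e1 := Finset.pred_card_le_card_erase (s := im g R) (a := u)
        have e2 := Finset.pred_card_le_card_erase (s := (im g R).erase u) (a := v)
        omega
      obtain ⟨x, hx⟩ := Finset.card_pos.mp h1
      rw [Finset.mem_erase, Finset.mem_erase] at hx
      exact ⟨x, hx.2.2, hx.2.1, hx.1⟩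
    have two_mem : ∀ (s t : Finset α) (u v : α), u ≠ v → u ∈ s → v ∈ s → u ∈ t → v ∈ t →
        2 ≤ (s ∩ t).card := by
      intro s t u v huv hus hvs hut hvt
      have : ({u, v} : Finset α) ⊆ s ∩ t := by
        intro x hx
        rw [Finset.mem_insert, Finset.mem_singleton] at hx
        rcases hx with rfl | rfl
        · exact Finset.mem_inter.mpr ⟨hus, hut⟩
        · exact Finset.mem_inter.mpr ⟨hvs, hvt⟩
      have h1 := Finset.card_le_card this
      rwa [Finset.card_pair huv] at h1
    by_cases hsub : ∃ g₀ ∈ G, Γ ⊆ im g₀ R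
    · -- sub-case (i)
      obtain ⟨g₀, hg₀, hΓR₀⟩ := hsub
      have claim : ∀ δ, δ ∉ Γ → δ ∈ im g₀ R := by
        intro δ hδ
        by_contra hδR
        have hγδ : γ ≠ δ := fun h => hδ (h ▸ hγ)
        obtain ⟨g, hg, hgγ, hgδ⟩ := propL γ δ hγδ
        obtain ⟨x, hxR, hxγ, hxδ⟩ := third g γ δ
        have hne : im g R ≠ im g₀ R := fun h => hδR (h ▸ hgδ)
        by_cases hxΓ : x ∈ Γ
        · apply hne
          apply propQ' g hg g₀ hg₀
          exact two_mem _ _ γ x (Ne.symm hxγ) hgγ hxR (hΓR₀ hγ) (hΓR₀ hxΓ)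
        · rcases tri g hg with h1 | h1 | h1
          · apply hne
            apply propQ' g hg g₀ hg₀
            exact two_mem _ _ γ γ' hγγ' (h1 hγ) (h1 hγ') (hΓR₀ hγ) (hΓR₀ hγ')
          · have : ({δ, x} : Finset α) ⊆ im g R \ Γ := by
              intro y hy
              rw [Finset.mem_insert, Finset.mem_singleton] at hy
              rcases hy with rfl | rfl
              · exact Finset.mem_sdiff.mpr ⟨hgδ, hδ⟩
              · exact Finset.mem_sdiff.mpr ⟨hxR, hxΓ⟩
            have h3 := Finset.card_le_card this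
            rw [Finset.card_pair (Ne.symm hxδ)] at h3
            omega
          · exact (Finset.disjoint_left.mp h1 hγ) hgγ
      have huniv : im g₀ R = Finset.univ := by
        ext x
        simp only [Finset.mem_univ, iff_true]
        by_cases hx : x ∈ Γ
        · exact hΓR₀ hx
        · exact claim x hx
      have := congrArg Finset.card huniv
      rw [card_im, Finset.card_univ] at this
      omega
    · -- sub-case (ii)
      push Not at hsub
      have ex : ∀ δ, δ ∉ Γ → ∃ x ∈ Γ, x ≠ γ ∧ ∃ g ∈ G, γ ∈ im g R ∧ δ ∈ im g R ∧ x ∈ im g R ∧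
          (∀ y ∈ im g R, y ∉ Γ → y = δ) := by
        intro δ hδ
        have hγδ : γ ≠ δ := fun h => hδ (h ▸ hγ)
        obtain ⟨g, hg, hgγ, hgδ⟩ := propL γ δ hγδ
        obtain ⟨x, hxR, hxγ, hxδ⟩ := third g γ δ
        have hone : (im g R \ Γ).card ≤ 1 := by
          rcases tri g hg with h1 | h1 | h1
          · exact absurd h1 (hsub g hg)
          · exact h1
          · exact absurd hgγ (Finset.disjoint_left.mp h1 hγ)
        have huniq : ∀ y ∈ im g R, y ∉ Γ → y = δ := by
          intro y hy hyΓ
          rw [Finset.card_le_one] at hone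
          exact hone y (Finset.mem_sdiff.mpr ⟨hy, hyΓ⟩) δ (Finset.mem_sdiff.mpr ⟨hgδ, hδ⟩)
        have hxΓ : x ∈ Γ := by
          by_contra hxΓ
          exact hxδ (huniq x hxR hxΓ)
        exact ⟨x, hxΓ, hxγ, g, hg, hgγ, hgδ, hxR, huniq⟩
      let f : α → α := fun δ => if h : δ ∉ Γ then Classical.choose (ex δ h) else γ
      have hf : ∀ δ (h : δ ∉ Γ), f δ ∈ Γ ∧ f δ ≠ γ ∧ ∃ g ∈ G, γ ∈ im g R ∧ δ ∈ im g R ∧
          f δ ∈ im g R ∧ (∀ y ∈ im g R, y ∉ Γ → y = δ) := by
        intro δ h
        have := Classical.choose_spec (ex δ h)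
        simp only [f, dif_pos h]
        exact ⟨this.1, this.2.1, this.2.2⟩
      have hcard : (Γᶜ : Finset α).card ≤ (Γ.erase γ).card := by
        apply Finset.card_le_card_of_injOn f
        · intro δ hδ
          have hδ' : δ ∉ Γ := Finset.mem_compl.mp hδ
          obtain ⟨h1, h2', _⟩ := hf δ hδ'
          exact Finset.mem_coe.mpr (Finset.mem_erase.mpr ⟨h2', h1⟩)
        · intro δ hδ δ' hδ' heq
          have hδΓ : δ ∉ Γ := Finset.mem_compl.mp hδ
          have hδ'Γ : δ' ∉ Γ := Finset.mem_compl.mp hδ'
          obtain ⟨h1, h2', g, hg, hgγ, hgδ, hgx, huniq⟩ := hf δ hδΓ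
          obtain ⟨h1', h2'', g', hg', hgγ', hgδ', hgx', huniq'⟩ := hf δ' hδ'Γ
          rw [← heq] at hgx'
          have hRR : im g R = im g' R := by
            apply propQ' g hg g' hg'
            exact two_mem _ _ γ (f δ) (Ne.symm h2') hgγ hgx hgγ' hgx'
          have : δ' ∈ im g R := hRR ▸ hgδ'
          exact (huniq δ' this hδ'Γ).symm
      rw [Finset.card_compl, Finset.card_erase_of_mem hγ] at hcard
      omega

end Cfsg.Agent.Lib.Helper61.Marggraf
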