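import Mathlib
import Cfsg.Agent.Lib.Helper61.Marg3
import Cfsg.Agent.Lib.Helper61.Miller2

set_option autoImplicit false
set_option linter.unusedVariables false
set_option linter.unusedSectionVars false

namespace Cfsg.Agent.Lib.Helper61.Marggraf

open Equiv Equiv.Perm

variable {α : Type*} [Fintype α] [DecidableEq α]

/-- `x` induces `τ` on the finset `Δ` -/
def Ind (Δ : Finset α) (x : Perm α) (τ : Perm ↥Δ) : Prop := ∀ b : ↥Δ, x (b : α) = (τ b : α)

theorem Ind.mul {Δ : Finset α} {x y : Perm α} {σ τ : Perm ↥Δ} (hx : Ind Δ x σ) (hy : Ind Δ y τ) :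
    Ind Δ (x * y) (σ * τ) := by
  intro b
  rw [Perm.mul_apply, hy b, hx (τ b)]; rfl

theorem Ind.inv {Δ : Finset α} {x : Perm α} {σ : Perm ↥Δ} (hx : Ind Δ x σ) : Ind Δ x⁻¹ σ⁻¹ := by
  intro b
  rw [Perm.inv_eq_iff_eq, hx (σ⁻¹ b)]; simp

theorem Ind.one (Δ : Finset α) : Ind Δ 1 1 := fun b => rfl

theorem Ind.mem_iff {Δ : Finset α} {x : Perm α} {σ : Perm ↥Δ} (hx : Ind Δ x σ) (z : α) :
    x z ∈ Δ ↔ z ∈ Δ := by
  constructor
  · intro h
    have h1 := hx (σ⁻¹ ⟨x z, h⟩)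
    have h2 : (σ (σ⁻¹ ⟨x z, h⟩) : α) = x z := by simp
    rw [h2] at h1
    have h3 := x.injective h1
    rw [← h3]
    exact (σ⁻¹ ⟨x z, h⟩).2
  · intro h
    rw [hx ⟨z, h⟩]
    exact (σ ⟨z, h⟩).2

theorem Ind.eq_one {Δ : Finset α} {x : Perm α} {σ : Perm ↥Δ} (hx : Ind Δ x σ)
    (h1 : ∀ z ∈ Δ, x z = z) : σ = 1 := by
  ext b
  have := hx b
  rw [h1 _ b.2] at this
  simp [← this]

theorem two_factorial_lt {m d : ℕ} (h1 : m + 1 ≤ d) (h3 : 3 ≤ d) : 2 * m.factorial < d.factorial := by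
  have hpos : 0 < m.factorial := Nat.factorial_pos m
  rcases Nat.lt_or_ge m 2 with hm | hm
  · have h6 : (3 : ℕ).factorial ≤ d.factorial := Nat.factorial_le h3
    have h7 : (3 : ℕ).factorial = 6 := by decide
    have h8 : m.factorial = 1 := by
      interval_cases m <;> simp
    omega
  · have h6 : (m + 1).factorial ≤ d.factorial := Nat.factorial_le h1
    rw [Nat.factorial_succ] at h6
    have h7 : 3 * m.factorial ≤ (m + 1) * m.factorial := Nat.mul_le_mul_right _ (by omega)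
    omega

/-- Step 10: if `G` induces the alternating group on `Δ`, where `Δ` is more than half
of the points, then `G` contains a 3-cycle. -/
theorem exists_threeCycle_of_induced_alt (G : Subgroup (Perm α)) (Δ : Finset α)
    (h5 : 5 ≤ Δ.card) (hbig : Fintype.card α - Δ.card < Δ.card)
    (hAlt : alternatingGroup ↥Δ ≤ Miller.indGroup G Δ) : ∃ x ∈ G, x.IsThreeCycle := by
  classical
  have hcardΔ : Fintype.card ↥Δ = Δ.card := Fintype.card_coe Δ
  -- lifts
  have hlift : ∀ τ : alternatingGroup ↥Δ, ∃ x ∈ G, Ind Δ x τ.1 := by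
    intro τ
    exact hAlt τ.2
  let ℓ : alternatingGroup ↥Δ → Perm α := fun τ => Classical.choose (hlift τ)
  have hℓG : ∀ τ, ℓ τ ∈ G := fun τ => (Classical.choose_spec (hlift τ)).1
  have hℓI : ∀ τ, Ind Δ (ℓ τ) τ.1 := fun τ => (Classical.choose_spec (hlift τ)).2
  set Γ : Finset α := Δᶜ with hΓ
  have hΓmem : ∀ z, z ∈ Γ ↔ z ∉ Δ := fun z => by rw [hΓ, Finset.mem_compl]
  have pres : ∀ {x : Perm α} {σ : Perm ↥Δ}, Ind Δ x σ → ∀ z, x z ∈ Γ ↔ z ∈ Γ := by
    intro x σ hx z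
    rw [hΓmem, hΓmem, hx.mem_iff]
  let ρ : alternatingGroup ↥Δ → Perm ↥Γ := fun τ => subtypePerm (ℓ τ) (pres (hℓI τ))
  have hcardΓ : Fintype.card ↥Γ = Fintype.card α - Δ.card := by
    rw [Fintype.card_coe, hΓ, Finset.card_compl]
  have hnt : Nontrivial ↥Δ := by
    rw [← Fintype.one_lt_card_iff_nontrivial, hcardΔ]; omega
  have hcount : Fintype.card (Perm ↥Γ) < Fintype.card (alternatingGroup ↥Δ) := by
    have h1 := two_mul_card_alternatingGroup (α := ↥Δ)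
    rw [Fintype.card_perm, hcardΔ] at h1
    rw [Fintype.card_perm, hcardΓ]
    have h2 := two_factorial_lt (m := Fintype.card α - Δ.card) (d := Δ.card) (by omega) (by omega)
    omega
  obtain ⟨τ₁, τ₂, hne, heq⟩ := Fintype.exists_ne_map_eq_of_card_lt ρ hcount
  -- the normal subgroup
  let N : Subgroup (alternatingGroup ↥Δ) :=
    { carrier := {τ | ∃ x ∈ G, (∀ z ∈ Γ, x z = z) ∧ Ind Δ x τ.1}
      one_mem' := ⟨1, G.one_mem, fun _ _ => rfl, Ind.one Δ⟩
      mul_mem' := by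
        rintro σ τ ⟨x, hx, hxf, hxi⟩ ⟨y, hy, hyf, hyi⟩
        refine ⟨x * y, G.mul_mem hx hy, ?_, hxi.mul hyi⟩
        intro z hz
        rw [Perm.mul_apply, hyf z hz, hxf z hz]
      inv_mem' := by
        rintro σ ⟨x, hx, hxf, hxi⟩
        refine ⟨x⁻¹, G.inv_mem hx, ?_, hxi.inv⟩
        intro z hz
        rw [Perm.inv_eq_iff_eq, hxf z hz] }
  have hNnormal : N.Normal := by
    constructor
    rintro τ ⟨x, hx, hxf, hxi⟩ σ
    refine ⟨ℓ σ * x * (ℓ σ)⁻¹, G.mul_mem (G.mul_mem (hℓG σ) hx) (G.inv_mem (hℓG σ)), ?_, ?_⟩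
    · intro z hz
      have h1 : (ℓ σ)⁻¹ z ∈ Γ := by
        have := pres (hℓI σ) ((ℓ σ)⁻¹ z)
        have e : (ℓ σ) ((ℓ σ)⁻¹ z) = z := by simp
        rw [e] at this
        exact this.mp hz
      simp only [Perm.mul_apply]
      rw [hxf _ h1]; simp
    · exact ((hℓI σ).mul hxi).mul (hℓI σ).inv
  have hNne : N ≠ ⊥ := by
    intro hbot
    have hmem : τ₁⁻¹ * τ₂ ∈ N := by
      refine ⟨(ℓ τ₁)⁻¹ * ℓ τ₂, G.mul_mem (G.inv_mem (hℓG τ₁)) (hℓG τ₂), ?_, ?_⟩
      · intro z hz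
        have h1 := congrArg (fun p : Perm ↥Γ => (p ⟨z, hz⟩ : α)) heq
        simp only [ρ, subtypePerm_apply] at h1
        rw [Perm.mul_apply, ← h1]; simp
      · exact (hℓI τ₁).inv.mul (hℓI τ₂)
    rw [hbot, Subgroup.mem_bot] at hmem
    apply hne
    have := congrArg (fun t => τ₁ * t) hmem
    simpa using this.symm
  have h5' : 5 ≤ Nat.card ↥Δ := by rw [Nat.card_eq_fintype_card, hcardΔ]; exact h5
  have hNtop : N = ⊤ := by
    rcases alternatingGroup.normal_subgroup_eq_bot_or_eq_top h5' (N := N) with h | h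
    · exact absurd h hNne
    · exact h
  -- a 3-cycle on Δ
  obtain ⟨a, b, c, hab, hac, hbc⟩ := Fintype.two_lt_card_iff.mp (show 2 < Fintype.card ↥Δ by omega)
  have h3c : (swap a b * swap a c).IsThreeCycle := isThreeCycle_swap_mul_swap_same hab hac hbc
  have hmemN : (⟨swap a b * swap a c, h3c.mem_alternatingGroup⟩ : alternatingGroup ↥Δ) ∈ N := by
    rw [hNtop]; exact Subgroup.mem_top _
  obtain ⟨x, hx, hxf, hxi⟩ := hmemN
  refine ⟨x, hx, ?_⟩
  have hxe : x = ofSubtype (swap a b * swap a c) := by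
    ext z
    by_cases hz : z ∈ Δ
    · rw [ofSubtype_apply_of_mem _ hz]
      exact hxi ⟨z, hz⟩
    · rw [ofSubtype_apply_of_not_mem _ hz]
      exact hxf z ((hΓmem z).mpr hz)
  rw [hxe]
  unfold IsThreeCycle
  rw [cycleType_ofSubtype]
  exact h3c

end Cfsg.Agent.Lib.Helper61.Marggraf
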