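import Mathlib
import Cfsg.Agent.Lib.Helper61.Marg4

set_option autoImplicit false
set_option linter.unusedVariables false
set_option linter.unusedSectionVars false

namespace Cfsg.Agent.Lib.Helper61.Marggraf

open Equiv Equiv.Perm

universe u

variable {α : Type u} [Fintype α] [DecidableEq α]

/-- chain lemma: a conjugate of `Δ = Γᶜ` sharing enough points with `Δ` can be moved back to
`Δ` fixing two common points. -/
theorem chain (G : Subgroup (Perm α)) (Γ : Finset α) (hJ : IsJ G Γ) :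
    ∀ k : ℕ, ∀ g ∈ G, ((Γᶜ : Finset α) \ im g Γᶜ).card = k →
      Fintype.card α < 2 * Γ.card + ((Γᶜ : Finset α) ∩ im g Γᶜ).card →
      ∀ a' b' : α, a' ∈ (Γᶜ : Finset α) ∩ im g Γᶜ → b' ∈ (Γᶜ : Finset α) ∩ im g Γᶜ →
      ∃ x ∈ G, x a' = a' ∧ x b' = b' ∧ im (x * g) Γ = Γ := by
  intro k
  induction k using Nat.strong_induction_on with
  | _ k ih =>
  intro g hg hk hinv a' b' ha' hb'
  set Δ : Finset α := Γᶜ with hΔ
  by_cases h0 : Δ \ im g Δ = ∅
  · rw [Finset.sdiff_eq_empty_iff_subset] at h0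
    have h1 : Δ = im g Δ := Finset.eq_of_subset_of_card_le h0 (by rw [card_im])
    refine ⟨1, G.one_mem, rfl, rfl, ?_⟩
    rw [one_mul]
    have h2 : (im g Γ)ᶜ = Γᶜ := by rw [← im_compl, ← hΔ, ← h1]
    exact compl_injective h2
  · obtain ⟨w, hw⟩ := Finset.nonempty_iff_ne_empty.mpr h0
    have hcomm : (im g Δ \ Δ).card = (Δ \ im g Δ).card :=
      Finset.card_sdiff_comm (by rw [card_im])
    have hne1 : (im g Δ \ Δ).Nonempty := by
      rw [← Finset.card_pos, hcomm, Finset.card_pos]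
      exact ⟨w, hw⟩
    obtain ⟨w₁, hw₁⟩ := hne1
    rw [Finset.mem_sdiff] at hw hw₁
    have hcompl : (Γ ∪ im g Γ)ᶜ = Δ ∩ im g Δ := by
      rw [Finset.compl_union, hΔ, im_compl]
    have hcu : (Γ ∪ im g Γ).card + (Δ ∩ im g Δ).card = Fintype.card α := by
      rw [← hcompl, Finset.card_compl]
      have := Finset.card_le_univ (Γ ∪ im g Γ)
      omega
    have hne : (Γ ∩ im g Γ).Nonempty := by
      have := Finset.card_union_add_card_inter Γ (im g Γ)
      rw [card_im] at this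
      rw [← Finset.card_pos]
      omega
    have hPJ : IsJ G (Γ ∪ im g Γ) := hJ.union (hJ.conj hg) hne
    have hwP : w ∈ Γ ∪ im g Γ := by
      apply Finset.mem_union_right
      by_contra h
      apply hw.2
      rw [hΔ, im_compl, Finset.mem_compl]
      exact h
    have hw₁P : w₁ ∈ Γ ∪ im g Γ := by
      apply Finset.mem_union_left
      by_contra h
      apply hw₁.2
      rw [hΔ, Finset.mem_compl]
      exact h
    obtain ⟨x₀, hx₀G, hx₀f, hx₀w⟩ := hPJ w₁ hw₁P w hwP
    have hfixD : ∀ z ∈ Δ ∩ im g Δ, x₀ z = z := by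
      intro z hz
      apply hx₀f
      rw [← hcompl, Finset.mem_compl] at hz
      exact hz
    have hg₁G : x₀ * g ∈ G := G.mul_mem hx₀G hg
    have hsub : insert w (Δ ∩ im g Δ) ⊆ Δ ∩ im (x₀ * g) Δ := by
      intro z hz
      rw [Finset.mem_insert] at hz
      rw [Finset.mem_inter, im_mul]
      rcases hz with rfl | hz
      · refine ⟨hw.1, ?_⟩
        rw [← hx₀w]
        exact apply_mem_im.mpr hw₁.1
      · refine ⟨(Finset.mem_inter.mp hz).1, ?_⟩
        rw [← hfixD z hz]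
        exact apply_mem_im.mpr (Finset.mem_inter.mp hz).2
    have hwn : w ∉ Δ ∩ im g Δ := fun h => hw.2 (Finset.mem_inter.mp h).2
    have hcard1 : (Δ ∩ im g Δ).card + 1 ≤ (Δ ∩ im (x₀ * g) Δ).card := by
      have := Finset.card_le_card hsub
      rwa [Finset.card_insert_of_notMem hwn] at this
    have e1 := Finset.card_sdiff_add_card_inter Δ (im g Δ)
    have e2 := Finset.card_sdiff_add_card_inter Δ (im (x₀ * g) Δ)
    have hlt : (Δ \ im (x₀ * g) Δ).card < k := by omega
    have ha'' : a' ∈ Δ ∩ im (x₀ * g) Δ := hsub (Finset.mem_insert_of_mem ha')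
    have hb'' : b' ∈ Δ ∩ im (x₀ * g) Δ := hsub (Finset.mem_insert_of_mem hb')
    obtain ⟨x', hx'G, hx'a, hx'b, hx'im⟩ :=
      ih _ hlt (x₀ * g) hg₁G rfl (by omega) a' b' ha'' hb''
    refine ⟨x' * x₀, G.mul_mem hx'G hx₀G, ?_, ?_, ?_⟩
    · rw [Perm.mul_apply, hfixD a' ha', hx'a]
    · rw [Perm.mul_apply, hfixD b' hb', hx'b]
    · rw [mul_assoc]; exact hx'im

end Cfsg.Agent.Lib.Helper61.Marggraf
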