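import Mathlib
import Cfsg.Agent.Lib.Helper61.Marg5

set_option autoImplicit false
set_option linter.unusedVariables false
set_option linter.unusedSectionVars false

namespace Cfsg.Agent.Lib.Helper61.Marggraf

open Equiv Equiv.Perm

universe u

variable {α : Type u} [Fintype α] [DecidableEq α]

theorem pres_of_im_eq {g : Perm α} {Γ : Finset α} (h : im g Γ = Γ) (z : α) :
    g z ∈ (Γᶜ : Finset α) ↔ z ∈ (Γᶜ : Finset α) := by
  rw [Finset.mem_compl, Finset.mem_compl]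
  have : g z ∈ im g Γ ↔ z ∈ Γ := apply_mem_im
  rw [h] at this
  rw [this]

/-- the group induced on `Δ = Γᶜ` is 2-transitive -/
theorem ind_twoTrans (G : Subgroup (Perm α)) (hTT : TwoTrans G) (Γ : Finset α) (hJ : IsJ G Γ)
    (h1 : 1 ≤ Γ.card)
    (h3T : ∀ a b : α, a ≠ b → IsJ G ({a, b}ᶜ : Finset α)) :
    TwoTrans (Miller.indGroup G (Γᶜ : Finset α)) := by
  intro a b c d hab hcd
  have hab' : (a : α) ≠ b := fun h => hab (Subtype.ext h)
  have hcd' : (c : α) ≠ d := fun h => hcd (Subtype.ext h)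
  have haΓ : (a : α) ∉ Γ := Finset.mem_compl.mp a.2
  have hbΓ : (b : α) ∉ Γ := Finset.mem_compl.mp b.2
  have hcΓ : (c : α) ∉ Γ := Finset.mem_compl.mp c.2
  have hdΓ : (d : α) ∉ Γ := Finset.mem_compl.mp d.2
  obtain ⟨g₀, hg₀, hg₀a, hg₀b⟩ := hTT a b c d hab' hcd'
  have hex : ∃ g ∈ G, g a = c ∧ g b = d ∧ (Γ ∩ im g Γ).Nonempty := by
    by_cases hne : (Γ ∩ im g₀ Γ).Nonempty
    · exact ⟨g₀, hg₀, hg₀a, hg₀b, hne⟩
    · obtain ⟨v, hv⟩ := Finset.card_pos.mp (show 0 < Γ.card by omega)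
      have hcu : (c : α) ≠ g₀ v := by
        rw [← hg₀a]; intro h
        exact haΓ ((g₀.injective h) ▸ hv)
      have hdu : (d : α) ≠ g₀ v := by
        rw [← hg₀b]; intro h
        exact hbΓ ((g₀.injective h) ▸ hv)
      have hcv : (c : α) ≠ v := fun h => hcΓ (h ▸ hv)
      have hdv : (d : α) ≠ v := fun h => hdΓ (h ▸ hv)
      have hu : g₀ v ∈ ({(c : α), (d : α)}ᶜ : Finset α) := by
        simp only [Finset.mem_compl, Finset.mem_insert, Finset.mem_singleton, not_or]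
        exact ⟨Ne.symm hcu, Ne.symm hdu⟩
      have hv' : v ∈ ({(c : α), (d : α)}ᶜ : Finset α) := by
        simp only [Finset.mem_compl, Finset.mem_insert, Finset.mem_singleton, not_or]
        exact ⟨Ne.symm hcv, Ne.symm hdv⟩
      obtain ⟨z, hz, hzf, hzu⟩ := h3T c d hcd' (g₀ v) hu v hv'
      have hzc : z c = c := hzf c (by simp)
      have hzd : z d = d := hzf d (by simp)
      refine ⟨z * g₀, G.mul_mem hz hg₀, ?_, ?_, ⟨v, ?_⟩⟩
      · rw [Perm.mul_apply, hg₀a, hzc]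
      · rw [Perm.mul_apply, hg₀b, hzd]
      · rw [Finset.mem_inter]
        refine ⟨hv, ?_⟩
        have : (z * g₀) v ∈ im (z * g₀) Γ := apply_mem_im.mpr hv
        rwa [Perm.mul_apply, hzu] at this
  obtain ⟨g, hg, hga, hgb, hne⟩ := hex
  have hcompl : (Γ ∪ im g Γ)ᶜ = (Γᶜ : Finset α) ∩ im g Γᶜ := by
    rw [Finset.compl_union, im_compl]
  have hcu : (Γ ∪ im g Γ).card + ((Γᶜ : Finset α) ∩ im g Γᶜ).card = Fintype.card α := by
    rw [← hcompl, Finset.card_compl]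
    have := Finset.card_le_univ (Γ ∪ im g Γ)
    omega
  have hinv : Fintype.card α < 2 * Γ.card + ((Γᶜ : Finset α) ∩ im g Γᶜ).card := by
    have := card_union_le_of_inter hne
    rw [card_im] at this
    omega
  have hc : (c : α) ∈ (Γᶜ : Finset α) ∩ im g Γᶜ := by
    rw [Finset.mem_inter]
    refine ⟨c.2, ?_⟩
    rw [← hga]; exact apply_mem_im.mpr a.2
  have hd : (d : α) ∈ (Γᶜ : Finset α) ∩ im g Γᶜ := by
    rw [Finset.mem_inter]
    refine ⟨d.2, ?_⟩
    rw [← hgb]; exact apply_mem_im.mpr b.2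
  obtain ⟨x, hx, hxc, hxd, hxim⟩ := chain G Γ hJ _ g hg rfl hinv c d hc hd
  have hpres := pres_of_im_eq hxim
  refine ⟨subtypePerm (x * g) hpres, ⟨x * g, G.mul_mem hx hg, fun t => ?_⟩, ?_, ?_⟩
  · rw [subtypePerm_apply]
  · apply Subtype.ext
    rw [subtypePerm_apply]
    show (x * g) a = c
    rw [Perm.mul_apply, hga, hxc]
  · apply Subtype.ext
    rw [subtypePerm_apply]
    show (x * g) b = d
    rw [Perm.mul_apply, hgb, hxd]

end Cfsg.Agent.Lib.Helper61.Marggraf
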