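import Mathlib
import Cfsg.Agent.Lib.Helper61.Marg6

set_option autoImplicit false
set_option linter.unusedVariables false
set_option linter.unusedSectionVars false

namespace Cfsg.Agent.Lib.Helper61.Marggraf

open Equiv Equiv.Perm

universe u

variable {α : Type u} [Fintype α] [DecidableEq α]

/-- The inductive hypothesis of Marggraf's theorem for types smaller than `α`. -/
def IHyp (α : Type u) [Fintype α] : Prop :=
  ∀ (β : Type u) [Fintype β] [DecidableEq β], Fintype.card β < Fintype.card α →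
    ∀ (K : Subgroup (Perm β)), QP K → ∀ S : Finset β, IsJ K S → 2 ≤ S.card →
      2 * S.card < Fintype.card β → alternatingGroup β ≤ K

/-- a nontrivial element of `G` supported in a Jordan set -/
theorem exists_supp (G : Subgroup (Perm α)) (Γ : Finset α) (hJ : IsJ G Γ) (h2 : 2 ≤ Γ.card) :
    ∃ y ∈ G, y ≠ 1 ∧ y.support ⊆ Γ := by
  obtain ⟨a, ha, b, hb, hab⟩ := Finset.one_lt_card.mp (show 1 < Γ.card by omega)
  obtain ⟨y, hy, hyf, hyab⟩ := hJ a ha b hb
  refine ⟨y, hy, ?_, ?_⟩
  · intro h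
    rw [h] at hyab
    exact hab hyab
  · intro x hx
    by_contra hxΓ
    exact (Perm.mem_support.mp hx) (hyf x hxΓ)

/-- The primitive case of Marggraf's theorem, given the inductive hypothesis. -/
theorem prim_step (IH : IHyp α) (G : Subgroup (Perm α)) (hP : Prim G) (Γ : Finset α)
    (hJ : IsJ G Γ) (h2 : 2 ≤ Γ.card) (hlt : 2 * Γ.card < Fintype.card α) :
    alternatingGroup α ≤ G := by
  classical
  obtain ⟨y, hyG, hy1, hysupp⟩ := exists_supp G Γ hJ h2
  have hyc : y.support.card ≤ Γ.card := Finset.card_le_card hysupp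
  rcases Nat.lt_or_ge Γ.card 4 with hm | hm
  · -- small Jordan sets
    have h2' := two_le_card_support_of_ne_one hy1
    have : y.support.card = 2 ∨ y.support.card = 3 := by omega
    rcases this with h | h
    · exact hP.alt_of_swap hyG (card_support_eq_two.mp h)
    · exact hP.alt_of_threeCycle hyG (card_support_eq_three_iff.mp h)
  have hTT : TwoTrans G := hP.twoTrans hJ h2 (by omega)
  have h3T := three_trans hP hJ h2 hlt
  set n := Fintype.card α with hn
  set m := Γ.card with hm'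
  -- Step 2: a conjugate meeting Γ properly
  obtain ⟨a, ha, b, hb, hab⟩ := Finset.one_lt_card.mp (show 1 < Γ.card by omega)
  obtain ⟨d, hd⟩ : ∃ d, d ∉ Γ := by
    by_contra hcon
    push Not at hcon
    have : Γ = Finset.univ := Finset.eq_univ_iff_forall.mpr hcon
    rw [hm', this, Finset.card_univ] at hlt
    omega
  have had : a ≠ d := fun h => hd (h ▸ ha)
  obtain ⟨g₀, hg₀, hg₀a, hg₀b⟩ := hTT a b a d hab had
  have hne₀ : (Γ ∩ im g₀ Γ).Nonempty := by
    refine ⟨a, Finset.mem_inter.mpr ⟨ha, ?_⟩⟩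
    have : g₀ a ∈ im g₀ Γ := apply_mem_im.mpr ha
    rwa [hg₀a] at this
  have hP₀J : IsJ G (Γ ∪ im g₀ Γ) := hJ.union (hJ.conj hg₀) hne₀
  have hP₀ne : Γ ∪ im g₀ Γ ≠ Γ := by
    intro h
    have : d ∈ Γ ∪ im g₀ Γ := by
      apply Finset.mem_union_right
      rw [← hg₀b]; exact apply_mem_im.mpr hb
    rw [h] at this
    exact hd this
  have hP₀c : (Γ ∪ im g₀ Γ).card ≤ 2 * m - 1 := by
    have := card_union_le_of_inter hne₀
    rw [card_im] at this
    omega
  -- Step 3: a minimal Jordan set properly containing Γ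
  let S : Finset (Finset α) :=
    Finset.univ.filter (fun Q => IsJ G Q ∧ Γ ⊆ Q ∧ Q ≠ Γ ∧ Q.card ≤ 2 * m - 1)
  have hP₀S : Γ ∪ im g₀ Γ ∈ S := by
    simp only [S, Finset.mem_filter, Finset.mem_univ, true_and]
    exact ⟨hP₀J, Finset.subset_union_left, hP₀ne, hP₀c⟩
  obtain ⟨P, hPS, hPmin⟩ := Finset.exists_min_image S Finset.card ⟨_, hP₀S⟩
  simp only [S, Finset.mem_filter, Finset.mem_univ, true_and] at hPS hPmin
  obtain ⟨hPJ, hΓP, hPne, hPc⟩ := hPS
  -- Step 4: dichotomy
  have dich : ∀ x ∈ G, (∀ z, z ∉ P → x z = z) → im x Γ = Γ ∨ Γ ∪ im x Γ = P := by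
    intro x hx hxf
    have hsub : im x Γ ⊆ P := by
      have := im_subset (g := x) hΓP
      rwa [im_eq_of_fix hxf] at this
    have hUsub : Γ ∪ im x Γ ⊆ P := Finset.union_subset hΓP hsub
    have hne : (Γ ∩ im x Γ).Nonempty := by
      have h1 := Finset.card_union_add_card_inter Γ (im x Γ)
      rw [card_im] at h1
      have h2' := Finset.card_le_card hUsub
      rw [← Finset.card_pos]
      omega
    have hUJ : IsJ G (Γ ∪ im x Γ) := hJ.union (hJ.conj hx) hne
    by_cases hU : Γ ∪ im x Γ = Γ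
    · left
      have h1 : im x Γ ⊆ Γ := by
        intro z hz
        have : z ∈ Γ ∪ im x Γ := Finset.mem_union_right _ hz
        rwa [hU] at this
      exact Finset.eq_of_subset_of_card_le h1 (by rw [card_im])
    · right
      have h1 := hPmin (Γ ∪ im x Γ) ⟨hUJ, Finset.subset_union_left, hU,
        le_trans (Finset.card_le_card hUsub) hPc⟩
      exact Finset.eq_of_subset_of_card_le hUsub h1
  -- Sg = P \ Γ
  have hPcard : P.card = m + (P \ Γ).card := by
    have := Finset.card_sdiff_add_card_inter P Γ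
    rw [Finset.inter_eq_right.mpr hΓP] at this
    omega
  have hSgne : (P \ Γ).Nonempty := by
    rw [Finset.nonempty_iff_ne_empty]
    intro h
    rw [Finset.sdiff_eq_empty_iff_subset] at h
    exact hPne (Finset.Subset.antisymm h hΓP)
  obtain ⟨s, hs⟩ := hSgne
  have hsP : s ∈ P := (Finset.mem_sdiff.mp hs).1
  have hsΓ : s ∉ Γ := (Finset.mem_sdiff.mp hs).2
  -- Step 5 : 2σ ≤ m
  have key5 : ∀ γ ∈ Γ, ∃ x ∈ G, (∀ z, z ∉ P → x z = z) ∧ Γ ∪ im x Γ = P ∧ γ ∉ im x Γ := by
    intro γ hγ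
    obtain ⟨x, hx, hxf, hxs⟩ := hPJ s hsP γ (hΓP hγ)
    have hnot : γ ∉ im x Γ := by
      rw [← hxs]
      intro h
      exact hsΓ (apply_mem_im.mp h)
    refine ⟨x, hx, hxf, ?_, hnot⟩
    rcases dich x hx hxf with h | h
    · rw [h] at hnot
      exact absurd hγ hnot
    · exact h
  have hσ : 2 * (P \ Γ).card ≤ m := by
    obtain ⟨x₁, hx₁, hx₁f, hx₁P, hx₁γ⟩ := key5 a ha
    have hSg₁sub : P \ im x₁ Γ ⊆ Γ := by
      intro z hz
      rw [Finset.mem_sdiff, ← hx₁P, Finset.mem_union] at hz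
      tauto
    have hSg₁c : (P \ im x₁ Γ).card = (P \ Γ).card := by
      have h1 := Finset.card_sdiff_add_card_inter P (im x₁ Γ)
      have h2' : im x₁ Γ ⊆ P := by rw [← hx₁P]; exact Finset.subset_union_right
      rw [Finset.inter_eq_right.mpr h2', card_im] at h1
      omega
    have hSg₁ne : P \ im x₁ Γ ≠ Γ := by
      intro h
      rw [h] at hSg₁c
      omega
    obtain ⟨γ₂, hγ₂, hγ₂n⟩ := Finset.exists_of_ssubset (Finset.ssubset_iff_subset_ne.mpr ⟨hSg₁sub, hSg₁ne⟩)
    obtain ⟨x₂, hx₂, hx₂f, hx₂P, hx₂γ⟩ := key5 γ₂ hγ₂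
    have hSg₂sub : P \ im x₂ Γ ⊆ Γ := by
      intro z hz
      rw [Finset.mem_sdiff, ← hx₂P, Finset.mem_union] at hz
      tauto
    have hSg₂c : (P \ im x₂ Γ).card = (P \ Γ).card := by
      have h1 := Finset.card_sdiff_add_card_inter P (im x₂ Γ)
      have h2' : im x₂ Γ ⊆ P := by rw [← hx₂P]; exact Finset.subset_union_right
      rw [Finset.inter_eq_right.mpr h2', card_im] at h1
      omega
    have hdisj : Disjoint (P \ im x₁ Γ) (P \ im x₂ Γ) := by
      rw [Finset.disjoint_left]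
      intro z hz1 hz2
      rw [Finset.mem_sdiff] at hz1 hz2
      have hxf : ∀ z, z ∉ P → (x₂⁻¹ * x₁) z = z := fix_mul (fix_inv hx₂f) hx₁f
      rcases dich (x₂⁻¹ * x₁) (G.mul_mem (G.inv_mem hx₂) hx₁) hxf with h | h
      · rw [im_mul] at h
        have h' := congrArg (im x₂) h
        rw [im_im_inv] at h'
        -- im x₁ Γ = im x₂ Γ
        apply hγ₂n
        rw [h', Finset.mem_sdiff]
        exact ⟨hΓP hγ₂, hx₂γ⟩
      · have h' := congrArg (im x₂) h
        rw [im_union, im_mul, im_im_inv, im_eq_of_fix hx₂f] at h'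
        have : z ∈ im x₂ Γ ∪ im x₁ Γ := by rw [h']; exact hz1.1
        rcases Finset.mem_union.mp this with h3 | h3
        · exact hz2.2 h3
        · exact hz1.2 h3
    have hU : (P \ im x₁ Γ) ∪ (P \ im x₂ Γ) ⊆ Γ := Finset.union_subset hSg₁sub hSg₂sub
    have := Finset.card_le_card hU
    rw [Finset.card_union_of_disjoint hdisj, hSg₁c, hSg₂c] at this
    omega
  have hσpos : 1 ≤ (P \ Γ).card := Finset.card_pos.mpr ⟨s, hs⟩
  rcases Nat.lt_or_ge (P \ Γ).card 2 with hσ1 | hσ2
  · -- σ = 1 : use Jordan's theorem on multiple primitivity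
    have hσ1' : (P \ Γ).card = 1 := by omega
    have huniq : ∀ p ∈ P, p ≠ s → p ∈ Γ := by
      intro p hp hps
      by_contra hpΓ
      have h1 : (P \ Γ).card ≤ 1 := by omega
      rw [Finset.card_le_one] at h1
      exact hps (h1 p (Finset.mem_sdiff.mpr ⟨hp, hpΓ⟩) s hs)
    have hJ2 : ∀ a ∈ P, ∀ b ∈ P, ∀ c ∈ P, ∀ d ∈ P, a ≠ b → c ≠ d →
        ∃ g ∈ G, (∀ x, x ∉ P → g x = x) ∧ g a = c ∧ g b = d := by
      intro a ha b hb c hc d hd hab hcd
      obtain ⟨g₁, hg₁, hg₁f, hg₁a⟩ := hPJ a ha s hsP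
      obtain ⟨g₂, hg₂, hg₂f, hg₂c⟩ := hPJ c hc s hsP
      have hb₁P : g₁ b ∈ P := (mem_iff_of_fix hg₁f b).mpr hb
      have hd₁P : g₂ d ∈ P := (mem_iff_of_fix hg₂f d).mpr hd
      have hb₁s : g₁ b ≠ s := by
        rw [← hg₁a]; intro h; exact hab (g₁.injective h).symm
      have hd₁s : g₂ d ≠ s := by
        rw [← hg₂c]; intro h; exact hcd (g₂.injective h).symm
      obtain ⟨h, hh, hhf, hhb⟩ := hJ _ (huniq _ hb₁P hb₁s) _ (huniq _ hd₁P hd₁s)
      have hhfP : ∀ x, x ∉ P → h x = x := fun x hx => hhf x (fun hxΓ => hx (hΓP hxΓ))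
      refine ⟨g₂⁻¹ * h * g₁, G.mul_mem (G.mul_mem (G.inv_mem hg₂) hh) hg₁,
        fix_mul (fix_mul (fix_inv hg₂f) hhfP) hg₁f, ?_, ?_⟩
      · simp only [Perm.mul_apply]
        rw [hg₁a, hhf s hsΓ, Perm.inv_eq_iff_eq, hg₂c]
      · simp only [Perm.mul_apply]
        rw [hhb, Perm.inv_eq_iff_eq]
    have hE := hP.ext_of_twoTransJ (P := P) (by omega) (by omega) hJ2
    have he : Fintype.card α - P.card + 1 = n - m := by omega
    rw [he] at hE
    exact Miller.alt_le_of_small_support G (n - m) (by omega) hE hyG hy1 (by omega) (by omega)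
  · -- σ ≥ 2 : induction on the complement
    have hcardΔ : Fintype.card ↥(Γᶜ : Finset α) = n - m := by
      rw [Fintype.card_coe, Finset.card_compl]
    have hYTT : TwoTrans (Miller.indGroup G (Γᶜ : Finset α)) :=
      ind_twoTrans G hTT Γ hJ (by omega) h3T
    let S' : Finset ↥(Γᶜ : Finset α) := Finset.univ.filter (fun t => (t : α) ∈ P)
    have hS'card : S'.card = (P \ Γ).card := by
      have : S'.map (Function.Embedding.subtype _) = P \ Γ := by
        ext x
        simp only [S', Finset.mem_map, Finset.mem_filter, Finset.mem_univ, true_and,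
          Function.Embedding.coe_subtype, Finset.mem_sdiff]
        constructor
        · rintro ⟨t, ht, rfl⟩
          exact ⟨ht, Finset.mem_compl.mp t.2⟩
        · rintro ⟨hx1, hx2⟩
          exact ⟨⟨x, Finset.mem_compl.mpr hx2⟩, hx1, rfl⟩
      rw [← this, Finset.card_map]
    have hS'J : IsJ (Miller.indGroup G (Γᶜ : Finset α)) S' := by
      intro s₁ hs₁ s₂ hs₂
      simp only [S', Finset.mem_filter, Finset.mem_univ, true_and] at hs₁ hs₂
      obtain ⟨x, hx, hxf, hxs⟩ := hPJ _ hs₁ _ hs₂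
      have hs₁Γ : (s₁ : α) ∉ Γ := Finset.mem_compl.mp s₁.2
      have hs₂Γ : (s₂ : α) ∉ Γ := Finset.mem_compl.mp s₂.2
      have him : im x Γ = Γ := by
        rcases dich x hx hxf with h | h
        · exact h
        · exfalso
          have : (s₂ : α) ∈ Γ ∪ im x Γ := by rw [h]; exact hs₂
          rcases Finset.mem_union.mp this with h3 | h3
          · exact hs₂Γ h3
          · rw [← hxs] at h3
            exact hs₁Γ (apply_mem_im.mp h3)
      have hpres := pres_of_im_eq him
      refine ⟨subtypePerm x hpres, ⟨x, hx, fun t => by rw [subtypePerm_apply]⟩, ?_, ?_⟩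
      · intro t ht
        simp only [S', Finset.mem_filter, Finset.mem_univ, true_and] at ht
        apply Subtype.ext
        rw [subtypePerm_apply]
        exact hxf _ ht
      · apply Subtype.ext
        rw [subtypePerm_apply]
        exact hxs
    have hAlt : alternatingGroup ↥(Γᶜ : Finset α) ≤ Miller.indGroup G (Γᶜ : Finset α) := by
      apply IH ↥(Γᶜ : Finset α) (by rw [hcardΔ]; omega) _ hYTT.qp S' hS'J
      · rw [hS'card]; exact hσ2
      · rw [hS'card, hcardΔ]; omega
    obtain ⟨x, hx, hx3⟩ := exists_threeCycle_of_induced_alt G (Γᶜ : Finset α)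
      (by rw [Finset.card_compl]; omega) (by rw [Finset.card_compl]; omega) hAlt
    exact hP.alt_of_threeCycle hx hx3

end Cfsg.Agent.Lib.Helper61.Marggraf
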