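import Mathlib
import Cfsg.Agent.Lib.Helper61.Marg7

set_option autoImplicit false
set_option linter.unusedVariables false
set_option linter.unusedSectionVars false

namespace Cfsg.Agent.Lib.Helper61.Marggraf

open Equiv Equiv.Perm

universe u

variable {α : Type u} [Fintype α] [DecidableEq α]

theorem im_disjoint {g : Perm α} {s t : Finset α} : Disjoint (im g s) (im g t) ↔ Disjoint s t := by
  rw [Finset.disjoint_left, Finset.disjoint_left]
  constructor
  · intro h x hx hx'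
    exact h (apply_mem_im.mpr hx) (apply_mem_im.mpr hx')
  · intro h x hx hx'
    exact h (mem_im.mp hx) (mem_im.mp hx')

/-- block condition -/
def IsBlk (G : Subgroup (Perm α)) (B : Finset α) : Prop :=
  ∀ g ∈ G, im g B = B ∨ Disjoint (im g B) B

/-- the translates of `B` -/
noncomputable def blocks (G : Subgroup (Perm α)) (B : Finset α) : Finset (Finset α) :=
  @Finset.filter _ (fun C => ∃ g ∈ G, im g B = C) (Classical.decPred _) Finset.univ

theorem mem_blocks {G : Subgroup (Perm α)} {B C : Finset α} :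
    C ∈ blocks G B ↔ ∃ g ∈ G, im g B = C := by
  unfold blocks
  simp

theorem self_mem_blocks (G : Subgroup (Perm α)) (B : Finset α) : B ∈ blocks G B :=
  mem_blocks.mpr ⟨1, G.one_mem, im_one B⟩

theorem im_mem_blocks {G : Subgroup (Perm α)} {B C : Finset α} (hC : C ∈ blocks G B)
    {g : Perm α} (hg : g ∈ G) : im g C ∈ blocks G B := by
  obtain ⟨k, hk, rfl⟩ := mem_blocks.mp hC
  exact mem_blocks.mpr ⟨g * k, G.mul_mem hg hk, im_mul g k B⟩

theorem card_of_mem_blocks {G : Subgroup (Perm α)} {B C : Finset α} (hC : C ∈ blocks G B) :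
    C.card = B.card := by
  obtain ⟨k, hk, rfl⟩ := mem_blocks.mp hC
  exact card_im k B

theorem blocks_eq_or_disjoint {G : Subgroup (Perm α)} {B : Finset α} (hB : IsBlk G B)
    {C C' : Finset α} (hC : C ∈ blocks G B) (hC' : C' ∈ blocks G B) : C = C' ∨ Disjoint C C' := by
  obtain ⟨g, hg, rfl⟩ := mem_blocks.mp hC
  obtain ⟨k, hk, rfl⟩ := mem_blocks.mp hC'
  rcases hB (k⁻¹ * g) (G.mul_mem (G.inv_mem hk) hg) with h | h
  · left
    rw [im_mul] at h
    have := congrArg (im k) h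
    rwa [im_im_inv] at this
  · right
    rw [im_mul] at h
    have h2 : Disjoint (im k (im k⁻¹ (im g B))) (im k B) := im_disjoint.mpr h
    rwa [im_im_inv] at h2

theorem blocks_eq_of_mem {G : Subgroup (Perm α)} {B : Finset α} (hB : IsBlk G B)
    {C C' : Finset α} (hC : C ∈ blocks G B) (hC' : C' ∈ blocks G B) {x : α} (hx : x ∈ C)
    (hx' : x ∈ C') : C = C' := by
  rcases blocks_eq_or_disjoint hB hC hC' with h | h
  · exact h
  · exact absurd hx' (Finset.disjoint_left.mp h hx)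

theorem exists_block {G : Subgroup (Perm α)} {B : Finset α} (hT : Trans G) (hne : B.Nonempty)
    (x : α) : ∃ C ∈ blocks G B, x ∈ C := by
  obtain ⟨b, hb⟩ := hne
  obtain ⟨g, hg, hgb⟩ := hT b x
  refine ⟨im g B, mem_blocks.mpr ⟨g, hg, rfl⟩, ?_⟩
  rw [← hgb]; exact apply_mem_im.mpr hb

theorem block_nonempty {G : Subgroup (Perm α)} {B C : Finset α} (hne : B.Nonempty)
    (hC : C ∈ blocks G B) : C.Nonempty := by
  rw [← Finset.card_pos, card_of_mem_blocks hC, Finset.card_pos]; exact hne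

/-- counting: a union of blocks -/
theorem card_biUnion_blocks {G : Subgroup (Perm α)} {B : Finset α} (hB : IsBlk G B)
    (T : Finset (Finset α)) (hT : T ⊆ blocks G B) :
    (T.biUnion id).card = T.card * B.card := by
  rw [Finset.card_biUnion]
  · have : ∀ C ∈ T, (id C : Finset α).card = B.card := fun C hC => card_of_mem_blocks (hT hC)
    rw [Finset.sum_congr rfl this]
    simp
  · intro C hC C' hC' hne
    rcases blocks_eq_or_disjoint hB (hT hC) (hT hC') with h | h
    · exact absurd h hne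
    · exact h

/-- kernel of the action on blocks -/
def blkKer (G : Subgroup (Perm α)) (B : Finset α) : Subgroup (Perm α) where
  carrier := {g | g ∈ G ∧ ∀ C ∈ blocks G B, im g C = C}
  one_mem' := ⟨G.one_mem, fun C _ => im_one C⟩
  mul_mem' := by
    rintro g k ⟨hg, hg'⟩ ⟨hk, hk'⟩
    refine ⟨G.mul_mem hg hk, fun C hC => ?_⟩
    rw [im_mul, hk' C hC, hg' C hC]
  inv_mem' := by
    rintro g ⟨hg, hg'⟩
    refine ⟨G.inv_mem hg, fun C hC => ?_⟩
    have := congrArg (im g⁻¹) (hg' C hC)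
    rw [im_inv_im] at this
    exact this.symm

theorem blkKer_eq_bot {G : Subgroup (Perm α)} (hQP : QP G) {B : Finset α} (hne : B.Nonempty)
    (hnu : B ≠ Finset.univ) : blkKer G B = ⊥ := by
  by_contra hK
  have hT := hQP (blkKer G B) (fun g hg => hg.1) (by
    rintro g hg k ⟨hk, hk'⟩
    refine ⟨G.mul_mem (G.mul_mem hg hk) (G.inv_mem hg), fun C hC => ?_⟩
    rw [im_mul, im_mul, hk' _ (im_mem_blocks hC (G.inv_mem hg)), im_im_inv]) hK
  obtain ⟨x, hx⟩ := hne
  obtain ⟨y, hy⟩ : ∃ y, y ∉ B := by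
    by_contra hcon
    push Not at hcon
    exact hnu (Finset.eq_univ_iff_forall.mpr hcon)
  obtain ⟨k, ⟨hk, hk'⟩, hkxy⟩ := hT x y
  have : k x ∈ im k B := apply_mem_im.mpr hx
  rw [hk' B (self_mem_blocks G B), hkxy] at this
  exact hy this

/-- the permutation of the set of blocks induced by an element of `G` -/
noncomputable def blkPerm (G : Subgroup (Perm α)) (B : Finset α) (g : Perm α) (hg : g ∈ G) :
    Perm ↥(blocks G B) where
  toFun C := ⟨im g C, im_mem_blocks C.2 hg⟩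
  invFun C := ⟨im g⁻¹ C, im_mem_blocks C.2 (G.inv_mem hg)⟩
  left_inv C := by
    apply Subtype.ext
    exact im_inv_im g C
  right_inv C := by
    apply Subtype.ext
    exact im_im_inv g C

theorem blkPerm_apply (G : Subgroup (Perm α)) (B : Finset α) (g : Perm α) (hg : g ∈ G)
    (C : ↥(blocks G B)) : ((blkPerm G B g hg C : ↥(blocks G B)) : Finset α) = im g C := rfl

/-- `g` induces `τ` on blocks -/
def BInd (G : Subgroup (Perm α)) (B : Finset α) (g : Perm α) (τ : Perm ↥(blocks G B)) : Prop :=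
  ∀ C : ↥(blocks G B), im g (C : Finset α) = ((τ C : ↥(blocks G B)) : Finset α)

theorem BInd.mul {G : Subgroup (Perm α)} {B : Finset α} {g k : Perm α}
    {σ τ : Perm ↥(blocks G B)} (hg : BInd G B g σ) (hk : BInd G B k τ) :
    BInd G B (g * k) (σ * τ) := by
  intro C
  rw [im_mul, hk C, hg (τ C)]; rfl

theorem BInd.inv {G : Subgroup (Perm α)} {B : Finset α} {g : Perm α}
    {σ : Perm ↥(blocks G B)} (hg : BInd G B g σ) : BInd G B g⁻¹ σ⁻¹ := by
  intro C
  have h1 := hg (σ⁻¹ C)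
  have h2 : σ (σ⁻¹ C) = C := by simp
  rw [h2] at h1
  have := congrArg (im g⁻¹) h1
  rw [im_inv_im] at this
  exact this.symm

theorem BInd.one (G : Subgroup (Perm α)) (B : Finset α) : BInd G B 1 1 := fun C => im_one _

theorem bInd_blkPerm (G : Subgroup (Perm α)) (B : Finset α) (g : Perm α) (hg : g ∈ G) :
    BInd G B g (blkPerm G B g hg) := fun C => rfl

/-- the group induced on the set of blocks -/
def blkGroup (G : Subgroup (Perm α)) (B : Finset α) : Subgroup (Perm ↥(blocks G B)) where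
  carrier := {τ | ∃ g ∈ G, BInd G B g τ}
  one_mem' := ⟨1, G.one_mem, BInd.one G B⟩
  mul_mem' := by
    rintro σ τ ⟨g, hg, hg'⟩ ⟨k, hk, hk'⟩
    exact ⟨g * k, G.mul_mem hg hk, hg'.mul hk'⟩
  inv_mem' := by
    rintro σ ⟨g, hg, hg'⟩
    exact ⟨g⁻¹, G.inv_mem hg, hg'.inv⟩

theorem blkPerm_mem (G : Subgroup (Perm α)) (B : Finset α) (g : Perm α) (hg : g ∈ G) :
    blkPerm G B g hg ∈ blkGroup G B := ⟨g, hg, bInd_blkPerm G B g hg⟩

theorem BInd.unique {G : Subgroup (Perm α)} {B : Finset α} {g : Perm α}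
    {σ τ : Perm ↥(blocks G B)} (h1 : BInd G B g σ) (h2 : BInd G B g τ) : σ = τ := by
  ext C
  have := (h1 C).symm.trans (h2 C)
  rw [this]

/-- the quotient action on blocks is quasiprimitive -/
theorem blkGroup_qp {G : Subgroup (Perm α)} (hQP : QP G) {B : Finset α} (hB : IsBlk G B)
    (hne : B.Nonempty) : QP (blkGroup G B) := by
  intro Nb hNb hnorm hNbne C C'
  let N : Subgroup (Perm α) :=
    { carrier := {g | g ∈ G ∧ ∃ τ ∈ Nb, BInd G B g τ}
      one_mem' := ⟨G.one_mem, 1, Nb.one_mem, BInd.one G B⟩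
      mul_mem' := by
        rintro g k ⟨hg, σ, hσ, hg'⟩ ⟨hk, τ, hτ, hk'⟩
        exact ⟨G.mul_mem hg hk, σ * τ, Nb.mul_mem hσ hτ, hg'.mul hk'⟩
      inv_mem' := by
        rintro g ⟨hg, σ, hσ, hg'⟩
        exact ⟨G.inv_mem hg, σ⁻¹, Nb.inv_mem hσ, hg'.inv⟩ }
  have hNG : N ≤ G := fun g hg => hg.1
  have hNnorm : ∀ g ∈ G, ∀ n ∈ N, g * n * g⁻¹ ∈ N := by
    rintro g hg n ⟨hn, τ, hτ, hn'⟩
    refine ⟨G.mul_mem (G.mul_mem hg hn) (G.inv_mem hg),
      blkPerm G B g hg * τ * (blkPerm G B g hg)⁻¹,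
      hnorm _ (blkPerm_mem G B g hg) τ hτ, ?_⟩
    exact ((bInd_blkPerm G B g hg).mul hn').mul (bInd_blkPerm G B g hg).inv
  have hNne : N ≠ ⊥ := by
    intro hbot
    apply hNbne
    rw [Subgroup.eq_bot_iff_forall]
    intro τ hτ
    obtain ⟨g, hg, hg'⟩ := hNb hτ
    have hgN : g ∈ N := ⟨hg, τ, hτ, hg'⟩
    rw [hbot, Subgroup.mem_bot] at hgN
    rw [hgN] at hg'
    exact BInd.unique hg' (BInd.one G B)
  have hT := hQP N hNG hNnorm hNne
  obtain ⟨x, hx⟩ := block_nonempty hne C.2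
  obtain ⟨x', hx'⟩ := block_nonempty hne C'.2
  obtain ⟨n, ⟨hn, τ, hτ, hn'⟩, hnx⟩ := hT x x'
  refine ⟨τ, hτ, ?_⟩
  apply Subtype.ext
  have h1 : x' ∈ ((τ C : ↥(blocks G B)) : Finset α) := by
    rw [← hn' C, ← hnx]; exact apply_mem_im.mpr hx
  exact blocks_eq_of_mem hB (τ C).2 C'.2 h1 hx'

end Cfsg.Agent.Lib.Helper61.Marggraf
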