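import Mathlib
import Cfsg.Agent.Lib.Helper61.Marg8

set_option autoImplicit false
set_option linter.unusedVariables false
set_option linter.unusedSectionVars false

namespace Cfsg.Agent.Lib.Helper61.Marggraf

open Equiv Equiv.Perm

universe u

theorem exists_alt_moving {β : Type*} [Fintype β] [DecidableEq β] (S : Finset β) (c₀ : β)
    (hc₀ : c₀ ∈ S) (hcard : 2 * S.card < Fintype.card β) :
    ∃ τ ∈ alternatingGroup β, τ c₀ = c₀ ∧ ∀ c ∈ S, c ≠ c₀ → τ c ∉ S := by
  classical
  have hk1 : 1 ≤ S.card := Finset.card_pos.mpr ⟨c₀, hc₀⟩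
  have hmt := alternatingGroup.isMultiplyPretransitive β
  rw [Nat.card_eq_fintype_card] at hmt
  have hE := Miller.ext_of_pretransitive (alternatingGroup β) (Fintype.card β - 2) hmt (by omega)
  have hle : Fintype.card ↥(S.erase c₀) ≤ Fintype.card ↥(Sᶜ : Finset β) := by
    rw [Fintype.card_coe, Fintype.card_coe, Finset.card_erase_of_mem hc₀, Finset.card_compl]
    omega
  obtain ⟨e⟩ := Function.Embedding.nonempty_of_card_le hle
  let f : β → β := fun c => if h : c ∈ S.erase c₀ then ((e ⟨c, h⟩ : ↥(Sᶜ : Finset β)) : β) else c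
  have hf1 : ∀ c (h : c ∈ S.erase c₀), f c = ((e ⟨c, h⟩ : ↥(Sᶜ : Finset β)) : β) := by
    intro c h; simp only [f, dif_pos h]
  have hf2 : ∀ c, c ∉ S.erase c₀ → f c = c := by
    intro c h; simp only [f, dif_neg h]
  have hf1S : ∀ c (h : c ∈ S.erase c₀), f c ∉ S := by
    intro c h
    rw [hf1 c h]
    exact Finset.mem_compl.mp (e ⟨c, h⟩).2
  have hc₀e : c₀ ∉ S.erase c₀ := Finset.notMem_erase c₀ S
  have hinj : Set.InjOn f (S : Set β) := by
    intro c hc c' hc' heq
    have hc := Finset.mem_coe.mp hc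
    have hc' := Finset.mem_coe.mp hc'
    by_cases h : c ∈ S.erase c₀
    · by_cases h' : c' ∈ S.erase c₀
      · rw [hf1 c h, hf1 c' h'] at heq
        have := e.injective (Subtype.ext heq)
        exact congrArg Subtype.val this
      · exfalso
        have h1 := hf1S c h
        rw [heq, hf2 c' h'] at h1
        exact h1 hc'
    · by_cases h' : c' ∈ S.erase c₀
      · exfalso
        have h1 := hf1S c' h'
        rw [← heq, hf2 c h] at h1
        exact h1 hc
      · have e1 : c = c₀ := by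
          by_contra hne
          exact h (Finset.mem_erase.mpr ⟨hne, hc⟩)
        have e2 : c' = c₀ := by
          by_contra hne
          exact h' (Finset.mem_erase.mpr ⟨hne, hc'⟩)
        rw [e1, e2]
  obtain ⟨τ, hτ, hτf⟩ := hE S (by omega) f hinj
  refine ⟨τ, hτ, ?_, ?_⟩
  · rw [hτf c₀ hc₀, hf2 c₀ hc₀e]
  · intro c hc hne
    rw [hτf c hc]
    exact hf1S c (Finset.mem_erase.mpr ⟨hne, hc⟩)

variable {α : Type u} [Fintype α] [DecidableEq α]

theorem im_eq_of_fix_on {g : Perm α} {s : Finset α} (h : ∀ z ∈ s, g z = z) : im g s = s := by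
  ext x
  rw [mem_im]
  constructor
  · intro hx
    have h1 := h _ hx
    have e : g (g⁻¹ x) = x := by simp
    rw [e] at h1
    rw [h1]; exact hx
  · intro hx
    have h1 := h _ hx
    have e : g⁻¹ x = x := by
      rw [Perm.inv_eq_iff_eq]; exact h1.symm
    rw [e]; exact hx

theorem qp_trans (G : Subgroup (Perm α)) (hQP : QP G) (Γ : Finset α) (hJ : IsJ G Γ)
    (h2 : 2 ≤ Γ.card) : Trans G := by
  obtain ⟨y, hyG, hy1, _⟩ := exists_supp G Γ hJ h2
  refine hQP G le_rfl (fun g hg n hn => G.mul_mem (G.mul_mem hg hn) (G.inv_mem hg)) ?_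
  intro h
  rw [h] at hyG
  exact hy1 (Subgroup.mem_bot.mp hyG)

end Cfsg.Agent.Lib.Helper61.Marggraf
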