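import Mathlib
import Cfsg.Agent.Lib.Helper61.Marg9

set_option autoImplicit false
set_option linter.unusedVariables false
set_option linter.unusedSectionVars false

namespace Cfsg.Agent.Lib.Helper61.Marggraf

open Equiv Equiv.Perm

universe u

variable {α : Type u} [Fintype α] [DecidableEq α]

/-- A quasiprimitive group with a small Jordan set is primitive (given the inductive
hypothesis of Marggraf's theorem). -/
theorem qp_prim (IH : IHyp α) (G : Subgroup (Perm α)) (hQP : QP G) (Γ : Finset α)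
    (hJ : IsJ G Γ) (h2 : 2 ≤ Γ.card) (hlt : 2 * Γ.card < Fintype.card α) : Prim G := by
  classical
  have hT := qp_trans G hQP Γ hJ h2
  refine ⟨hT, ?_⟩
  intro B hB
  by_contra hcon
  push Not at hcon
  obtain ⟨hB2, hBu⟩ := hcon
  have hBne : B.Nonempty := Finset.card_pos.mp (by omega)
  have hBlk : IsBlk G B := hB
  have hK := blkKer_eq_bot hQP hBne hBu
  obtain ⟨y, hyG, hy1, hysupp⟩ := exists_supp G Γ hJ h2
  have hyfix : ∀ x, x ∉ Γ → y x = x := by
    intro x hx
    by_contra h
    exact hx (hysupp (Perm.mem_support.mpr h))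
  -- Claim A
  have claimA : ∀ C ∈ blocks G B, ¬ Γ ⊆ C := by
    intro C hC hΓC
    have hmem : y ∈ blkKer G B := by
      refine ⟨hyG, fun C' hC' => ?_⟩
      rcases blocks_eq_or_disjoint hBlk hC' hC with h | h
      · rw [h]
        apply Finset.eq_of_subset_of_card_le _ (by rw [card_im])
        intro z hz
        rw [mem_im] at hz
        by_cases hzΓ : y⁻¹ z ∈ Γ
        · have h1 := (mem_iff_of_fix hyfix (y⁻¹ z)).mpr hzΓ
          have e : y (y⁻¹ z) = z := by simp
          rw [e] at h1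
          exact hΓC h1
        · have h1 := hyfix _ hzΓ
          have e : y (y⁻¹ z) = z := by simp
          rw [e] at h1
          rw [h1]; exact hz
      · apply im_eq_of_fix_on
        intro z hz
        apply hyfix
        intro hzΓ
        exact (Finset.disjoint_left.mp h hz) (hΓC hzΓ)
    rw [hK] at hmem
    exact hy1 (Subgroup.mem_bot.mp hmem)
  -- Claim B
  have claimB : ∀ C ∈ blocks G B, C ⊆ Γ ∨ Disjoint C Γ := by
    intro C hC
    by_contra hcon
    push Not at hcon
    obtain ⟨h1, h2'⟩ := hcon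
    obtain ⟨z, hzC, hzΓ⟩ := Finset.not_subset.mp h1
    obtain ⟨a, haC, haΓ⟩ := Finset.not_disjoint_iff.mp h2'
    apply claimA C hC
    intro b hb
    obtain ⟨h, hh, hhf, hhab⟩ := hJ a haΓ b hb
    have hz' : z ∈ im h C := by
      have : h z ∈ im h C := apply_mem_im.mpr hzC
      rwa [hhf z hzΓ] at this
    have heq : im h C = C := blocks_eq_of_mem hBlk (im_mem_blocks hC hh) hC hz' hzC
    rw [← heq, ← hhab]
    exact apply_mem_im.mpr haC
  -- the blocks inside Γ
  let T : Finset (Finset α) := (blocks G B).filter (fun C => C ⊆ Γ)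
  have hTsub : T ⊆ blocks G B := Finset.filter_subset _ _
  have hΓT : Γ = T.biUnion id := by
    ext x
    simp only [Finset.mem_biUnion, id]
    constructor
    · intro hx
      obtain ⟨C, hC, hxC⟩ := exists_block hT hBne x
      refine ⟨C, ?_, hxC⟩
      simp only [T, Finset.mem_filter]
      refine ⟨hC, ?_⟩
      rcases claimB C hC with h | h
      · exact h
      · exact absurd hx (Finset.disjoint_left.mp h hxC)
    · rintro ⟨C, hC, hxC⟩
      simp only [T, Finset.mem_filter] at hC
      exact hC.2 hxC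
  have hm : Γ.card = T.card * B.card := by
    conv_lhs => rw [hΓT]
    exact card_biUnion_blocks hBlk T hTsub
  have hn : Fintype.card α = (blocks G B).card * B.card := by
    have : (Finset.univ : Finset α) = (blocks G B).biUnion id := by
      ext x
      simp only [Finset.mem_univ, Finset.mem_biUnion, id, true_iff]
      exact exists_block hT hBne x
    rw [← Finset.card_univ, this]
    exact card_biUnion_blocks hBlk _ (Finset.Subset.refl _)
  set b := B.card with hb
  set k := T.card with hk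
  set d := (blocks G B).card with hd
  have h2kd : 2 * k < d := by
    have : (2 * k) * b < d * b := by
      rw [hm, hn] at hlt
      calc 2 * k * b = 2 * (k * b) := by ring
        _ < d * b := hlt
    exact Nat.lt_of_mul_lt_mul_right this
  have hk1 : k ≠ 1 := by
    intro h1
    obtain ⟨C, hC⟩ := Finset.card_eq_one.mp (hk ▸ h1)
    have hCT : C ∈ T := by rw [hC]; exact Finset.mem_singleton_self C
    have hCb : C ∈ blocks G B := hTsub hCT
    apply claimA C hCb
    rw [hΓT, hC]
    simp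
  have hk2 : 2 ≤ k := by
    have : k ≠ 0 := by
      intro h0
      rw [h0, zero_mul] at hm
      omega
    omega
  have hdn : d < Fintype.card α := by
    rw [hn]
    have hd1 : 1 ≤ d := by omega
    have : d * 2 ≤ d * b := Nat.mul_le_mul_left d hB2
    omega
  -- the quotient
  have hcardβ : Fintype.card ↥(blocks G B) = d := Fintype.card_coe _
  let S' : Finset ↥(blocks G B) := Finset.univ.filter (fun C => (C : Finset α) ⊆ Γ)
  have hS'card : S'.card = k := by
    have : S'.map (Function.Embedding.subtype _) = T := by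
      ext C
      simp only [S', T, Finset.mem_map, Finset.mem_filter, Finset.mem_univ, true_and,
        Function.Embedding.coe_subtype]
      constructor
      · rintro ⟨C', hC', rfl⟩
        exact ⟨C'.2, hC'⟩
      · rintro ⟨hC1, hC2⟩
        exact ⟨⟨C, hC1⟩, hC2, rfl⟩
    rw [hk, ← this, Finset.card_map]
  have hS'J : IsJ (blkGroup G B) S' := by
    intro C₁ hC₁ C₂ hC₂
    simp only [S', Finset.mem_filter, Finset.mem_univ, true_and] at hC₁ hC₂
    obtain ⟨x₁, hx₁⟩ := block_nonempty hBne C₁.2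
    obtain ⟨x₂, hx₂⟩ := block_nonempty hBne C₂.2
    obtain ⟨h, hh, hhf, hh12⟩ := hJ x₁ (hC₁ hx₁) x₂ (hC₂ hx₂)
    refine ⟨blkPerm G B h hh, blkPerm_mem G B h hh, ?_, ?_⟩
    · intro C hC
      simp only [S', Finset.mem_filter, Finset.mem_univ, true_and] at hC
      apply Subtype.ext
      rw [blkPerm_apply]
      apply im_eq_of_fix_on
      intro z hz
      apply hhf
      rcases claimB C C.2 with h' | h'
      · exact absurd h' hC
      · exact Finset.disjoint_left.mp h' hz
    · apply Subtype.ext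
      rw [blkPerm_apply]
      have h1 : x₂ ∈ im h (C₁ : Finset α) := by
        rw [← hh12]; exact apply_mem_im.mpr hx₁
      exact blocks_eq_of_mem hBlk (im_mem_blocks C₁.2 hh) C₂.2 h1 hx₂
  have hAlt : alternatingGroup ↥(blocks G B) ≤ blkGroup G B := by
    apply IH ↥(blocks G B) (by rw [hcardβ]; exact hdn) _ (blkGroup_qp hQP hBlk hBne) S' hS'J
    · rw [hS'card]; exact hk2
    · rw [hS'card, hcardβ]; exact h2kd
  -- two blocks inside Γ
  obtain ⟨C₀, hC₀, C₂, hC₂, hC₀₂⟩ := Finset.one_lt_card.mp (show 1 < S'.card by rw [hS'card]; omega)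
  obtain ⟨τ, hτ, hτ0, hτS⟩ := exists_alt_moving S' C₀ hC₀ (by rw [hS'card, hcardβ]; exact h2kd)
  obtain ⟨g, hg, hgτ⟩ := hAlt hτ
  simp only [S', Finset.mem_filter, Finset.mem_univ, true_and] at hC₀ hC₂ hτS
  have hgC₀ : im g (C₀ : Finset α) = C₀ := by rw [hgτ C₀, hτ0]
  -- Γ ∩ im g Γ = C₀
  have hinter : ∀ z, z ∈ Γ → z ∈ im g Γ → z ∈ (C₀ : Finset α) := by
    intro z hz hz'
    rw [mem_im] at hz'
    obtain ⟨C, hC, hzC⟩ := exists_block hT hBne (g⁻¹ z)
    have hCΓ : C ⊆ Γ := by
      rcases claimB C hC with h | h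
      · exact h
      · exact absurd hz' (Finset.disjoint_left.mp h hzC)
    by_cases hCC₀ : (⟨C, hC⟩ : ↥(blocks G B)) = C₀
    · have : z ∈ im g C := by
        have := apply_mem_im (g := g).mpr hzC
        simpa using this
      rw [← hgC₀, ← hCC₀]
      exact this
    · exfalso
      have h1 := hτS ⟨C, hC⟩ hCΓ hCC₀
      have h2' := hgτ ⟨C, hC⟩
      have h3 : z ∈ ((τ ⟨C, hC⟩ : ↥(blocks G B)) : Finset α) := by
        rw [← h2']
        have := apply_mem_im (g := g).mpr hzC
        simpa using this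
      rcases claimB _ (τ ⟨C, hC⟩).2 with h | h
      · exact h1 h
      · exact (Finset.disjoint_left.mp h h3) hz
  have hC₀img : (C₀ : Finset α) ⊆ im g Γ := by
    rw [← hgC₀]; exact im_subset hC₀
  -- points
  have hC₀card : 1 < (C₀ : Finset α).card := by rw [card_of_mem_blocks C₀.2]; exact hB2
  obtain ⟨ω, hω, ω', hω', hωω'⟩ := Finset.one_lt_card.mp hC₀card
  obtain ⟨ω₂, hω₂⟩ := block_nonempty hBne C₂.2
  have hJ' : IsJ G (im g Γ) := hJ.conj hg
  obtain ⟨x', hx'G, hx'f, hx'ω⟩ := hJ' ω (hC₀img hω) ω' (hC₀img hω')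
  obtain ⟨yy, hyyG, hyyf, hyyω⟩ := hJ ω (hC₀ hω) ω₂ (hC₂ hω₂)
  have hω₂C₀ : ω₂ ∉ (C₀ : Finset α) := by
    intro h
    exact hC₀₂ (Subtype.ext (blocks_eq_of_mem hBlk C₀.2 C₂.2 h hω₂))
  have hx'ω₂ : x' ω₂ = ω₂ := by
    apply hx'f
    intro h
    exact hω₂C₀ (hinter ω₂ (hC₂ hω₂) h)
  -- x' stabilizes every block inside Γ
  have hx'stab : ∀ C ∈ blocks G B, C ⊆ Γ → im x' C = C := by
    intro C hC hCΓ
    by_cases hCC₀ : C = (C₀ : Finset α)
    · rw [hCC₀]
      have h1 : ω' ∈ im x' (C₀ : Finset α) := by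
        rw [← hx'ω]; exact apply_mem_im.mpr hω
      exact blocks_eq_of_mem hBlk (im_mem_blocks C₀.2 hx'G) C₀.2 h1 hω'
    · apply im_eq_of_fix_on
      intro z hz
      apply hx'f
      intro h
      have h1 := hinter z (hCΓ hz) h
      exact hCC₀ (blocks_eq_of_mem hBlk hC C₀.2 hz h1)
  -- yy maps blocks inside Γ to blocks inside Γ
  have hyyΓ : ∀ C : Finset α, C ⊆ Γ → im yy C ⊆ Γ := by
    intro C hCΓ z hz
    rw [mem_im] at hz
    have h1 := (mem_iff_of_fix hyyf (yy⁻¹ z)).mpr (hCΓ hz)
    have e : yy (yy⁻¹ z) = z := by simp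
    rwa [e] at h1
  -- yy fixes every block disjoint from Γ
  have hyystab : ∀ C : Finset α, Disjoint C Γ → im yy C = C := by
    intro C hCΓ
    apply im_eq_of_fix_on
    intro z hz
    exact hyyf z (Finset.disjoint_left.mp hCΓ hz)
  -- x' maps blocks disjoint from Γ to blocks disjoint from Γ
  have hx'disj : ∀ C ∈ blocks G B, Disjoint C Γ → Disjoint (im x' C) Γ := by
    intro C hC hCΓ
    rw [Finset.disjoint_left]
    intro z hz hzΓ
    rw [mem_im] at hz
    have hz'Γ : x'⁻¹ z ∉ Γ := Finset.disjoint_left.mp hCΓ hz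
    by_cases hz'g : x'⁻¹ z ∈ im g Γ
    · have h1 := (mem_iff_of_fix hx'f (x'⁻¹ z)).mpr hz'g
      have e : x' (x'⁻¹ z) = z := by simp
      rw [e] at h1
      have h3 := hinter z hzΓ h1
      have h4 : z ∈ im x' C := mem_im.mpr hz
      have h5 : im x' C = (C₀ : Finset α) :=
        blocks_eq_of_mem hBlk (im_mem_blocks hC hx'G) C₀.2 h4 h3
      have h6 : im x' (C₀ : Finset α) = C₀ := hx'stab C₀ C₀.2 hC₀
      have h7 : C = (C₀ : Finset α) := im_injective x' (h5.trans h6.symm)
      rw [h7] at hCΓ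
      exact (Finset.disjoint_left.mp hCΓ hω) (hC₀ hω)
    · have h1 := hx'f _ hz'g
      have e : x' (x'⁻¹ z) = z := by simp
      rw [e] at h1
      rw [h1] at hzΓ
      exact hz'Γ hzΓ
  -- the commutator lies in the kernel
  have hcomm : yy * x' * yy⁻¹ * x'⁻¹ ∈ blkKer G B := by
    refine ⟨G.mul_mem (G.mul_mem (G.mul_mem hyyG hx'G) (G.inv_mem hyyG)) (G.inv_mem hx'G), ?_⟩
    have key : ∀ C ∈ blocks G B, im (yy * x') C = im (x' * yy) C := by
      intro C hC
      rw [im_mul, im_mul]
      rcases claimB C hC with h | h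
      · rw [hx'stab C hC h, hx'stab _ (im_mem_blocks hC hyyG) (hyyΓ C h)]
      · rw [hyystab C h, hyystab _ (hx'disj C hC h)]
    intro C hC
    have hC1 : im x'⁻¹ C ∈ blocks G B := im_mem_blocks hC (G.inv_mem hx'G)
    have hC2 : im yy⁻¹ (im x'⁻¹ C) ∈ blocks G B := im_mem_blocks hC1 (G.inv_mem hyyG)
    rw [show yy * x' * yy⁻¹ * x'⁻¹ = (yy * x') * (yy⁻¹ * x'⁻¹) by group,
      im_mul (yy * x') (yy⁻¹ * x'⁻¹), im_mul yy⁻¹ x'⁻¹, key _ hC2, im_mul x' yy, im_im_inv,
      im_im_inv]
  rw [hK, Subgroup.mem_bot] at hcomm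
  have hcomm' : yy * x' = x' * yy := by
    have := congrArg (fun t => t * x' * yy) hcomm
    simpa [mul_assoc] using this
  have h1 := congrArg (fun t : Perm α => t ω) hcomm'
  simp only [Perm.mul_apply] at h1
  rw [hx'ω, hyyω, hx'ω₂, ← hyyω] at h1
  exact hωω' (yy.injective h1).symm

end Cfsg.Agent.Lib.Helper61.Marggraf
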