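import Mathlib
import Cfsg.Agent.Lib.Helper61.Marg10

set_option autoImplicit false
set_option linter.unusedVariables false
set_option linter.unusedSectionVars false

namespace Cfsg.Agent.Lib.Helper61.Marggraf

open Equiv Equiv.Perm

universe u

/-- Marggraf's theorem for quasiprimitive permutation groups: a quasiprimitive group with a
Jordan set of size at least 2 and less than half the degree contains the alternating group. -/
theorem marggraf : ∀ (n : ℕ) (α : Type u) [Fintype α] [DecidableEq α], Fintype.card α = n →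
    ∀ (G : Subgroup (Perm α)), QP G → ∀ Γ : Finset α, IsJ G Γ → 2 ≤ Γ.card →
      2 * Γ.card < Fintype.card α → alternatingGroup α ≤ G := by
  intro n
  induction n using Nat.strong_induction_on with
  | _ n ih =>
  intro α _ _ hcard G hQP Γ hJ h2 hlt
  have IH : IHyp α := by
    intro β _ _ hβ K hK S hS hS2 hSlt
    exact ih (Fintype.card β) (by omega) β rfl K hK S hS hS2 hSlt
  have hP := qp_prim IH G hQP Γ hJ h2 hlt
  exact prim_step IH G hP Γ hJ h2 hlt

/-- Version for an abstract group acting on a finite type. -/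
theorem marggraf_action {G : Type*} {Ω : Type u} [Group G] [MulAction G Ω] [Fintype Ω]
    [DecidableEq Ω]
    (hqp : ∀ N : Subgroup G, N.Normal → N ≠ ⊥ → MulAction.IsPretransitive ↥N Ω)
    (Γ : Set Ω) (hΓ1 : 1 < Γ.ncard) (hΓ2 : 2 * Γ.ncard < Fintype.card Ω)
    (hJ : MulAction.IsPretransitive ↥(fixingSubgroup G Γᶜ)
      ↥(SubMulAction.ofFixingSubgroup G Γᶜ)) :
    alternatingGroup Ω ≤ (MulAction.toPermHom G Ω).range := by
  classical
  set φ := MulAction.toPermHom G Ω with hφ
  have hφa : ∀ (g : G) (x : Ω), φ g x = g • x := fun g x => rfl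
  have hQP : QP φ.range := by
    intro N' hN'G hnorm hN'ne a b
    have hNn : (N'.comap φ).Normal := by
      constructor
      intro n hn g
      rw [Subgroup.mem_comap] at hn ⊢
      rw [map_mul, map_mul, map_inv]
      exact hnorm (φ g) ⟨g, rfl⟩ (φ n) hn
    have hNne : N'.comap φ ≠ ⊥ := by
      intro hbot
      apply hN'ne
      rw [Subgroup.eq_bot_iff_forall]
      intro n' hn'
      obtain ⟨n, rfl⟩ := hN'G hn'
      have : n ∈ N'.comap φ := hn'
      rw [hbot, Subgroup.mem_bot] at this
      rw [this, map_one]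
    have hT := hqp (N'.comap φ) hNn hNne
    obtain ⟨n, hn⟩ := hT.exists_smul_eq a b
    exact ⟨φ n, n.2, hn⟩
  have hcardΓ : Γ.toFinset.card = Γ.ncard := (Set.ncard_eq_toFinset_card' Γ).symm
  have hJ' : IsJ φ.range Γ.toFinset := by
    intro a ha b hb
    rw [Set.mem_toFinset] at ha hb
    have ha' : a ∈ SubMulAction.ofFixingSubgroup G Γᶜ := by
      rw [SubMulAction.mem_ofFixingSubgroup_iff]; simpa using ha
    have hb' : b ∈ SubMulAction.ofFixingSubgroup G Γᶜ := by
      rw [SubMulAction.mem_ofFixingSubgroup_iff]; simpa using hb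
    obtain ⟨g, hg⟩ := hJ.exists_smul_eq ⟨a, ha'⟩ ⟨b, hb'⟩
    refine ⟨φ (g : G), ⟨(g : G), rfl⟩, ?_, ?_⟩
    · intro x hx
      rw [Set.mem_toFinset] at hx
      exact (mem_fixingSubgroup_iff G).mp g.2 x hx
    · exact congrArg Subtype.val hg
  exact marggraf (Fintype.card Ω) Ω rfl φ.range hQP Γ.toFinset hJ' (by omega) (by omega)

end Cfsg.Agent.Lib.Helper61.Marggraf
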