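import Mathlib
import Cfsg.Agent.Lib.Helper39.OoDefs
import Cfsg.Agent.Lib.Helper8.Eichler
import Cfsg.Agent.Lib.Helper8.OrthTransp
import Cfsg.Agent.Lib.Helper13.Orth
import Cfsg.Agent.Lib.Helper43.OrthCardForms

/-! # OO-REFL (helper39's S2547 hive): a reflection of `O_{2m+1}(F)` lies in `B ⊔ N`

One Eichler transformation `E ∈ B` moves the reflecting vector `v` either into a hyperbolic plane
`⟨x_k, y_k⟩` or onto the line `⟨e₀⟩`; the reflection along `E v` is monomial. -/

set_option autoImplicit false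

namespace Cfsg.Agent.Lib.Helper39.OoBN

open Matrix Cfsg

variable {F : Type*} [Field F] {m : ℕ}

theorem refl_nondeg (h2 : (2 : F) ≠ 0) :
    (QuadraticMap.polarBilin (Cfsg.Agent.Lib.Helper43.oddForm m F)).Nondegenerate :=
  (Cfsg.Agent.Lib.Helper43.odd_family m F).nondegenerate
    (Cfsg.Agent.Lib.Helper43.sq_nondegenerate F h2)

/-- transport an isometry of `oddForm` to `OG F m` (same matrix) -/
noncomputable def refl_toOG
    (E : ↥(Cfsg.isometryGroup F (⇑(Cfsg.Agent.Lib.Helper43.oddForm m F)))) : OG F m :=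
  mkOG ((E : GL (Idx m) F) : Matrix (Idx m) (Idx m) F)
    (((E⁻¹ : ↥(Cfsg.isometryGroup F (⇑(Cfsg.Agent.Lib.Helper43.oddForm m F)))) : GL (Idx m) F) :
      Matrix (Idx m) (Idx m) F)
    (by rw [← Units.val_mul, ← Subgroup.coe_mul, mul_inv_cancel]; rfl)
    (by rw [← Units.val_mul, ← Subgroup.coe_mul, inv_mul_cancel]; rfl)
    (by
      intro v
      rw [Cfsg.Agent.Lib.Helper43.oddForm_coe]
      exact Cfsg.Agent.Lib.Helper8.isoElt_preserves _ E v)

theorem refl_mat_toOG
    (E : ↥(Cfsg.isometryGroup F (⇑(Cfsg.Agent.Lib.Helper43.oddForm m F)))) :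
    mat (refl_toOG E) = ((E : GL (Idx m) F) : Matrix (Idx m) (Idx m) F) := rfl

/-- the general assembly: conjugating by `E ∈ B` a reflection whose image is monomial -/
theorem refl_assemble (g : OG F m) (v : Idx m → F)
    (hg : mat g = Cfsg.reflectionMatrix (Cfsg.quadFormOdd m F) v)
    (E : OG F m) (hE : E ∈ Bo F m) (π : Equiv.Perm (Idx m)) (d : Idx m → F)
    (hmono : IsMonoG (Cfsg.reflectionMatrix (Cfsg.quadFormOdd m F) (mat E *ᵥ v)) π d) :
    g ∈ Bo F m ⊔ No F m := by
  have hr : E * g * E⁻¹ ∈ No F m := by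
    rw [mem_No_iff]
    refine ⟨π, d, ?_⟩
    have h1 : mat (E * g * E⁻¹) = Cfsg.reflectionMatrix (Cfsg.quadFormOdd m F) (mat E *ᵥ v) := by
      rw [mat_mul, mat_mul, hg]
      have h2 : mat E * Cfsg.reflectionMatrix (Cfsg.quadFormOdd m F) v
          = Cfsg.reflectionMatrix (Cfsg.quadFormOdd m F) (mat E *ᵥ v) * mat E := by
        have hp : ∀ x, (Cfsg.Agent.Lib.Helper43.oddForm m F) (mat E *ᵥ x)
            = (Cfsg.Agent.Lib.Helper43.oddForm m F) x := by
          intro x
          rw [← Cfsg.Agent.Lib.Helper43.oddForm_coe]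
          exact mat_preserves E x
        have := Cfsg.Agent.Lib.Helper8.mul_reflectionMatrix
          (Cfsg.Agent.Lib.Helper43.oddForm m F) (mat E) hp v
        rw [← Cfsg.Agent.Lib.Helper43.oddForm_coe] at this
        exact this
      rw [h2, Matrix.mul_assoc, mat_mul_inv, Matrix.mul_one]
    rw [h1]
    exact hmono
  have hgeq : g = E⁻¹ * (E * g * E⁻¹) * E := by group
  rw [hgeq]
  exact Subgroup.mul_mem _ (Subgroup.mul_mem _ (Subgroup.mem_sup_left (inv_mem hE))
    (Subgroup.mem_sup_right hr)) (Subgroup.mem_sup_left hE)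

/-! ### polar form against basis vectors -/

theorem refl_polar_e0 (x : Idx m → F) :
    QuadraticMap.polar (⇑(Cfsg.Agent.Lib.Helper43.oddForm m F)) x (Pi.single e0 1) = 2 * x e0 := by
  rw [Cfsg.Agent.Lib.Helper43.polar_oddForm]
  simp [e0]

theorem refl_polar_xi (x : Idx m → F) (j : Fin m) :
    QuadraticMap.polar (⇑(Cfsg.Agent.Lib.Helper43.oddForm m F)) x (Pi.single (xi j) 1)
      = x (yi j) := by
  rw [QuadraticMap.polar_comm]
  exact Cfsg.Agent.Lib.Helper43.polar_oddForm_inl m F j x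

theorem refl_polar_yi (x : Idx m → F) (j : Fin m) :
    QuadraticMap.polar (⇑(Cfsg.Agent.Lib.Helper43.oddForm m F)) x (Pi.single (yi j) 1)
      = x (xi j) := by
  rw [QuadraticMap.polar_comm]
  exact Cfsg.Agent.Lib.Helper43.polar_oddForm_inr m F j x

theorem refl_polar_xi_left (j : Fin m) (x : Idx m → F) :
    QuadraticMap.polar (⇑(Cfsg.Agent.Lib.Helper43.oddForm m F)) (Pi.single (xi j) 1) x
      = x (yi j) :=
  Cfsg.Agent.Lib.Helper43.polar_oddForm_inl m F j x

theorem refl_polar_yi_left (j : Fin m) (x : Idx m → F) :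
    QuadraticMap.polar (⇑(Cfsg.Agent.Lib.Helper43.oddForm m F)) (Pi.single (yi j) 1) x
      = x (xi j) :=
  Cfsg.Agent.Lib.Helper43.polar_oddForm_inr m F j x

/-- the entries of an Eichler transformation -/
theorem refl_eich_entry (hQ : (QuadraticMap.polarBilin
      (Cfsg.Agent.Lib.Helper43.oddForm m F)).Nondegenerate) (u w : Idx m → F)
    (hu : (Cfsg.Agent.Lib.Helper43.oddForm m F) u = 0)
    (huw : QuadraticMap.polar (⇑(Cfsg.Agent.Lib.Helper43.oddForm m F)) u w = 0) (a b : Idx m) :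
    mat (refl_toOG (Cfsg.Agent.Lib.Helper8.eichlerElt
        (Cfsg.Agent.Lib.Helper43.oddForm m F) hQ u w hu huw)) a b
      = (if a = b then 1 else 0)
        + QuadraticMap.polar (⇑(Cfsg.Agent.Lib.Helper43.oddForm m F)) u (Pi.single b 1) * w a
        - QuadraticMap.polar (⇑(Cfsg.Agent.Lib.Helper43.oddForm m F)) w (Pi.single b 1) * u a
        - (Cfsg.Agent.Lib.Helper43.oddForm m F) w
          * QuadraticMap.polar (⇑(Cfsg.Agent.Lib.Helper43.oddForm m F)) u (Pi.single b 1) * u a := by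
  have h1 : mat (refl_toOG (Cfsg.Agent.Lib.Helper8.eichlerElt
        (Cfsg.Agent.Lib.Helper43.oddForm m F) hQ u w hu huw)) a b
      = (mat (refl_toOG (Cfsg.Agent.Lib.Helper8.eichlerElt
        (Cfsg.Agent.Lib.Helper43.oddForm m F) hQ u w hu huw)) *ᵥ Pi.single b 1) a := by
    rw [Matrix.mulVec_single_one]; rfl
  rw [h1, refl_mat_toOG, Cfsg.Agent.Lib.Helper8.eichlerElt_mulVec]
  simp only [Pi.add_apply, Pi.sub_apply, Pi.smul_apply, smul_eq_mul, Pi.single_apply]

/-! ### index bookkeeping -/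

theorem refl_idx_cases (a : Idx m) : a = e0 ∨ (∃ j : Fin m, a = xi j) ∨ (∃ j : Fin m, a = yi j) := by
  rcases a with u | j | j
  · exact Or.inl rfl
  · exact Or.inr (Or.inl ⟨j, rfl⟩)
  · exact Or.inr (Or.inr ⟨j, rfl⟩)

theorem refl_xi_ne_e0 (j : Fin m) : (xi j : Idx m) ≠ e0 := by simp [xi, e0]
theorem refl_yi_ne_e0 (j : Fin m) : (yi j : Idx m) ≠ e0 := by simp [yi, e0]
theorem refl_e0_ne_xi (j : Fin m) : (e0 : Idx m) ≠ xi j := by simp [xi, e0]
theorem refl_e0_ne_yi (j : Fin m) : (e0 : Idx m) ≠ yi j := by simp [yi, e0]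
theorem refl_xi_ne_yi (i j : Fin m) : (xi i : Idx m) ≠ yi j := by simp [xi, yi]
theorem refl_yi_ne_xi (i j : Fin m) : (yi i : Idx m) ≠ xi j := by simp [xi, yi]
theorem refl_xi_inj (i j : Fin m) : (xi i : Idx m) = xi j ↔ i = j := by simp [xi]
theorem refl_yi_inj (i j : Fin m) : (yi i : Idx m) = yi j ↔ i = j := by simp [yi]

/-- the value of the form on a vector of a hyperbolic plane -/
theorem refl_Q_hyp (k : Fin m) (α β : F) :
    Cfsg.quadFormOdd m F (α • Pi.single (xi k) 1 + β • Pi.single (yi k) 1) = α * β := by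
  unfold Cfsg.quadFormOdd
  rw [Finset.sum_eq_single k]
  · simp [xi, yi]
  · intro i _ hik
    simp [xi, yi, hik]
  · intro h; exact absurd (Finset.mem_univ k) h

/-- the reflection along a nonsingular vector of the hyperbolic plane `⟨x_k, y_k⟩` is monomial -/
theorem refl_mono_hyp (k : Fin m) (α β : F) (hα : α ≠ 0) (hβ : β ≠ 0) :
    IsMonoG (Cfsg.reflectionMatrix (Cfsg.quadFormOdd m F)
        (α • Pi.single (xi k) 1 + β • Pi.single (yi k) 1))
      (Equiv.swap (xi k) (yi k))
      (fun s => if s = xi k then -(β / α) else if s = yi k then -(α / β) else 1) := by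
  have hQv := refl_Q_hyp (F := F) k α β
  rw [Cfsg.Agent.Lib.Helper43.oddForm_coe] at hQv ⊢
  apply isMonoG_of_mulVec_single
  intro s
  have hpol : QuadraticMap.polar (⇑(Cfsg.Agent.Lib.Helper43.oddForm m F))
      (α • Pi.single (xi k) 1 + β • Pi.single (yi k) 1) (Pi.single s 1)
      = α * (Pi.single s (1 : F) : Idx m → F) (yi k)
        + β * (Pi.single s (1 : F) : Idx m → F) (xi k) := by
    rw [QuadraticMap.polar_add_left, QuadraticMap.polar_smul_left, QuadraticMap.polar_smul_left,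
      refl_polar_xi_left, refl_polar_yi_left]
    simp only [smul_eq_mul]
  rw [Cfsg.Agent.Lib.Helper13.reflectionMatrix_mulVec, hQv, hpol]
  by_cases hs1 : s = xi k
  · subst hs1
    rw [if_pos rfl, Equiv.swap_apply_left]
    rw [Pi.single_apply, if_neg (refl_yi_ne_xi k k), Pi.single_apply, if_pos rfl]
    funext a
    simp only [Pi.sub_apply, Pi.smul_apply, Pi.add_apply, smul_eq_mul, Pi.single_apply]
    by_cases ha1 : a = xi k
    · subst ha1
      rw [if_pos rfl, if_neg (refl_xi_ne_yi k k)]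
      field_simp
      ring
    · by_cases ha2 : a = yi k
      · subst ha2
        rw [if_neg ha1, if_pos rfl]
        field_simp
        ring
      · rw [if_neg ha1, if_neg ha2]
        ring
  · by_cases hs2 : s = yi k
    · subst hs2
      rw [if_neg hs1, if_pos rfl, Equiv.swap_apply_right]
      rw [Pi.single_apply, if_pos rfl, Pi.single_apply, if_neg (refl_xi_ne_yi k k)]
      funext a
      simp only [Pi.sub_apply, Pi.smul_apply, Pi.add_apply, smul_eq_mul, Pi.single_apply]
      by_cases ha1 : a = xi k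
      · subst ha1
        rw [if_pos rfl, if_neg (refl_xi_ne_yi k k)]
        field_simp
        ring
      · by_cases ha2 : a = yi k
        · subst ha2
          rw [if_neg ha1, if_pos rfl]
          field_simp
          ring
        · rw [if_neg ha1, if_neg ha2]
          ring
    · rw [if_neg hs1, if_neg hs2, Equiv.swap_apply_of_ne_of_ne hs1 hs2]
      rw [Pi.single_apply, if_neg (Ne.symm hs2), Pi.single_apply, if_neg (Ne.symm hs1)]
      simp

/-- the reflection along a multiple of `e₀` is diagonal -/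
theorem refl_mono_e0 (c : F) (hc : c ≠ 0) :
    IsMonoG (Cfsg.reflectionMatrix (Cfsg.quadFormOdd m F) (c • Pi.single (e0 : Idx m) 1))
      1 (fun s => if s = e0 then -1 else 1) := by
  have hQv : Cfsg.quadFormOdd m F (c • Pi.single (e0 : Idx m) 1) = c ^ 2 := by
    unfold Cfsg.quadFormOdd
    simp [e0]
  rw [Cfsg.Agent.Lib.Helper43.oddForm_coe] at hQv ⊢
  apply isMonoG_of_mulVec_single
  intro s
  have hpol : QuadraticMap.polar (⇑(Cfsg.Agent.Lib.Helper43.oddForm m F))
      (c • Pi.single (e0 : Idx m) 1) (Pi.single s 1)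
      = c * (2 * (Pi.single s (1 : F) : Idx m → F) e0) := by
    rw [QuadraticMap.polar_smul_left, QuadraticMap.polar_comm, refl_polar_e0]
    simp only [smul_eq_mul]
  rw [Cfsg.Agent.Lib.Helper13.reflectionMatrix_mulVec, hQv, hpol, Equiv.Perm.one_apply]
  by_cases hs : s = e0
  · subst hs
    rw [if_pos rfl, Pi.single_apply, if_pos rfl]
    funext a
    simp only [Pi.sub_apply, Pi.smul_apply, smul_eq_mul, Pi.single_apply]
    by_cases ha : a = e0
    · rw [if_pos ha]
      field_simp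
      ring
    · rw [if_neg ha]
      ring
  · rw [if_neg hs, Pi.single_apply, if_neg (Ne.symm hs)]
    simp

/-- case (a): some `y`-coordinate of `v` does not vanish; `k` is the first such index -/
theorem refl_case_a (h2 : (2 : F) ≠ 0) (g : OG F m) (v : Idx m → F)
    (hv : Cfsg.quadFormOdd m F v ≠ 0)
    (hg : mat g = Cfsg.reflectionMatrix (Cfsg.quadFormOdd m F) v)
    (k : Fin m) (hk : v (yi k) ≠ 0) (hmin : ∀ j : Fin m, j < k → v (yi j) = 0) :
    g ∈ Bo F m ⊔ No F m := by
  have hQ := refl_nondeg (F := F) (m := m) h2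
  have hu : (Cfsg.Agent.Lib.Helper43.oddForm m F) (Pi.single (xi k) 1) = 0 :=
    Cfsg.Agent.Lib.Helper43.oddForm_single_inl m F k
  have hw0 : ∀ j : Fin m, j ≤ k →
      (if yi j = xi k ∨ yi j = yi k then 0 else -(v (yi k))⁻¹ * v (yi j)) = 0 := by
    intro j hj
    rcases lt_or_eq_of_le hj with h | h
    · rw [hmin j h, mul_zero, ite_self]
    · rw [if_pos (Or.inr (by rw [h]))]
  have huw : QuadraticMap.polar (⇑(Cfsg.Agent.Lib.Helper43.oddForm m F)) (Pi.single (xi k) 1)
      (fun a : Idx m => if a = xi k ∨ a = yi k then 0 else -(v (yi k))⁻¹ * v a) = 0 := by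
    rw [refl_polar_xi_left]
    exact hw0 k le_rfl
  have hEB : refl_toOG (Cfsg.Agent.Lib.Helper8.eichlerElt (Cfsg.Agent.Lib.Helper43.oddForm m F) hQ
      (Pi.single (xi k) 1)
      (fun a : Idx m => if a = xi k ∨ a = yi k then 0 else -(v (yi k))⁻¹ * v a) hu huw) ∈ Bo F m := by
    rw [mem_Bo_iff]
    intro a b hab
    have hne : a ≠ b := by rintro rfl; exact lt_irrefl _ hab
    rw [refl_eich_entry, if_neg hne, refl_polar_xi_left]
    rcases refl_idx_cases b with rfl | ⟨j, rfl⟩ | ⟨j, rfl⟩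
    · -- `b = e0`
      have ha : a ≠ xi k := by
        rintro rfl
        rw [rk_e0, rk_xi] at hab
        exact absurd hab (by have := k.2; omega)
      rw [Pi.single_apply, if_neg (refl_yi_ne_e0 k), Pi.single_apply, if_neg ha]
      ring
    · -- `b = xi j`
      rw [Pi.single_apply, if_neg (refl_yi_ne_xi k j), refl_polar_xi]
      by_cases ha : a = xi k
      · subst ha
        rw [rk_xi, rk_xi] at hab
        rw [hw0 j (le_of_lt (Fin.lt_def.2 hab))]
        ring
      · rw [Pi.single_apply, if_neg ha]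
        ring
    · -- `b = yi j`
      have ha : a ≠ xi k := by
        rintro rfl
        rw [rk_yi, rk_xi] at hab
        exact absurd hab (by have := k.2; have := j.2; omega)
      rw [Pi.single_apply (xi k), if_neg ha]
      by_cases hjk : j = k
      · subst hjk
        rcases refl_idx_cases a with rfl | ⟨i, rfl⟩ | ⟨i, rfl⟩
        · rw [rk_yi, rk_e0] at hab
          exact absurd hab (by have := j.2; omega)
        · rw [rk_yi, rk_xi] at hab
          exact absurd hab (by have := j.2; have := i.2; omega)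
        · rw [rk_yi, rk_yi] at hab
          have hij : i ≤ j := by
            rw [Fin.le_def]; have := j.2; have := i.2; omega
          rw [hw0 i hij]
          ring
      · rw [Pi.single_apply, if_neg (by rw [refl_yi_inj]; exact fun h => hjk h.symm)]
        ring
  -- the image of `v`
  have hEv : ∃ α : F, mat (refl_toOG (Cfsg.Agent.Lib.Helper8.eichlerElt
      (Cfsg.Agent.Lib.Helper43.oddForm m F) hQ (Pi.single (xi k) 1)
      (fun a : Idx m => if a = xi k ∨ a = yi k then 0 else -(v (yi k))⁻¹ * v a) hu huw)) *ᵥ v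
      = α • Pi.single (xi k) 1 + (v (yi k)) • Pi.single (yi k) 1 := by
    refine ⟨(mat (refl_toOG (Cfsg.Agent.Lib.Helper8.eichlerElt
      (Cfsg.Agent.Lib.Helper43.oddForm m F) hQ (Pi.single (xi k) 1)
      (fun a : Idx m => if a = xi k ∨ a = yi k then 0 else -(v (yi k))⁻¹ * v a) hu huw)) *ᵥ v)
      (xi k), ?_⟩
    funext a
    by_cases ha : a = xi k
    · subst ha
      simp only [Pi.add_apply, Pi.smul_apply, smul_eq_mul, Pi.single_apply, if_pos,
        if_neg (refl_xi_ne_yi k k)]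
      simp
    · rw [refl_mat_toOG, Cfsg.Agent.Lib.Helper8.eichlerElt_mulVec, refl_polar_xi_left]
      simp only [Pi.add_apply, Pi.sub_apply, Pi.smul_apply, smul_eq_mul, Pi.single_apply,
        if_neg ha]
      by_cases ha2 : a = yi k
      · subst ha2
        rw [if_pos (Or.inr rfl), if_pos rfl]
        ring
      · rw [if_neg (by tauto), if_neg ha2]
        field_simp
        ring
  obtain ⟨α, hα⟩ := hEv
  have hαβ : α * v (yi k) ≠ 0 := by
    rw [← refl_Q_hyp (F := F) k α (v (yi k)), ← hα, mat_preserves]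
    exact hv
  have hα0 : α ≠ 0 := left_ne_zero_of_mul hαβ
  refine refl_assemble g v hg _ hEB (Equiv.swap (xi k) (yi k))
    (fun s => if s = xi k then -(v (yi k) / α) else if s = yi k then -(α / v (yi k)) else 1) ?_
  rw [hα]
  exact refl_mono_hyp k α (v (yi k)) hα0 hk

/-- case (b), core: all `y`-coordinates of `v` vanish; `u` is the rescaled `x`-part of `v` -/
theorem refl_case_b_core (h2 : (2 : F) ≠ 0) (g : OG F m) (v : Idx m → F)
    (hv0 : v e0 ≠ 0)
    (hg : mat g = Cfsg.reflectionMatrix (Cfsg.quadFormOdd m F) v)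
    (hvy : ∀ j : Fin m, v (yi j) = 0) (u : Idx m → F) (u0 : u e0 = 0)
    (uy : ∀ j : Fin m, u (yi j) = 0) (ux : ∀ j : Fin m, v (xi j) = 2 * v e0 * u (xi j)) :
    g ∈ Bo F m ⊔ No F m := by
  have hQ := refl_nondeg (F := F) (m := m) h2
  have hu : (Cfsg.Agent.Lib.Helper43.oddForm m F) u = 0 := by
    rw [← Cfsg.Agent.Lib.Helper43.oddForm_coe]
    unfold Cfsg.quadFormOdd
    have h1 : u (Sum.inl ()) = 0 := u0
    have h3 : ∀ i : Fin m, u (Sum.inr (Sum.inr i)) = 0 := uy
    simp [h1, h3]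
  have hpu : ∀ x : Idx m → F, (∀ j : Fin m, x (yi j) = 0) →
      QuadraticMap.polar (⇑(Cfsg.Agent.Lib.Helper43.oddForm m F)) u x = 0 := by
    intro x hx
    rw [Cfsg.Agent.Lib.Helper43.polar_oddForm]
    have h1 : u (Sum.inl ()) = 0 := u0
    have h3 : ∀ i : Fin m, u (Sum.inr (Sum.inr i)) = 0 := uy
    have h4 : ∀ i : Fin m, x (Sum.inr (Sum.inr i)) = 0 := hx
    simp [h1, h3, h4]
  have huw : QuadraticMap.polar (⇑(Cfsg.Agent.Lib.Helper43.oddForm m F)) u
      (Pi.single (e0 : Idx m) 1) = 0 := by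
    rw [refl_polar_e0, u0, mul_zero]
  have hQw : (Cfsg.Agent.Lib.Helper43.oddForm m F) (Pi.single (e0 : Idx m) 1) = 1 := by
    rw [← Cfsg.Agent.Lib.Helper43.oddForm_coe]
    unfold Cfsg.quadFormOdd
    simp [e0]
  have hpw : ∀ x : Idx m → F, QuadraticMap.polar (⇑(Cfsg.Agent.Lib.Helper43.oddForm m F))
      (Pi.single (e0 : Idx m) 1) x = 2 * x e0 := by
    intro x
    rw [QuadraticMap.polar_comm, refl_polar_e0]
  have hEB : refl_toOG (Cfsg.Agent.Lib.Helper8.eichlerElt (Cfsg.Agent.Lib.Helper43.oddForm m F) hQ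
      u (Pi.single (e0 : Idx m) 1) hu huw) ∈ Bo F m := by
    rw [mem_Bo_iff]
    intro a b hab
    have hne : a ≠ b := by rintro rfl; exact lt_irrefl _ hab
    rw [refl_eich_entry, if_neg hne, hpw, hQw]
    rcases refl_idx_cases b with rfl | ⟨j, rfl⟩ | ⟨j, rfl⟩
    · -- `b = e0`
      rw [refl_polar_e0, u0]
      rcases refl_idx_cases a with rfl | ⟨i, rfl⟩ | ⟨i, rfl⟩
      · exact absurd rfl hne
      · rw [rk_e0, rk_xi] at hab
        exact absurd hab (by have := i.2; omega)
      · rw [uy]; ring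
    · -- `b = xi j`
      rw [refl_polar_xi, uy, Pi.single_apply (xi j), if_neg (refl_e0_ne_xi j)]
      ring
    · -- `b = yi j`
      rw [refl_polar_yi, Pi.single_apply (yi j), if_neg (refl_e0_ne_yi j)]
      rcases refl_idx_cases a with rfl | ⟨i, rfl⟩ | ⟨i, rfl⟩
      · rw [rk_yi, rk_e0] at hab
        exact absurd hab (by have := j.2; omega)
      · rw [rk_yi, rk_xi] at hab
        exact absurd hab (by have := j.2; have := i.2; omega)
      · rw [uy, Pi.single_apply, if_neg (refl_yi_ne_e0 i)]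
        ring
  have hEv : mat (refl_toOG (Cfsg.Agent.Lib.Helper8.eichlerElt
      (Cfsg.Agent.Lib.Helper43.oddForm m F) hQ u (Pi.single (e0 : Idx m) 1) hu huw)) *ᵥ v
      = (v e0) • Pi.single (e0 : Idx m) 1 := by
    rw [refl_mat_toOG, Cfsg.Agent.Lib.Helper8.eichlerElt_mulVec, hpu v hvy, hpw, hQw]
    funext a
    simp only [Pi.add_apply, Pi.sub_apply, Pi.smul_apply, smul_eq_mul, Pi.single_apply]
    rcases refl_idx_cases a with rfl | ⟨i, rfl⟩ | ⟨i, rfl⟩
    · rw [u0, if_pos rfl]; ring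
    · rw [if_neg (refl_xi_ne_e0 i), ux i]; ring
    · rw [if_neg (refl_yi_ne_e0 i), uy, hvy]; ring
  refine refl_assemble g v hg _ hEB 1 (fun s => if s = e0 then -1 else 1) ?_
  rw [hEv]
  exact refl_mono_e0 (v e0) hv0

/-- case (b): all `y`-coordinates of `v` vanish -/
theorem refl_case_b (h2 : (2 : F) ≠ 0) (g : OG F m) (v : Idx m → F)
    (hv : Cfsg.quadFormOdd m F v ≠ 0)
    (hg : mat g = Cfsg.reflectionMatrix (Cfsg.quadFormOdd m F) v)
    (hvy : ∀ j : Fin m, v (yi j) = 0) : g ∈ Bo F m ⊔ No F m := by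
  have hv0 : v e0 ≠ 0 := by
    intro h0
    apply hv
    unfold Cfsg.quadFormOdd
    have h1 : v (Sum.inl ()) = 0 := h0
    have h3 : ∀ i : Fin m, v (Sum.inr (Sum.inr i)) = 0 := hvy
    simp [h1, h3]
  refine refl_case_b_core h2 g v hv0 hg hvy
    (fun a => Sum.elim (fun _ => 0) (Sum.elim (fun i => (2 * v e0)⁻¹ * v (xi i)) (fun _ => 0)) a)
    rfl (fun _ => rfl) ?_
  intro j
  show v (xi j) = 2 * v e0 * ((2 * v e0)⁻¹ * v (xi j))
  field_simp

/-- LEAF REFL: a reflection lies in `B ⊔ N` -/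
theorem refl_mem_sup (h2 : (2 : F) ≠ 0) (g : OG F m) (v : Idx m → F)
    (hv : Cfsg.quadFormOdd m F v ≠ 0)
    (hg : mat g = Cfsg.reflectionMatrix (Cfsg.quadFormOdd m F) v) : g ∈ Bo F m ⊔ No F m := by
  by_cases hex : ∃ j : Fin m, v (yi j) ≠ 0
  · classical
    let k := Finset.min' (Finset.univ.filter fun j : Fin m => v (yi j) ≠ 0)
      (by obtain ⟨j, hj⟩ := hex; exact ⟨j, by simp [hj]⟩)
    have hkmem : k ∈ Finset.univ.filter fun j : Fin m => v (yi j) ≠ 0 := Finset.min'_mem _ _
    have hk : v (yi k) ≠ 0 := (Finset.mem_filter.1 hkmem).2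
    refine refl_case_a h2 g v hv hg k hk ?_
    intro j hj
    by_contra hne
    have : k ≤ j := Finset.min'_le _ j (by simp [hne])
    exact absurd hj (not_lt.2 this)
  · push Not at hex
    exact refl_case_b h2 g v hv hg hex

end Cfsg.Agent.Lib.Helper39.OoBN
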