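import Cfsg.Agent.Lib.Helper4.LcDefs

/-! # Lc hive (helper4, S0406), leaf LC-PARS: Parseval's identity for an orthogonal frame of
norm 8 in an integral lattice of rank 24. -/

set_option autoImplicit false
open Matrix

namespace Cfsg.Agent.Lib.Helper4.Lc

open Cfsg.Agent.Lib.Golay.Cross48 (Hyp Qf bf)

/-- for square integer matrices, `A * N = c • 1` with `c ≠ 0` implies `N * A = c • 1` -/
theorem lcpars_comm {n : Type*} [Fintype n] [DecidableEq n] (A N : Matrix n n ℤ) (c : ℤ)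
    (hc : c ≠ 0) (h : A * N = c • (1 : Matrix n n ℤ)) : N * A = c • (1 : Matrix n n ℤ) := by
  have hinj : Function.Injective ((Int.castRingHom ℚ).mapMatrix (m := n)) := by
    intro X Y hXY
    exact Matrix.map_injective (RingHom.injective_int (Int.castRingHom ℚ)) hXY
  apply hinj
  have hcq : (c : ℚ) ≠ 0 := Int.cast_ne_zero.2 hc
  have h1 : (Int.castRingHom ℚ).mapMatrix A * (Int.castRingHom ℚ).mapMatrix N
      = (c : ℚ) • (1 : Matrix n n ℚ) := by
    rw [← map_mul, h, map_zsmul, map_one, Int.cast_smul_eq_zsmul]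
  have h2 : ((c : ℚ)⁻¹ • (Int.castRingHom ℚ).mapMatrix A) * (Int.castRingHom ℚ).mapMatrix N
      = 1 := by
    rw [Matrix.smul_mul, h1, smul_smul, inv_mul_cancel₀ hcq, one_smul]
  have h3 := mul_eq_one_comm.1 h2
  rw [Matrix.mul_smul] at h3
  rw [map_mul, map_zsmul, map_one, ← Int.cast_smul_eq_zsmul ℚ]
  calc (Int.castRingHom ℚ).mapMatrix N * (Int.castRingHom ℚ).mapMatrix A
      = (c : ℚ) • ((c : ℚ)⁻¹ • ((Int.castRingHom ℚ).mapMatrix N * (Int.castRingHom ℚ).mapMatrix A)) := by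
        rw [smul_smul, mul_inv_cancel₀ hcq, one_smul]
    _ = (c : ℚ) • (1 : Matrix n n ℚ) := by rw [h3]

variable {B : Matrix (Fin 24) (Fin 24) ℤ}

/-- LC-PARS -/
theorem parseval_bf (hsymm : B.IsSymm) (e : Fin 24 → V) (he8 : ∀ i, Qf B (e i) = 8)
    (horth : ∀ i j, i ≠ j → bf B (e i) (e j) = 0) (x y : V) :
    ∑ i, bf B x (e i) * bf B y (e i) = 8 * bf B x y := by
  set E : Matrix (Fin 24) (Fin 24) ℤ := Matrix.of e with hE
  set M : Matrix (Fin 24) (Fin 24) ℤ := B * Eᵀ with hMdef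
  have hM : ∀ k j, M k j = (B *ᵥ e j) k := by
    intro k j
    simp [hMdef, hE, Matrix.mul_apply, Matrix.mulVec, dotProduct]
  have hEM : E * M = (8 : ℤ) • (1 : Matrix (Fin 24) (Fin 24) ℤ) := by
    ext i j
    rw [Matrix.mul_apply]
    simp only [hM]
    have h1 : ∑ k, E i k * (B *ᵥ e j) k = bf B (e i) (e j) := rfl
    rw [h1]
    by_cases hij : i = j
    · subst hij
      rw [Cfsg.Agent.Lib.Golay.Cross48.bf_self, he8]
      simp
    · rw [horth i j hij]
      simp [Matrix.one_apply_ne hij]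
  have hME : M * E = (8 : ℤ) • (1 : Matrix (Fin 24) (Fin 24) ℤ) :=
    lcpars_comm E M 8 (by norm_num) hEM
  have hMMt : M * Mᵀ = (8 : ℤ) • B := by
    have : Mᵀ = E * B := by
      rw [hMdef, Matrix.transpose_mul, Matrix.transpose_transpose, hsymm.eq]
    rw [this, ← Matrix.mul_assoc, hME, Matrix.smul_mul, Matrix.one_mul]
  have hbx : ∀ (z : V) (i : Fin 24), bf B z (e i) = (z ᵥ* M) i := by
    intro z i
    show z ⬝ᵥ (B *ᵥ e i) = (z ᵥ* M) i
    simp only [Matrix.vecMul, dotProduct, hM]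
  calc ∑ i, bf B x (e i) * bf B y (e i) = (x ᵥ* M) ⬝ᵥ (y ᵥ* M) := by
        simp only [hbx, dotProduct]
    _ = x ⬝ᵥ ((M * Mᵀ) *ᵥ y) := by
        rw [← Matrix.mulVec_mulVec, Matrix.mulVec_transpose, Matrix.dotProduct_mulVec]
    _ = 8 * bf B x y := by
        rw [hMMt, Matrix.smul_mulVec, dotProduct_smul, smul_eq_mul]
        rfl

end Cfsg.Agent.Lib.Helper4.Lc
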