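import Cfsg.Agent.Lib.Helper4.LcDefs

/-! # Lc hive (helper4, S0406), leaf LC-SELFORTH: a self-orthogonal binary code of length 24 has
dimension at most 12. -/

set_option autoImplicit false
open Matrix

namespace Cfsg.Agent.Lib.Helper4.Lc

/-- generic version: a subspace of `Fin n → K` that is self-orthogonal for the dot product has
dimension at most `n / 2` (in the form `2 * dim ≤ n`) -/
theorem lcselforth_gen {K : Type*} [Field K] {n : ℕ} (C : Submodule K (Fin n → K))
    (horth : ∀ v ∈ C, ∀ w ∈ C, ∑ i, v i * w i = 0) : 2 * Module.finrank K C ≤ n := by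
  classical
  have h1 := Subspace.finrank_add_finrank_dualAnnihilator_eq (K := K) (V := Fin n → K) C
  rw [Module.finrank_fin_fun] at h1
  -- `C` embeds into its annihilator via the dot product
  have hle : C.map (dotProductEquiv K (Fin n)).toLinearMap ≤ C.dualAnnihilator := by
    rintro _ ⟨v, hv, rfl⟩
    rw [Submodule.mem_dualAnnihilator]
    intro w hw
    exact horth v hv w hw
  have h2 : Module.finrank K (C.map (dotProductEquiv K (Fin n)).toLinearMap)
      = Module.finrank K C :=
    LinearEquiv.finrank_map_eq (dotProductEquiv K (Fin n)) C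
  have h3 := Submodule.finrank_mono hle
  omega

/-- LC-SELFORTH (generic) -/
theorem finrank_le_of_self_orth (C : Submodule (ZMod 2) (Fin 24 → ZMod 2))
    (horth : ∀ v ∈ C, ∀ w ∈ C, ∑ i, v i * w i = 0) : Module.finrank (ZMod 2) C ≤ 12 := by
  haveI : Fact (Nat.Prime 2) := ⟨Nat.prime_two⟩
  have h := lcselforth_gen (K := ZMod 2) C horth
  omega

end Cfsg.Agent.Lib.Helper4.Lc
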