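import Mathlib

/-! # OC-OBSSS (helper44's Oc hive), part a: arithmetic lemmas -/

set_option autoImplicit false
set_option linter.style.haveILetI false

namespace Cfsg.Agent.Lib.Helper44.Oc

open Polynomial

universe v

/-- `q^(i/2) ≡ -1 (mod r)` for `i = ord_r(q)` even -/
theorem obsss_dvd_pow_half_add_one (r : ℕ) [Fact r.Prime] (q : ℕ)
    (hi0 : orderOf ((q : ℕ) : ZMod r) ≠ 0) (hev : Even (orderOf ((q : ℕ) : ZMod r))) :
    r ∣ q ^ (orderOf ((q : ℕ) : ZMod r) / 2) + 1 := by
  set i := orderOf ((q : ℕ) : ZMod r) with hi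
  obtain ⟨m, hm⟩ := hev
  have hm2 : i / 2 = m := by omega
  rw [hm2]
  have hmpos : 0 < m := by omega
  have hsq : ((q : ZMod r) ^ m) * ((q : ZMod r) ^ m) = 1 := by
    rw [← pow_add, ← hm, hi]
    exact pow_orderOf_eq_one _
  have hne1 : (q : ZMod r) ^ m ≠ 1 := by
    intro h1
    have := orderOf_le_of_pow_eq_one hmpos h1
    omega
  have hneg : (q : ZMod r) ^ m = -1 := by
    rcases mul_self_eq_one_iff.1 hsq with h | h
    · exact absurd h hne1
    · exact h
  rw [← ZMod.natCast_eq_zero_iff]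
  push_cast
  rw [hneg]
  ring

/-- Euler: a nonsquare `δ` of a finite field of odd order `q` satisfies `δ^((q^m-1)/2) = -1` for odd `m`;
stated as `δ ^ e = -1` whenever `2 e + 1 = q ^ m` -/
theorem obsss_euler {F : Type v} [Field F] [Fintype F] (h2 : (2 : F) ≠ 0) (δ : F) (hδ : ¬ IsSquare δ)
    (m : ℕ) (hm : Odd m) (e : ℕ) (he : 2 * e + 1 = Fintype.card F ^ m) : δ ^ e = -1 := by
  have hchar : ringChar F ≠ 2 := by
    intro h
    apply h2
    have := ringChar.Nat.cast_ringChar (R := F)
    rw [h] at this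
    exact_mod_cast this
  have hδ0 : δ ≠ 0 := by
    rintro rfl
    exact hδ ⟨0, by simp⟩
  have hq_odd : Fintype.card F % 2 = 1 := FiniteField.odd_card_of_char_ne_two hchar
  set q := Fintype.card F with hq
  have heuler : δ ^ (q / 2) = -1 := by
    rcases FiniteField.pow_dichotomy hchar hδ0 with h | h
    · exact absurd ((FiniteField.isSquare_iff hchar hδ0).2 h) hδ
    · exact h
  -- `e = (q/2) * S` with `S = Σ_{j<m} q^j` odd
  set S := ∑ j ∈ Finset.range m, q ^ j with hS
  have hgeom : (q - 1) * S + 1 = q ^ m := by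
    have hq2 : 2 ≤ q := Fintype.one_lt_card
    have h := Nat.geomSum_eq (m := q) hq2 m
    rw [← hS] at h
    have hdvd : (q - 1) ∣ q ^ m - 1 := by
      have := Nat.sub_dvd_pow_sub_pow q 1 m
      rwa [one_pow] at this
    have hpos : 1 ≤ q ^ m := Nat.one_le_pow _ _ (by omega)
    rw [h, Nat.mul_div_cancel' hdvd]
    omega
  have hSodd : Odd S := by
    rw [hS, Finset.odd_sum_iff_odd_card_odd]
    have hall : (Finset.range m).filter (fun j => Odd (q ^ j)) = Finset.range m := by
      apply Finset.filter_true_of_mem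
      intro j _
      exact Odd.pow (Nat.odd_iff.2 hq_odd)
    rw [hall, Finset.card_range]
    exact hm
  have he' : e = (q / 2) * S := by
    have h1 : q - 1 = 2 * (q / 2) := by omega
    rw [h1] at hgeom
    have : 2 * e = 2 * ((q / 2) * S) := by
      have : 2 * (q / 2) * S + 1 = 2 * e + 1 := by rw [hgeom, he]
      nlinarith
    omega
  rw [he', pow_mul, heuler]
  exact Odd.neg_one_pow hSodd


/-- every element of a finite field `F` of odd order is a square in `F[X]/(φ)`, `φ` irreducible of even degree -/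
theorem obsss_exists_sqrt {F : Type v} [Field F] [Fintype F] (h2 : (2 : F) ≠ 0) (φ : F[X])
    (hφ : Irreducible φ) (hdeg : Even φ.natDegree) (δ : F) :
    ∃ g : F[X], φ ∣ g ^ 2 - C δ := by
  classical
  by_cases hδ0 : δ = 0
  · exact ⟨0, by simp [hδ0]⟩
  haveI : Fact (Irreducible φ) := ⟨hφ⟩
  let L := AdjoinRoot φ
  haveI : Module.Finite F L := (AdjoinRoot.powerBasis hφ.ne_zero).finite
  haveI : Finite L := Module.finite_of_finite F
  letI : Fintype L := Fintype.ofFinite L
  have hcardL : Fintype.card L = Fintype.card F ^ φ.natDegree := by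
    rw [Module.card_eq_pow_finrank (K := F) (V := L), (AdjoinRoot.powerBasis hφ.ne_zero).finrank,
      AdjoinRoot.powerBasis_dim]
  have h2L : (2 : L) ≠ 0 := by
    have : (2 : L) = algebraMap F L 2 := (map_ofNat (algebraMap F L) 2).symm
    rw [this]
    exact (_root_.map_ne_zero _).2 h2
  have hcharL : ringChar L ≠ 2 := by
    intro h
    apply h2L
    have := ringChar.Nat.cast_ringChar (R := L)
    rw [h] at this
    exact_mod_cast this
  have hchar : ringChar F ≠ 2 := by
    intro h
    apply h2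
    have := ringChar.Nat.cast_ringChar (R := F)
    rw [h] at this
    exact_mod_cast this
  have hq_odd : Fintype.card F % 2 = 1 := FiniteField.odd_card_of_char_ne_two hchar
  set q := Fintype.card F with hq
  obtain ⟨m, hm⟩ := hdeg
  let a : L := algebraMap F L δ
  have ha0 : a ≠ 0 := (_root_.map_ne_zero _).2 hδ0
  have hsq : IsSquare a := by
    rw [FiniteField.isSquare_iff hcharL ha0, hcardL, hm]
    -- `(q^(2m)) / 2 = (q^m - 1) * ((q^m + 1) / 2)`
    have hqm_odd : (q ^ m) % 2 = 1 := by
      rw [Nat.pow_mod, hq_odd, one_pow]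
      rfl
    have hpos : 1 ≤ q ^ m := Nat.one_le_pow _ _ (by omega)
    have harith : q ^ (m + m) / 2 = (q ^ m - 1) * ((q ^ m + 1) / 2) := by
      rw [pow_add]
      set t := q ^ m with ht
      obtain ⟨k, hk⟩ : ∃ k, t = 2 * k + 1 := ⟨t / 2, by omega⟩
      rw [hk]
      have h1 : (2 * k + 1 + 1) / 2 = k + 1 := by omega
      have h2' : (2 * k + 1) * (2 * k + 1) = 2 * (2 * k * (k + 1)) + 1 := by ring
      rw [h1, h2', show 2 * k + 1 - 1 = 2 * k by omega]
      omega
    rw [harith, pow_mul]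
    have hfix : a ^ (q ^ m - 1) = 1 := by
      have h1 : δ ^ (q ^ m) = δ := FiniteField.pow_card_pow m δ
      have h3 : δ ^ (q ^ m - 1) = 1 := by
        have h4 : δ ^ (q ^ m - 1) * δ = δ := by
          rw [← pow_succ, Nat.sub_add_cancel hpos, h1]
        have := mul_right_cancel₀ hδ0 (h4.trans (one_mul δ).symm)
        exact this
      show (algebraMap F L δ) ^ (q ^ m - 1) = 1
      rw [← map_pow, h3, map_one]
    rw [hfix, one_pow]
  obtain ⟨b, hb⟩ := hsq
  obtain ⟨g, hg⟩ := AdjoinRoot.mk_surjective (g := φ) b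
  refine ⟨g, ?_⟩
  rw [← AdjoinRoot.mk_eq_zero, map_sub, map_pow, hg, AdjoinRoot.mk_C, pow_two, ← hb]
  exact sub_self _

end Cfsg.Agent.Lib.Helper44.Oc
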