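import Mathlib
import Cfsg.Agent.Lib.Helper61.OcOBSSSa
import Cfsg.Agent.Lib.Helper45.OcOBSSSodd
import Cfsg.Agent.Lib.Helper8.SpBlkMin
import Cfsg.Agent.Lib.Helper83.TnsO2b

/-! # OC-OBSSS (helper44's Oc hive), part b: the case `i ≡ 2 (mod 4)`, abstract linear algebra -/

set_option autoImplicit false

namespace Cfsg.Agent.Lib.Helper44.Oc

open Polynomial Module

universe u v

section lin

variable {F : Type v} [Field F] {V : Type u} [AddCommGroup V] [Module F V]

/-- the kernel of `φ(y)` is invariant under everything commuting with `y` -/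
theorem obsss_ker_inv (y T : Module.End F V) (hyT : y * T = T * y) (φ : F[X]) (w : V)
    (hw : w ∈ LinearMap.ker (aeval y φ)) : T w ∈ LinearMap.ker (aeval y φ) := by
  rw [LinearMap.mem_ker] at hw ⊢
  have h := obsss_commute_aeval (F := F) y T hyT φ
  have h1 := congrArg (fun f : Module.End F V => f w) h
  simp only [Module.End.mul_apply] at h1
  rw [h1, hw, map_zero]

/-- polynomials in `y` commute -/
theorem obsss_aeval_aeval_comm (y : Module.End F V) (P R : F[X]) :
    aeval y P * aeval y R = aeval y R * aeval y P := by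
  rw [← map_mul, ← map_mul, mul_comm]

/-- `g(y)` squares to `δ` on `ker φ(y)` when `φ ∣ g² - δ` -/
theorem obsss_sq_on_ker (y : Module.End F V) (φ g : F[X]) (δ : F) (hg : φ ∣ g ^ 2 - C δ) (w : V)
    (hw : w ∈ LinearMap.ker (aeval y φ)) : aeval y g (aeval y g w) = δ • w := by
  obtain ⟨k, hk⟩ := hg
  have h1 : aeval y (g ^ 2 - C δ) w = 0 := by
    rw [hk, mul_comm, map_mul, Module.End.mul_apply, LinearMap.mem_ker.1 hw, map_zero]
  rw [map_sub, map_pow, aeval_C, LinearMap.sub_apply, pow_two, Module.End.mul_apply,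
    Module.algebraMap_end_apply] at h1
  exact sub_eq_zero.1 h1

/-- even powers of `s` on a subspace where `s² = δ` -/
theorem obsss_pow_two_mul (s : Module.End F V) (δ : F) (W : Submodule F V)
    (hsW : ∀ w ∈ W, s w ∈ W) (hss : ∀ w ∈ W, s (s w) = δ • w) (k : ℕ) (w : V) (hw : w ∈ W) :
    (s ^ (2 * k)) w = δ ^ k • w := by
  induction k generalizing w with
  | zero => simp
  | succ k ih =>
    rw [show 2 * (k + 1) = 2 * k + 1 + 1 by ring, pow_succ, pow_succ, Module.End.mul_apply,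
      Module.End.mul_apply, ih (s (s w)) (hsW _ (hsW _ hw)), hss w hw, smul_smul, pow_succ]

end lin

section main

variable {F : Type v} [Field F] [Fintype F] {V : Type u} [AddCommGroup V] [Module F V]
  [FiniteDimensional F V]

/-- the abstract core of the case `i ≡ 2 (mod 4)`; `hH` is the "isotropic halves" lemma -/
theorem obsss_two_core {p : ℕ} [Fact p.Prime] [CharP F p] (h2 : (2 : F) ≠ 0)
    (B : LinearMap.BilinForm F V) (hsymm : ∀ u v, B u v = B v u)
    (hBnd : ∀ u, (∀ v, B u v = 0) → u = 0)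
    (δ : F) (hδ : ¬ IsSquare δ) (J y : Module.End F V) (hJJ : J * J = δ • (1 : Module.End F V))
    (hJadj : ∀ u v, B (J u) v = B u (J v)) (hyB : ∀ u v, B (y u) (y v) = B u v)
    (hyJ : y * J = J * y) (r : ℕ) [Fact r.Prime] (hrp : r ≠ p) (hyr : y ^ r = 1)
    (hi2 : orderOf ((Fintype.card F : ℕ) : ZMod r) % 4 = 2)
    (φ : F[X]) (hφ : Irreducible φ) (hφr : φ ∣ cyclotomic r F)
    (hH : ∀ W X Y : Submodule F V, X ≤ W → Y ≤ W → W ≤ X ⊔ Y →
      (∀ u ∈ X, ∀ v ∈ X, B u v = 0) → (∀ u ∈ Y, ∀ v ∈ Y, B u v = 0) →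
      (∀ u ∈ W, (∀ w ∈ W, B u w = 0) → u = 0) → finrank F X = finrank F Y) :
    2 * orderOf ((Fintype.card F : ℕ) : ZMod r) ∣ finrank F (LinearMap.ker (aeval y φ)) := by
  classical
  set q := Fintype.card F with hq
  set i := orderOf ((q : ℕ) : ZMod r) with hi
  have hi0 : i ≠ 0 := by omega
  have hiev : Even i := ⟨i / 2, by omega⟩
  have hmodd : Odd (i / 2) := by rw [Nat.odd_iff]; omega
  have hrdvd : r ∣ q ^ (i / 2) + 1 := obsss_dvd_pow_half_add_one r q hi0 hiev
  set m := i / 2 with hm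
  set N := q ^ m with hN
  have hδ0 : δ ≠ 0 := by
    rintro rfl
    exact hδ ⟨0, by simp⟩
  -- `y ^ N` is the inverse of `y`
  have hyy' : y ^ N * y = 1 := by
    obtain ⟨k, hk⟩ := hrdvd
    rw [← pow_succ, hk, pow_mul, hyr, one_pow]
  have hy'y : y * y ^ N = 1 := by
    obtain ⟨k, hk⟩ := hrdvd
    rw [← pow_succ', hk, pow_mul, hyr, one_pow]
  -- the adjoint of `y` is `y ^ N`, and conversely
  have hadj : ∀ a b, B (y a) b = B a ((y ^ N) b) := by
    intro a b
    have hb : b = y ((y ^ N) b) := by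
      rw [← Module.End.mul_apply, hy'y, Module.End.one_apply]
    conv_lhs => rw [hb]
    exact hyB a _
  have hadj' : ∀ a b, B ((y ^ N) a) b = B a (y b) := by
    intro a b
    rw [hsymm, hsymm a, hadj]
  -- the degree of `φ` and a square root of `δ`
  have hdeg : φ.natDegree = i :=
    Cfsg.Agent.Lib.Helper44.Tns.o2b_natDegree_of_dvd_cyclotomic (p := p) r hrp hφr hφ
  obtain ⟨g, hg⟩ := obsss_exists_sqrt h2 φ hφ (hdeg ▸ hiev) δ
  set W := LinearMap.ker (aeval y φ) with hW
  set s := aeval y g with hs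
  have hss : ∀ w ∈ W, s (s w) = δ • w := fun w hw => obsss_sq_on_ker y φ g δ hg w hw
  have hsW : ∀ w ∈ W, s w ∈ W := fun w hw =>
    obsss_ker_inv y s (obsss_commute_aeval (F := F) y y rfl g).symm φ w hw
  have hJW : ∀ w ∈ W, J w ∈ W := fun w hw => obsss_ker_inv y J hyJ φ w hw
  have hyW : ∀ w ∈ W, y w ∈ W := fun w hw => obsss_ker_inv y y rfl φ w hw
  have hsJ : ∀ w, s (J w) = J (s w) := by
    intro w
    have h := obsss_commute_aeval (F := F) y J hyJ g
    have h1 := congrArg (fun f : Module.End F V => f w) h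
    simpa only [Module.End.mul_apply] using h1
  have hsy : ∀ w, s (y w) = y (s w) := by
    intro w
    have h := obsss_commute_aeval (F := F) y y rfl g
    have h1 := congrArg (fun f : Module.End F V => f w) h
    simpa only [Module.End.mul_apply] using h1
  have hJJ' : ∀ w, J (J w) = δ • w := by
    intro w
    have h1 := congrArg (fun f : Module.End F V => f w) hJJ
    simpa only [Module.End.mul_apply, LinearMap.smul_apply, Module.End.one_apply] using h1
  -- Frobenius
  have hs' : aeval (y ^ N) g = s ^ N := Cfsg.Agent.Lib.Helper8.SpBlk.aeval_pow_card y g m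
  have hqodd : q % 2 = 1 := by
    have hchar : ringChar F ≠ 2 := by
      intro h
      apply h2
      have := ringChar.Nat.cast_ringChar (R := F)
      rw [h] at this
      exact_mod_cast this
    exact FiniteField.odd_card_of_char_ne_two hchar
  obtain ⟨e, he⟩ : ∃ e, 2 * e + 1 = N := by
    have : N % 2 = 1 := by rw [hN, Nat.pow_mod, hqodd, one_pow]; rfl
    exact ⟨N / 2, by omega⟩
  have hδe : δ ^ e = -1 := obsss_euler h2 δ hδ m hmodd e he
  have hsN : ∀ w ∈ W, (s ^ N) w = - s w := by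
    intro w hw
    rw [← he, pow_succ, Module.End.mul_apply, obsss_pow_two_mul s δ W hsW hss e (s w) (hsW w hw), hδe,
      neg_smul, one_smul]
  have hadjs : ∀ u, ∀ v ∈ W, B (s u) v = - B u (s v) := by
    intro u v hv
    rw [hs, Cfsg.Agent.Lib.Helper8.SpBlk.aeval_adj hadj g u v, hs', hsN v hv, map_neg]
  -- the two eigenspaces
  set Wp : Submodule F V := W ⊓ LinearMap.ker (J - s) with hWp
  set Wm : Submodule F V := W ⊓ LinearMap.ker (J + s) with hWm
  have hmemp : ∀ w, w ∈ Wp ↔ w ∈ W ∧ J w = s w := by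
    intro w
    rw [hWp, Submodule.mem_inf]
    refine Iff.and Iff.rfl ?_
    rw [LinearMap.mem_ker, LinearMap.sub_apply, sub_eq_zero]
  have hmemm : ∀ w, w ∈ Wm ↔ w ∈ W ∧ J w = - s w := by
    intro w
    rw [hWm, Submodule.mem_inf]
    refine Iff.and Iff.rfl ?_
    rw [LinearMap.mem_ker, LinearMap.add_apply, add_eq_zero_iff_eq_neg]
  -- isotropy
  have hkey : ∀ u v, v ∈ W → B (J u) v = - B u (J v) → B u (J v) = 0 := by
    intro u v _ h
    rw [hJadj] at h
    have h3 : (2 : F) * B u (J v) = 0 := by linear_combination h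
    exact (mul_eq_zero.1 h3).resolve_left h2
  have hisop : ∀ u ∈ Wp, ∀ v ∈ Wp, B u v = 0 := by
    intro u hu v hv
    obtain ⟨huW, huJ⟩ := (hmemp u).1 hu
    obtain ⟨hvW, hvJ⟩ := (hmemp v).1 hv
    have h1 : B u (J v) = 0 := by
      apply hkey u v hvW
      rw [huJ, hadjs u v hvW, hvJ]
    have hv' : v = J (δ⁻¹ • J v) := by
      rw [map_smul, hJJ', smul_smul, inv_mul_cancel₀ hδ0, one_smul]
    -- apply the key fact to `δ⁻¹ • J v ∈ Wp`
    have hmem : δ⁻¹ • J v ∈ Wp := by
      rw [hmemp]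
      refine ⟨W.smul_mem _ (hJW v hvW), ?_⟩
      rw [map_smul, map_smul]
      congr 1
      rw [hvJ, ← hsJ, hvJ]
    obtain ⟨hwW, hwJ⟩ := (hmemp _).1 hmem
    rw [hv']
    apply hkey u _ hwW
    rw [huJ, hadjs u _ hwW, hwJ]
  have hisom : ∀ u ∈ Wm, ∀ v ∈ Wm, B u v = 0 := by
    intro u hu v hv
    obtain ⟨huW, huJ⟩ := (hmemm u).1 hu
    obtain ⟨hvW, hvJ⟩ := (hmemm v).1 hv
    have hv' : v = J (δ⁻¹ • J v) := by
      rw [map_smul, hJJ', smul_smul, inv_mul_cancel₀ hδ0, one_smul]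
    have hmem : δ⁻¹ • J v ∈ Wm := by
      rw [hmemm]
      refine ⟨W.smul_mem _ (hJW v hvW), ?_⟩
      rw [map_smul, map_smul, ← smul_neg]
      congr 1
      conv_lhs => rw [hvJ]
      rw [map_neg, ← hsJ]
    obtain ⟨hwW, hwJ⟩ := (hmemm _).1 hmem
    rw [hv']
    apply hkey u _ hwW
    rw [huJ, map_neg, LinearMap.neg_apply, hadjs u _ hwW, hwJ, map_neg, neg_neg]
  -- the decomposition
  have hle : W ≤ Wp ⊔ Wm := by
    intro w hw
    have h2inv : (2 : F)⁻¹ * 2 = 1 := inv_mul_cancel₀ h2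
    have hsJw : s (J w) ∈ W := hsW _ (hJW w hw)
    have hp : (2 : F)⁻¹ • (w + δ⁻¹ • s (J w)) ∈ Wp := by
      rw [hmemp]
      refine ⟨W.smul_mem _ (W.add_mem hw (W.smul_mem _ hsJw)), ?_⟩
      rw [map_smul, map_smul, map_add, map_add, map_smul, map_smul, ← hsJ (J w), hJJ', map_smul,
        hss (J w) (hJW w hw), smul_smul, smul_smul, inv_mul_cancel₀ hδ0, one_smul, one_smul,
        add_comm]
    have hmn : (2 : F)⁻¹ • (w - δ⁻¹ • s (J w)) ∈ Wm := by
      rw [hmemm]
      refine ⟨W.smul_mem _ (W.sub_mem hw (W.smul_mem _ hsJw)), ?_⟩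
      rw [map_smul, map_smul, map_sub, map_sub, map_smul, map_smul, ← hsJ (J w), hJJ', map_smul,
        hss (J w) (hJW w hw), smul_smul, smul_smul, inv_mul_cancel₀ hδ0, one_smul, one_smul,
        ← smul_neg, neg_sub]
    have hsum : w = (2 : F)⁻¹ • (w + δ⁻¹ • s (J w)) + (2 : F)⁻¹ • (w - δ⁻¹ • s (J w)) := by
      rw [← smul_add, add_add_sub_cancel, ← two_smul F w, smul_smul, h2inv, one_smul]
    rw [hsum]
    exact Submodule.add_mem_sup hp hmn
  have hinf : Wp ⊓ Wm = ⊥ := by
    rw [eq_bot_iff]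
    intro w hw
    obtain ⟨hwp, hwm⟩ := Submodule.mem_inf.1 hw
    obtain ⟨hwW, hwJ⟩ := (hmemp w).1 hwp
    obtain ⟨-, hwJ'⟩ := (hmemm w).1 hwm
    have h3 : (2 : F) • s w = 0 := by
      rw [two_smul]
      have : s w = - s w := hwJ.symm.trans hwJ'
      nth_rewrite 1 [this]
      exact neg_add_cancel _
    have h4 : s w = 0 := (smul_eq_zero.1 h3).resolve_left h2
    have h5 : δ • w = 0 := by rw [← hss w hwW, h4, map_zero]
    rw [Submodule.mem_bot]
    exact (smul_eq_zero.1 h5).resolve_left hδ0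
  have hWpW : Wp ≤ W := inf_le_left
  have hWmW : Wm ≤ W := inf_le_left
  -- nondegeneracy of `W`
  have hr0 : ((r : ℕ) : F) ≠ 0 := by
    intro h0
    have hdvd := (CharP.cast_eq_zero_iff F p r).1 h0
    have := (Nat.prime_dvd_prime_iff_eq (Fact.out : p.Prime) (Fact.out : r.Prime)).1 hdvd
    exact hrp this.symm
  have hφX : φ ∣ X ^ r - 1 := hφr.trans (cyclotomic.dvd_X_pow_sub_one r F)
  obtain ⟨ψ, hψ⟩ := hφX
  have hsep : (φ * ψ).Separable := by
    rw [← hψ]
    have := separable_X_pow_sub_C (1 : F) hr0 one_ne_zero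
    simpa using this
  obtain ⟨a, b, hab⟩ := hsep.isCoprime
  have hWnd : ∀ u ∈ W, (∀ w ∈ W, B u w = 0) → u = 0 := by
    intro u hu huW
    apply hBnd
    intro v
    have hv : v = aeval y (a * φ) v + aeval y (b * ψ) v := by
      rw [← LinearMap.add_apply, ← map_add, hab, map_one, Module.End.one_apply]
    have hv2 : aeval y (b * ψ) v ∈ W := by
      rw [hW, LinearMap.mem_ker, ← Module.End.mul_apply, ← map_mul,
        show φ * (b * ψ) = b * (φ * ψ) by ring, ← hψ, map_mul, map_sub, map_pow, aeval_X, map_one,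
        hyr, sub_self, mul_zero, LinearMap.zero_apply]
    have hv1 : B u (aeval y (a * φ) v) = 0 := by
      rw [← Cfsg.Agent.Lib.Helper8.SpBlk.aeval_adj hadj' (a * φ) u v, map_mul,
        Module.End.mul_apply, Cfsg.Agent.Lib.Helper8.SpBlk.aeval_pow_card y φ m]
      have hN1 : 1 ≤ N := by omega
      have h0 : ((aeval y φ) ^ N) u = 0 := by
        rw [← Nat.sub_add_cancel hN1, pow_succ, Module.End.mul_apply, LinearMap.mem_ker.1 hu,
          map_zero]
      rw [h0, map_zero, map_zero, LinearMap.zero_apply]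
    rw [hv, map_add, hv1, huW _ hv2, add_zero]
  -- equal dimensions
  have heq : finrank F Wp = finrank F Wm := hH W Wp Wm hWpW hWmW hle hisop hisom hWnd
  -- divisibility by `i`
  have hinvp : Cfsg.Agent.Lib.Helper2.BG.Inv y Wp := by
    intro w hw
    obtain ⟨hwW, hwJ⟩ := (hmemp w).1 hw
    rw [hmemp]
    refine ⟨hyW w hwW, ?_⟩
    have h1 := congrArg (fun f : Module.End F V => f w) hyJ
    simp only [Module.End.mul_apply] at h1
    rw [← h1, hwJ, hsy]
  have hfpf : Wp ⊓ LinearMap.ker (y - 1) = ⊥ := by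
    rw [eq_bot_iff]
    intro w hw
    obtain ⟨hwp, hw1⟩ := Submodule.mem_inf.1 hw
    have hwW : w ∈ W := hWpW hwp
    rw [LinearMap.mem_ker, LinearMap.sub_apply, Module.End.one_apply, sub_eq_zero] at hw1
    rw [Submodule.mem_bot]
    by_contra hw0
    have hev : Module.End.HasEigenvector y 1 w :=
      ⟨Module.End.mem_eigenspace_iff.2 (by rw [hw1, one_smul]), hw0⟩
    have h1 := Module.End.aeval_apply_of_hasEigenvector (p := φ) hev
    rw [LinearMap.mem_ker.1 hwW] at h1
    have h3 : eval 1 φ = 0 := (smul_eq_zero.1 h1.symm).resolve_right hw0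
    obtain ⟨c, hc⟩ := hφr
    have h4 : eval 1 (cyclotomic r F) = 0 := by rw [hc, eval_mul, h3, zero_mul]
    rw [eval_one_cyclotomic_prime] at h4
    exact hr0 h4
  have hdvd : i ∣ finrank F Wp :=
    Cfsg.Agent.Lib.Helper8.SpBlk.ord_dvd_finrank (p := p) hrp hyr hinvp hfpf
  have hsup : W = Wp ⊔ Wm := le_antisymm hle (sup_le hWpW hWmW)
  have hdim : finrank F W = finrank F Wp + finrank F Wm := by
    have h := Submodule.finrank_sup_add_finrank_inf_eq Wp Wm
    rw [hinf, finrank_bot, add_zero, ← hsup] at h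
    exact h
  rw [hdim, ← heq, ← two_mul]
  exact Nat.mul_dvd_mul_left 2 hdvd

end main

end Cfsg.Agent.Lib.Helper44.Oc
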