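import Mathlib
import Cfsg.Prelude.Def_GeometricClasses
import Cfsg.Agent.Lib.Helper44.OcDefs
import Cfsg.Agent.Lib.Helper45.OcOBSSSodd
import Cfsg.Agent.Lib.Helper45.OcOBSSSiso
import Cfsg.Agent.Lib.Helper61.OcOBSSSb

/-! # OC-OBSSS (helper44's Oc hive): the semisimple obstruction `obs_ss` -/

set_option autoImplicit false
open scoped MatrixGroups
open Matrix Polynomial

namespace Cfsg.Agent.Lib.Helper44.Oc

universe v

variable {F : Type v} [Field F] {ι : Type} [Fintype ι] [DecidableEq ι]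

/-- the polar form of a nondegenerate quadratic form as a Mathlib bilinear form -/
noncomputable def obsssPolarB (Q : (ι → F) → F) (hQ : Cfsg.Geo.IsNondegenerateQuadraticForm Q) :
    LinearMap.BilinForm F (ι → F) :=
  LinearMap.mk₂ F (QuadraticMap.polar Q) hQ.polar_bilinear.add_left
    (fun c x v => by rw [hQ.polar_bilinear.smul_left, smul_eq_mul])
    hQ.polar_bilinear.add_right
    (fun c v x => by rw [hQ.polar_bilinear.smul_right, smul_eq_mul])

theorem obsssPolarB_apply (Q : (ι → F) → F) (hQ : Cfsg.Geo.IsNondegenerateQuadraticForm Q)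
    (u v : ι → F) : obsssPolarB Q hQ u v = QuadraticMap.polar Q u v := rfl

/-- OC-OBSSS for `i = ord_r(q) ≡ 2 (mod 4)` -/
theorem obsss_two [Fintype F] {p : ℕ} [Fact p.Prime] [CharP F p] (h2 : (2 : F) ≠ 0) (Q : (ι → F) → F)
    (hQ : Cfsg.Geo.IsNondegenerateQuadraticForm Q) (δ : F) (hδ : ¬ IsSquare δ) (J : Matrix ι ι F) (hJ : IsJ Q δ J)
    (r : ℕ) [Fact r.Prime] (hrp : r ≠ p)
    (hi2 : orderOf ((Fintype.card F : ℕ) : ZMod r) % 4 = 2)
    (y : GL ι F) (hy : y ∈ Cfsg.isometryGroup F Q)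
    (hyJ : (y : Matrix ι ι F) * J = J * (y : Matrix ι ι F)) (hyr : y ^ r = 1)
    (φ : F[X]) (hφ : Irreducible φ) (hφr : φ ∣ cyclotomic r F) :
    2 * orderOf ((Fintype.card F : ℕ) : ZMod r) ∣ Fintype.card ι - (aeval (y : Matrix ι ι F) φ).rank := by
  rw [← obsss_finrank_ker]
  have hyQ : ∀ x : ι → F, Q ((y : Matrix ι ι F) *ᵥ x) = Q x := fun x => hy x 0
  refine obsss_two_core (p := p) h2 (obsssPolarB Q hQ) ?_ ?_ δ hδ (Matrix.toLin' J)
    (Matrix.toLin' (y : Matrix ι ι F)) ?_ ?_ ?_ ?_ r hrp ?_ hi2 φ hφ hφr ?_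
  · intro u v
    rw [obsssPolarB_apply, obsssPolarB_apply, QuadraticMap.polar_comm]
  · intro u hu
    by_contra hne
    obtain ⟨-, ⟨x, hx⟩⟩ := hQ.nondegenerate u hne
    exact hx (hu x)
  · rw [Module.End.mul_eq_comp, ← Matrix.toLin'_mul, hJ.1]
    apply LinearMap.ext
    intro v
    rw [Matrix.toLin'_apply, Matrix.smul_mulVec, Matrix.one_mulVec]
    rfl
  · intro u v
    rw [obsssPolarB_apply, obsssPolarB_apply, Matrix.toLin'_apply, Matrix.toLin'_apply]
    exact hJ.2 u v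
  · intro u v
    rw [obsssPolarB_apply, obsssPolarB_apply, Matrix.toLin'_apply, Matrix.toLin'_apply]
    unfold QuadraticMap.polar
    rw [← Matrix.mulVec_add, hyQ, hyQ, hyQ]
  · rw [Module.End.mul_eq_comp, Module.End.mul_eq_comp, ← Matrix.toLin'_mul, ← Matrix.toLin'_mul, hyJ]
  · have h1 : ((y : Matrix ι ι F)) ^ r = 1 := by
      have := congrArg (fun g : GL ι F => (g : Matrix ι ι F)) hyr
      simpa using this
    have h3 : Matrix.toLin' ((y : Matrix ι ι F) ^ r) = (Matrix.toLin' (y : Matrix ι ι F)) ^ r :=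
      map_pow (Matrix.toLinAlgEquiv' : Matrix ι ι F ≃ₐ[F] _) (y : Matrix ι ι F) r
    rw [← h3, h1, Matrix.toLin'_one]
    rfl
  · intro W X Y hX hY hsum hXi hYi hnd
    exact obsss_iso_halves (obsssPolarB Q hQ)
      (fun u v => by rw [obsssPolarB_apply, obsssPolarB_apply, QuadraticMap.polar_comm])
      W X Y hX hY hsum hXi hYi hnd

/-- OC-OBSSS: the semisimple obstruction -/
theorem obs_ss [Fintype F] {p : ℕ} [Fact p.Prime] [CharP F p] (h2 : (2 : F) ≠ 0) (Q : (ι → F) → F)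
    (hQ : Cfsg.Geo.IsNondegenerateQuadraticForm Q) (δ : F) (hδ : ¬ IsSquare δ) (J : Matrix ι ι F) (hJ : IsJ Q δ J)
    (r : ℕ) [Fact r.Prime] (hr2 : r ≠ 2) (hrp : r ≠ p)
    (hi4 : orderOf ((Fintype.card F : ℕ) : ZMod r) % 4 ≠ 0)
    (y : GL ι F) (hy : y ∈ Cfsg.isometryGroup F Q)
    (hyJ : (y : Matrix ι ι F) * J = J * (y : Matrix ι ι F)) (hyr : y ^ r = 1)
    (φ : F[X]) (hφ : Irreducible φ) (hφr : φ ∣ cyclotomic r F) :
    2 * orderOf ((Fintype.card F : ℕ) : ZMod r) ∣ Fintype.card ι - (aeval (y : Matrix ι ι F) φ).rank := by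
  by_cases hodd : Odd (orderOf ((Fintype.card F : ℕ) : ZMod r))
  · exact obsss_odd h2 Q hQ δ hδ J hJ r hr2 hrp hodd y hy hyJ hyr φ hφ hφr
  · have hi2 : orderOf ((Fintype.card F : ℕ) : ZMod r) % 4 = 2 := by
      rw [Nat.odd_iff] at hodd
      omega
    exact obsss_two h2 Q hQ δ hδ J hJ r hrp hi2 y hy hyJ hyr φ hφ hφr

end Cfsg.Agent.Lib.Helper44.Oc
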