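import Mathlib
import Cfsg.Prelude.Def_GeometricClasses
import Cfsg.Agent.Lib.Helper44.UfDefs
import Cfsg.Agent.Lib.Helper44.HermSpace
import Cfsg.Agent.Lib.Helper13.UfPERM

/-!
# S5982 hive, leaf UF-INV2: `exists_conj_mem_of_sq_char_two`

In characteristic 2 an element `x` with `x * x = z` is `w (1 + N)` with `N * N = 0`; in a Jordan
basis `vⱼ, N vⱼ, uₖ` it is a similitude of the permutation-hermitian form of `vⱼ ↔ N vⱼ`.
-/

set_option autoImplicit false
set_option linter.unusedSimpArgs false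
set_option linter.unusedSectionVars false

open scoped MatrixGroups
open Matrix Module

namespace Cfsg.Agent.Lib.Helper44.Uf

universe v

variable {F : Type v} [Field F]

/-- Jordan basis of an endomorphism of square zero -/
theorem inv2_basis {V : Type*} [AddCommGroup V] [Module F V] [FiniteDimensional F V]
    (f : V →ₗ[F] V) (hff : ∀ v, f (f v) = 0) :
    ∃ (m k : ℕ) (b : Basis ((Fin m ⊕ Fin m) ⊕ Fin k) F V),
      (∀ j, f (b (Sum.inl (Sum.inl j))) = b (Sum.inl (Sum.inr j))) ∧
      (∀ j, f (b (Sum.inl (Sum.inr j))) = 0) ∧ (∀ l, f (b (Sum.inr l)) = 0) := by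
  classical
  set K : Submodule F V := LinearMap.ker f with hK
  set R : Submodule F V := LinearMap.range f with hR
  have hRK : R ≤ K := by
    rintro _ ⟨v, rfl⟩
    rw [hK, LinearMap.mem_ker]
    exact hff v
  obtain ⟨C, hC⟩ := Submodule.exists_isCompl K
  obtain ⟨D', hD'⟩ := Submodule.exists_isCompl R
  set D : Submodule F V := K ⊓ D' with hD
  have hRD : R ⊔ D = K := by
    rw [hD, inf_comm K D', ← sup_inf_assoc_of_le D' hRK, hD'.sup_eq_top, top_inf_eq]
  have hRDdisj : Disjoint R D := by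
    rw [disjoint_iff, hD, ← inf_assoc, inf_comm R K, inf_assoc, hD'.inf_eq_bot, inf_bot_eq]
  let bC := Module.finBasis F C
  let bD := Module.finBasis F D
  let vC : Fin (finrank F C) → V := fun j => (bC j : V)
  let vD : Fin (finrank F D) → V := fun l => (bD l : V)
  have hspanC : Submodule.span F (Set.range vC) = C := by
    have h1 : Set.range vC = C.subtype '' (Set.range bC) := by
      rw [← Set.range_comp]; rfl
    rw [h1, ← Submodule.map_span, bC.span_eq, Submodule.map_subtype_top]
  have hspanD : Submodule.span F (Set.range vD) = D := by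
    have h1 : Set.range vD = D.subtype '' (Set.range bD) := by
      rw [← Set.range_comp]; rfl
    rw [h1, ← Submodule.map_span, bD.span_eq, Submodule.map_subtype_top]
  have hmapC : C.map f = R := by
    apply le_antisymm
    · rintro _ ⟨c, -, rfl⟩
      exact ⟨c, rfl⟩
    · rintro _ ⟨v, rfl⟩
      have hv : v ∈ K ⊔ C := by rw [hC.sup_eq_top]; trivial
      obtain ⟨κ, hκ, c, hc, rfl⟩ := Submodule.mem_sup.1 hv
      rw [hK, LinearMap.mem_ker] at hκ
      rw [map_add, hκ, zero_add]
      exact ⟨c, hc, rfl⟩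
  have hspanR : Submodule.span F (Set.range (f ∘ vC)) = R := by
    rw [Set.range_comp, ← Submodule.map_span, hspanC, hmapC]
  have hCK : Disjoint C K := hC.disjoint.symm
  have liC : LinearIndependent F vC :=
    bC.linearIndependent.map' C.subtype (Submodule.ker_subtype C)
  have liD : LinearIndependent F vD :=
    bD.linearIndependent.map' D.subtype (Submodule.ker_subtype D)
  have liR : LinearIndependent F (f ∘ vC) := by
    apply liC.map
    rw [hspanC]
    exact hCK
  have liCR : LinearIndependent F (Sum.elim vC (f ∘ vC)) := by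
    apply liC.sum_type liR
    rw [hspanC, hspanR]
    exact hCK.mono_right hRK
  have hspanCR : Submodule.span F (Set.range (Sum.elim vC (f ∘ vC))) = C ⊔ R := by
    rw [Set.Sum.elim_range, Submodule.span_union, hspanC, hspanR]
  have liAll : LinearIndependent F (Sum.elim (Sum.elim vC (f ∘ vC)) vD) := by
    apply liCR.sum_type liD
    rw [hspanCR, hspanD, Submodule.disjoint_def]
    intro x hx hxD
    obtain ⟨c, hc, r, hr, rfl⟩ := Submodule.mem_sup.1 hx
    have hDK : D ≤ K := inf_le_left
    have hcK : c ∈ K := by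
      have h1 : c + r ∈ K := hDK hxD
      have h2 : r ∈ K := hRK hr
      have : c = (c + r) - r := by abel
      rw [this]
      exact K.sub_mem h1 h2
    have hc0 : c = 0 := by
      have := Submodule.disjoint_def.1 hCK c hc hcK
      exact this
    rw [hc0, zero_add] at hxD ⊢
    exact Submodule.disjoint_def.1 hRDdisj r hr hxD
  have hspanAll : ⊤ ≤ Submodule.span F (Set.range (Sum.elim (Sum.elim vC (f ∘ vC)) vD)) := by
    rw [Set.Sum.elim_range, Submodule.span_union, hspanCR, hspanD, sup_assoc, hRD, sup_comm,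
      hC.sup_eq_top]
  refine ⟨finrank F C, finrank F D, Basis.mk liAll hspanAll, ?_, ?_, ?_⟩
  · intro j
    rw [Basis.mk_apply, Basis.mk_apply]
    rfl
  · intro j
    rw [Basis.mk_apply]
    exact hff _
  · intro l
    rw [Basis.mk_apply]
    have h1 : vD l ∈ D := (bD l).2
    have h2 : vD l ∈ K := (inf_le_left : D ≤ K) h1
    rw [hK, LinearMap.mem_ker] at h2
    exact h2

/-- values of a permutation-hermitian form on its basis -/
theorem inv2_PH_basis {q₀ : ℕ} (hq : q₀ ≠ 0) {I : Type} [Fintype I] [DecidableEq I] {V : Type*}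
    [AddCommGroup V] [Module F V] (b : Module.Basis I F V) (ι : I → I) (i j : I) :
    PH q₀ b ι (b i) (b j) = if ι i = j then 1 else 0 := by
  unfold PH
  simp only [Module.Basis.repr_self]
  rw [Finset.sum_eq_single i]
  · rw [Finsupp.single_eq_same, one_mul]
    by_cases h : ι i = j
    · rw [if_pos h, h, Finsupp.single_eq_same, one_pow]
    · rw [if_neg h, Finsupp.single_eq_of_ne (fun h' => h h'), zero_pow hq]
  · intro k _ hk
    rw [Finsupp.single_eq_of_ne hk, zero_mul]
  · intro hi
    exact absurd (Finset.mem_univ i) hi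

/-- UF-INV2 : characteristic 2: `x = w (1 + N)`, `N * N = 0`; basis `vⱼ, N vⱼ, uₖ`; the permutation-hermitian form
for the involution `vⱼ ↔ N vⱼ` is preserved by `1 + N`; then UF-PERM -/
theorem exists_conj_mem_of_sq_char_two [Fintype F] {n q₀ : ℕ} (hF : Fintype.card F = q₀ ^ 2)
    (h2 : (2 : F) = 0) (x : GL (Fin n) F) (z : F)
    (hxx : (x : Matrix (Fin n) (Fin n) F) * (x : Matrix (Fin n) (Fin n) F) = z • (1 : Matrix (Fin n) (Fin n) F)) :
    ∃ R : GL (Fin n) F, R * x * R⁻¹ ∈ HS n F q₀ := by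
  classical
  rcases Nat.eq_zero_or_pos n with rfl | hn
  · refine ⟨1, ?_⟩
    have : (1 : GL (Fin 0) F) * x * 1⁻¹ = 1 := Subsingleton.elim _ _
    rw [this]
    exact Subgroup.one_mem _
  have : Nonempty (Fin n) := ⟨⟨0, hn⟩⟩
  have hq : q₀ ≠ 0 := by
    have := Cfsg.Agent.Lib.Helper44.two_le_q_of_card hF
    omega
  have hz0 : z ≠ 0 := by
    rintro rfl
    rw [zero_smul] at hxx
    have h1 : ((x * x : GL (Fin n) F) : Matrix (Fin n) (Fin n) F) = 0 := by
      rw [Units.val_mul]; exact hxx
    have h3 := (x * x).isUnit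
    have h4 : IsUnit (((x * x : GL (Fin n) F) : Matrix (Fin n) (Fin n) F)) := ⟨x * x, rfl⟩
    rw [h1] at h4
    exact not_isUnit_zero h4
  have hchar : ringChar F = 2 := by
    have h1 : ringChar F ∣ 2 := by
      apply ringChar.dvd
      exact_mod_cast h2
    rcases (Nat.dvd_prime Nat.prime_two).1 h1 with h | h
    · exact absurd h (CharP.ringChar_ne_one)
    · exact h
  obtain ⟨w, hw⟩ := FiniteField.isSquare_of_char_two hchar z
  have hw0 : w ≠ 0 := by
    rintro rfl
    apply hz0
    rw [hw, mul_zero]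
  obtain ⟨N, hN⟩ : ∃ N : Matrix (Fin n) (Fin n) F, N = w⁻¹ • (x : Matrix (Fin n) (Fin n) F) + 1 :=
    ⟨_, rfl⟩
  have h11 : (1 : F) + 1 = 0 := by rw [one_add_one_eq_two]; exact h2
  have hNN : N * N = 0 := by
    rw [hN, add_mul, mul_add, mul_add, smul_mul_smul_comm, hxx, mul_one, one_mul, mul_one,
      smul_smul, hw]
    have h3 : w⁻¹ * w⁻¹ * (w * w) = 1 := by field_simp
    rw [h3, one_smul]
    have h4 : ∀ A : Matrix (Fin n) (Fin n) F, A + A = 0 := by
      intro A
      rw [← two_smul F A, h2, zero_smul]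
    have h5 : (1 : Matrix (Fin n) (Fin n) F) + w⁻¹ • (x : Matrix (Fin n) (Fin n) F) +
        (w⁻¹ • (x : Matrix (Fin n) (Fin n) F) + 1) =
        ((1 : Matrix (Fin n) (Fin n) F) + 1) + (w⁻¹ • (x : Matrix (Fin n) (Fin n) F) +
          w⁻¹ • (x : Matrix (Fin n) (Fin n) F)) := by abel
    rw [h5, h4, h4, add_zero]
  have hxN : ∀ v : Fin n → F, (x : Matrix (Fin n) (Fin n) F) *ᵥ v = w • (v + N *ᵥ v) := by
    intro v
    rw [hN, Matrix.add_mulVec, Matrix.smul_mulVec, Matrix.one_mulVec, smul_add, smul_add, smul_smul,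
      mul_inv_cancel₀ hw0, one_smul]
    have h4 : w • v + w • v = 0 := by
      rw [← two_smul F (w • v), h2, zero_smul]
    rw [add_comm (w • v), add_assoc, add_comm (w • v), h4, add_zero]
  obtain ⟨m, k, b, hb1, hb2, hb3⟩ := inv2_basis (F := F) (N.mulVecLin) (by
    intro v
    rw [Matrix.mulVecLin_apply, Matrix.mulVecLin_apply, Matrix.mulVec_mulVec, hNN,
      Matrix.zero_mulVec])
  simp only [Matrix.mulVecLin_apply] at hb1 hb2 hb3
  let ι : (Fin m ⊕ Fin m) ⊕ Fin k → (Fin m ⊕ Fin m) ⊕ Fin k := Sum.map Sum.swap id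
  have hι : ∀ i, ι (ι i) = i := by
    rintro ((i | i) | i) <;> rfl
  have hιA : ∀ i, ι (Sum.inl (Sum.inl i)) = Sum.inl (Sum.inr i) := fun _ => rfl
  have hιB : ∀ i, ι (Sum.inl (Sum.inr i)) = Sum.inl (Sum.inl i) := fun _ => rfl
  have hιD : ∀ i, ι (Sum.inr i) = Sum.inr i := fun _ => rfl
  have hH := perm_isHermSpace hF b ι hι
  have hP := inv2_PH_basis (F := F) hq b ι
  have hc : w * w ^ q₀ ≠ 0 := mul_ne_zero hw0 (pow_ne_zero _ hw0)
  apply exists_conj_mem_of_PH hF b ι hι (w * w ^ q₀) hc x
  intro i j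
  rw [hxN, hxN, hH.smul_left, hH.smul_right, hH.add_left, hH.add_right hF, hH.add_right hF,
    mul_assoc]
  congr 2
  rcases i with (i | i) | i <;> rcases j with (j | j) | j
  all_goals
    simp only [hb1, hb2, hb3, hP, hH.zero_left, hH.zero_right hF, add_zero, zero_add, hιA, hιB, hιD,
      Sum.inl.injEq, Sum.inr.injEq, reduceCtorEq, if_false]
  · by_cases hij : i = j
    · rw [if_pos hij, h11]
    · rw [if_neg hij, add_zero]

end Cfsg.Agent.Lib.Helper44.Uf
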