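import Mathlib
import Cfsg.Prelude.Def_GeometricClasses
import Cfsg.Agent.Lib.Helper44.UfDefs

/-!
# S5982 hive, leaf UF-SQ: `isSquare_of_val_le`
-/

set_option autoImplicit false
set_option linter.unusedSimpArgs false

open scoped MatrixGroups
open Matrix Polynomial

namespace Cfsg.Agent.Lib.Helper44.Uf

universe v

variable {F : Type v} [Field F]

/-- if `x * x = z`, the characteristic polynomial of `x` divides `(X² - z)ⁿ` -/
theorem sq_charpoly_dvd {n : ℕ} (x : Matrix (Fin n) (Fin n) F) (z : F)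
    (hxx : x * x = z • (1 : Matrix (Fin n) (Fin n) F)) :
    x.charpoly ∣ (X ^ 2 - C z) ^ n := by
  have hcomm : Commute (Matrix.scalar (Fin n) (X : F[X])) ((C : F →+* F[X]).mapMatrix x) :=
    Matrix.scalar_commute _ (fun _ => Commute.all _ _) _
  have key : charmatrix x * (Matrix.scalar (Fin n) (X : F[X]) + (C : F →+* F[X]).mapMatrix x) =
      Matrix.scalar (Fin n) (X ^ 2 - C z : F[X]) := by
    rw [charmatrix, ← hcomm.mul_self_sub_mul_self_eq', ← map_mul, ← map_mul, hxx]
    ext i j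
    simp only [RingHom.mapMatrix_apply, Matrix.sub_apply, Matrix.scalar_apply, Matrix.diagonal_apply,
      Matrix.map_apply, Matrix.smul_apply, Matrix.one_apply, smul_eq_mul]
    split_ifs <;> simp [pow_two]
  have h1 := congrArg Matrix.det key
  rw [Matrix.det_mul] at h1
  have h2 : (Matrix.scalar (Fin n) (X ^ 2 - C z : F[X])).det = (X ^ 2 - C z) ^ n := by
    rw [Matrix.scalar_apply, Matrix.det_diagonal, Finset.prod_const, Finset.card_univ, Fintype.card_fin]
  rw [h2] at h1
  exact Dvd.intro _ h1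

/-- if `x * x = z` with `z` a nonsquare, then `n = 2 i` and `det x = (-z) ^ i` -/
theorem sq_det_of_not_isSquare {n : ℕ} (x : Matrix (Fin n) (Fin n) F) (z : F)
    (hxx : x * x = z • (1 : Matrix (Fin n) (Fin n) F)) (hz : ¬ IsSquare z) :
    ∃ i : ℕ, n = 2 * i ∧ x.det = (-z) ^ i := by
  have hdvd := sq_charpoly_dvd x z hxx
  have hdeg : (X ^ 2 - C z : F[X]).natDegree = 2 := natDegree_X_pow_sub_C
  have hirr : Irreducible (X ^ 2 - C z : F[X]) := by
    apply irreducible_of_degree_le_three_of_not_isRoot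
    · rw [hdeg]; decide
    · intro t ht
      apply hz
      rw [IsRoot, eval_sub, eval_pow, eval_X, eval_C, sub_eq_zero] at ht
      exact ⟨t, by rw [← ht, pow_two]⟩
  obtain ⟨i, -, hi⟩ := (dvd_prime_pow hirr.prime n).1 hdvd
  have hmon : (X ^ 2 - C z : F[X]).Monic := monic_X_pow_sub_C z (by norm_num)
  have heq : x.charpoly = (X ^ 2 - C z) ^ i :=
    eq_of_monic_of_associated (charpoly_monic x) (hmon.pow i) hi
  have hn : n = 2 * i := by
    have h1 := charpoly_natDegree_eq_dim x
    rw [heq, hmon.natDegree_pow, hdeg, Fintype.card_fin] at h1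
    omega
  refine ⟨i, hn, ?_⟩
  rw [det_eq_sign_charpoly_coeff, heq, Fintype.card_fin, hn, pow_mul, neg_one_sq, one_pow, one_mul,
    coeff_zero_eq_eval_zero, eval_pow, eval_sub, eval_pow, eval_X, eval_C]
  congr 1
  ring

/-- UF-SQ : if `z` is a nonsquare, `charpoly x = (X² - z)^(n/2)` (as `charpoly x (X) * charpoly x (-X) = ± (X² - z)^n`
and `X² - z` is irreducible), so `1 = det x = (-z)^(n/2)`, which forces `v₂(n/2) ≥ v₂(q - 1)` -/
theorem isSquare_of_val_le [Fintype F] {n q₀ : ℕ} (hF : Fintype.card F = q₀ ^ 2) (h2 : (2 : F) ≠ 0)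
    (hn : 1 ≤ n) (hle : padicValNat 2 n ≤ padicValNat 2 (q₀ ^ 2 - 1)) (x : Matrix (Fin n) (Fin n) F)
    (hdet : x.det = 1) (z : F) (hxx : x * x = z • (1 : Matrix (Fin n) (Fin n) F)) : IsSquare z := by
  classical
  by_contra hz
  obtain ⟨i, hni, hdi⟩ := sq_det_of_not_isSquare x z hxx hz
  rw [hdet] at hdi
  have hi0 : i ≠ 0 := by omega
  have hchar : ringChar F ≠ 2 := by
    intro h
    apply h2
    have := ringChar.Nat.cast_ringChar (R := F)
    rw [h] at this
    exact_mod_cast this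
  have hodd : Fintype.card F % 2 = 1 := FiniteField.odd_card_of_char_ne_two hchar
  obtain ⟨N, hN⟩ : ∃ N, Fintype.card F / 2 = N := ⟨_, rfl⟩
  have hcardN : q₀ ^ 2 = 2 * N + 1 := by rw [← hF]; omega
  have hz0 : z ≠ 0 := by
    rintro rfl
    exact hz ⟨0, by simp⟩
  have hzN : z ^ N = -1 := by
    rcases FiniteField.pow_dichotomy hchar hz0 with h | h
    · exfalso
      apply hz
      rw [FiniteField.isSquare_iff hchar hz0]
      exact h
    · rw [← hN]; exact h
  -- N is even
  have hNeven : Even N := by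
    have hq0odd : q₀ % 2 = 1 := by
      by_contra h
      have h0 : q₀ % 2 = 0 := by omega
      have : q₀ ^ 2 % 2 = 0 := by
        rw [pow_two, Nat.mul_mod, h0]
      omega
    obtain ⟨k, hk⟩ : ∃ k, q₀ = 2 * k + 1 := ⟨q₀ / 2, by omega⟩
    have h3 : N = 2 * (k * (k + 1)) := by
      have : (2 * k + 1) ^ 2 = 2 * (2 * (k * (k + 1))) + 1 := by ring
      rw [hk, this] at hcardN
      omega
    exact ⟨k * (k + 1), by rw [h3]; ring⟩
  have hnegzN : (-z) ^ N = -1 := by
    rw [neg_pow, hNeven.neg_one_pow, one_mul, hzN]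
  have hne1 : (-1 : F) ≠ 1 := by
    intro h
    apply h2
    have : (2 : F) = 1 - (-1) := by ring
    rw [this, h, sub_self]
  have hnz0 : -z ≠ 0 := neg_ne_zero.2 hz0
  -- the order of -z
  obtain ⟨o, ho⟩ : ∃ o, o = orderOf (-z) := ⟨_, rfl⟩
  have ho_i : o ∣ i := by rw [ho]; exact orderOf_dvd_of_pow_eq_one hdi.symm
  have ho_2N : o ∣ 2 * N := by
    rw [ho]
    apply orderOf_dvd_of_pow_eq_one
    rw [pow_mul', hnegzN, neg_one_sq]
  have ho_N : ¬ o ∣ N := by
    intro h
    rw [ho] at h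
    have := orderOf_dvd_iff_pow_eq_one.1 h
    rw [hnegzN] at this
    exact hne1 this
  have hN0 : N ≠ 0 := by
    rintro rfl
    exact ho_N (dvd_zero o)
  have ho0 : o ≠ 0 := by
    rintro rfl
    rw [zero_dvd_iff] at ho_i
    exact hi0 ho_i
  -- 2-adic valuations
  have hv1 : padicValNat 2 (2 * N) ≤ padicValNat 2 o := by
    by_contra hlt
    push Not at hlt
    obtain ⟨k, hk⟩ := ho_2N
    have hk0 : k ≠ 0 := by
      rintro rfl
      simp at hk
      exact hN0 hk
    have h3 : padicValNat 2 (2 * N) = padicValNat 2 o + padicValNat 2 k := by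
      rw [hk, padicValNat.mul ho0 hk0]
    have h4 : 1 ≤ padicValNat 2 k := by omega
    have h5 : 2 ∣ k := dvd_of_one_le_padicValNat h4
    obtain ⟨k', rfl⟩ := h5
    apply ho_N
    refine ⟨k', ?_⟩
    have : 2 * N = 2 * (o * k') := by rw [hk]; ring
    omega
  have hv2 : padicValNat 2 o ≤ padicValNat 2 i := by
    obtain ⟨j, hj⟩ := ho_i
    have hj0 : j ≠ 0 := by
      rintro rfl
      simp at hj
      exact hi0 hj
    rw [hj, padicValNat.mul ho0 hj0]
    omega
  have hv3 : padicValNat 2 n = 1 + padicValNat 2 i := by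
    rw [hni, padicValNat.mul (by norm_num) hi0]
    simp
  have hv4 : q₀ ^ 2 - 1 = 2 * N := by omega
  rw [hv4] at hle
  omega

end Cfsg.Agent.Lib.Helper44.Uf
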