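import Mathlib

set_option autoImplicit false
set_option linter.style.haveILetI false

/-! RC-CONJ leaf of helper52's Rc hive (S2357). -/

namespace Cfsg.Agent.Lib.Helper52.Rc

/-- RC-CONJ. If any two cyclic subgroups of order `i ∣ |A|` are conjugate (`A` cyclic), every element of order `i` is
conjugate into `A`. -/
theorem exists_conj_mem_of_conj {G : Type*} [Group G] [Finite G] (A : Subgroup G) (hA : IsCyclic A) (i : ℕ)
    (hi : i ∣ Nat.card A)
    (hconj : ∀ X Y : Subgroup G, IsCyclic X → IsCyclic Y → Nat.card X = i → Nat.card Y = i →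
      ∃ g : G, Y = X.map (MulAut.conj g).toMonoidHom)
    (x : G) (hx : orderOf x = i) : ∃ g : G, g * x * g⁻¹ ∈ A := by
  haveI := hA
  have hipos : 0 < i := by rw [← hx]; exact orderOf_pos x
  obtain ⟨a, ha⟩ := IsCyclic.exists_generator (α := A)
  have hoa : orderOf a = Nat.card A := orderOf_eq_card_of_forall_mem_zpowers ha
  obtain ⟨d, hd⟩ := hi
  have hd0 : d ≠ 0 := by
    rintro rfl
    rw [mul_zero] at hd
    exact (Nat.card_pos (α := A)).ne' hd
  have hob : orderOf ((a : G) ^ d) = i := by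
    have h1 : orderOf (a : G) = i * d := by rw [Subgroup.orderOf_coe, hoa, hd]
    rw [orderOf_pow_of_dvd hd0 (by rw [h1]; exact dvd_mul_left d i), h1,
      Nat.mul_div_cancel _ (Nat.pos_of_ne_zero hd0)]
  obtain ⟨g, hg⟩ := hconj (Subgroup.zpowers ((a : G) ^ d)) (Subgroup.zpowers x)
    inferInstance inferInstance (by rw [Nat.card_zpowers, hob]) (by rw [Nat.card_zpowers, hx])
  have hxm : x ∈ (Subgroup.zpowers ((a : G) ^ d)).map (MulAut.conj g).toMonoidHom := by
    rw [← hg]
    exact Subgroup.mem_zpowers x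
  obtain ⟨u, hu, hux⟩ := hxm
  have huA : u ∈ A := by
    have hle : Subgroup.zpowers ((a : G) ^ d) ≤ A := by
      rw [Subgroup.zpowers_le]
      exact A.pow_mem a.2 d
    exact hle hu
  refine ⟨g⁻¹, ?_⟩
  have h2 : x = g * u * g⁻¹ := by
    rw [← hux]
    rfl
  rw [h2, inv_inv]
  have h3 : g⁻¹ * (g * u * g⁻¹) * g = u := by group
  rw [h3]
  exact huA

end Cfsg.Agent.Lib.Helper52.Rc
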