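import Mathlib

set_option autoImplicit false
set_option linter.style.haveILetI false

/-! RC-INV3 + RC-INV1 leaves of helper52's Rc hive (S2357). -/

namespace Cfsg.Agent.Lib.Helper52.Rc

/-- RC-INV3. An abelian group of order `4 * odd` without elements of order 4 has exactly three involutions. -/
theorem card_involutions_eq_three {C : Type*} [Group C] [Finite C] (hC : ∀ a b : C, a * b = b * a) (n : ℕ)
    (hn : Odd n) (hcard : Nat.card C = 4 * n) (h4 : ∀ x : C, orderOf x ≠ 4) :
    Nat.card {t : C // orderOf t = 2} = 3 := by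
  classical
  haveI : Fact (Nat.Prime 2) := ⟨Nat.prime_two⟩
  obtain ⟨P⟩ : Nonempty (Sylow 2 C) := inferInstance
  have hn0 : n ≠ 0 := by
    rintro rfl
    exact (Nat.not_odd_iff_even.mpr (by decide : Even 0)) hn
  have h2n : ¬ 2 ∣ n := by
    intro h
    exact (Nat.not_even_iff_odd.mpr hn) (even_iff_two_dvd.mpr h)
  have hfac : (4 * n).factorization 2 = 2 := by
    rw [Nat.factorization_mul (by norm_num) hn0]
    have h44 : (4 : ℕ) = 2 ^ 2 := by norm_num
    rw [Finsupp.add_apply, Nat.factorization_eq_zero_of_not_dvd h2n, add_zero, h44,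
      Nat.Prime.factorization_pow Nat.prime_two]
    simp
  have hP : Nat.card P = 4 := by
    rw [Sylow.card_eq_multiplicity, hcard, hfac]
    norm_num
  have hnorm : (P : Subgroup C).Normal := by
    refine ⟨fun x hx g => ?_⟩
    rw [hC g x, mul_inv_cancel_right]
    exact hx
  have hord : ∀ x ∈ (P : Subgroup C), x ≠ 1 → orderOf x = 2 := by
    intro x hx hx1
    have hdvd : orderOf x ∣ 4 := by
      have := Subgroup.orderOf_dvd_natCard (P : Subgroup C) hx
      rwa [hP] at this
    have hle : orderOf x ≤ 4 := Nat.le_of_dvd (by norm_num) hdvd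
    have h1 : orderOf x ≠ 1 := fun h => hx1 (orderOf_eq_one_iff.mp h)
    have h0 : orderOf x ≠ 0 := (orderOf_pos x).ne'
    have h44 := h4 x
    have h3 : orderOf x ≠ 3 := by
      intro h
      rw [h] at hdvd
      omega
    omega
  have hmem : ∀ t : C, orderOf t = 2 → t ∈ (P : Subgroup C) := by
    intro t ht
    have hpg : IsPGroup 2 (Subgroup.zpowers t) := by
      apply IsPGroup.of_card (n := 1)
      rw [Nat.card_zpowers, ht, pow_one]
    obtain ⟨Q, hQ⟩ := hpg.exists_le_sylow
    haveI := Sylow.unique_of_normal P hnorm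
    have hQP : Q = P := Subsingleton.elim _ _
    rw [hQP] at hQ
    exact hQ (Subgroup.mem_zpowers t)
  have hequiv : {t : C // orderOf t = 2} ≃ {x : (P : Subgroup C) // x ≠ 1} :=
    { toFun := fun t => ⟨⟨t.1, hmem t.1 t.2⟩, by
        intro h
        have h1 : t.1 = 1 := congrArg Subtype.val h
        have h2 := t.2
        rw [h1, orderOf_one] at h2
        omega⟩
      invFun := fun x => ⟨x.1.1, hord x.1.1 x.1.2 (by
        intro h
        exact x.2 (Subtype.ext h))⟩
      left_inv := fun t => rfl
      right_inv := fun x => rfl }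
  rw [Nat.card_congr hequiv]
  haveI : Fintype (P : Subgroup C) := Fintype.ofFinite _
  rw [Nat.card_eq_fintype_card, Fintype.card_subtype_compl, Fintype.card_subtype_eq,
    ← Nat.card_eq_fintype_card]
  have hP' : Nat.card (P : Subgroup C) = 4 := hP
  rw [hP']

/-- RC-INV1. A cyclic group of even order has exactly one involution. -/
theorem card_involutions_eq_one {C : Type*} [Group C] [Finite C] (hC : IsCyclic C) (h : Even (Nat.card C)) :
    Nat.card {t : C // orderOf t = 2} = 1 := by
  classical
  haveI := hC
  haveI : Fintype C := Fintype.ofFinite C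
  have h2 : 2 ∣ Fintype.card C := by
    rw [← Nat.card_eq_fintype_card]
    exact even_iff_two_dvd.mp h
  have h3 := IsCyclic.card_orderOf_eq_totient h2
  rw [Nat.card_eq_fintype_card, Fintype.card_subtype, h3, Nat.totient_two]

end Cfsg.Agent.Lib.Helper52.Rc
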