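import Mathlib
import Cfsg.Agent.Lib.Helper18.RtNU
import Cfsg.Agent.Lib.Helper12.RtNonsplitC
import Cfsg.Agent.Lib.Helper41.SL2Count

/-! # Rc hive (helper52, S2357), round 2, leaf RC-SYLTI: the Sylow 3-subgroups are TI. -/

set_option autoImplicit false

namespace Cfsg.Agent.Lib.Helper52.Rc

open Cfsg.Agent.Lib.Helper12.Rt Cfsg.Agent.Lib.Helper12.ReeOut Cfsg.Agent.Lib.Helper12.ReeInv Matrix

section U
variable {K : Type*} [Field K] [Fintype K] {G : Type*} [Group G] {m : ℕ}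

/-- membership in a conjugate Sylow subgroup -/
theorem rcsylti_mem_smul {p : ℕ} (g x : G) (P : Sylow p G) :
    x ∈ ((g • P : Sylow p G) : Subgroup G) ↔ g⁻¹ * x * g ∈ (P : Subgroup G) := by
  rw [Sylow.coe_subgroup_smul, Subgroup.mem_pointwise_smul_iff_inv_smul_mem]
  simp [MulAut.smul_def]

/-- RC-SYLTI. -/
theorem sylow_three_ti (D : RtData K G m) (P₀ : Sylow 3 G) (hP₀ : (P₀ : Subgroup G) = D.R.U) :
    ∀ P Q : Sylow 3 G, P ≠ Q → (P : Subgroup G) ⊓ (Q : Subgroup G) = ⊥ := by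
  have := D.finite
  have : Fact (Nat.Prime 3) := ⟨Nat.prime_three⟩
  intro P Q hPQ
  rw [Subgroup.eq_bot_iff_forall]
  intro x hx
  by_contra hx1
  obtain ⟨g₁, rfl⟩ := MulAction.exists_smul_eq G P₀ P
  obtain ⟨g₂, rfl⟩ := MulAction.exists_smul_eq G P₀ Q
  have hx₁ : g₁⁻¹ * x * g₁ ∈ D.R.U := by
    rw [← hP₀]; exact (rcsylti_mem_smul g₁ x P₀).1 hx.1
  have hx₂ : g₂⁻¹ * x * g₂ ∈ D.R.U := by
    rw [← hP₀]; exact (rcsylti_mem_smul g₂ x P₀).1 hx.2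
  obtain ⟨p, hp⟩ := (D.R.mem_U _).1 hx₁
  obtain ⟨p', hp'⟩ := (D.R.mem_U _).1 hx₂
  have hp0 : p ≠ 0 := by
    rintro rfl
    rw [D.R.u_zero] at hp
    apply hx1
    have : x = g₁ * (g₁⁻¹ * x * g₁) * g₁⁻¹ := by group
    rw [this, hp]; group
  have hconj : (g₂⁻¹ * g₁) * D.R.u p * (g₂⁻¹ * g₁)⁻¹ = D.R.u p' := by
    rw [← hp, ← hp']; group
  have hB : g₂⁻¹ * g₁ ∈ D.R.B := D.R.ti _ p p' hp0 hconj
  have hN : g₂⁻¹ * g₁ ∈ Subgroup.normalizer ((P₀ : Subgroup G) : Set G) := by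
    rw [hP₀, D.normalizer_U]; exact hB
  have h3 : (g₂⁻¹ * g₁) • P₀ = P₀ := Sylow.smul_eq_iff_mem_normalizer.2 hN
  apply hPQ
  calc g₁ • P₀ = g₂ • ((g₂⁻¹ * g₁) • P₀) := by rw [smul_smul]; congr 1; group
    _ = g₂ • P₀ := by rw [h3]

end U

end Cfsg.Agent.Lib.Helper52.Rc
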