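import Mathlib
import Cfsg.Agent.Lib.Helper18.RtNU
import Cfsg.Agent.Lib.Helper12.RtNonsplitC
import Cfsg.Agent.Lib.Helper41.SL2Count

/-! # Rc hive (helper52, S2357), round 2, leaf RC-SYLU: `U` is a Sylow 3-subgroup. -/

set_option autoImplicit false

namespace Cfsg.Agent.Lib.Helper52.Rc

open Cfsg.Agent.Lib.Helper12.Rt Cfsg.Agent.Lib.Helper12.ReeOut Cfsg.Agent.Lib.Helper12.ReeInv Matrix

section U
variable {K : Type*} [Field K] [Fintype K] {G : Type*} [Group G] {m : ℕ}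

/-- RC-SYLU. -/
theorem exists_sylow_eq_U (D : RtData K G m) : ∃ P : Sylow 3 G, (P : Subgroup G) = D.R.U := by
  have := D.finite
  have : Fact (Nat.Prime 3) := ⟨Nat.prime_three⟩
  have h1 : Nat.card ↥D.R.U = 3 ^ (Nat.card G).factorization 3 := by
    rw [← D.fact_three, D.card_U, ← pow_mul, Nat.Prime.factorization_pow Nat.prime_three]
    simp
  exact ⟨Sylow.ofCard D.R.U h1, Sylow.coe_ofCard _ _⟩

end U

end Cfsg.Agent.Lib.Helper52.Rc
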