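import Cfsg.Agent.Lib.Helper56.P3Defs
import Mathlib

set_option autoImplicit false

/-! S4427 hive (architect helper56), leaf P3-L4a: the trace of an idempotent of the group algebra in a
representation is the rank of its image. -/

namespace Cfsg.Agent.Lib.P3

open Cfsg Cfsg.Agent.Lib.Helper77
open scoped ComplexConjugate
open Polynomial

universe u

section

variable {G : Type u} [Group G] [Fintype G]

/-- P3-L4a : trace of an idempotent of the group algebra in a representation = rank -/
theorem p3_L4a_trace_idem {n : ℕ} (ρ : Representation ℂ G (Fin n → ℂ)) (ε : G → ℂ)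
    (hε : conv ε ε = ε) :
    ∑ g, ε g * ρ.character g =
      (Module.finrank ℂ (LinearMap.range (∑ g, ε g • ρ g : Module.End ℂ (Fin n → ℂ))) : ℂ) := by
  set E : Module.End ℂ (Fin n → ℂ) := ∑ g, ε g • ρ g with hE
  have hidem : IsIdempotentElem E := by
    unfold IsIdempotentElem
    rw [hE, ← sum_conv_smul ρ ε ε, hε]
  have htr : LinearMap.trace ℂ (Fin n → ℂ) E = ∑ g, ε g * ρ.character g := by
    rw [hE, map_sum]
    refine Finset.sum_congr rfl fun g _ => ?_
    rw [map_smul, smul_eq_mul]
    rfl
  rw [← htr]
  exact (LinearMap.IsIdempotentElem.isProj_range E hidem).trace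

end

end Cfsg.Agent.Lib.P3
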