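import Cfsg.Agent.Lib.Helper72.E6gDefs
import Cfsg.Agent.Lib.Helper36.ChevTwRank1

/-! # E6g mini-hive (S2406, owner helper72), leaf E6G-MEM (helper61): the two generators lie in `²E₆(q)`
(clone of helper36's `D4gMEM`). -/

set_option autoImplicit false
set_option linter.unusedSectionVars false
set_option linter.unusedVariables false

namespace Cfsg.Agent.Lib.Helper72.E6g

open Cfsg Cfsg.Lie Cfsg.Agent.Lib.Helper36

variable {K : Type*} [Field K]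

theorem e6gmem_sq [Fintype K] {q : ℕ} (hK : Fintype.card K = q ^ 2) (φ : K →+* K)
    (hφ : ∀ t : K, φ t = t ^ q) (t : K) : φ^[2] t = t := by
  show φ (φ t) = t
  rw [hφ, hφ, ← pow_mul, show q * q = q ^ 2 by ring, ← hK]
  exact FiniteField.pow_card t

theorem e6gmem_J : [0, 5] ∈ fundE6 ∧ [2, 4] ∈ fundE6 ∧ [3] ∈ fundE6 ∧ [1] ∈ fundE6 := by decide

theorem e6gmem_J1 : [1] ∈ fundE6 := by decide

theorem e6gmem_LJ (φ : K →+* K) :
    LJ chevE6 K φ [0, 5] = [(56, φ ^ 0), (36, φ ^ 1)] := by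
  have hp1 : pBlock chevE6 [0, 5] = [56, 36] := by decide
  unfold LJ LB
  rw [hp1]
  rfl

theorem e6gmem_LJ1 (φ : K →+* K) :
    LJ chevE6 K φ [1] = [(46, φ ^ 0)] := by
  have hp1 : pBlock chevE6 [1] = [46] := by decide
  unfold LJ LB
  rw [hp1]
  rfl

theorem e6gmem_hE_eq (q : ℕ) (φ : K →+* K) (hφ : ∀ t : K, φ t = t ^ q) (z : K) :
    hE K q z = hw chevE6 hE6 K (LJ chevE6 K φ [0, 5]) z := by
  rw [e6gmem_LJ]
  unfold hE hw he
  simp only [List.map_cons, List.map_nil, List.prod_cons, List.prod_nil, mul_one, pow_zero, pow_one,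
    RingHom.coe_one, id_eq, hφ]

theorem e6gmem_yE_eq (q : ℕ) (φ : K →+* K) (hφ : ∀ t : K, φ t = t ^ q) (t : K) :
    yE K q t = bw chevE6 hE6 K (LJ chevE6 K φ [0, 5]) t := by
  rw [e6gmem_LJ]
  unfold yE bw xe
  simp only [List.map_cons, List.map_nil, List.prod_cons, List.prod_nil, mul_one, pow_zero, pow_one,
    RingHom.coe_one, id_eq, hφ]

theorem e6gmem_x46_eq (φ : K →+* K) (t : K) :
    xe K 46 t = bw chevE6 hE6 K (LJ chevE6 K φ [1]) t := by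
  rw [e6gmem_LJ1]
  unfold bw xe
  simp only [List.map_cons, List.map_nil, List.prod_cons, List.prod_nil, mul_one, pow_zero,
    RingHom.coe_one, id_eq]

theorem e6gmem_nE_eq : nE K = nWordGL chevE6 hE6 K [0, 5] * nWordGL chevE6 hE6 K [2, 4] *
    nWordGL chevE6 hE6 K [3] * nWordGL chevE6 hE6 K [1] := by
  unfold nE l0
  rw [← Cfsg.Agent.Lib.Helper18.nWordGL_append, ← Cfsg.Agent.Lib.Helper18.nWordGL_append,
    ← Cfsg.Agent.Lib.Helper18.nWordGL_append]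
  rfl

/-- E6G-MEM -/
theorem aE_mem [Fintype K] (q : ℕ) (hq : IsPrimePow q) (hK : Fintype.card K = q ^ 2) (z : K) (hz : z ≠ 0) :
    aE K q z ∈ Cfsg.Lie.twistedE6 K q := by
  obtain ⟨φ, hφ⟩ := exists_frob hq 2 hK
  rw [twistedE6_eq K q φ hφ hK]
  unfold aE
  refine mul_mem ?_ ?_
  · rw [e6gmem_hE_eq q φ hφ]
    exact hw_LJ_mem chevE6 hE6 graphE6 orbsE6 fundE6 stepsE6 twOK_E6 K φ [0, 5] e6gmem_J.1 z
      (e6gmem_sq hK φ hφ z)
  · rw [e6gmem_x46_eq φ]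
    exact (bw_LJ_mem chevE6 hE6 graphE6 orbsE6 fundE6 stepsE6 twOK_E6 K φ [1] e6gmem_J1 1
      (by show φ 1 = 1; exact map_one φ)).1

theorem bE_mem [Fintype K] (q : ℕ) (hq : IsPrimePow q) (hK : Fintype.card K = q ^ 2) :
    bE K q ∈ Cfsg.Lie.twistedE6 K q := by
  obtain ⟨φ, hφ⟩ := exists_frob hq 2 hK
  rw [twistedE6_eq K q φ hφ hK]
  unfold bE
  refine mul_mem ?_ ?_
  · rw [e6gmem_yE_eq q φ hφ]
    exact (bw_LJ_mem chevE6 hE6 graphE6 orbsE6 fundE6 stepsE6 twOK_E6 K φ [0, 5] e6gmem_J.1 1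
      (e6gmem_sq hK φ hφ 1)).1
  · rw [e6gmem_nE_eq]
    have hn : ∀ J ∈ fundE6, nWordGL chevE6 hE6 K J ∈ twGroup chevE6 hE6 graphE6 K φ fundE6 := fun J hJ =>
      nWord_fund_mem chevE6 hE6 graphE6 orbsE6 fundE6 K φ twOK_E6.orb twOK_E6.fnd J hJ
    exact mul_mem (mul_mem (mul_mem (hn _ e6gmem_J.1) (hn _ e6gmem_J.2.1)) (hn _ e6gmem_J.2.2.1))
      (hn _ e6gmem_J.2.2.2)

end Cfsg.Agent.Lib.Helper72.E6g
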