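import Mathlib
import Cfsg.Prelude.Def_GeometricClasses
import Cfsg.Agent.Lib.Helper81.EsDefs

/-!
# ES-R2c4 (S5877 Es hive): the counting lemma on `ZMod r × ZMod r`
-/

set_option autoImplicit false
set_option linter.style.haveILetI false
set_option linter.unusedVariables false
set_option linter.unusedSectionVars false

namespace Cfsg.Agent.Lib.Helper81.Es

open scoped MatrixGroups

variable {F : Type*} [Field F] {n : ℕ}

/-- iterating the invariance `k` times -/
theorem r2c4_iter {r : ℕ} [NeZero r] (d : ZMod r → ZMod r → ℕ) (s : ZMod r)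
    (hinv : ∀ j i, d j i = d (j - s) (i + j - s)) (k : ℕ) :
    ∀ j i : ZMod r, d j i =
      d (j - (k : ZMod r) * s)
        (i + (k : ZMod r) * j - ((∑ t ∈ Finset.range (k + 1), t : ℕ) : ZMod r) * s) := by
  induction k with
  | zero =>
    intro j i
    simp
  | succ k ih =>
    intro j i
    rw [hinv j i, ih (j - s) (i + j - s)]
    congr 1
    · push_cast
      ring
    · rw [Finset.sum_range_succ _ (k + 1)]
      push_cast
      ring

/-- twice the triangular number -/
theorem r2c4_tri (k : ℕ) : 2 * (∑ t ∈ Finset.range (k + 1), t) = k * (k + 1) := by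
  have := Finset.sum_range_id_mul_two (k + 1)
  rw [Nat.add_sub_cancel] at this
  linarith

/-- the case `s ≠ 0` -/
theorem r2c4_ne {r : ℕ} [NeZero r] (hr : r.Prime) (h5 : 5 ≤ r) (d : ZMod r → ZMod r → ℕ)
    (s : ZMod r) (hs : s ≠ 0) (hinv : ∀ j i, d j i = d (j - s) (i + j - s)) :
    ∑ j : ZMod r, d j 0 ≤ 2 * ∑ i : ZMod r, d 0 i := by
  classical
  haveI : Fact r.Prime := ⟨hr⟩
  have h2 : (2 : ZMod r) ≠ 0 := by
    intro h
    have h' : ((2 : ℕ) : ZMod r) = 0 := by exact_mod_cast h
    rw [ZMod.natCast_eq_zero_iff] at h'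
    have := Nat.le_of_dvd (by norm_num) h'
    omega
  -- the map `φ`
  let kk : ZMod r → ℕ := fun j => (j * s⁻¹).val
  have hkk : ∀ j, ((kk j : ℕ) : ZMod r) * s = j := by
    intro j
    show (((j * s⁻¹).val : ℕ) : ZMod r) * s = j
    rw [ZMod.natCast_zmod_val, mul_assoc, inv_mul_cancel₀ hs, mul_one]
  let cc : ZMod r → ℕ := fun j => ∑ t ∈ Finset.range (kk j + 1), t
  have hcc : ∀ j, (2 : ZMod r) * ((cc j : ℕ) : ZMod r) = (kk j : ZMod r) * ((kk j : ZMod r) + 1) := by
    intro j
    have := r2c4_tri (kk j)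
    have h' : ((2 * cc j : ℕ) : ZMod r) = ((kk j * (kk j + 1) : ℕ) : ZMod r) := congrArg _ this
    push_cast at h'
    exact h'
  let φ : ZMod r → ZMod r := fun j => (kk j : ZMod r) * j - ((cc j : ℕ) : ZMod r) * s
  have hφ : ∀ j, d j 0 = d 0 (φ j) := by
    intro j
    have h1 := r2c4_iter d s hinv (kk j) j 0
    rw [hkk j, sub_self, zero_add] at h1
    exact h1
  have hφ2 : ∀ j, 2 * s * φ j = j ^ 2 - s * j := by
    intro j
    have e1 := hkk j
    have e2 := hcc j
    show 2 * s * ((kk j : ZMod r) * j - ((cc j : ℕ) : ZMod r) * s) = j ^ 2 - s * j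
    linear_combination (-(s ^ 2)) * e2 + (-((kk j : ZMod r) * s - j) - s) * e1
  have hfib : ∀ i : ZMod r, (Finset.univ.filter (fun j => φ j = i)).card ≤ 2 := by
    intro i
    rcases Finset.eq_empty_or_nonempty (Finset.univ.filter (fun j => φ j = i)) with h | ⟨j₀, hj₀⟩
    · rw [h]
      simp
    · have hj₀' : φ j₀ = i := (Finset.mem_filter.1 hj₀).2
      have hsub : Finset.univ.filter (fun j => φ j = i) ⊆ {j₀, s - j₀} := by
        intro j hj
        have hj' : φ j = i := (Finset.mem_filter.1 hj).2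
        have h3 : (j - j₀) * (j + j₀ - s) = 0 := by
          have h4 := hφ2 j
          have h5 := hφ2 j₀
          rw [hj'] at h4
          rw [hj₀'] at h5
          linear_combination h5 - h4
        rw [Finset.mem_insert, Finset.mem_singleton]
        rcases mul_eq_zero.1 h3 with h | h
        · left
          exact sub_eq_zero.1 h
        · right
          linear_combination h
      exact (Finset.card_le_card hsub).trans Finset.card_le_two
  calc ∑ j : ZMod r, d j 0 = ∑ j : ZMod r, d 0 (φ j) := Finset.sum_congr rfl (fun j _ => hφ j)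
    _ = ∑ i : ZMod r, ∑ j ∈ Finset.univ.filter (fun j => φ j = i), d 0 (φ j) :=
        (Finset.sum_fiberwise _ _ _).symm
    _ = ∑ i : ZMod r, (Finset.univ.filter (fun j => φ j = i)).card * d 0 i := by
        apply Finset.sum_congr rfl
        intro i _
        rw [Finset.sum_congr rfl (fun j hj => by rw [(Finset.mem_filter.1 hj).2]),
          Finset.sum_const, smul_eq_mul]
    _ ≤ ∑ i : ZMod r, 2 * d 0 i := Finset.sum_le_sum (fun i _ => Nat.mul_le_mul_right _ (hfib i))
    _ = 2 * ∑ i : ZMod r, d 0 i := (Finset.mul_sum _ _ _).symm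

/-- the case `s = 0`, columns `j ≠ 0` are constant -/
theorem r2c4_const {r : ℕ} [NeZero r] (hr : r.Prime) (d : ZMod r → ZMod r → ℕ)
    (hinv : ∀ j i, d j i = d j (i + j)) (j : ZMod r) (hj : j ≠ 0) (i : ZMod r) :
    d j 0 = d j i := by
  haveI : Fact r.Prime := ⟨hr⟩
  have hit : ∀ k : ℕ, ∀ i : ZMod r, d j i = d j (i + (k : ZMod r) * j) := by
    intro k
    induction k with
    | zero =>
      intro i
      simp
    | succ k ih =>
      intro i
      rw [hinv j i, ih (i + j)]
      congr 1
      push_cast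
      ring
  have h1 := hit (i * j⁻¹).val 0
  rw [ZMod.natCast_zmod_val, mul_assoc, inv_mul_cancel₀ hj, mul_one, zero_add] at h1
  exact h1

/-- ES-R2c4 : PURE COMBINATORICS on `ZMod r`. -/
theorem count_le {r : ℕ} [NeZero r] (hr : r.Prime) (h5 : 5 ≤ r) (n : ℕ) (d : ZMod r → ZMod r → ℕ)
    (s : ZMod r) (hinv : ∀ j i, d j i = d (j - s) (i + j - s))
    (htot : ∑ j : ZMod r, ∑ i : ZMod r, d j i ≤ n) (hcol : ∀ j, r * ∑ i : ZMod r, d j i ≤ n) :
    2 * ∑ j : ZMod r, d j 0 ≤ n := by
  classical
  by_cases hs : s = 0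
  · subst hs
    have hinv' : ∀ j i, d j i = d j (i + j) := by
      intro j i
      have := hinv j i
      rwa [sub_zero, sub_zero] at this
    -- the column `0`
    have h00 : r * d 0 0 ≤ n := by
      have h1 : d 0 0 ≤ ∑ i : ZMod r, d 0 i :=
        Finset.single_le_sum (f := fun i => d 0 i) (fun _ _ => Nat.zero_le _) (Finset.mem_univ 0)
      exact (Nat.mul_le_mul_left r h1).trans (hcol 0)
    -- the other columns
    have hrest : r * ∑ j ∈ Finset.univ.erase (0 : ZMod r), d j 0 ≤ n := by
      rw [Finset.mul_sum]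
      calc ∑ j ∈ Finset.univ.erase (0 : ZMod r), r * d j 0
          = ∑ j ∈ Finset.univ.erase (0 : ZMod r), ∑ i : ZMod r, d j i := by
            apply Finset.sum_congr rfl
            intro j hj
            have hj0 : j ≠ 0 := Finset.ne_of_mem_erase hj
            rw [Finset.sum_congr rfl (fun i _ => (r2c4_const hr d hinv' j hj0 i).symm),
              Finset.sum_const, Finset.card_univ, ZMod.card, smul_eq_mul]
        _ ≤ ∑ j : ZMod r, ∑ i : ZMod r, d j i :=
            Finset.sum_le_sum_of_subset (Finset.erase_subset _ _)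
        _ ≤ n := htot
    have hsplit : d 0 0 + ∑ j ∈ Finset.univ.erase (0 : ZMod r), d j 0 = ∑ j : ZMod r, d j 0 :=
      Finset.add_sum_erase Finset.univ (fun j => d j 0) (Finset.mem_univ 0)
    rw [← hsplit]
    have h6 : r * (d 0 0 + ∑ j ∈ Finset.univ.erase (0 : ZMod r), d j 0) ≤ 2 * n := by
      rw [Nat.mul_add]
      omega
    have h7 : 4 * (d 0 0 + ∑ j ∈ Finset.univ.erase (0 : ZMod r), d j 0)
        ≤ r * (d 0 0 + ∑ j ∈ Finset.univ.erase (0 : ZMod r), d j 0) :=
      Nat.mul_le_mul_right _ (by omega)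
    omega
  · have h1 := r2c4_ne hr h5 d s hs hinv
    have h2 := hcol 0
    have h3 : 4 * ∑ i : ZMod r, d 0 i ≤ r * ∑ i : ZMod r, d 0 i := Nat.mul_le_mul_right _ (by omega)
    omega

end Cfsg.Agent.Lib.Helper81.Es
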