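import Mathlib
import Cfsg.Agent.Lib.Helper83.FpDefs

/-! FP-B1a leaf of helper83's Fp hive (S2276). -/

set_option autoImplicit false

namespace Cfsg.Agent.Lib.Helper83.Fp

open Equiv

theorem fpb1a_fixCard {α : Type*} [Fintype α] [DecidableEq α] (e : Perm α) :
    FixCard e = Fintype.card α - e.support.card := by
  unfold FixCard
  have : (Finset.univ.filter fun x => e x = x) = e.supportᶜ := by
    ext x
    simp [Perm.mem_support]
  rw [this, Finset.card_compl]

theorem fpb1a_conj_swap {α : Type*} [DecidableEq α] (c : Perm α) (a b : α) :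
    c * swap a b * c⁻¹ = swap (c a) (c b) := by
  have h := Equiv.symm_trans_swap_trans a b c
  rw [← h]
  ext x
  rfl

/-- `swap a b * swap a c` is the 3-cycle `a ↦ c ↦ b ↦ a`: its support contains `a`, `b` and `c`. -/
theorem fpb1a_three {α : Type*} [Fintype α] [DecidableEq α] (a b c : α) (ab : a ≠ b) (ac : a ≠ c)
    (bc : b ≠ c) :
    (swap a b * swap a c).IsThreeCycle ∧ ∀ x, (x = a ∨ x = b ∨ x = c) →
      x ∈ (swap a b * swap a c).support := by
  refine ⟨Equiv.Perm.isThreeCycle_swap_mul_swap_same ab ac bc, ?_⟩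
  rintro x (rfl | rfl | rfl)
  · rw [Perm.mem_support, Perm.mul_apply, swap_apply_left, swap_apply_of_ne_of_ne ac.symm bc.symm]
    exact ac.symm
  · rw [Perm.mem_support, Perm.mul_apply, swap_apply_of_ne_of_ne ab.symm bc, swap_apply_right]
    exact ab
  · rw [Perm.mem_support, Perm.mul_apply, swap_apply_right, swap_apply_left]
    exact bc

/-- a computation with four distinct points -/
theorem fpb1a_four {α : Type*} [DecidableEq α] (a0 a1 a2 a3 : α) (h01 : a0 ≠ a1) (h02 : a0 ≠ a2)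
    (h03 : a0 ≠ a3) (h12 : a1 ≠ a2) (h13 : a1 ≠ a3) (h23 : a2 ≠ a3) :
    swap a1 a3 * swap a2 a3 * swap a1 a2 * swap a0 a2 = swap a0 a2 * swap a0 a3 := by
  ext x
  simp only [Perm.mul_apply]
  by_cases x0 : x = a0
  · subst x0
    rw [swap_apply_left, swap_apply_right, swap_apply_of_ne_of_ne h12 h13, swap_apply_left,
      swap_apply_left, swap_apply_of_ne_of_ne h03.symm h23.symm]
  by_cases x1 : x = a1
  · subst x1
    rw [swap_apply_of_ne_of_ne h01.symm h12, swap_apply_left, swap_apply_left, swap_apply_right,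
      swap_apply_of_ne_of_ne h01.symm h13, swap_apply_of_ne_of_ne h01.symm h12]
  by_cases x2 : x = a2
  · subst x2
    rw [swap_apply_right, swap_apply_of_ne_of_ne h01 h02, swap_apply_of_ne_of_ne h02 h03,
      swap_apply_of_ne_of_ne h01 h03, swap_apply_of_ne_of_ne h02.symm h23, swap_apply_right]
  by_cases x3 : x = a3
  · subst x3
    rw [swap_apply_of_ne_of_ne h03.symm h23.symm, swap_apply_of_ne_of_ne h13.symm h23.symm,
      swap_apply_right, swap_apply_of_ne_of_ne h12.symm h23, swap_apply_right, swap_apply_left]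
  · rw [swap_apply_of_ne_of_ne x0 x2, swap_apply_of_ne_of_ne x1 x2, swap_apply_of_ne_of_ne x2 x3,
      swap_apply_of_ne_of_ne x1 x3, swap_apply_of_ne_of_ne x0 x3, swap_apply_of_ne_of_ne x0 x2]

/-- the common part of the two certificates -/
theorem fpb1a_cert (p : ℕ) (hp5 : 5 ≤ p) (k : ℕ) (hpm : p ∣ k + 5)
    (d : Perm (Fin (k + 5))) (a b c : Fin (k + 5)) (ab : a ≠ b) (ac : a ≠ c) (bc : b ≠ c)
    (hcd : finRotate (k + 5) * d = swap a b * swap a c)
    (x y : Fin (k + 5)) (hx : x = a ∨ x = b ∨ x = c) (hy : y = a ∨ y = b ∨ y = c)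
    (hxy : x.val + 1 = y.val) : CertT p d := by
  obtain ⟨h3, hsup⟩ := fpb1a_three a b c ab ac bc
  refine ⟨?_, finRotate (k + 5) * d, ?_, ?_, ?_⟩
  · unfold FixOK
    rw [hcd, fpb1a_fixCard, h3.card_support, Fintype.card_fin]
    intro hdvd
    have h33 : p ∣ 3 := by
      have h5 : k + 5 = (k + 5 - 3) + 3 := by omega
      rw [h5] at hpm
      exact (Nat.dvd_add_right hdvd).mp hpm
    have := Nat.le_of_dvd (by norm_num) h33
    omega
  · unfold Hcd
    exact Subgroup.mul_mem _ (Subgroup.subset_closure (by simp)) (Subgroup.subset_closure (by simp))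
  · rw [hcd]
    exact h3
  · rw [hcd]
    refine ⟨x, hsup x hx, y, hsup y hy, ?_, ?_, ?_⟩ <;> omega

/-- FP-B1a (p ≥ 5). -/
theorem b1a : B1aStmt := by
  intro p hp hp5 m hm hpm hodd
  obtain ⟨k, rfl⟩ : ∃ k, m = k + 5 := ⟨m - 5, by omega⟩
  obtain ⟨a0, ha0⟩ : ∃ a0 : Fin (k + 5), a0 = ⟨0, by omega⟩ := ⟨_, rfl⟩
  obtain ⟨a1, ha1⟩ : ∃ a1 : Fin (k + 5), a1 = ⟨1, by omega⟩ := ⟨_, rfl⟩
  obtain ⟨a2, ha2⟩ : ∃ a2 : Fin (k + 5), a2 = ⟨2, by omega⟩ := ⟨_, rfl⟩
  obtain ⟨a3, ha3⟩ : ∃ a3 : Fin (k + 5), a3 = ⟨3, by omega⟩ := ⟨_, rfl⟩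
  have v0 : a0.val = 0 := by rw [ha0]
  have v1 : a1.val = 1 := by rw [ha1]
  have v2 : a2.val = 2 := by rw [ha2]
  have v3 : a3.val = 3 := by rw [ha3]
  have h01 : a0 ≠ a1 := fun h => by have := congrArg Fin.val h; omega
  have h02 : a0 ≠ a2 := fun h => by have := congrArg Fin.val h; omega
  have h03 : a0 ≠ a3 := fun h => by have := congrArg Fin.val h; omega
  have h12 : a1 ≠ a2 := fun h => by have := congrArg Fin.val h; omega
  have h13 : a1 ≠ a3 := fun h => by have := congrArg Fin.val h; omega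
  have h23 : a2 ≠ a3 := fun h => by have := congrArg Fin.val h; omega
  obtain ⟨c, hc⟩ : ∃ c : Perm (Fin (k + 5)), c = finRotate (k + 5) := ⟨_, rfl⟩
  have c0 : c a0 = a1 := by
    rw [hc, ha0, ha1]
    exact finRotate_of_lt (n := k + 4) (k := 0) (by omega)
  have c1 : c a1 = a2 := by
    rw [hc, ha1, ha2]
    exact finRotate_of_lt (n := k + 4) (k := 1) (by omega)
  have c2 : c a2 = a3 := by
    rw [hc, ha2, ha3]
    exact finRotate_of_lt (n := k + 4) (k := 2) (by omega)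
  refine ⟨swap a1 a2 * c⁻¹ * swap a1 a2, swap a0 a2, ?_, ?_, ?_, ?_⟩
  · -- cycle type
    have h : swap a1 a2 * c⁻¹ * swap a1 a2 = swap a1 a2 * c⁻¹ * (swap a1 a2)⁻¹ := by rw [swap_inv]
    rw [h, Perm.cycleType_conj, Perm.cycleType_inv, hc]
    exact cycleType_finRotate (n := k + 3)
  · exact Perm.sign_swap h02
  · -- first certificate: `c * d = swap a2 a3 * swap a2 a1`
    apply fpb1a_cert p hp5 k hpm _ a2 a3 a1 h23 h12.symm h13.symm ?_ a2 a3 (Or.inl rfl)
      (Or.inr (Or.inl rfl)) (by omega)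
    rw [← hc]
    have h1 : c * (swap a1 a2 * c⁻¹ * swap a1 a2) = (c * swap a1 a2 * c⁻¹) * swap a1 a2 := by
      simp only [mul_assoc]
    rw [h1, fpb1a_conj_swap, c1, c2, swap_comm a1 a2]
  · -- second certificate: `c * (τ d τ⁻¹) = swap a0 a2 * swap a0 a3`
    apply fpb1a_cert p hp5 k hpm _ a0 a2 a3 h02 h03 h23 ?_ a2 a3 (Or.inr (Or.inl rfl))
      (Or.inr (Or.inr rfl)) (by omega)
    rw [← hc]
    have h1 : c * (swap a0 a2 * (swap a1 a2 * c⁻¹ * swap a1 a2) * (swap a0 a2)⁻¹) =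
        (c * swap a0 a2 * c⁻¹) * (c * swap a1 a2 * c⁻¹) * swap a1 a2 * swap a0 a2 := by
      rw [swap_inv]
      group
    rw [h1, fpb1a_conj_swap, fpb1a_conj_swap, c0, c1, c2]
    exact fpb1a_four a0 a1 a2 a3 h01 h02 h03 h12 h13 h23

end Cfsg.Agent.Lib.Helper83.Fp
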