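import Mathlib
import Cfsg.Agent.Lib.Helper83.FpDefs
import Cfsg.Agent.Lib.Helper61.FpB1a

/-! FP-B1b leaf of helper83's Fp hive (S2276). -/

set_option autoImplicit false

namespace Cfsg.Agent.Lib.Helper83.Fp

open Equiv

/-- two disjoint transpositions `(x y)(z w)` -/
def fpb1b_E {α : Type*} [DecidableEq α] (x y z w : α) : Perm α := swap x y * swap z w

/-- the 5-cycle `b0 ↦ b4 ↦ b1 ↦ b3 ↦ b2 ↦ b0` -/
def fpb1b_P {α : Type*} [DecidableEq α] (b0 b1 b2 b3 b4 : α) : Perm α :=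
  swap b1 b4 * swap b1 b3 * swap b0 b2 * swap b0 b3

theorem fpb1b_conj_E {α : Type*} [DecidableEq α] (g : Perm α) (x y z w : α) :
    g * fpb1b_E x y z w * g⁻¹ = fpb1b_E (g x) (g y) (g z) (g w) := by
  unfold fpb1b_E
  rw [← fpb1a_conj_swap, ← fpb1a_conj_swap]
  group

theorem fpb1b_conj_P {α : Type*} [DecidableEq α] (g : Perm α) (b0 b1 b2 b3 b4 : α) :
    g * fpb1b_P b0 b1 b2 b3 b4 * g⁻¹ = fpb1b_P (g b0) (g b1) (g b2) (g b3) (g b4) := by
  unfold fpb1b_P
  rw [← fpb1a_conj_swap, ← fpb1a_conj_swap, ← fpb1a_conj_swap, ← fpb1a_conj_swap]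
  group

section E

variable {α : Type*} [DecidableEq α] (x y z w : α) (hxy : x ≠ y) (hxz : x ≠ z) (hxw : x ≠ w)
  (hyz : y ≠ z) (hyw : y ≠ w) (hzw : z ≠ w)

include hxz hxw in
theorem fpb1b_E_x : fpb1b_E x y z w x = y := by
  unfold fpb1b_E
  rw [Perm.mul_apply, swap_apply_of_ne_of_ne hxz hxw, swap_apply_left]

include hyz hyw in
theorem fpb1b_E_y : fpb1b_E x y z w y = x := by
  unfold fpb1b_E
  rw [Perm.mul_apply, swap_apply_of_ne_of_ne hyz hyw, swap_apply_right]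

include hxw hyw in
theorem fpb1b_E_z : fpb1b_E x y z w z = w := by
  unfold fpb1b_E
  rw [Perm.mul_apply, swap_apply_left, swap_apply_of_ne_of_ne hxw.symm hyw.symm]

include hxz hyz in
theorem fpb1b_E_w : fpb1b_E x y z w w = z := by
  unfold fpb1b_E
  rw [Perm.mul_apply, swap_apply_right, swap_apply_of_ne_of_ne hxz.symm hyz.symm]

theorem fpb1b_E_other (u : α) (ux : u ≠ x) (uy : u ≠ y) (uz : u ≠ z) (uw : u ≠ w) :
    fpb1b_E x y z w u = u := by
  unfold fpb1b_E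
  rw [Perm.mul_apply, swap_apply_of_ne_of_ne uz uw, swap_apply_of_ne_of_ne ux uy]

include hxy hxz hxw hyz hyw hzw in
theorem fpb1b_E_support [Fintype α] : (fpb1b_E x y z w).support = {x, y, z, w} := by
  ext u
  rw [Perm.mem_support]
  simp only [Finset.mem_insert, Finset.mem_singleton]
  by_cases ux : u = x
  · subst ux
    rw [fpb1b_E_x u y z w hxz hxw]
    exact ⟨fun _ => Or.inl rfl, fun _ => hxy.symm⟩
  by_cases uy : u = y
  · subst uy
    rw [fpb1b_E_y x u z w hyz hyw]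
    exact ⟨fun _ => Or.inr (Or.inl rfl), fun _ => hxy⟩
  by_cases uz : u = z
  · subst uz
    rw [fpb1b_E_z x y u w hxw hyw]
    exact ⟨fun _ => Or.inr (Or.inr (Or.inl rfl)), fun _ => hzw.symm⟩
  by_cases uw : u = w
  · subst uw
    rw [fpb1b_E_w x y z u hxz hyz]
    exact ⟨fun _ => Or.inr (Or.inr (Or.inr rfl)), fun _ => hzw⟩
  · rw [fpb1b_E_other x y z w u ux uy uz uw]
    constructor
    · intro h
      exact absurd rfl h
    · rintro (h | h | h | h)
      · exact absurd h ux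
      · exact absurd h uy
      · exact absurd h uz
      · exact absurd h uw

end E

section P

variable {α : Type*} [DecidableEq α] (b0 b1 b2 b3 b4 : α) (h01 : b0 ≠ b1) (h02 : b0 ≠ b2)
  (h03 : b0 ≠ b3) (h04 : b0 ≠ b4) (h12 : b1 ≠ b2) (h13 : b1 ≠ b3) (h14 : b1 ≠ b4) (h23 : b2 ≠ b3)
  (h24 : b2 ≠ b4) (h34 : b3 ≠ b4)

include h01 h03 h13 h23 in
theorem fpb1b_P_0 : fpb1b_P b0 b1 b2 b3 b4 b0 = b4 := by
  unfold fpb1b_P
  simp only [Perm.mul_apply]
  rw [swap_apply_left, swap_apply_of_ne_of_ne h03.symm h23.symm, swap_apply_right, swap_apply_left]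

include h04 h24 h34 h14 in
theorem fpb1b_P_4 : fpb1b_P b0 b1 b2 b3 b4 b4 = b1 := by
  unfold fpb1b_P
  simp only [Perm.mul_apply]
  rw [swap_apply_of_ne_of_ne h04.symm h34.symm, swap_apply_of_ne_of_ne h04.symm h24.symm,
    swap_apply_of_ne_of_ne h14.symm h34.symm, swap_apply_right]

include h01 h13 h12 h34 in
theorem fpb1b_P_1 : fpb1b_P b0 b1 b2 b3 b4 b1 = b3 := by
  unfold fpb1b_P
  simp only [Perm.mul_apply]
  rw [swap_apply_of_ne_of_ne h01.symm h13, swap_apply_of_ne_of_ne h01.symm h12, swap_apply_left,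
    swap_apply_of_ne_of_ne h13.symm h34]

include h12 h23 h24 in
theorem fpb1b_P_3 : fpb1b_P b0 b1 b2 b3 b4 b3 = b2 := by
  unfold fpb1b_P
  simp only [Perm.mul_apply]
  rw [swap_apply_right, swap_apply_left, swap_apply_of_ne_of_ne h12.symm h23,
    swap_apply_of_ne_of_ne h12.symm h24]

include h02 h23 h01 h03 h04 in
theorem fpb1b_P_2 : fpb1b_P b0 b1 b2 b3 b4 b2 = b0 := by
  unfold fpb1b_P
  simp only [Perm.mul_apply]
  rw [swap_apply_of_ne_of_ne h02.symm h23, swap_apply_right, swap_apply_of_ne_of_ne h01 h03,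
    swap_apply_of_ne_of_ne h01 h04]

theorem fpb1b_P_other (u : α) (u0 : u ≠ b0) (u1 : u ≠ b1) (u2 : u ≠ b2) (u3 : u ≠ b3) (u4 : u ≠ b4) :
    fpb1b_P b0 b1 b2 b3 b4 u = u := by
  unfold fpb1b_P
  simp only [Perm.mul_apply]
  rw [swap_apply_of_ne_of_ne u0 u3, swap_apply_of_ne_of_ne u0 u2, swap_apply_of_ne_of_ne u1 u3,
    swap_apply_of_ne_of_ne u1 u4]

include h01 h02 h03 h04 h12 h13 h14 h23 h24 h34 in
theorem fpb1b_P_support [Fintype α] : (fpb1b_P b0 b1 b2 b3 b4).support = {b0, b1, b2, b3, b4} := by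
  ext u
  rw [Perm.mem_support]
  simp only [Finset.mem_insert, Finset.mem_singleton]
  by_cases u0 : u = b0
  · subst u0
    rw [fpb1b_P_0 u b1 b2 b3 b4 h01 h03 h13 h23]
    exact ⟨fun _ => Or.inl rfl, fun _ => h04.symm⟩
  by_cases u1 : u = b1
  · subst u1
    rw [fpb1b_P_1 b0 u b2 b3 b4 h01 h12 h13 h34]
    exact ⟨fun _ => Or.inr (Or.inl rfl), fun _ => h13.symm⟩
  by_cases u2 : u = b2
  · subst u2
    rw [fpb1b_P_2 b0 b1 u b3 b4 h01 h02 h03 h04 h23]
    exact ⟨fun _ => Or.inr (Or.inr (Or.inl rfl)), fun _ => h02⟩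
  by_cases u3 : u = b3
  · subst u3
    rw [fpb1b_P_3 b0 b1 b2 u b4 h12 h23 h24]
    exact ⟨fun _ => Or.inr (Or.inr (Or.inr (Or.inl rfl))), fun _ => h23⟩
  by_cases u4 : u = b4
  · subst u4
    rw [fpb1b_P_4 b0 b1 b2 b3 u h04 h14 h24 h34]
    exact ⟨fun _ => Or.inr (Or.inr (Or.inr (Or.inr rfl))), fun _ => h14⟩
  · rw [fpb1b_P_other b0 b1 b2 b3 b4 u u0 u1 u2 u3 u4]
    constructor
    · intro h
      exact absurd rfl h
    · rintro (h | h | h | h | h)
      · exact absurd h u0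
      · exact absurd h u1
      · exact absurd h u2
      · exact absurd h u3
      · exact absurd h u4

end P

/-- membership in `Hcd d` of a conjugate by a word in `c` -/
theorem fpb1b_conj_mem {m : ℕ} (d g z : Perm (Fin m)) (hg : g ∈ Hcd d) (hz : z ∈ Hcd d) :
    g * z * g⁻¹ ∈ Hcd d :=
  Subgroup.mul_mem _ (Subgroup.mul_mem _ hg hz) (Subgroup.inv_mem _ hg)

theorem fpb1b_c_mem {m : ℕ} (d : Perm (Fin m)) : finRotate m ∈ Hcd d :=
  Subgroup.subset_closure (by simp)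

theorem fpb1b_cd_mem {m : ℕ} (d : Perm (Fin m)) : finRotate m * d ∈ Hcd d :=
  Subgroup.mul_mem _ (Subgroup.subset_closure (by simp)) (Subgroup.subset_closure (by simp))

/-- FP-B1b (p = 3). -/
theorem b1b : B1bStmt := by
  intro m hm h3m hodd
  obtain ⟨k, rfl⟩ : ∃ k, m = k + 9 := ⟨m - 9, by omega⟩
  have hodd' : (k + 9) % 2 = 1 := Nat.odd_iff.mp hodd
  obtain ⟨a0, v0⟩ : ∃ a : Fin (k + 9), a.val = 0 := ⟨⟨0, by omega⟩, rfl⟩
  obtain ⟨a1, v1⟩ : ∃ a : Fin (k + 9), a.val = 1 := ⟨⟨1, by omega⟩, rfl⟩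
  obtain ⟨a2, v2⟩ : ∃ a : Fin (k + 9), a.val = 2 := ⟨⟨2, by omega⟩, rfl⟩
  obtain ⟨a3, v3⟩ : ∃ a : Fin (k + 9), a.val = 3 := ⟨⟨3, by omega⟩, rfl⟩
  obtain ⟨a4, v4⟩ : ∃ a : Fin (k + 9), a.val = 4 := ⟨⟨4, by omega⟩, rfl⟩
  obtain ⟨a5, v5⟩ : ∃ a : Fin (k + 9), a.val = 5 := ⟨⟨5, by omega⟩, rfl⟩
  obtain ⟨a6, v6⟩ : ∃ a : Fin (k + 9), a.val = 6 := ⟨⟨6, by omega⟩, rfl⟩
  obtain ⟨a7, v7⟩ : ∃ a : Fin (k + 9), a.val = 7 := ⟨⟨7, by omega⟩, rfl⟩
  obtain ⟨a8, v8⟩ : ∃ a : Fin (k + 9), a.val = 8 := ⟨⟨8, by omega⟩, rfl⟩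
  have hne : ∀ x y : Fin (k + 9), x.val ≠ y.val → x ≠ y := fun x y h e => h (congrArg Fin.val e)
  obtain ⟨c, hc⟩ : ∃ c : Perm (Fin (k + 9)), c = finRotate (k + 9) := ⟨_, rfl⟩
  have hcv : ∀ x : Fin (k + 9), x.val + 1 < k + 9 → (c x).val = x.val + 1 := by
    intro x hx
    obtain ⟨i, hi⟩ := x
    have h1 := finRotate_of_lt (n := k + 8) (k := i) (by simpa using hx)
    rw [hc]
    exact congrArg Fin.val h1
  have hcs : ∀ x y : Fin (k + 9), x.val + 1 = y.val → c x = y := by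
    intro x y hxy
    apply Fin.ext
    rw [hcv x (by have := y.2; omega), hxy]
  have c0 := hcs a0 a1 (by omega)
  have c1 := hcs a1 a2 (by omega)
  have c2 := hcs a2 a3 (by omega)
  have c3 := hcs a3 a4 (by omega)
  have c4 := hcs a4 a5 (by omega)
  have c5 := hcs a5 a6 (by omega)
  have c6 := hcs a6 a7 (by omega)
  have c7 := hcs a7 a8 (by omega)
  obtain ⟨σ, hσ⟩ : ∃ σ : Perm (Fin (k + 9)), σ = swap a0 a2 := ⟨_, rfl⟩
  obtain ⟨τ, hτ⟩ : ∃ τ : Perm (Fin (k + 9)), τ = swap a0 a3 := ⟨_, rfl⟩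
  have hσi : σ⁻¹ = σ := by rw [hσ, swap_inv]
  have hτi : τ⁻¹ = τ := by rw [hτ, swap_inv]
  obtain ⟨d, hd⟩ : ∃ d : Perm (Fin (k + 9)), d = σ * c⁻¹ * σ := ⟨_, rfl⟩
  -- `c * d = E`
  have hcd : c * d = fpb1b_E a1 a3 a0 a2 := by
    have h1 : c * d = (c * σ * c⁻¹) * σ := by rw [hd]; group
    rw [h1, hσ, fpb1a_conj_swap, c0, c2]
    rfl
  -- `c * (τ d τ⁻¹) = P`
  have hcd' : c * (τ * d * τ⁻¹) = fpb1b_P a0 a1 a2 a3 a4 := by
    have h1 : c * (τ * d * τ⁻¹) = (c * τ * c⁻¹) * (c * σ * c⁻¹) * σ * τ := by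
      rw [hd, hτi]
      group
    rw [h1, hσ, hτ, fpb1a_conj_swap, fpb1a_conj_swap, c0, c2, c3]
    rfl
  refine ⟨d, τ, ?_, ?_, ?_, ?_⟩
  · -- cycle type
    have h : d = σ * c⁻¹ * σ⁻¹ := by rw [hσi, hd]
    rw [h, Perm.cycleType_conj, Perm.cycleType_inv, hc]
    exact cycleType_finRotate (n := k + 7)
  · rw [hτ]
    exact Perm.sign_swap (hne a0 a3 (by omega))
  · -- first certificate
    have hsup1 := fpb1b_E_support a1 a3 a0 a2 (hne _ _ (by omega)) (hne _ _ (by omega))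
      (hne _ _ (by omega)) (hne _ _ (by omega)) (hne _ _ (by omega)) (hne _ _ (by omega))
    have hsup2 := fpb1b_E_support a4 a6 a3 a5 (hne _ _ (by omega)) (hne _ _ (by omega))
      (hne _ _ (by omega)) (hne _ _ (by omega)) (hne _ _ (by omega)) (hne _ _ (by omega))
    have hz2 : (c * c * c) * (c * d) * (c * c * c)⁻¹ = fpb1b_E a4 a6 a3 a5 := by
      rw [hcd, fpb1b_conj_E]
      simp only [Perm.mul_apply, c0, c1, c2, c3, c4, c5]
    refine ⟨?_, c * d, ?_, (c * c * c) * (c * d) * (c * c * c)⁻¹, ?_, a3, ?_, ?_⟩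
    · unfold FixOK
      rw [← hc, hcd, fpb1a_fixCard, hsup1, Fintype.card_fin]
      have hcard : ({a1, a3, a0, a2} : Finset (Fin (k + 9))).card = 4 := by
        rw [Finset.card_insert_of_notMem, Finset.card_insert_of_notMem, Finset.card_insert_of_notMem,
          Finset.card_singleton]
        · simp only [Finset.mem_singleton]
          exact hne _ _ (by omega)
        · simp only [Finset.mem_insert, Finset.mem_singleton, not_or]
          exact ⟨hne _ _ (by omega), hne _ _ (by omega)⟩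
        · simp only [Finset.mem_insert, Finset.mem_singleton, not_or]
          exact ⟨hne _ _ (by omega), hne _ _ (by omega), hne _ _ (by omega)⟩
      rw [hcard]
      omega
    · rw [hc]
      exact fpb1b_cd_mem d
    · have hcm : c ∈ Hcd d := by rw [hc]; exact fpb1b_c_mem d
      have hcdm : c * d ∈ Hcd d := by rw [hc]; exact fpb1b_cd_mem d
      exact fpb1b_conj_mem d _ _ (Subgroup.mul_mem _ (Subgroup.mul_mem _ hcm hcm) hcm) hcdm
    · rw [hz2, hcd, hsup1, hsup2]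
      ext u
      simp only [Finset.mem_inter, Finset.mem_insert, Finset.mem_singleton]
      constructor
      · rintro ⟨h1, h2⟩
        have hle : u.val ≤ 3 := by rcases h1 with rfl | rfl | rfl | rfl <;> omega
        have hge : 3 ≤ u.val := by rcases h2 with rfl | rfl | rfl | rfl <;> omega
        exact Fin.ext (by omega)
      · rintro rfl
        exact ⟨Or.inr (Or.inl rfl), Or.inr (Or.inr (Or.inl rfl))⟩
    · rw [hz2]
      refine ⟨a3, by simp, fpb1b_E a4 a6 a3 a5 a3, by simp, ?_, ?_, ?_⟩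
      all_goals
        rw [fpb1b_E_z a4 a6 a3 a5 (hne _ _ (by omega)) (hne _ _ (by omega))]
        omega
  · -- second certificate
    have hsup1 := fpb1b_P_support a0 a1 a2 a3 a4 (hne _ _ (by omega)) (hne _ _ (by omega))
      (hne _ _ (by omega)) (hne _ _ (by omega)) (hne _ _ (by omega)) (hne _ _ (by omega))
      (hne _ _ (by omega)) (hne _ _ (by omega)) (hne _ _ (by omega)) (hne _ _ (by omega))
    have hsup2 := fpb1b_P_support a4 a5 a6 a7 a8 (hne _ _ (by omega)) (hne _ _ (by omega))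
      (hne _ _ (by omega)) (hne _ _ (by omega)) (hne _ _ (by omega)) (hne _ _ (by omega))
      (hne _ _ (by omega)) (hne _ _ (by omega)) (hne _ _ (by omega)) (hne _ _ (by omega))
    have hz2 : (c * c * c * c) * (c * (τ * d * τ⁻¹)) * (c * c * c * c)⁻¹ =
        fpb1b_P a4 a5 a6 a7 a8 := by
      rw [hcd', fpb1b_conj_P]
      simp only [Perm.mul_apply, c0, c1, c2, c3, c4, c5, c6, c7]
    refine ⟨?_, c * (τ * d * τ⁻¹), ?_, (c * c * c * c) * (c * (τ * d * τ⁻¹)) * (c * c * c * c)⁻¹, ?_,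
      a4, ?_, ?_⟩
    · unfold FixOK
      rw [← hc, hcd', fpb1a_fixCard, hsup1, Fintype.card_fin]
      have hcard : ({a0, a1, a2, a3, a4} : Finset (Fin (k + 9))).card = 5 := by
        rw [Finset.card_insert_of_notMem, Finset.card_insert_of_notMem, Finset.card_insert_of_notMem,
          Finset.card_insert_of_notMem, Finset.card_singleton]
        · simp only [Finset.mem_singleton]
          exact hne _ _ (by omega)
        · simp only [Finset.mem_insert, Finset.mem_singleton, not_or]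
          exact ⟨hne _ _ (by omega), hne _ _ (by omega)⟩
        · simp only [Finset.mem_insert, Finset.mem_singleton, not_or]
          exact ⟨hne _ _ (by omega), hne _ _ (by omega), hne _ _ (by omega)⟩
        · simp only [Finset.mem_insert, Finset.mem_singleton, not_or]
          exact ⟨hne _ _ (by omega), hne _ _ (by omega), hne _ _ (by omega), hne _ _ (by omega)⟩
      rw [hcard]
      omega
    · rw [hc]
      exact fpb1b_cd_mem _
    · have hcm : c ∈ Hcd (τ * d * τ⁻¹) := by rw [hc]; exact fpb1b_c_mem _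
      have hcdm : c * (τ * d * τ⁻¹) ∈ Hcd (τ * d * τ⁻¹) := by rw [hc]; exact fpb1b_cd_mem _
      exact fpb1b_conj_mem _ _ _
        (Subgroup.mul_mem _ (Subgroup.mul_mem _ (Subgroup.mul_mem _ hcm hcm) hcm) hcm) hcdm
    · rw [hz2, hcd', hsup1, hsup2]
      ext u
      simp only [Finset.mem_inter, Finset.mem_insert, Finset.mem_singleton]
      constructor
      · rintro ⟨h1, h2⟩
        have hle : u.val ≤ 4 := by rcases h1 with rfl | rfl | rfl | rfl | rfl <;> omega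
        have hge : 4 ≤ u.val := by rcases h2 with rfl | rfl | rfl | rfl | rfl <;> omega
        exact Fin.ext (by omega)
      · rintro rfl
        exact ⟨Or.inr (Or.inr (Or.inr (Or.inr rfl))), Or.inl rfl⟩
    · rw [hz2]
      refine ⟨a4, by simp, fpb1b_P a4 a5 a6 a7 a8 a4, by simp, ?_, ?_, ?_⟩
      all_goals
        rw [fpb1b_P_0 a4 a5 a6 a7 a8 (hne _ _ (by omega)) (hne _ _ (by omega)) (hne _ _ (by omega))
          (hne _ _ (by omega))]
        omega

end Cfsg.Agent.Lib.Helper83.Fp
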