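import Cfsg.Agent.Lib.Helper43.FwDefs

/-! # Fw hive (S3211, helper43) — leaf FW-DEC: `C = Y ∪ Y n` (index two) -/

set_option autoImplicit false

namespace Cfsg.Agent.Lib.Helper43.Fw

variable {G : Type*} [Group G] {L₁ L₂ : Subgroup G} {j n : G}

/-- Every element of the join of two elementwise commuting subgroups is a product. -/
theorem fwdec_mem_sup (L₁ L₂ : Subgroup G)
    (hc : ∀ x ∈ L₁, ∀ y ∈ L₂, x * y = y * x) {y : G} (hy : y ∈ L₁ ⊔ L₂) :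
    ∃ a ∈ L₁, ∃ b ∈ L₂, y = a * b := by
  let P : Subgroup G :=
    { carrier := {y | ∃ a ∈ L₁, ∃ b ∈ L₂, y = a * b}
      one_mem' := ⟨1, L₁.one_mem, 1, L₂.one_mem, by simp⟩
      mul_mem' := by
        rintro _ _ ⟨a, ha, b, hb, rfl⟩ ⟨a', ha', b', hb', rfl⟩
        refine ⟨a * a', L₁.mul_mem ha ha', b * b', L₂.mul_mem hb hb', ?_⟩
        have := hc a' ha' b hb
        calc a * b * (a' * b') = a * (b * a') * b' := by group
          _ = a * (a' * b) * b' := by rw [this]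
          _ = a * a' * (b * b') := by group
      inv_mem' := by
        rintro _ ⟨a, ha, b, hb, rfl⟩
        refine ⟨a⁻¹, L₁.inv_mem ha, b⁻¹, L₂.inv_mem hb, ?_⟩
        have := hc a ha b hb
        rw [this, mul_inv_rev] }
  have h1 : L₁ ≤ P := fun a ha => ⟨a, ha, 1, L₂.one_mem, by simp⟩
  have h2 : L₂ ≤ P := fun b hb => ⟨1, L₁.one_mem, b, hb, by simp⟩
  exact (sup_le h1 h2) hy

/-- FW-DEC: `C = Y ∪ Y n`. -/
theorem dec (h : Setup L₁ L₂ j n) (hnot : n ∉ L₁ ⊔ L₂) (y : G) (hy : y ∈ Subgroup.centralizer ({j} : Set G))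
    (hyY : y ∉ L₁ ⊔ L₂) : ∃ a ∈ L₁, ∃ b ∈ L₂, y = a * b * n := by
  have hidx : ((L₁ ⊔ L₂).subgroupOf (Subgroup.centralizer ({j} : Set G))).index = 2 := h.idx
  have hy' : (⟨y, hy⟩ : Subgroup.centralizer ({j} : Set G)) ∉
      (L₁ ⊔ L₂).subgroupOf (Subgroup.centralizer ({j} : Set G)) := by
    rw [Subgroup.mem_subgroupOf]; exact hyY
  have hn' : (⟨n, h.nmem⟩ : Subgroup.centralizer ({j} : Set G))⁻¹ ∉
      (L₁ ⊔ L₂).subgroupOf (Subgroup.centralizer ({j} : Set G)) := by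
    rw [inv_mem_iff, Subgroup.mem_subgroupOf]; exact hnot
  have hmem : (⟨y, hy⟩ : Subgroup.centralizer ({j} : Set G)) *
      (⟨n, h.nmem⟩ : Subgroup.centralizer ({j} : Set G))⁻¹ ∈
      (L₁ ⊔ L₂).subgroupOf (Subgroup.centralizer ({j} : Set G)) := by
    rw [Subgroup.mul_mem_iff_of_index_two hidx]
    exact ⟨fun hh => absurd hh hy', fun hh => absurd hh hn'⟩
  rw [Subgroup.mem_subgroupOf] at hmem
  have hmem' : y * n⁻¹ ∈ L₁ ⊔ L₂ := by simpa using hmem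
  obtain ⟨a, ha, b, hb, hab⟩ := fwdec_mem_sup L₁ L₂ h.comm hmem'
  refine ⟨a, ha, b, hb, ?_⟩
  rw [← hab]; group

end Cfsg.Agent.Lib.Helper43.Fw
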