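import Mathlib
import Cfsg.Agent.Lib.Helper73.MaxClass

/-!
# A 2-group with an involution whose centralizer has order at most four

`suzuki`: a finite 2-group of order at least eight with an involution `u` such that
`|C_P(u)| ≤ 4` is dihedral or semidihedral.  The proof bounds the index of the commutator subgroup
by the size of the conjugacy class of `u` and then uses Taussky's theorem (`Helper73.taussky`).
-/

set_option autoImplicit false

namespace Cfsg.Agent.Lib.Helper61.Fx

open scoped commutatorElement

section suzuki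

variable {P : Type*} [Group P]

theorem comm_mem_commutator (g u : P) : ⁅g, u⁆ ∈ commutator P := by
  rw [commutator_def]
  exact Subgroup.commutator_mem_commutator (Subgroup.mem_top g) (Subgroup.mem_top u)

theorem conj_eq_of_mem_centralizer {u a b : P}
    (h : a⁻¹ * b ∈ Subgroup.centralizer ({u} : Set P)) : a * u * a⁻¹ = b * u * b⁻¹ := by
  rw [Subgroup.mem_centralizer_iff] at h
  have h1 := h u (Set.mem_singleton u)
  -- h1 : u * (a⁻¹ * b) = a⁻¹ * b * u
  have h2 : a * (u * (a⁻¹ * b)) * b⁻¹ = a * (a⁻¹ * b * u) * b⁻¹ := by rw [h1]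
  calc a * u * a⁻¹ = a * (u * (a⁻¹ * b)) * b⁻¹ := by group
    _ = a * (a⁻¹ * b * u) * b⁻¹ := h2
    _ = b * u * b⁻¹ := by group

theorem mem_centralizer_of_conj_eq {u a b : P} (h : a * u * a⁻¹ = b * u * b⁻¹) :
    a⁻¹ * b ∈ Subgroup.centralizer ({u} : Set P) := by
  rw [Subgroup.mem_centralizer_iff]
  intro x hx
  rw [Set.mem_singleton_iff] at hx
  subst hx
  calc x * (a⁻¹ * b) = a⁻¹ * (a * x * a⁻¹) * b := by group
    _ = a⁻¹ * (b * x * b⁻¹) * b := by rw [h]
    _ = a⁻¹ * b * x := by group

/-- The class map `P ⧸ C_P(u) → P'`, `g C ↦ [g, u]`. -/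
def classMap (u : P) : P ⧸ Subgroup.centralizer ({u} : Set P) → commutator P :=
  fun q => Quotient.liftOn' q
    (fun g => (⟨⁅g, u⁆, comm_mem_commutator g u⟩ : commutator P))
    (by
      intro a b hab
      rw [QuotientGroup.leftRel_apply] at hab
      apply Subtype.ext
      show ⁅a, u⁆ = ⁅b, u⁆
      rw [commutatorElement_def, commutatorElement_def, conj_eq_of_mem_centralizer hab])

theorem classMap_injective (u : P) : Function.Injective (classMap u) := by
  intro q₁ q₂
  induction q₁ using Quotient.inductionOn' with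
  | _ a =>
  induction q₂ using Quotient.inductionOn' with
  | _ b =>
  intro h
  have h' : ⁅a, u⁆ = ⁅b, u⁆ := congrArg Subtype.val h
  rw [commutatorElement_def, commutatorElement_def] at h'
  have h'' : a * u * a⁻¹ = b * u * b⁻¹ := mul_right_cancel h'
  apply Quotient.sound'
  rw [QuotientGroup.leftRel_apply]
  exact mem_centralizer_of_conj_eq h''

theorem card_le_centralizer_mul_commutator [Finite P] (u : P) :
    Nat.card P ≤ Nat.card (Subgroup.centralizer ({u} : Set P)) * Nat.card (commutator P) := by
  rw [Subgroup.card_eq_card_quotient_mul_card_subgroup (Subgroup.centralizer ({u} : Set P)),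
    mul_comm]
  exact Nat.mul_le_mul_left _ (Nat.card_le_card_of_injective _ (classMap_injective u))

theorem index_commutator_eq_four [Finite P] (hP : IsPGroup 2 P) (h8 : 8 ≤ Nat.card P) (u : P)
    (hC : Nat.card (Subgroup.centralizer ({u} : Set P)) ≤ 4) :
    (commutator P).index = 4 ∧ commutator P ≠ ⊥ := by
  have : Fact (Nat.Prime 2) := ⟨Nat.prime_two⟩
  have hle := card_le_centralizer_mul_commutator u
  have hne : commutator P ≠ ⊥ := by
    intro h
    rw [h, Subgroup.card_bot] at hle
    omega
  have h4 : 2 ^ 2 ∣ (commutator P).index := Helper73.sq_dvd_index_commutator hP hne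
  have hmul := (commutator P).card_mul_index
  have hpos : 0 < Nat.card (commutator P) := Nat.card_pos
  have hle4 : (commutator P).index ≤ 4 := by
    by_contra hlt
    push Not at hlt
    have h5 : Nat.card (commutator P) * 5 ≤ Nat.card (commutator P) * (commutator P).index :=
      Nat.mul_le_mul_left _ hlt
    have h6 : Nat.card (Subgroup.centralizer ({u} : Set P)) * Nat.card (commutator P) ≤
        4 * Nat.card (commutator P) := Nat.mul_le_mul_right _ hC
    omega
  refine ⟨?_, hne⟩
  obtain ⟨k, hk⟩ := h4
  have hipos : 0 < (commutator P).index := Nat.pos_of_ne_zero (Subgroup.index_ne_zero_of_finite)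
  omega

open QuaternionGroup in
theorem quaternion_invol_central {n : ℕ} [NeZero n] (g : QuaternionGroup n) (hg : g * g = 1)
    (h : QuaternionGroup n) : h * g = g * h := by
  rcases g with i | i
  · have hi : i + i = 0 := by
      rw [a_mul_a, one_def] at hg
      exact a.inj hg
    rcases h with j | j
    · rw [a_mul_a, a_mul_a, add_comm]
    · rw [xa_mul_a, a_mul_xa]
      congr 1
      linear_combination hi
  · exfalso
    rw [xa_mul_xa, one_def] at hg
    have h0 : (n : ZMod (2 * n)) + i - i = 0 := a.inj hg
    have h1 : (n : ZMod (2 * n)) = 0 := by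
      rw [← h0]; ring
    rw [ZMod.natCast_eq_zero_iff] at h1
    have hn : n ≠ 0 := NeZero.ne n
    have := Nat.le_of_dvd (Nat.pos_of_ne_zero hn) h1
    omega

/-- **Suzuki's lemma for involutions.** A finite 2-group of order at least eight containing an
involution whose centralizer has order at most four is dihedral or semidihedral. -/
theorem suzuki [Finite P] (hP : IsPGroup 2 P) (h8 : 8 ≤ Nat.card P) (u : P) (hu : u * u = 1)
    (hC : Nat.card (Subgroup.centralizer ({u} : Set P)) ≤ 4) :
    (∃ n : ℕ, Nonempty (P ≃* DihedralGroup n)) ∨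
    (∃ n : ℕ, 3 ≤ n ∧ Nat.card P = 2 ^ (n + 1) ∧
      ∃ x y : P, orderOf x = 2 ^ n ∧ orderOf y = 2 ∧ y * x * y⁻¹ = x ^ (2 ^ (n - 1) - 1)) := by
  obtain ⟨hidx, hna⟩ := index_commutator_eq_four hP h8 u hC
  rcases Helper73.taussky hP hidx hna with ⟨k, hk⟩ | ⟨k, hcard, a, b, ha, hb, hab⟩ | ⟨k, ⟨e⟩⟩
  · left; exact ⟨_, hk⟩
  · right
    refine ⟨k + 3, by omega, hcard, a, b, ha, hb, ?_⟩
    rw [hab]
    rfl
  · exfalso
    have hcen : Subgroup.centralizer ({u} : Set P) = ⊤ := by
      rw [eq_top_iff]
      intro g _
      rw [Subgroup.mem_centralizer_iff]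
      intro x hx
      rw [Set.mem_singleton_iff] at hx
      subst hx
      have heu : e x * e x = 1 := by rw [← map_mul, hu, map_one]
      have := quaternion_invol_central (e x) heu (e g)
      apply e.injective
      rw [map_mul, map_mul]
      exact this.symm
    rw [hcen, Subgroup.card_top] at hC
    omega

end suzuki

end Cfsg.Agent.Lib.Helper61.Fx
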