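import Mathlib
import Cfsg.Agent.Lib.Helper53.Transfer

/-!
# A transfer lemma with control of the kernel

`transfer_two`: `S` a Sylow 2-subgroup of `G`, `M` of index two in `S`, `x ∈ S` such that no
conjugate of `x` lying in `S` lies in `M` while every conjugate of an even power of `x` lying in
`S` lies in `M`.  Then the transfer `G → S/M` gives a normal subgroup `N` of index two with
`x ∉ N`, and `N` contains every `y` all of whose conjugate-powers lying in `S` lie in `M`.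
-/

set_option autoImplicit false
set_option linter.style.haveILetI false

namespace Cfsg.Agent.Lib.Helper61.Fx

open MulAction Subgroup

theorem transfer_term2 {G : Type*} [Group G]
    (H M : Subgroup G) (ϕ : ↥H →* Multiplicative (ZMod 2))
    (hϕ : ∀ h : ↥H, ϕ h = 1 ↔ (h : G) ∈ M) (x : G)
    (hx1 : ∀ g : G, g⁻¹ * x * g ∈ H → g⁻¹ * x * g ∉ M)
    (hx2 : ∀ (g : G) (r : ℕ), 2 ∣ r → g⁻¹ * x ^ r * g ∈ H → g⁻¹ * x ^ r * g ∈ M)
    (n : ℕ) (g : G) (r : ℕ) (hdvd : r ∣ 2 ^ n) (hmem : g⁻¹ * x ^ r * g ∈ H) :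
    ϕ ⟨g⁻¹ * x ^ r * g, hmem⟩ = Multiplicative.ofAdd ((r : ℕ) : ZMod 2) := by
  obtain ⟨j, hj, hrj⟩ := (Nat.dvd_prime_pow Nat.prime_two).1 hdvd
  rcases Nat.eq_zero_or_pos j with hj0 | hjpos
  · have hr1 : r = 1 := by rw [hrj, hj0, pow_zero]
    subst hr1
    have hnot : (g⁻¹ * x ^ 1 * g) ∉ M := by
      have h1 := hmem
      rw [pow_one] at h1 ⊢
      exact hx1 _ h1
    have hne : ϕ ⟨g⁻¹ * x ^ 1 * g, hmem⟩ ≠ 1 := by
      intro h
      exact hnot ((hϕ _).1 h)
    have hd : ∀ a : Multiplicative (ZMod 2), a ≠ 1 →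
        a = Multiplicative.ofAdd ((1 : ℕ) : ZMod 2) := by decide
    exact hd _ hne
  · have h2r : 2 ∣ r := by
      rw [hrj]; exact dvd_pow_self 2 hjpos.ne'
    have hin : (g⁻¹ * x ^ r * g) ∈ M := hx2 _ r h2r hmem
    have h1 : ϕ ⟨g⁻¹ * x ^ r * g, hmem⟩ = 1 := (hϕ _).2 hin
    rw [h1]
    have h0 : ((r : ℕ) : ZMod 2) = 0 := (ZMod.natCast_eq_zero_iff r 2).2 h2r
    rw [h0]; rfl

theorem transfer_two {G : Type*} [Group G] [Finite G] (S : Sylow 2 G) (M : Subgroup G)
    (hM : M.relIndex (S : Subgroup G) = 2) (x : G) (hxS : x ∈ (S : Subgroup G))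
    (hx1 : ∀ g : G, g⁻¹ * x * g ∈ (S : Subgroup G) → g⁻¹ * x * g ∉ M)
    (hx2 : ∀ (g : G) (r : ℕ), 2 ∣ r → g⁻¹ * x ^ r * g ∈ (S : Subgroup G) → g⁻¹ * x ^ r * g ∈ M) :
    ∃ N : Subgroup G, N.Normal ∧ N.index = 2 ∧ x ∉ N ∧
      ∀ y : G, (∀ (g : G) (r : ℕ), g⁻¹ * y ^ r * g ∈ (S : Subgroup G) → g⁻¹ * y ^ r * g ∈ M) →
        y ∈ N := by
  classical
  haveI : Fact (Nat.Prime 2) := ⟨Nat.prime_two⟩
  obtain ⟨ϕ, hϕ⟩ := Helper53.exists_hom_of_relIndex_two (S : Subgroup G) M hM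
  let τ : G →* Multiplicative (ZMod 2) := MonoidHom.transfer ϕ
  -- the order of `x` is a power of two
  obtain ⟨n, hn⟩ : ∃ n : ℕ, orderOf x = 2 ^ n := by
    have hS : IsPGroup 2 (S : Subgroup G) := S.isPGroup'
    obtain ⟨k, hk⟩ := hS ⟨x, hxS⟩
    have hk' : x ^ 2 ^ k = 1 := by
      have := congrArg Subtype.val hk
      simpa using this
    have hdvd : orderOf x ∣ 2 ^ k := orderOf_dvd_of_pow_eq_one hk'
    obtain ⟨j, _, hj⟩ := (Nat.dvd_prime_pow Nat.prime_two).1 hdvd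
    exact ⟨j, hj⟩
  have key : τ x ≠ 1 := by
    haveI : Fintype (Quotient (orbitRel (zpowers x) (G ⧸ (S : Subgroup G)))) := Fintype.ofFinite _
    have hform := MonoidHom.transfer_eq_prod_quotient_orbitRel_zpowers_quot ϕ x
    have hterm : ∀ q : Quotient (orbitRel (zpowers x) (G ⧸ (S : Subgroup G))),
        ϕ ⟨q.out.out⁻¹ * x ^ Function.minimalPeriod (x • ·) q.out * q.out.out,
            QuotientGroup.out_conj_pow_minimalPeriod_mem (S : Subgroup G) x q.out⟩ =
          Multiplicative.ofAdd ((Function.minimalPeriod (x • ·) q.out : ℕ) : ZMod 2) := by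
      intro q
      have hper : Function.IsPeriodicPt (x • ·) (2 ^ n) q.out := by
        show (fun y : G ⧸ (S : Subgroup G) => x • y)^[2 ^ n] q.out = q.out
        rw [smul_iterate_apply, ← hn, pow_orderOf_eq_one, one_smul]
      exact transfer_term2 (S : Subgroup G) M ϕ hϕ x hx1 hx2 n q.out.out _ hper.minimalPeriod_dvd _
    have hsum : (S : Subgroup G).index =
        ∑ q : Quotient (orbitRel (zpowers x) (G ⧸ (S : Subgroup G))),
          Function.minimalPeriod (x • ·) q.out :=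
      Subgroup.index_eq_sum_minimalPeriod (S : Subgroup G) x
    have hodd : ¬ 2 ∣ (S : Subgroup G).index := S.not_dvd_index
    show MonoidHom.transfer ϕ x ≠ 1
    rw [hform]
    simp_rw [hterm]
    rw [← ofAdd_sum, ← Nat.cast_sum, ← hsum]
    intro h
    have h0 : (((S : Subgroup G).index : ℕ) : ZMod 2) = 0 := by
      simpa using h
    exact hodd ((ZMod.natCast_eq_zero_iff _ 2).1 h0)
  have hker : ∀ y : G,
      (∀ (g : G) (r : ℕ), g⁻¹ * y ^ r * g ∈ (S : Subgroup G) → g⁻¹ * y ^ r * g ∈ M) →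
        τ y = 1 := by
    intro y hy
    haveI : Fintype (Quotient (orbitRel (zpowers y) (G ⧸ (S : Subgroup G)))) := Fintype.ofFinite _
    have hform := MonoidHom.transfer_eq_prod_quotient_orbitRel_zpowers_quot ϕ y
    show MonoidHom.transfer ϕ y = 1
    rw [hform]
    apply Finset.prod_eq_one
    intro q _
    rw [hϕ]
    exact hy _ _ (QuotientGroup.out_conj_pow_minimalPeriod_mem (S : Subgroup G) y q.out)
  refine ⟨τ.ker, inferInstance, ?_, fun hx => key (MonoidHom.mem_ker.1 hx), fun y hy =>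
    MonoidHom.mem_ker.2 (hker y hy)⟩
  rw [Subgroup.index_ker]
  have hr : τ.range = ⊤ := by
    rw [eq_top_iff]
    intro a _
    rcases Helper53.mult_zmod_two_dichotomy a (τ x) key with h | h
    · rw [h]; exact one_mem _
    · rw [h]; exact ⟨x, rfl⟩
  rw [hr]
  simp

end Cfsg.Agent.Lib.Helper61.Fx
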