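import Mathlib
import Cfsg.Agent.Lib.Helper61.Fx1

/-!
# 2-groups acting with fixity at most two

`structure_two`: a finite 2-group `P` acting on a finite set such that every nonidentity element
fixes at most two points, and a point `α` whose stabilizer `T` is neither trivial nor all of `P`.
Then either `P` is dihedral or semidihedral (with `|T| = 2` or `|P : T| = 2`), or `T` has index
two, the orbit of `α` is `{α, β}` and all other point stabilizers are trivial.
-/

set_option autoImplicit false

namespace Cfsg.Agent.Lib.Helper61.Fx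

open MulAction

section perm

variable {P : Type*} [Group P] {Ω : Type*} [MulAction P Ω]

/-- every nonidentity element fixes at most two points -/
def Fix2 (P : Type*) (Ω : Type*) [Group P] [MulAction P Ω] : Prop :=
  ∀ g : P, g ≠ 1 → Nat.card (fixedBy Ω g) ≤ 2

theorem Fix2.eq_or [Finite Ω] (hF : Fix2 P Ω) {g : P} (hg : g ≠ 1) {a b c : Ω} (hab : a ≠ b)
    (ha : g • a = a) (hb : g • b = b) (hc : g • c = c) : c = a ∨ c = b := by
  by_contra hcon
  push Not at hcon
  obtain ⟨hca, hcb⟩ := hcon
  have hsub : ({c, a, b} : Set Ω) ⊆ fixedBy Ω g := by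
    intro x hx
    rcases hx with rfl | rfl | rfl
    · exact hc
    · exact ha
    · exact hb
  have h3 : ({c, a, b} : Set Ω).ncard = 3 := Set.ncard_eq_three.2 ⟨c, a, b, hca, hcb, hab, rfl⟩
  have hle := Set.ncard_le_ncard hsub (Set.toFinite _)
  have h2 := hF g hg
  rw [Nat.card_coe_set_eq] at h2
  omega

theorem card_le_two_of_unique [Finite P] {H : Subgroup P}
    (h : ∀ a ∈ H, a ≠ 1 → ∀ b ∈ H, b ≠ 1 → a = b) : Nat.card H ≤ 2 := by
  by_cases hb : H = ⊥
  · rw [hb, Subgroup.card_bot]; norm_num
  · obtain ⟨a, haH, ha1⟩ : ∃ a ∈ H, a ≠ 1 := by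
      by_contra hcon
      push Not at hcon
      exact hb ((Subgroup.eq_bot_iff_forall H).2 hcon)
    have hsub : ((H : Set P)) ⊆ ({1, a} : Set P) := by
      intro x hx
      by_cases hx1 : x = 1
      · left; exact hx1
      · right; exact (h a haH ha1 x hx hx1).symm
    have hle := Set.ncard_le_ncard hsub (Set.toFinite _)
    have h2 : ({1, a} : Set P).ncard ≤ 2 := by
      have := Set.ncard_insert_le (1 : P) ({a} : Set P)
      rw [Set.ncard_singleton] at this
      exact this
    have : Nat.card H = ((H : Set P)).ncard := Nat.card_coe_set_eq _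
    omega

/-- The raw form of `Cfsg.IsQuasiDihedral`. -/
def QD (P : Type*) [Group P] : Prop :=
  ∃ n : ℕ, 3 ≤ n ∧ Nat.card P = 2 ^ (n + 1) ∧
    ∃ x y : P, orderOf x = 2 ^ n ∧ orderOf y = 2 ∧ y * x * y⁻¹ = x ^ (2 ^ (n - 1) - 1)

theorem conj_ne_one {g t : P} (ht : t ≠ 1) : g * t * g⁻¹ ≠ 1 := by
  intro h
  apply ht
  have h2 : g⁻¹ * (g * t * g⁻¹) * g = g⁻¹ * 1 * g := by rw [h]
  simpa [mul_assoc] using h2

theorem conj_smul_smul (g t : P) (ω : Ω) (h : t • ω = ω) : (g * t * g⁻¹) • (g • ω) = g • ω := by
  rw [smul_smul, inv_mul_cancel_right, mul_smul, h]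

/-- `|K| ≤ 4` when `K` centralizes `u`, `u` fixes `ω`, the stabilizer of `ω` has order at most
two and `u` has at most two fixed points. -/
theorem card_le_four_of_commute [Finite P] [Finite Ω] (hF : Fix2 P Ω) (u : P) (hu1 : u ≠ 1)
    (ω : Ω) (huω : u • ω = ω) (hst : Nat.card (stabilizer P ω) ≤ 2) (K : Subgroup P)
    (hK : ∀ c ∈ K, u * c = c * u) : Nat.card K ≤ 4 := by
  classical
  have hos : Nat.card K = Nat.card (stabilizer K ω) * (orbit K ω).ncard := by
    rw [← MulAction.index_stabilizer, Subgroup.card_mul_index]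
  -- the orbit lies in the fixed points of `u`
  have horb : (orbit K ω).ncard ≤ 2 := by
    have hsub : orbit K ω ⊆ fixedBy Ω u := by
      rintro _ ⟨c, rfl⟩
      have hc : u * (c : P) = (c : P) * u := hK c c.2
      show u • ((c : P) • ω) = (c : P) • ω
      rw [smul_smul, hc, mul_smul, huω]
    have h1 := Set.ncard_le_ncard hsub (Set.toFinite _)
    have h2 := hF u hu1
    rw [Nat.card_coe_set_eq] at h2
    omega
  have hstab : Nat.card (stabilizer K ω) ≤ 2 := by
    refine le_trans ?_ hst
    let f : stabilizer K ω → stabilizer P ω := fun c => ⟨((c : K) : P), by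
      have := c.2
      rw [mem_stabilizer_iff] at this ⊢
      exact this⟩
    apply Nat.card_le_card_of_injective f
    intro a b hab
    have h1 : ((f a : stabilizer P ω) : P) = ((f b : stabilizer P ω) : P) := by rw [hab]
    exact Subtype.ext (Subtype.ext h1)
  calc Nat.card K = Nat.card (stabilizer K ω) * (orbit K ω).ncard := hos
    _ ≤ 2 * 2 := Nat.mul_le_mul hstab horb
    _ = 4 := rfl

theorem card_centralizer_le_four [Finite P] [Finite Ω] (hF : Fix2 P Ω) (u : P) (hu1 : u ≠ 1)
    (ω : Ω) (huω : u • ω = ω) (hst : Nat.card (stabilizer P ω) ≤ 2) :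
    Nat.card (Subgroup.centralizer ({u} : Set P)) ≤ 4 := by
  apply card_le_four_of_commute hF u hu1 ω huω hst
  intro c hc
  rw [Subgroup.mem_centralizer_iff] at hc
  exact hc u (Set.mem_singleton u)

theorem structure_two [Finite P] [Finite Ω] (hP : IsPGroup 2 P) (hF : Fix2 P Ω) (α : Ω)
    (hT1 : stabilizer P α ≠ ⊥) (hT2 : stabilizer P α ≠ ⊤) :
    (((∃ n : ℕ, Nonempty (P ≃* DihedralGroup n)) ∨ QD P) ∧
        (Nat.card (stabilizer P α) = 2 ∨ (stabilizer P α).index = 2)) ∨
    ((stabilizer P α).index = 2 ∧ ∃ β : Ω, β ≠ α ∧ stabilizer P β = stabilizer P α ∧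
        (∀ g : P, g • α = α ∨ g • α = β) ∧
        ∀ ω : Ω, ω ≠ α → ω ≠ β → stabilizer P ω = ⊥) := by
  classical
  have : Fact (Nat.Prime 2) := ⟨Nat.prime_two⟩
  have hnil : Group.IsNilpotent P := hP.isNilpotent
  have hNC : NormalizerCondition P := Group.normalizerCondition_of_isNilpotent
  set T := stabilizer P α with hTdef
  have hTmem : ∀ g : P, g ∈ T ↔ g • α = α := fun g => mem_stabilizer_iff
  obtain ⟨s, hsN, hsT⟩ := SetLike.exists_of_lt (hNC T (lt_top_iff_ne_top.2 hT2))
  have hsN' := hsN
  rw [Subgroup.mem_normalizer_iff] at hsN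
  set β := s • α with hβ
  have hβα : β ≠ α := fun h => hsT ((hTmem s).2 h)
  have hTβ : ∀ t ∈ T, t • β = β := by
    intro t ht
    have h1 : s⁻¹ * t * s ∈ T := by
      rw [hsN (s⁻¹ * t * s)]
      have : s * (s⁻¹ * t * s) * s⁻¹ = t := by group
      rw [this]; exact ht
    have h2 := (hTmem _).1 h1
    calc t • β = s • ((s⁻¹ * t * s) • α) := by
          rw [hβ, smul_smul, smul_smul]; congr 1; group
      _ = β := by rw [h2]
  have hfixT : ∀ t ∈ T, t ≠ 1 → ∀ ω, t • ω = ω → ω = α ∨ ω = β := by
    intro t ht ht1 ω hω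
    exact hF.eq_or ht1 hβα.symm ((hTmem t).1 ht) (hTβ t ht) hω
  obtain ⟨t₀, ht₀T, ht₀1⟩ : ∃ t ∈ T, t ≠ 1 := by
    by_contra hcon
    push Not at hcon
    exact hT1 ((Subgroup.eq_bot_iff_forall T).2 hcon)
  have hSβ : stabilizer P β = T := by
    apply le_antisymm
    · intro g hg
      rw [mem_stabilizer_iff] at hg
      have h1 : s⁻¹ * g * s ∈ T := by
        rw [hTmem]
        calc (s⁻¹ * g * s) • α = s⁻¹ • (g • β) := by
              rw [hβ, smul_smul, smul_smul]
          _ = s⁻¹ • β := by rw [hg]
          _ = α := by rw [hβ, smul_smul, inv_mul_cancel, one_smul]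
      have h2 := (hsN (s⁻¹ * g * s)).1 h1
      have : s * (s⁻¹ * g * s) * s⁻¹ = g := by group
      rw [this] at h2
      exact h2
    · intro t ht
      exact mem_stabilizer_iff.2 (hTβ t ht)
  have hTI : ∀ g : P, ∀ t ∈ T, t ≠ 1 → g * t * g⁻¹ ∈ T → (g • α = α ∨ g • α = β) := by
    intro g t ht ht1 hgt
    exact hfixT _ hgt (conj_ne_one ht1) _ (conj_smul_smul g t α ((hTmem t).1 ht))
  set N := Subgroup.normalizer (T : Set P) with hNdef
  have hNmem : ∀ g : P, g ∈ N ↔ (g • α = α ∨ g • α = β) := by
    intro g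
    constructor
    · intro hg
      rw [hNdef, Subgroup.mem_normalizer_iff] at hg
      exact hTI g t₀ ht₀T ht₀1 ((hg t₀).1 ht₀T)
    · intro hg
      rw [hNdef, Subgroup.mem_normalizer_iff]
      intro h
      have key : g * h * g⁻¹ ∈ stabilizer P (g • α) ↔ h ∈ T := by
        rw [mem_stabilizer_iff, hTmem]
        constructor
        · intro h1
          have h2 : g • (h • α) = g • α := by
            rw [smul_smul, inv_mul_cancel_right, mul_smul] at h1
            exact h1
          exact MulAction.injective g h2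
        · intro h1
          exact conj_smul_smul g h α h1
      rcases hg with hg | hg
      · rw [hg] at key; exact key.symm
      · rw [hg, hSβ] at key; exact key.symm
  have hTN : T ≤ N := Subgroup.le_normalizer
  have hsNm : s ∈ N := hsN'
  have hswap : ∀ g : P, g ∈ N → g ∉ T → g • α = β ∧ g • β = α := by
    intro g hg hgT
    have h1 : g • α = β := by
      rcases (hNmem g).1 hg with h | h
      · exact absurd ((hTmem g).2 h) hgT
      · exact h
    refine ⟨h1, ?_⟩
    have h2 : (g * s) • α = α ∨ (g * s) • α = β := (hNmem _).1 (N.mul_mem hg hsNm)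
    rw [mul_smul] at h2
    rcases h2 with h | h
    · exact h
    · exfalso
      apply hgT
      rw [← hSβ]
      exact mem_stabilizer_iff.2 h
  have hidx : T.relIndex N = 2 := by
    show (T.subgroupOf N).index = 2
    rw [Subgroup.index_eq_two_iff]
    refine ⟨⟨s, hsNm⟩, fun b => ?_⟩
    by_cases hb : (b : P) ∈ T
    · right
      refine ⟨Subgroup.mem_subgroupOf.2 hb, fun h => ?_⟩
      have h1 : ((b : P) * s) ∈ T := Subgroup.mem_subgroupOf.1 h
      rw [hTmem, mul_smul] at h1
      have h2 : (b : P) • β = β := hTβ _ hb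
      rw [← hβ, h2] at h1
      exact hβα h1
    · left
      refine ⟨?_, fun h => hb (Subgroup.mem_subgroupOf.1 h)⟩
      rw [Subgroup.mem_subgroupOf]
      show ((b : P) * s) ∈ T
      rw [hTmem, mul_smul]
      exact (hswap b b.2 hb).2
  by_cases hNtop : N = ⊤
  · -- `T` has index two
    have hidx2 : T.index = 2 := by
      rw [hNtop, Subgroup.relIndex_top_right] at hidx
      exact hidx
    have hall : ∀ g : P, g • α = α ∨ g • α = β := fun g =>
      (hNmem g).1 (hNtop ▸ Subgroup.mem_top g)
    by_cases hA : ∀ ω : Ω, ω ≠ α → ω ≠ β → stabilizer P ω = ⊥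
    · right
      exact ⟨hidx2, β, hβα, hSβ, hall, hA⟩
    · left
      push Not at hA
      obtain ⟨ω, hωα, hωβ, hω⟩ := hA
      obtain ⟨u, huω, hu1⟩ : ∃ u ∈ stabilizer P ω, u ≠ 1 := by
        by_contra hcon
        push Not at hcon
        exact hω ((Subgroup.eq_bot_iff_forall _).2 hcon)
      have hnotT : ∀ a ∈ stabilizer P ω, a ≠ 1 → a ∉ T := by
        intro a ha ha1 haT
        rcases hfixT a haT ha1 ω (mem_stabilizer_iff.1 ha) with h | h
        · exact hωα h
        · exact hωβ h
      have huniq : ∀ a ∈ stabilizer P ω, a ≠ 1 → ∀ b ∈ stabilizer P ω, b ≠ 1 → a = b := by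
        intro a ha ha1 b hb hb1
        have haT := hnotT a ha ha1
        have hbT := hnotT b hb hb1
        have h1 := (hswap a (hNtop ▸ Subgroup.mem_top a) haT).1
        have h2 := (hswap b (hNtop ▸ Subgroup.mem_top b) hbT).1
        have h3 : a⁻¹ * b ∈ T := by
          rw [hTmem, mul_smul, h2, ← h1, smul_smul, inv_mul_cancel, one_smul]
        have h4 : a⁻¹ * b ∈ stabilizer P ω := Subgroup.mul_mem _ (Subgroup.inv_mem _ ha) hb
        by_contra hab
        have h5 : a⁻¹ * b ≠ 1 := by
          intro h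
          apply hab
          exact inv_mul_eq_one.1 h
        exact hnotT _ h4 h5 h3
      have hst : Nat.card (stabilizer P ω) ≤ 2 := card_le_two_of_unique huniq
      have huu : u * u = 1 := by
        by_contra h
        have h1 := huniq (u * u) (Subgroup.mul_mem _ huω huω) h u huω hu1
        apply hu1
        have : u * u = u * 1 := by rw [mul_one]; exact h1
        exact mul_left_cancel this
      have hC := card_centralizer_le_four hF u hu1 ω (mem_stabilizer_iff.1 huω) hst
      have huT : u ∉ T := hnotT u huω hu1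
      by_cases h8 : 8 ≤ Nat.card P
      · exact ⟨suzuki hP h8 u huu hC, Or.inr hidx2⟩
      · -- the four-group
        push Not at h8
        refine ⟨Or.inl ?_, Or.inr hidx2⟩
        have hcm := T.card_mul_index
        rw [hidx2] at hcm
        have hT2' : 2 ≤ Nat.card T := by
          have := (Subgroup.one_lt_card_iff_ne_bot T).2 hT1
          omega
        obtain ⟨k, hk⟩ := (IsPGroup.iff_card).1 hP
        have hk2 : k = 2 := by
          have h1 : 2 ^ k < 2 ^ 3 := by rw [← hk]; exact h8
          have h2 : k < 3 := (Nat.pow_lt_pow_iff_right (by norm_num)).1 h1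
          have h3 : 2 ^ 1 < 2 ^ k := by rw [← hk]; omega
          have h4 : 1 < k := (Nat.pow_lt_pow_iff_right (by norm_num)).1 h3
          omega
        have hcardP : Nat.card P = 4 := by rw [hk, hk2]; norm_num
        have hcardT : Nat.card T = 2 := by omega
        -- uniqueness of the nonidentity element of `T`
        have hTu : ∀ a ∈ T, a ≠ 1 → a = t₀ := by
          intro a ha ha1
          have h2 := (Nat.card_eq_two_iff' (1 : T)).1 hcardT
          obtain ⟨y, _, hy⟩ := h2
          have e1 := hy ⟨a, ha⟩ (fun h => ha1 (congrArg Subtype.val h))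
          have e2 := hy ⟨t₀, ht₀T⟩ (fun h => ht₀1 (congrArg Subtype.val h))
          have := e1.trans e2.symm
          exact congrArg Subtype.val this
        have ht₀sq : t₀ * t₀ = 1 := by
          by_contra h
          have h1 := hTu (t₀ * t₀) (T.mul_mem ht₀T ht₀T) h
          apply ht₀1
          have : t₀ * t₀ = t₀ * 1 := by rw [mul_one]; exact h1
          exact mul_left_cancel this
        have ht₀inv : t₀⁻¹ = t₀ := inv_eq_of_mul_eq_one_right ht₀sq
        have huinv : u⁻¹ = u := inv_eq_of_mul_eq_one_right huu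
        have hTnorm : T.Normal := Subgroup.normal_of_index_eq_two hidx2
        have hconj : u * t₀ * u⁻¹ = t₀ :=
          hTu _ (hTnorm.conj_mem t₀ ht₀T u) (conj_ne_one ht₀1)
        have hsx : u * t₀ * u = t₀⁻¹ := by
          rw [ht₀inv]
          rw [huinv] at hconj
          exact hconj
        have hns : u ∉ Subgroup.zpowers t₀ := by
          intro h
          apply huT
          exact (Subgroup.zpowers_le.2 ht₀T) h
        have hord : orderOf t₀ = 2 := by
          apply orderOf_eq_prime
          · rw [pow_two]; exact ht₀sq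
          · exact ht₀1
        have hinj := dihedralLift_injective u t₀ huu hsx hns
        have hbij : Function.Bijective
            (dihedralLift u t₀ (orderOf t₀) huu hsx (pow_orderOf_eq_one t₀)) := by
          apply hinj.bijective_of_nat_card_le
          rw [DihedralGroup.nat_card, hord, hcardP]
        exact ⟨orderOf t₀, ⟨(MulEquiv.ofBijective _ hbij).symm⟩⟩
  · -- `N < P`
    left
    obtain ⟨g, hgNN, hgN⟩ := SetLike.exists_of_lt (hNC N (lt_top_iff_ne_top.2 hNtop))
    rw [Subgroup.mem_normalizer_iff] at hgNN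
    have hgα : ¬ (g • α = α ∨ g • α = β) := fun h => hgN ((hNmem g).2 h)
    have huniq : ∀ a ∈ T, a ≠ 1 → ∀ b ∈ T, b ≠ 1 → a = b := by
      intro a ha ha1 b hb hb1
      have haN : g * a * g⁻¹ ∈ N := (hgNN a).1 (hTN ha)
      have hbN : g * b * g⁻¹ ∈ N := (hgNN b).1 (hTN hb)
      have haT : g * a * g⁻¹ ∉ T := fun h => hgα (hTI g a ha ha1 h)
      have hbT : g * b * g⁻¹ ∉ T := fun h => hgα (hTI g b hb hb1 h)
      have h1 := (hswap _ haN haT).1
      have h2 := (hswap _ hbN hbT).1
      have h3 : (g * a * g⁻¹)⁻¹ * (g * b * g⁻¹) ∈ T := by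
        rw [hTmem, mul_smul, h2, ← h1, smul_smul, inv_mul_cancel, one_smul]
      have h4 : (g * a * g⁻¹)⁻¹ * (g * b * g⁻¹) = g * (a⁻¹ * b) * g⁻¹ := by group
      rw [h4] at h3
      by_contra hab
      have h5 : a⁻¹ * b ≠ 1 := by
        intro h
        apply hab
        exact inv_mul_eq_one.1 h
      exact hgα (hTI g (a⁻¹ * b) (T.mul_mem (T.inv_mem ha) hb) h5 h3)
    have hcardT : Nat.card T = 2 := by
      have h1 := card_le_two_of_unique huniq
      have h2 := (Subgroup.one_lt_card_iff_ne_bot T).2 hT1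
      omega
    have ht₀sq : t₀ * t₀ = 1 := by
      by_contra h
      have h1 := huniq (t₀ * t₀) (T.mul_mem ht₀T ht₀T) h t₀ ht₀T ht₀1
      apply ht₀1
      have : t₀ * t₀ = t₀ * 1 := by rw [mul_one]; exact h1
      exact mul_left_cancel this
    have hcardN : Nat.card N = 4 := by
      have h1 := (T.subgroupOf N).card_mul_index
      have h2 : Nat.card (T.subgroupOf N) = Nat.card T :=
        Nat.card_congr (Subgroup.subgroupOfEquivOfLe hTN).toEquiv
      have h3 : (T.subgroupOf N).index = 2 := hidx
      rw [h2, h3, hcardT] at h1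
      omega
    have hCN : Subgroup.centralizer ({t₀} : Set P) ≤ N := by
      intro c hc
      rw [Subgroup.mem_centralizer_iff] at hc
      have h1 := hc t₀ (Set.mem_singleton t₀)
      rw [hNmem]
      apply hTI c t₀ ht₀T ht₀1
      have : c * t₀ * c⁻¹ = t₀ := by
        rw [← h1, mul_inv_cancel_right]
      rw [this]; exact ht₀T
    have hC : Nat.card (Subgroup.centralizer ({t₀} : Set P)) ≤ 4 := by
      rw [← hcardN]
      exact Subgroup.card_le_of_le hCN
    have h8 : 8 ≤ Nat.card P := by
      have h1 := N.card_mul_index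
      rw [hcardN] at h1
      have h2 : N.index ≠ 1 := fun h => hNtop (Subgroup.index_eq_one.1 h)
      have h3 : N.index ≠ 0 := Subgroup.index_ne_zero_of_finite
      have h4 : 2 ≤ N.index := by omega
      nlinarith
    exact ⟨suzuki hP h8 t₀ ht₀sq hC, Or.inl hcardT⟩

end perm

end Cfsg.Agent.Lib.Helper61.Fx
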