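import Mathlib
import Cfsg.Agent.Lib.Helper61.Fx3

/-!
# A counting lemma and Frobenius complements in fixity-two actions

`exists_smul_eq_of_fix`: a finite group `A` acts on a set, `Y` an invariant subset on which every
nonidentity element has at most one fixed point; then any two points of `Y` with nontrivial
stabilizers are in the same orbit.

`frob_compl`: the point stabilizer is a Frobenius complement in a subgroup `N ≥ G_α` for which
the second fixed point `β` of some nonidentity `t ∈ G_α` lies outside the `N`-orbit of `α`.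
-/

set_option autoImplicit false
set_option linter.style.haveILetI false

namespace Cfsg.Agent.Lib.Helper61.Fx

open MulAction
open scoped Pointwise

section count

variable {A : Type*} [Group A] {X : Type*} [MulAction A X]

theorem card_le_two_mul [Fintype A] [DecidableEq A] (Y : Set X)
    (h1 : ∀ a : A, a ≠ 1 → ∀ x ∈ Y, ∀ y ∈ Y, a • x = x → a • y = y → x = y)
    (hY : ∀ a : A, ∀ y ∈ Y, a • y ∈ Y)
    (δ : X) (hδ : δ ∈ Y) (b : A) (hb1 : b ≠ 1) (hb : b • δ = δ)
    (U : Finset A) (hU : ∀ a : A, a ≠ 1 → (∃ g : A, a • (g • δ) = g • δ) → a ∈ U) :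
    Fintype.card A ≤ 2 * U.card := by
  classical
  set B : Finset A := Finset.univ.filter (fun g => g • δ = δ) with hB
  have hBmem : ∀ g : A, g ∈ B ↔ g • δ = δ := fun g => by simp [hB]
  have h1B : (1 : A) ∈ B := (hBmem 1).2 (one_smul _ _)
  have hbB : b ∈ B := (hBmem b).2 hb
  have hm : 2 ≤ B.card := by
    have hsub : ({1, b} : Finset A) ⊆ B := by
      intro z hz
      rcases Finset.mem_insert.1 hz with rfl | hz
      · exact h1B
      · rw [Finset.mem_singleton.1 hz]; exact hbB
    have h2 : ({1, b} : Finset A).card = 2 := Finset.card_pair (Ne.symm hb1)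
    have := Finset.card_le_card hsub
    omega
  set B' : Finset A := B.erase 1 with hB'
  set s : Finset (A × A) := (Finset.univ : Finset A) ×ˢ B' with hs
  let f : A × A → A := fun p => p.1 * p.2 * p.1⁻¹
  have himg : s.image f ⊆ U := by
    intro y hy
    obtain ⟨p, hp, rfl⟩ := Finset.mem_image.1 hy
    rw [hs, Finset.mem_product] at hp
    have hp2 := hp.2
    rw [hB', Finset.mem_erase] at hp2
    apply hU
    · exact conj_ne_one hp2.1
    · exact ⟨p.1, conj_smul_smul p.1 p.2 δ ((hBmem _).1 hp2.2)⟩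
  have hfib : ∀ y ∈ s.image f, (s.filter (fun p => f p = y)).card ≤ B.card := by
    intro y hy
    obtain ⟨p₀, hp₀, rfl⟩ := Finset.mem_image.1 hy
    rw [hs, Finset.mem_product] at hp₀
    have hp₀2 := hp₀.2
    rw [hB', Finset.mem_erase] at hp₀2
    have hy1 : f p₀ ≠ 1 := conj_ne_one hp₀2.1
    have hyfix : f p₀ • (p₀.1 • δ) = p₀.1 • δ := conj_smul_smul p₀.1 p₀.2 δ ((hBmem _).1 hp₀2.2)
    apply Finset.card_le_card_of_injOn (fun p => p₀.1⁻¹ * p.1)
    · intro p hp
      have hp' := Finset.mem_filter.1 hp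
      have hps := hp'.1
      rw [hs, Finset.mem_product] at hps
      have hp2 := hps.2
      rw [hB', Finset.mem_erase] at hp2
      have hfp : f p • (p.1 • δ) = p.1 • δ := conj_smul_smul p.1 p.2 δ ((hBmem _).1 hp2.2)
      rw [hp'.2] at hfp
      have heq : p.1 • δ = p₀.1 • δ :=
        h1 (f p₀) hy1 _ (hY _ _ hδ) _ (hY _ _ hδ) hfp hyfix
      show p₀.1⁻¹ * p.1 ∈ B
      rw [hBmem, mul_smul, heq, smul_smul, inv_mul_cancel, one_smul]
    · intro p hp q hq hpq
      have hp' := (Finset.mem_filter.1 hp).2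
      have hq' := (Finset.mem_filter.1 hq).2
      have h1' : p.1 = q.1 := mul_left_cancel hpq
      have h2' : p.2 = q.2 := by
        have h3 : p.1 * p.2 * p.1⁻¹ = q.1 * q.2 * q.1⁻¹ := hp'.trans hq'.symm
        rw [← h1'] at h3
        exact mul_left_cancel (mul_right_cancel h3)
      exact Prod.ext h1' h2'
  have h2 := Finset.card_le_mul_card_image s B.card hfib
  have hscard : s.card = Fintype.card A * (B.card - 1) := by
    rw [hs, Finset.card_product, Finset.card_univ, hB', Finset.card_erase_of_mem h1B]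
  have h3 : (s.image f).card ≤ U.card := Finset.card_le_card himg
  rw [hscard] at h2
  have h4 : Fintype.card A * (B.card - 1) ≤ B.card * U.card :=
    le_trans h2 (Nat.mul_le_mul_left _ h3)
  obtain ⟨m, hmB⟩ : ∃ m, B.card = m + 2 := ⟨B.card - 2, by omega⟩
  rw [hmB] at h4
  have h5 : m + 2 - 1 = m + 1 := by omega
  rw [h5] at h4
  by_contra hlt
  push Not at hlt
  nlinarith

theorem exists_smul_eq_of_fix [Finite A] (Y : Set X)
    (h1 : ∀ a : A, a ≠ 1 → ∀ x ∈ Y, ∀ y ∈ Y, a • x = x → a • y = y → x = y)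
    (hY : ∀ a : A, ∀ y ∈ Y, a • y ∈ Y)
    (β γ : X) (hβ : β ∈ Y) (hγ : γ ∈ Y) (b c : A) (hb1 : b ≠ 1) (hc1 : c ≠ 1)
    (hb : b • β = β) (hc : c • γ = γ) : ∃ a : A, a • β = γ := by
  classical
  haveI : Fintype A := Fintype.ofFinite A
  by_contra hno
  push Not at hno
  set Uβ : Finset A := Finset.univ.filter (fun a => a ≠ 1 ∧ ∃ g : A, a • (g • β) = g • β) with hUβ
  set Uγ : Finset A := Finset.univ.filter (fun a => a ≠ 1 ∧ ∃ g : A, a • (g • γ) = g • γ) with hUγ
  have hcβ := card_le_two_mul Y h1 hY β hβ b hb1 hb Uβ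
    (fun a ha hg => by rw [hUβ, Finset.mem_filter]; exact ⟨Finset.mem_univ _, ha, hg⟩)
  have hcγ := card_le_two_mul Y h1 hY γ hγ c hc1 hc Uγ
    (fun a ha hg => by rw [hUγ, Finset.mem_filter]; exact ⟨Finset.mem_univ _, ha, hg⟩)
  have hdisj : Disjoint Uβ Uγ := by
    rw [Finset.disjoint_left]
    intro a haβ haγ
    rw [hUβ, Finset.mem_filter] at haβ
    rw [hUγ, Finset.mem_filter] at haγ
    obtain ⟨_, ha1, g, hg⟩ := haβ
    obtain ⟨_, _, g', hg'⟩ := haγ
    have heq : g • β = g' • γ := h1 a ha1 _ (hY _ _ hβ) _ (hY _ _ hγ) hg hg'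
    apply hno (g'⁻¹ * g)
    rw [mul_smul, heq, smul_smul, inv_mul_cancel, one_smul]
  have hsub : Uβ ∪ Uγ ⊆ (Finset.univ : Finset A).erase 1 := by
    intro a ha
    rw [Finset.mem_erase]
    refine ⟨?_, Finset.mem_univ _⟩
    rcases Finset.mem_union.1 ha with h | h
    · rw [hUβ, Finset.mem_filter] at h; exact h.2.1
    · rw [hUγ, Finset.mem_filter] at h; exact h.2.1
  have hcard := Finset.card_le_card hsub
  rw [Finset.card_union_of_disjoint hdisj, Finset.card_erase_of_mem (Finset.mem_univ _),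
    Finset.card_univ] at hcard
  have hpos : 0 < Fintype.card A := Fintype.card_pos
  omega

end count

section frob

variable {G : Type*} [Group G] {Ω : Type*} [MulAction G Ω]

theorem frob_compl [Finite G] [Finite Ω] (hF : Fix2 G Ω) (N : Subgroup G) (α β : Ω)
    (hαβ : α ≠ β) (hle : stabilizer G α ≤ N) (x : G) (hxN : x ∉ N) (hx : x • α = β)
    (t : G) (ht1 : t ≠ 1) (htα : t • α = α) (htβ : t • β = β)
    (n₀ : G) (hn₀ : n₀ ∈ N) (hn₀α : n₀ • α ≠ α) :
    ∃ H : Subgroup ↥N, H ≠ ⊥ ∧ H ≠ ⊤ ∧ ∀ g : ↥N, g ∉ H → H ⊓ (MulAut.conj g • H) = ⊥ := by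
  classical
  refine ⟨(stabilizer G α).subgroupOf N, ?_, ?_, ?_⟩
  · intro h
    have htm : (⟨t, hle (mem_stabilizer_iff.2 htα)⟩ : ↥N) ∈ (stabilizer G α).subgroupOf N :=
      Subgroup.mem_subgroupOf.2 (mem_stabilizer_iff.2 htα)
    rw [h, Subgroup.mem_bot] at htm
    exact ht1 (congrArg Subtype.val htm)
  · intro h
    have hm : (⟨n₀, hn₀⟩ : ↥N) ∈ (stabilizer G α).subgroupOf N := by rw [h]; exact Subgroup.mem_top _
    exact hn₀α (mem_stabilizer_iff.1 (Subgroup.mem_subgroupOf.1 hm))
  · intro g hg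
    have hgα : (g : G) • α ≠ α := fun h => hg (Subgroup.mem_subgroupOf.2 (mem_stabilizer_iff.2 h))
    rw [Subgroup.eq_bot_iff_forall]
    intro h hh
    obtain ⟨hh1, hh2⟩ := Subgroup.mem_inf.1 hh
    have hhα : (h : G) • α = α := mem_stabilizer_iff.1 (Subgroup.mem_subgroupOf.1 hh1)
    rw [Subgroup.mem_pointwise_smul_iff_inv_smul_mem] at hh2
    have hh3 : ((g⁻¹ * h * g : ↥N) : G) • α = α := by
      have h4 : (MulAut.conj g)⁻¹ • h = g⁻¹ * h * g := by
        rw [MulAut.smul_def, ← map_inv, MulAut.conj_apply, inv_inv]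
      rw [h4] at hh2
      exact mem_stabilizer_iff.1 (Subgroup.mem_subgroupOf.1 hh2)
    have hhγ : (h : G) • ((g : G) • α) = (g : G) • α := by
      have h5 : ((g : G)⁻¹ * (h : G) * (g : G)) • α = α := by
        simpa using hh3
      rw [mul_smul, mul_smul] at h5
      have h6 := congrArg (fun z => (g : G) • z) h5
      simpa [smul_smul] using h6
    by_contra hne
    have hne' : (h : G) ≠ 1 := fun e => hne (Subtype.ext e)
    -- the counting lemma for `A = G_α`
    have hres := exists_smul_eq_of_fix (A := ↥(stabilizer G α)) (X := Ω) {ω | ω ≠ α}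
      (by
        intro a ha y hy z hz hay haz
        have ha' : (a : G) ≠ 1 := fun e => ha (Subtype.ext e)
        have haα : (a : G) • α = α := mem_stabilizer_iff.1 a.2
        have hyα : α ≠ y := fun e => hy e.symm
        rcases hF.eq_or ha' hyα haα hay haz with h7 | h7
        · exact absurd h7 hz
        · exact h7.symm)
      (by
        intro a y hy hay
        apply hy
        have haα : (a : G) • α = α := mem_stabilizer_iff.1 a.2
        have : (a : G) • y = (a : G) • α := by rw [haα]; exact hay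
        exact MulAction.injective (a : G) this)
      β ((g : G) • α) (Ne.symm hαβ) hgα
      ⟨t, mem_stabilizer_iff.2 htα⟩ ⟨(h : G), mem_stabilizer_iff.2 hhα⟩
      (fun e => ht1 (congrArg Subtype.val e)) (fun e => hne' (congrArg Subtype.val e))
      htβ hhγ
    obtain ⟨a, ha⟩ := hres
    have ha' : (a : G) • β = (g : G) • α := ha
    rw [← hx, smul_smul] at ha'
    have hmem : (g : G)⁻¹ * ((a : G) * x) ∈ stabilizer G α := by
      rw [mem_stabilizer_iff, mul_smul, ha', smul_smul, inv_mul_cancel, one_smul]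
    have hN1 : (g : G)⁻¹ * ((a : G) * x) ∈ N := hle hmem
    have hN2 : (a : G) * x ∈ N := by
      have := N.mul_mem g.2 hN1
      rwa [mul_inv_cancel_left] at this
    have hN3 : x ∈ N := by
      have := N.mul_mem (N.inv_mem (hle a.2)) hN2
      rwa [inv_mul_cancel_left] at this
    exact hxN hN3

end frob

end Cfsg.Agent.Lib.Helper61.Fx
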