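import Mathlib

namespace Cfsg.Agent.Lib.Helper61.HC

set_option linter.unusedSectionVars false
set_option linter.unusedVariables false

section grp
variable {𝒢 : Type*} [Group 𝒢]

theorem inv_of_invol {s : 𝒢} (h : s * s = 1) : s⁻¹ = s :=
  inv_eq_of_mul_eq_one_right h

/-- `s ρ^n = (ρ⁻¹)^n s` when `s ρ s = ρ⁻¹` -/
theorem invol_pow_comm {s ρ : 𝒢} (hs : s * s = 1) (h : s * ρ * s = ρ⁻¹) (n : ℕ) :
    s * ρ ^ n = (ρ ^ n)⁻¹ * s := by
  induction n with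
  | zero => simp
  | succ n ih =>
    have h1 : s * ρ = ρ⁻¹ * s := by
      have := congrArg (fun x => x * s) h
      simp only [mul_assoc, hs, mul_one] at this
      exact this
    calc s * ρ ^ (n + 1) = s * ρ ^ n * ρ := by rw [pow_succ, mul_assoc]
      _ = (ρ ^ n)⁻¹ * s * ρ := by rw [ih]
      _ = (ρ ^ n)⁻¹ * (s * ρ) := by rw [mul_assoc]
      _ = (ρ ^ n)⁻¹ * (ρ⁻¹ * s) := by rw [h1]
      _ = (ρ ^ (n + 1))⁻¹ * s := by rw [pow_succ', mul_inv_rev, mul_assoc]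

theorem pow_half {ρ : 𝒢} {a : ℕ} (h : ρ ^ (2 * a + 1) = 1) : (ρ ^ (a + 1))⁻¹ = ρ ^ a := by
  rw [inv_eq_iff_mul_eq_one, ← pow_add]
  rw [show a + 1 + a = 2 * a + 1 by ring]
  exact h

/-- two involutions whose product has odd order are conjugate by a power of the product -/
theorem dihedral_conj {s s' : 𝒢} (hs : s * s = 1) (hs' : s' * s' = 1) {a : ℕ}
    (h : (s * s') ^ (2 * a + 1) = 1) : (s * s') ^ a * s = s' * (s * s') ^ a := by
  have h1 : s * (s * s') * s = (s * s')⁻¹ := by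
    rw [mul_inv_rev, inv_of_invol hs, inv_of_invol hs']
    calc s * (s * s') * s = (s * s) * s' * s := by group
      _ = s' * s := by rw [hs, one_mul]
  have h2 := invol_pow_comm hs h1 a
  have h3 : s' = (s * s')⁻¹ * s := by
    rw [mul_inv_rev, inv_of_invol hs, inv_of_invol hs', mul_assoc, hs, mul_one]
  calc (s * s') ^ a * s = ((s * s') ^ (a + 1))⁻¹ * s := by rw [pow_half h]
    _ = (s * s')⁻¹ * ((s * s') ^ a)⁻¹ * s := by rw [pow_succ, mul_inv_rev]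
    _ = (s * s')⁻¹ * (((s * s') ^ a)⁻¹ * s) := by rw [mul_assoc]
    _ = (s * s')⁻¹ * (s * (s * s') ^ a) := by rw [h2]
    _ = ((s * s')⁻¹ * s) * (s * s') ^ a := by rw [mul_assoc]
    _ = s' * (s * s') ^ a := by rw [← h3]

/-- the dihedral trick: an involution `j₀` can be moved inside its coset to commute with `y` -/
theorem dihedral_commute {y j₀ : 𝒢} (hy : y * y = 1) (hj : j₀ * j₀ = 1) {a : ℕ}
    (h : (j₀ * (y * j₀ * y)) ^ (2 * a + 1) = 1) :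
    ((j₀ * (y * j₀ * y)) ^ a * j₀) * ((j₀ * (y * j₀ * y)) ^ a * j₀) = 1 ∧
    y * ((j₀ * (y * j₀ * y)) ^ a * j₀) = ((j₀ * (y * j₀ * y)) ^ a * j₀) * y := by
  set j₁ := y * j₀ * y with hj₁
  set ρ := j₀ * j₁ with hρ
  have hj₁' : j₁ * j₁ = 1 := by
    rw [hj₁]
    calc y * j₀ * y * (y * j₀ * y) = y * j₀ * (y * y) * j₀ * y := by group
      _ = 1 := by rw [hy, mul_one, mul_assoc y, hj, mul_one, hy]
  have h1 : j₀ * ρ * j₀ = ρ⁻¹ := by
    rw [hρ, mul_inv_rev, inv_of_invol hj, inv_of_invol hj₁']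
    calc j₀ * (j₀ * j₁) * j₀ = (j₀ * j₀) * j₁ * j₀ := by group
      _ = j₁ * j₀ := by rw [hj, one_mul]
  have h2 : y * ρ * y = ρ⁻¹ := by
    rw [hρ, mul_inv_rev, inv_of_invol hj, inv_of_invol hj₁', hj₁]
    calc y * (j₀ * (y * j₀ * y)) * y = (y * j₀ * y) * j₀ * (y * y) := by group
      _ = y * j₀ * y * j₀ := by rw [hy, mul_one]
  have c1 := invol_pow_comm hj h1 a
  have c2 := invol_pow_comm hy h2 a
  constructor
  · calc ρ ^ a * j₀ * (ρ ^ a * j₀) = ρ ^ a * (j₀ * ρ ^ a) * j₀ := by group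
      _ = ρ ^ a * ((ρ ^ a)⁻¹ * j₀) * j₀ := by rw [c1]
      _ = j₀ * j₀ := by group
      _ = 1 := hj
  · have e1 : y * j₀ = j₁ * y := by
      rw [hj₁, mul_assoc, mul_assoc, hy, mul_one]
    have e2 : j₁ = ρ⁻¹ * j₀ := by
      rw [hρ, mul_inv_rev, inv_of_invol hj, inv_of_invol hj₁', mul_assoc, hj, mul_one]
    calc y * (ρ ^ a * j₀) = (y * ρ ^ a) * j₀ := by rw [mul_assoc]
      _ = (ρ ^ a)⁻¹ * y * j₀ := by rw [c2]
      _ = (ρ ^ a)⁻¹ * (y * j₀) := by rw [mul_assoc]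
      _ = (ρ ^ a)⁻¹ * (j₁ * y) := by rw [e1]
      _ = (ρ ^ a)⁻¹ * (ρ⁻¹ * j₀ * y) := by rw [e2]
      _ = ((ρ ^ a)⁻¹ * ρ⁻¹) * j₀ * y := by group
      _ = (ρ ^ (a + 1))⁻¹ * j₀ * y := by
          have e3 : (ρ ^ (a + 1))⁻¹ = (ρ ^ a)⁻¹ * ρ⁻¹ := by
            rw [pow_succ']; exact mul_inv_rev _ _
          rw [e3]
      _ = ρ ^ a * j₀ * y := by rw [pow_half h]

end grp

/-- an element of an odd-order subgroup has odd order -/
theorem exists_odd_pow {𝒢 : Type*} [Group 𝒢] {K : Subgroup 𝒢} [Finite K]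
    (hodd : Odd (Nat.card K)) {g : 𝒢} (hg : g ∈ K) : ∃ a : ℕ, g ^ (2 * a + 1) = 1 := by
  have h2 : orderOf (⟨g, hg⟩ : ↥K) ∣ Nat.card K := orderOf_dvd_natCard _
  have h3 : Odd (orderOf (⟨g, hg⟩ : ↥K)) := by
    obtain ⟨c, hc⟩ := h2
    rw [hc] at hodd
    exact (Nat.odd_mul.mp hodd).1
  obtain ⟨a, ha⟩ := h3
  refine ⟨a, ?_⟩
  have h4 : (⟨g, hg⟩ : ↥K) ^ (2 * a + 1) = 1 := by rw [← ha]; exact pow_orderOf_eq_one _
  have := congrArg Subtype.val h4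
  simpa using this

end Cfsg.Agent.Lib.Helper61.HC
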