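import Mathlib
import Cfsg.Agent.Lib.Helper61.HC1

namespace Cfsg.Agent.Lib.Helper61.HC

set_option linter.unusedSectionVars false
set_option linter.unusedVariables false

open Classical

variable {𝒢 : Type*} [Group 𝒢] [Fintype 𝒢]

/-- centralizer of `v` in `H` -/
def centIn (H : Subgroup 𝒢) (v : 𝒢) : Subgroup 𝒢 where
  carrier := {h | h ∈ H ∧ h * v = v * h}
  one_mem' := ⟨H.one_mem, by simp⟩
  mul_mem' := by
    rintro a b ⟨ha, ha'⟩ ⟨hb, hb'⟩
    refine ⟨H.mul_mem ha hb, ?_⟩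
    rw [mul_assoc, hb', ← mul_assoc, ha', mul_assoc]
  inv_mem' := by
    rintro a ⟨ha, ha'⟩
    refine ⟨H.inv_mem ha, ?_⟩
    calc a⁻¹ * v = a⁻¹ * (v * a) * a⁻¹ := by group
      _ = a⁻¹ * (a * v) * a⁻¹ := by rw [ha']
      _ = v * a⁻¹ := by group

theorem mem_centIn {H : Subgroup 𝒢} {v h : 𝒢} : h ∈ centIn H v ↔ h ∈ H ∧ h * v = v * h :=
  Iff.rfl

theorem centIn_le (H : Subgroup 𝒢) (v : 𝒢) : centIn H v ≤ H := fun _ h => h.1

theorem natCard_filter (K : Subgroup 𝒢) :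
    Nat.card K = (Finset.univ.filter (fun g => g ∈ K)).card := by
  rw [Nat.card_eq_fintype_card, ← Fintype.card_subtype]

/-- the involutions of the coset `H v` -/
noncomputable def invSet (H : Subgroup 𝒢) (v : 𝒢) : Finset 𝒢 :=
  Finset.univ.filter (fun s => s * s = 1 ∧ s * v ∈ H)

theorem mem_invSet {H : Subgroup 𝒢} {v s : 𝒢} : s ∈ invSet H v ↔ s * s = 1 ∧ s * v ∈ H := by
  simp [invSet]

/-- `v` normalizes `H` (for an involution `v`) -/
def Nrm (H : Subgroup 𝒢) (v : 𝒢) : Prop := ∀ h ∈ H, v * h * v ∈ H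

theorem conj_mem_invSet {H : Subgroup 𝒢} {v : 𝒢} (hv : v * v = 1) (hN : Nrm H v) {s h : 𝒢}
    (hs : s ∈ invSet H v) (hh : h ∈ H) : h * s * h⁻¹ ∈ invSet H v := by
  rw [mem_invSet] at hs ⊢
  constructor
  · calc h * s * h⁻¹ * (h * s * h⁻¹) = h * (s * s) * h⁻¹ := by group
      _ = 1 := by rw [hs.1]; group
  · have h1 : v * h⁻¹ * v ∈ H := hN _ (H.inv_mem hh)
    have h2 : h * s * h⁻¹ * v = h * (s * v) * (v * h⁻¹ * v) := by
      calc h * s * h⁻¹ * v = h * s * (v * v) * h⁻¹ * v := by rw [hv, mul_one]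
        _ = h * (s * v) * (v * h⁻¹ * v) := by group
    rw [h2]
    exact H.mul_mem (H.mul_mem hh hs.2) h1

theorem self_mem_invSet {H : Subgroup 𝒢} {v : 𝒢} (hv : v * v = 1) : v ∈ invSet H v := by
  rw [mem_invSet, hv]
  exact ⟨rfl, H.one_mem⟩

/-- every involution of the coset is an `H`-conjugate of `v` -/
theorem exists_conj_of_mem_invSet {H : Subgroup 𝒢} (hodd : Odd (Nat.card H)) {v : 𝒢}
    (hv : v * v = 1) (hN : Nrm H v) {s : 𝒢} (hs : s ∈ invSet H v) :
    ∃ h ∈ H, h * v * h⁻¹ = s := by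
  rw [mem_invSet] at hs
  have h1 : v * s ∈ H := by
    have := hN _ hs.2
    have e : v * (s * v) * v = v * s := by
      calc v * (s * v) * v = v * s * (v * v) := by group
        _ = v * s := by rw [hv, mul_one]
    rwa [e] at this
  obtain ⟨a, ha⟩ := exists_odd_pow hodd h1
  have h2 := dihedral_conj hv hs.1 ha
  refine ⟨(v * s) ^ a, H.pow_mem h1 a, ?_⟩
  rw [h2]; group

theorem card_invSet {H : Subgroup 𝒢} (hodd : Odd (Nat.card H)) {v : 𝒢} (hv : v * v = 1)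
    (hN : Nrm H v) : (invSet H v).card * Nat.card (centIn H v) = Nat.card H := by
  rw [natCard_filter H, natCard_filter (centIn H v)]
  have hmaps : Set.MapsTo (fun h : 𝒢 => h * v * h⁻¹)
      ↑(Finset.univ.filter (fun g : 𝒢 => g ∈ H)) ↑(invSet H v) := by
    intro h hh
    simp only [Finset.coe_filter, Finset.mem_univ, true_and, Set.mem_ofPred_eq] at hh
    exact Finset.mem_coe.mpr (conj_mem_invSet hv hN (self_mem_invSet hv) hh)
  rw [Finset.card_eq_sum_card_fiberwise hmaps]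
  have hfib : ∀ s ∈ invSet H v,
      ((Finset.univ.filter (fun g : 𝒢 => g ∈ H)).filter
        (fun h => (fun h : 𝒢 => h * v * h⁻¹) h = s)).card
      = (Finset.univ.filter (fun g : 𝒢 => g ∈ centIn H v)).card := by
    intro s hs
    obtain ⟨h₀, hh₀, hh₀s⟩ := exists_conj_of_mem_invSet hodd hv hN hs
    apply Finset.card_bij' (fun h _ => h₀⁻¹ * h) (fun k _ => h₀ * k)
    · intro h hh
      simp only [Finset.mem_filter, Finset.mem_univ, true_and] at hh ⊢
      refine ⟨H.mul_mem (H.inv_mem hh₀) hh.1, ?_⟩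
      have e : h * v * h⁻¹ = h₀ * v * h₀⁻¹ := hh.2.trans hh₀s.symm
      calc h₀⁻¹ * h * v = h₀⁻¹ * (h * v * h⁻¹) * h := by group
        _ = h₀⁻¹ * (h₀ * v * h₀⁻¹) * h := by rw [e]
        _ = v * (h₀⁻¹ * h) := by group
    · intro k hk
      simp only [Finset.mem_filter, Finset.mem_univ, true_and] at hk ⊢
      refine ⟨H.mul_mem hh₀ hk.1, ?_⟩
      rw [← hh₀s]
      calc h₀ * k * v * (h₀ * k)⁻¹ = h₀ * (k * v) * k⁻¹ * h₀⁻¹ := by group
        _ = h₀ * (v * k) * k⁻¹ * h₀⁻¹ := by rw [hk.2]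
        _ = h₀ * v * h₀⁻¹ := by group
    · intro h _
      simp
    · intro k _
      simp
  rw [Finset.sum_congr rfl hfib, Finset.sum_const, smul_eq_mul]

end Cfsg.Agent.Lib.Helper61.HC
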