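import Mathlib
import Cfsg.Agent.Lib.Helper61.HC2

namespace Cfsg.Agent.Lib.Helper61.HC

set_option linter.unusedSectionVars false
set_option linter.unusedVariables false

open Classical

variable {𝒢 : Type*} [Group 𝒢] [Fintype 𝒢]

theorem pow_odd_of_invol {c : 𝒢} (hc : c * c = 1) (a : ℕ) : c ^ (2 * a + 1) = c := by
  rw [pow_succ, pow_mul, pow_two, hc, one_pow, one_mul]

theorem nrm_mul {H : Subgroup 𝒢} {y j : 𝒢} (hyj : y * j = j * y) (hNy : Nrm H y)
    (hNj : Nrm H j) : Nrm H (y * j) := by
  intro h hh
  have := hNy _ (hNj h hh)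
  have e : y * (j * h * j) * y = y * j * h * (y * j) := by
    calc y * (j * h * j) * y = y * j * h * (j * y) := by group
      _ = y * j * h * (y * j) := by rw [← hyj]
  rwa [e] at this

theorem invol_mul {y j : 𝒢} (hy : y * y = 1) (hj : j * j = 1) (hyj : y * j = j * y) :
    (y * j) * (y * j) = 1 := by
  calc y * j * (y * j) = y * (j * y) * j := by group
    _ = y * (y * j) * j := by rw [hyj]
    _ = (y * y) * (j * j) := by group
    _ = 1 := by rw [hy, hj, one_mul]

section main
variable {H : Subgroup 𝒢} (hodd : Odd (Nat.card H)) {y j : 𝒢} (hy : y * y = 1) (hj : j * j = 1)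
  (hyj : y * j = j * y) (hNy : Nrm H y) (hNj : Nrm H j)

include hodd hy hj hyj hNy hNj

/-- existence of the central involution -/
theorem exists_central {s t : 𝒢} (hs : s ∈ invSet H y) (ht : t ∈ invSet H j) :
    ∃ c ∈ invSet H (y * j), s * c = c * s ∧ t * c = c * t ∧
      ∀ c' ∈ invSet H (y * j), s * c' = c' * s → t * c' = c' * t → c' = c := by
  rw [mem_invSet] at hs ht
  have hz := invol_mul hy hj hyj
  have hNz := nrm_mul hyj hNy hNj
  have huz : s * t * (y * j) ∈ H := by
    have e : s * t * (y * j) = (s * y) * (y * (t * j) * y) := by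
      rw [hyj]
      calc s * t * (j * y) = s * 1 * (t * j) * y := by group
        _ = s * (y * y) * (t * j) * y := by rw [hy]
        _ = (s * y) * (y * (t * j) * y) := by group
    rw [e]
    exact H.mul_mem hs.2 (hNy _ ht.2)
  have huu : (s * t) * (s * t) ∈ H := by
    have e : (s * t) * (s * t) = (s * t * (y * j)) * ((y * j) * (s * t * (y * j)) * (y * j)) := by
      calc (s * t) * (s * t) = (s * t) * 1 * (s * t) * 1 := by group
        _ = (s * t) * ((y * j) * (y * j)) * (s * t) * ((y * j) * (y * j)) := by rw [hz]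
        _ = _ := by group
    rw [e]
    exact H.mul_mem huz (hNz _ huz)
  obtain ⟨a, ha⟩ := exists_odd_pow hodd huu
  have hcc : (s * t) ^ (2 * a + 1) * (s * t) ^ (2 * a + 1) = 1 := by
    rw [← pow_add, show 2 * a + 1 + (2 * a + 1) = 2 * (2 * a + 1) by ring, pow_mul, pow_two]
    exact ha
  have hsu : s * (s * t) * s = (s * t)⁻¹ := by
    rw [mul_inv_rev, inv_of_invol hs.1, inv_of_invol ht.1]
    calc s * (s * t) * s = (s * s) * t * s := by group
      _ = t * s := by rw [hs.1, one_mul]
  have htu : t * (s * t) * t = (s * t)⁻¹ := by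
    rw [mul_inv_rev, inv_of_invol hs.1, inv_of_invol ht.1]
    calc t * (s * t) * t = t * s * (t * t) := by group
      _ = t * s := by rw [ht.1, mul_one]
  have hcinv : ((s * t) ^ (2 * a + 1))⁻¹ = (s * t) ^ (2 * a + 1) := inv_of_invol hcc
  refine ⟨(s * t) ^ (2 * a + 1), ?_, ?_, ?_, ?_⟩
  · rw [mem_invSet]
    refine ⟨hcc, ?_⟩
    have e : (s * t) ^ (2 * a + 1) * (y * j) = ((s * t) * (s * t)) ^ a * (s * t * (y * j)) := by
      rw [pow_succ, pow_mul, pow_two]; group
    rw [e]
    exact H.mul_mem (H.pow_mem huu a) huz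
  · rw [invol_pow_comm hs.1 hsu, hcinv]
  · rw [invol_pow_comm ht.1 htu, hcinv]
  · intro c' hc' hsc' htc'
    rw [mem_invSet] at hc'
    have hcomm : Commute (s * t) c' := by
      show s * t * c' = c' * (s * t)
      calc s * t * c' = s * (t * c') := by group
        _ = s * (c' * t) := by rw [htc']
        _ = (s * c') * t := by group
        _ = c' * s * t := by rw [hsc']
        _ = c' * (s * t) := by group
    have hh' : s * t * c' ∈ H := by
      have e : s * t * c' = (s * t * (y * j)) * ((y * j) * (c' * (y * j)) * (y * j)) := by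
        calc s * t * c' = s * t * 1 * c' * 1 := by group
          _ = s * t * ((y * j) * (y * j)) * c' * ((y * j) * (y * j)) := by rw [hz]
          _ = _ := by group
      rw [e]
      exact H.mul_mem huz (hNz _ hc'.2)
    obtain ⟨b, hb⟩ := exists_odd_pow hodd hh'
    have hu : s * t = (s * t * c') * c' := by
      rw [mul_assoc (s * t), hc'.1, mul_one]
    have hcomm2 : Commute (s * t * c') c' := (hcomm.mul_left (Commute.refl c'))
    have huu2 : (s * t) * (s * t) = (s * t * c') * (s * t * c') := by
      calc (s * t) * (s * t) = (s * t) * (s * t) * 1 := by group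
        _ = (s * t) * (s * t) * (c' * c') := by rw [hc'.1]
        _ = (s * t) * ((s * t) * c') * c' := by group
        _ = (s * t) * (c' * (s * t)) * c' := by rw [hcomm.eq]
        _ = (s * t * c') * (s * t * c') := by group
    have h1 : (s * t * c') ^ (2 * (2 * a + 1)) = 1 := by
      rw [pow_mul, pow_two, ← huu2]; exact ha
    have d1 := orderOf_dvd_of_pow_eq_one h1
    have d2 := orderOf_dvd_of_pow_eq_one hb
    have hcop : Nat.Coprime (orderOf (s * t * c')) 2 := by
      have : Odd (orderOf (s * t * c')) := by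
        obtain ⟨e, he⟩ := d2
        have ho : Odd (2 * b + 1) := ⟨b, rfl⟩
        rw [he] at ho
        exact (Nat.odd_mul.mp ho).1
      exact Nat.coprime_two_right.mpr this
    have d3 : orderOf (s * t * c') ∣ 2 * a + 1 := hcop.dvd_of_dvd_mul_left d1
    have h2 : (s * t * c') ^ (2 * a + 1) = 1 := orderOf_dvd_iff_pow_eq_one.mp d3
    calc c' = 1 * c' := (one_mul _).symm
      _ = (s * t * c') ^ (2 * a + 1) * c' ^ (2 * a + 1) := by rw [h2, pow_odd_of_invol hc'.1]
      _ = ((s * t * c') * c') ^ (2 * a + 1) := (hcomm2.mul_pow _).symm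
      _ = (s * t) ^ (2 * a + 1) := by rw [← hu]

/-- involutions of the coset `H v` commuting with `c` -/
noncomputable def commInv (H : Subgroup 𝒢) (v c : 𝒢) : Finset 𝒢 :=
  (invSet H v).filter (fun s => s * c = c * s)

omit hodd hy hj hyj hNy hNj in
theorem mem_commInv {H : Subgroup 𝒢} {v c s : 𝒢} :
    s ∈ commInv H v c ↔ s ∈ invSet H v ∧ s * c = c * s := by
  simp [commInv]

theorem card_prod_invSet :
    (invSet H y).card * (invSet H j).card
      = ∑ c ∈ invSet H (y * j), (commInv H y c).card * (commInv H j c).card := by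
  have hdc := Finset.sum_card_bipartiteAbove_eq_sum_card_bipartiteBelow
    (r := fun (p : 𝒢 × 𝒢) (c : 𝒢) => p.1 * c = c * p.1 ∧ p.2 * c = c * p.2)
    (s := invSet H y ×ˢ invSet H j) (t := invSet H (y * j))
  have hL : ∀ p ∈ invSet H y ×ˢ invSet H j,
      ((invSet H (y * j)).bipartiteAbove
        (fun (p : 𝒢 × 𝒢) (c : 𝒢) => p.1 * c = c * p.1 ∧ p.2 * c = c * p.2) p).card = 1 := by
    intro p hp
    rw [Finset.mem_product] at hp
    obtain ⟨c, hc, h1, h2, huniq⟩ := exists_central hodd hy hj hyj hNy hNj hp.1 hp.2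
    rw [Finset.card_eq_one]
    refine ⟨c, ?_⟩
    ext c'
    rw [Finset.mem_singleton, Finset.bipartiteAbove, Finset.mem_filter]
    constructor
    · rintro ⟨hc', h1', h2'⟩
      exact huniq c' hc' h1' h2'
    · rintro rfl
      exact ⟨hc, h1, h2⟩
  have hR : ∀ c ∈ invSet H (y * j),
      ((invSet H y ×ˢ invSet H j).bipartiteBelow
        (fun (p : 𝒢 × 𝒢) (c : 𝒢) => p.1 * c = c * p.1 ∧ p.2 * c = c * p.2) c).card
      = (commInv H y c).card * (commInv H j c).card := by
    intro c _
    rw [← Finset.card_product]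
    congr 1
    ext p
    rw [Finset.bipartiteBelow, Finset.mem_filter, Finset.mem_product, Finset.mem_product,
      mem_commInv, mem_commInv]
    tauto
  rw [Finset.sum_congr rfl hL, Finset.sum_congr rfl hR, Finset.sum_const, smul_eq_mul, mul_one,
    Finset.card_product] at hdc
  exact hdc

end main

end Cfsg.Agent.Lib.Helper61.HC
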