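import Mathlib
import Cfsg.Agent.Lib.Helper61.HC3

namespace Cfsg.Agent.Lib.Helper61.HC

set_option linter.unusedSectionVars false
set_option linter.unusedVariables false

open Classical

variable {𝒢 : Type*} [Group 𝒢] [Fintype 𝒢]

theorem card_commInv_conj {H : Subgroup 𝒢} {v z c h : 𝒢} (hv : v * v = 1) (hN : Nrm H v)
    (hh : h ∈ H) (hc : h * z * h⁻¹ = c) : (commInv H v c).card = (commInv H v z).card := by
  symm
  apply Finset.card_bij' (fun s _ => h * s * h⁻¹) (fun t _ => h⁻¹ * t * h)
  · intro s hs
    rw [mem_commInv] at hs ⊢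
    refine ⟨conj_mem_invSet hv hN hs.1 hh, ?_⟩
    rw [← hc]
    calc h * s * h⁻¹ * (h * z * h⁻¹) = h * (s * z) * h⁻¹ := by group
      _ = h * (z * s) * h⁻¹ := by rw [hs.2]
      _ = h * z * h⁻¹ * (h * s * h⁻¹) := by group
  · intro t ht
    rw [mem_commInv] at ht ⊢
    have h1 := conj_mem_invSet hv hN ht.1 (H.inv_mem hh)
    rw [inv_inv] at h1
    refine ⟨h1, ?_⟩
    have hz : z = h⁻¹ * c * h := by rw [← hc]; group
    rw [hz]
    calc h⁻¹ * t * h * (h⁻¹ * c * h) = h⁻¹ * (t * c) * h := by group
      _ = h⁻¹ * (c * t) * h := by rw [ht.2]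
      _ = h⁻¹ * c * h * (h⁻¹ * t * h) := by group
  · intro s _
    group
  · intro t _
    group

theorem commInv_eq_invSet {H : Subgroup 𝒢} {v z : 𝒢} (hvz : v * z = z * v) :
    commInv H v z = invSet (centIn H z) v := by
  ext s
  rw [mem_commInv, mem_invSet, mem_invSet, mem_centIn]
  constructor
  · rintro ⟨⟨h1, h2⟩, h3⟩
    refine ⟨h1, h2, ?_⟩
    calc s * v * z = s * (v * z) := by group
      _ = s * (z * v) := by rw [hvz]
      _ = (s * z) * v := by group
      _ = z * s * v := by rw [h3]
      _ = z * (s * v) := by group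
  · rintro ⟨h1, h2, h3⟩
    refine ⟨⟨h1, h2⟩, ?_⟩
    have e : s * z * v = z * s * v := by
      calc s * z * v = s * (z * v) := by group
        _ = s * (v * z) := by rw [hvz]
        _ = s * v * z := by group
        _ = z * (s * v) := h3
        _ = z * s * v := by group
    exact mul_right_cancel e

theorem odd_card_of_le {H K : Subgroup 𝒢} (hodd : Odd (Nat.card H)) (h : K ≤ H) :
    Odd (Nat.card K) := by
  obtain ⟨c, hc⟩ := Subgroup.card_dvd_of_le h
  rw [hc] at hodd
  exact (Nat.odd_mul.mp hodd).1

theorem nrm_centIn {H : Subgroup 𝒢} {v z : 𝒢} (hvz : v * z = z * v) (hN : Nrm H v) :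
    Nrm (centIn H z) v := by
  intro h hh
  rw [mem_centIn] at hh ⊢
  refine ⟨hN h hh.1, ?_⟩
  calc v * h * v * z = v * h * (v * z) := by group
    _ = v * h * (z * v) := by rw [hvz]
    _ = v * (h * z) * v := by group
    _ = v * (z * h) * v := by rw [hh.2]
    _ = (v * z) * h * v := by group
    _ = (z * v) * h * v := by rw [hvz]
    _ = z * (v * h * v) := by group

/-- The Brauer-Wielandt formula for a four-group acting on a group of odd order. -/
theorem bw {H : Subgroup 𝒢} (hodd : Odd (Nat.card H)) {y j : 𝒢} (hy : y * y = 1)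
    (hj : j * j = 1) (hyj : y * j = j * y) (hNy : Nrm H y) (hNj : Nrm H j) :
    Nat.card H * (Nat.card (centIn (centIn H (y * j)) y)) ^ 2
      = Nat.card (centIn H y) * Nat.card (centIn H j) * Nat.card (centIn H (y * j)) := by
  have hz := invol_mul hy hj hyj
  have hNz := nrm_mul hyj hNy hNj
  have hyz : y * (y * j) = (y * j) * y := by
    calc y * (y * j) = y * (j * y) := by rw [hyj]
      _ = (y * j) * y := by group
  have hjz : j * (y * j) = (y * j) * j := by
    calc j * (y * j) = (j * y) * j := by group
      _ = (y * j) * j := by rw [hyj]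
  have h1 := card_invSet hodd hy hNy
  have h2 := card_invSet hodd hj hNj
  have h3 := card_invSet hodd hz hNz
  have hKodd : Odd (Nat.card (centIn H (y * j))) := odd_card_of_le hodd (centIn_le _ _)
  have h4 := card_invSet hKodd hy (nrm_centIn hyz hNy)
  have h5 := card_invSet hKodd hj (nrm_centIn hjz hNj)
  rw [← commInv_eq_invSet hyz] at h4
  rw [← commInv_eq_invSet hjz] at h5
  have hcV : centIn (centIn H (y * j)) j = centIn (centIn H (y * j)) y := by
    ext h
    rw [mem_centIn, mem_centIn, mem_centIn]
    constructor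
    · rintro ⟨⟨hH, hz'⟩, hj'⟩
      refine ⟨⟨hH, hz'⟩, ?_⟩
      have ey : y = (y * j) * j := by rw [mul_assoc, hj, mul_one]
      calc h * y = h * ((y * j) * j) := by rw [← ey]
        _ = (h * (y * j)) * j := by group
        _ = (y * j) * h * j := by rw [hz']
        _ = (y * j) * (h * j) := by group
        _ = (y * j) * (j * h) := by rw [hj']
        _ = ((y * j) * j) * h := by group
        _ = y * h := by rw [← ey]
    · rintro ⟨⟨hH, hz'⟩, hy'⟩
      refine ⟨⟨hH, hz'⟩, ?_⟩
      have ej : j = y * (y * j) := by rw [← mul_assoc, hy, one_mul]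
      calc h * j = h * (y * (y * j)) := by rw [← ej]
        _ = (h * y) * (y * j) := by group
        _ = (y * h) * (y * j) := by rw [hy']
        _ = y * (h * (y * j)) := by group
        _ = y * ((y * j) * h) := by rw [hz']
        _ = (y * (y * j)) * h := by group
        _ = j * h := by rw [← ej]
  rw [hcV] at h5
  have h6 := card_prod_invSet hodd hy hj hyj hNy hNj
  have hconst : ∀ c ∈ invSet H (y * j), (commInv H y c).card * (commInv H j c).card
      = (commInv H y (y * j)).card * (commInv H j (y * j)).card := by
    intro c hc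
    obtain ⟨h, hh, hhc⟩ := exists_conj_of_mem_invSet hodd hz hNz hc
    rw [card_commInv_conj hy hNy hh hhc, card_commInv_conj hj hNj hh hhc]
  rw [Finset.sum_congr rfl hconst, Finset.sum_const, smul_eq_mul] at h6
  have hpos : 0 < Nat.card H * Nat.card (centIn H (y * j)) :=
    Nat.mul_pos Nat.card_pos Nat.card_pos
  have key : Nat.card H * (Nat.card (centIn (centIn H (y * j)) y)) ^ 2
        * (Nat.card H * Nat.card (centIn H (y * j)))
      = Nat.card (centIn H y) * Nat.card (centIn H j) * Nat.card (centIn H (y * j))
        * (Nat.card H * Nat.card (centIn H (y * j))) := by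
    calc Nat.card H * (Nat.card (centIn (centIn H (y * j)) y)) ^ 2
          * (Nat.card H * Nat.card (centIn H (y * j)))
        = ((invSet H y).card * Nat.card (centIn H y))
          * (Nat.card (centIn (centIn H (y * j)) y)) ^ 2
          * (((invSet H j).card * Nat.card (centIn H j)) * Nat.card (centIn H (y * j))) := by
          rw [h1, h2]
      _ = ((invSet H y).card * (invSet H j).card) * (Nat.card (centIn H y)
          * Nat.card (centIn H j) * Nat.card (centIn H (y * j))
          * (Nat.card (centIn (centIn H (y * j)) y)) ^ 2) := by ring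
      _ = ((invSet H (y * j)).card * ((commInv H y (y * j)).card * (commInv H j (y * j)).card))
          * (Nat.card (centIn H y)
          * Nat.card (centIn H j) * Nat.card (centIn H (y * j))
          * (Nat.card (centIn (centIn H (y * j)) y)) ^ 2) := by rw [h6]
      _ = ((invSet H (y * j)).card * Nat.card (centIn H (y * j)))
          * ((commInv H y (y * j)).card * Nat.card (centIn (centIn H (y * j)) y))
          * ((commInv H j (y * j)).card * Nat.card (centIn (centIn H (y * j)) y))
          * (Nat.card (centIn H y) * Nat.card (centIn H j)) := by ring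
      _ = Nat.card H * Nat.card (centIn H (y * j)) * Nat.card (centIn H (y * j))
          * (Nat.card (centIn H y) * Nat.card (centIn H j)) := by rw [h3, h4, h5]
      _ = _ := by ring
  exact Nat.eq_of_mul_eq_mul_right hpos key

end Cfsg.Agent.Lib.Helper61.HC
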