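import Mathlib
import Cfsg.Agent.Lib.Helper61.Miller2

set_option autoImplicit false
set_option linter.unusedVariables false
set_option linter.unusedSectionVars false

namespace Cfsg.Agent.Lib.Helper61.KAlt

open Equiv Equiv.Perm
open Cfsg.Agent.Lib.Helper61.Miller

variable {α : Type*} [Fintype α] [DecidableEq α]

/-- the finset of fixed points of a permutation -/
def fixS (g : Perm α) : Finset α := Finset.univ.filter (fun a => g a = a)

theorem mem_fixS {g : Perm α} {a : α} : a ∈ fixS g ↔ g a = a := by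
  simp [fixS]

/-- every non-identity element of `G` fixes at most `k` points -/
def Star (G : Subgroup (Perm α)) (k : ℕ) : Prop :=
  ∀ g ∈ G, g ≠ 1 → (fixS g).card ≤ k

theorem Star.eq_one {G : Subgroup (Perm α)} {k : ℕ} (h : Star G k) {g : Perm α} (hg : g ∈ G)
    (S : Finset α) (hS : k < S.card) (hfix : ∀ a ∈ S, g a = a) : g = 1 := by
  by_contra hne
  have h1 := h g hg hne
  have h2 : S ⊆ fixS g := fun a ha => mem_fixS.mpr (hfix a ha)
  have := Finset.card_le_card h2
  omega

theorem pretransitive_of_ext (G : Subgroup (Perm α)) (k : ℕ) (hE : Ext G k) :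
    MulAction.IsMultiplyPretransitive G α k := by
  classical
  rw [MulAction.isMultiplyPretransitive_iff]
  intro x y
  let s : Finset α := Finset.univ.map x
  let f : α → α := fun a => if h : ∃ i, x i = a then y h.choose else a
  have hfx : ∀ i, f (x i) = y i := by
    intro i
    have h : ∃ j, x j = x i := ⟨i, rfl⟩
    simp only [f, dif_pos h]
    congr 1
    exact x.injective h.choose_spec
  have hs : s.card ≤ k := by simp [s]
  have hf : Set.InjOn f (s : Set α) := by
    intro a ha b hb hab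
    simp only [s, Finset.coe_map, Finset.coe_univ, Set.image_univ, Set.mem_range] at ha hb
    obtain ⟨i, rfl⟩ := ha
    obtain ⟨j, rfl⟩ := hb
    rw [hfx, hfx] at hab
    rw [y.injective hab]
  obtain ⟨g, hg, hgs⟩ := hE s hs f hf
  refine ⟨⟨g, hg⟩, ?_⟩
  ext i
  simp only [Function.Embedding.smul_apply]
  show g (x i) = y i
  rw [hgs (x i) (by simp [s]), hfx]

/-- transfer of the conclusion from an induced group on a subset -/
theorem transfer (M : Subgroup (Perm α)) (S : Finset α) (Δ' : Finset ↥S)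
    (h : alternatingGroup ↥Δ' ≤ indGroup (indGroup M S) Δ') :
    alternatingGroup ↥(Δ'.map (Function.Embedding.subtype _)) ≤
      indGroup M (Δ'.map (Function.Embedding.subtype _)) := by
  classical
  have hmem : ∀ b : ↥Δ', ((b : ↥S) : α) ∈ (Δ'.map (Function.Embedding.subtype _)) := fun b => by
    rw [Finset.mem_map]; exact ⟨b.1, b.2, rfl⟩
  have hmem' : ∀ d : ↥(Δ'.map (Function.Embedding.subtype (fun x => x ∈ S))),
      ∃ b : ↥Δ', ((b : ↥S) : α) = d := by
    intro d
    obtain ⟨c, hc, hcd⟩ := Finset.mem_map.mp d.2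
    exact ⟨⟨c, hc⟩, hcd⟩
  let e : ↥Δ' ≃ ↥(Δ'.map (Function.Embedding.subtype (fun x => x ∈ S))) := Equiv.ofBijective (fun b => ⟨((b : ↥S) : α), hmem b⟩) (by
    constructor
    · intro b b' hbb
      have := congrArg Subtype.val hbb
      exact Subtype.ext (Subtype.ext this)
    · intro d
      obtain ⟨b, hb⟩ := hmem' d
      exact ⟨b, Subtype.ext hb⟩)
  have he : ∀ b : ↥Δ', ((e b : ↥(Δ'.map (Function.Embedding.subtype (fun x => x ∈ S)))) : α)
      = ((b : ↥S) : α) := fun b => rfl
  intro σ hσ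
  let σ' : Perm ↥Δ' := e.symm.permCongr σ
  have hσ' : σ' ∈ alternatingGroup ↥Δ' := by
    rw [Equiv.Perm.mem_alternatingGroup] at hσ ⊢
    rw [Equiv.Perm.sign_permCongr]
    exact hσ
  obtain ⟨y, hy, hyσ⟩ := h hσ'
  obtain ⟨x, hx, hxy⟩ := hy
  refine ⟨x, hx, ?_⟩
  intro d
  obtain ⟨b, hb⟩ := hmem' d
  have hd : e b = d := Subtype.ext hb
  rw [← hb, hxy b.1, hyσ b]
  have h1 : σ' b = e.symm (σ (e b)) := by
    simp [σ', Equiv.permCongr_apply]
  rw [h1, ← he (e.symm (σ (e b))), Equiv.apply_symm_apply, hd]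

/-- three-cycle form of a good pair -/
def GP3 (G : Subgroup (Perm α)) (Γ : Finset α) (x : α) : Prop :=
  ∀ a ∈ Γ, ∀ b ∈ Γ, ∀ c ∈ Γ, a ≠ b → a ≠ c → b ≠ c →
    ∃ g ∈ G, g x = x ∧ g a = b ∧ g b = c ∧ g c = a ∧
      ∀ w ∈ Γ, w ≠ a → w ≠ b → w ≠ c → g w = w

theorem gp3_of_alt (G : Subgroup (Perm α)) (Γ : Finset α) (x : α)
    (h : alternatingGroup ↥Γ ≤ indGroup (fixG G {x}) Γ) : GP3 G Γ x := by
  intro a ha b hb c hc hab hac hbc
  let a' : ↥Γ := ⟨a, ha⟩
  let b' : ↥Γ := ⟨b, hb⟩
  let c' : ↥Γ := ⟨c, hc⟩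
  have hab' : a' ≠ b' := fun h => hab (congrArg Subtype.val h)
  have hac' : a' ≠ c' := fun h => hac (congrArg Subtype.val h)
  have hbc' : b' ≠ c' := fun h => hbc (congrArg Subtype.val h)
  let σ : Perm ↥Γ := swap a' c' * swap a' b'
  have hσ : σ ∈ alternatingGroup ↥Γ :=
    (isThreeCycle_swap_mul_swap_same hac' hab' (Ne.symm hbc')).mem_alternatingGroup
  obtain ⟨g, hg, hgσ⟩ := h hσ
  rw [mem_fixG] at hg
  refine ⟨g, hg.1, hg.2 x (by simp), ?_, ?_, ?_, ?_⟩
  · have := hgσ a'
    have e : σ a' = b' := by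
      simp only [σ, Perm.mul_apply, swap_apply_left]
      rw [swap_apply_of_ne_of_ne (Ne.symm hab') hbc']
    rw [e] at this
    exact this
  · have := hgσ b'
    have e : σ b' = c' := by
      simp only [σ, Perm.mul_apply, swap_apply_right, swap_apply_left]
    rw [e] at this
    exact this
  · have := hgσ c'
    have e : σ c' = a' := by
      simp only [σ, Perm.mul_apply]
      rw [swap_apply_of_ne_of_ne (Ne.symm hac') (Ne.symm hbc'), swap_apply_right]
    rw [e] at this
    exact this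
  · intro w hw hwa hwb hwc
    let w' : ↥Γ := ⟨w, hw⟩
    have hwa' : w' ≠ a' := fun h => hwa (congrArg Subtype.val h)
    have hwb' : w' ≠ b' := fun h => hwb (congrArg Subtype.val h)
    have hwc' : w' ≠ c' := fun h => hwc (congrArg Subtype.val h)
    have := hgσ w'
    have e : σ w' = w' := by
      simp only [σ, Perm.mul_apply]
      rw [swap_apply_of_ne_of_ne hwa' hwb', swap_apply_of_ne_of_ne hwa' hwc']
    rw [e] at this
    exact this

/-- conjugating a pointwise stabiliser -/
theorem conj_mem_fixG {G : Subgroup (Perm α)} {S T : Finset α} {g h : Perm α} (hg : g ∈ G)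
    (hST : ∀ a ∈ S, g a ∈ T) (hcard : T.card ≤ S.card) (hh : h ∈ fixG G S) :
    g * h * g⁻¹ ∈ fixG G T := by
  rw [mem_fixG] at hh ⊢
  refine ⟨G.mul_mem (G.mul_mem hg hh.1) (G.inv_mem hg), ?_⟩
  have himg : S.image g = T := by
    apply Finset.eq_of_subset_of_card_le
    · intro b hb
      rw [Finset.mem_image] at hb
      obtain ⟨a, ha, rfl⟩ := hb
      exact hST a ha
    · rw [Finset.card_image_of_injective _ g.injective]
      exact hcard
  intro b hb
  rw [← himg, Finset.mem_image] at hb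
  obtain ⟨a, ha, rfl⟩ := hb
  have e : g⁻¹ (g a) = a := by simp
  simp only [Perm.mul_apply]
  rw [e, hh.2 a ha]

theorem card_fixG_conj {G : Subgroup (Perm α)} {S T : Finset α} {g : Perm α} (hg : g ∈ G)
    (hST : ∀ a ∈ S, g a ∈ T) (hcard : T.card = S.card) :
    Nat.card (fixG G S) = Nat.card (fixG G T) := by
  have hTS : ∀ b ∈ T, g⁻¹ b ∈ S := by
    have himg : S.image g = T := by
      apply Finset.eq_of_subset_of_card_le
      · intro b hb
        rw [Finset.mem_image] at hb
        obtain ⟨a, ha, rfl⟩ := hb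
        exact hST a ha
      · rw [Finset.card_image_of_injective _ g.injective]
        exact hcard.le
    intro b hb
    rw [← himg, Finset.mem_image] at hb
    obtain ⟨a, ha, rfl⟩ := hb
    simpa using ha
  apply Nat.card_congr
  refine ⟨fun h => ⟨g * h.1 * g⁻¹, conj_mem_fixG hg hST hcard.le h.2⟩,
    fun h => ⟨g⁻¹ * h.1 * g, ?_⟩, ?_, ?_⟩
  · have := conj_mem_fixG (G.inv_mem hg) hTS hcard.symm.le h.2
    simpa using this
  · intro h
    apply Subtype.ext
    show g⁻¹ * (g * h.1 * g⁻¹) * g = h.1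
    group
  · intro h
    apply Subtype.ext
    show g * (g⁻¹ * h.1 * g) * g⁻¹ = h.1
    group

end Cfsg.Agent.Lib.Helper61.KAlt
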