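import Mathlib
import Cfsg.Agent.Lib.Helper61.KAlt1

set_option autoImplicit false
set_option linter.unusedVariables false
set_option linter.unusedSectionVars false

namespace Cfsg.Agent.Lib.Helper61.KAlt

open Equiv Equiv.Perm
open Cfsg.Agent.Lib.Helper61.Miller

variable {α : Type*} [Fintype α] [DecidableEq α]

/-- two points lie in one orbit of `K` -/
def SameOrb (K : Subgroup (Perm α)) (u v : α) : Prop := ∃ κ ∈ K, κ u = v

theorem SameOrb.symm {K : Subgroup (Perm α)} {u v : α} (h : SameOrb K u v) : SameOrb K v u := by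
  obtain ⟨κ, hκ, h1⟩ := h
  refine ⟨κ⁻¹, K.inv_mem hκ, ?_⟩
  rw [← h1]; simp

theorem SameOrb.refl (K : Subgroup (Perm α)) (u : α) : SameOrb K u u := ⟨1, K.one_mem, rfl⟩

theorem SameOrb.trans {K : Subgroup (Perm α)} {u v w : α} (h1 : SameOrb K u v)
    (h2 : SameOrb K v w) : SameOrb K u w := by
  obtain ⟨κ, hκ, e1⟩ := h1
  obtain ⟨κ', hκ', e2⟩ := h2
  refine ⟨κ' * κ, K.mul_mem hκ' hκ, ?_⟩
  rw [Perm.mul_apply, e1, e2]

theorem inv_apply_of {g : Perm α} {a b : α} (h : g a = b) : g⁻¹ b = a := by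
  rw [← h]; simp

/-- an element of `fixG G Γ` maps the complement of `Γ` to itself -/
theorem fixG_notin {G : Subgroup (Perm α)} {Γ : Finset α} {κ : Perm α} (hκ : κ ∈ fixG G Γ)
    {ω : α} (hω : ω ∉ Γ) : κ ω ∉ Γ := by
  intro h
  have h1 := hκ.2 _ h
  have := κ.injective h1
  rw [this] at h
  exact hω h

/-- a permutation preserving `Γ` maps the complement of `Γ` to itself -/
theorem pres_notin {Γ : Finset α} {z : Perm α} (hz : ∀ a ∈ Γ, z a ∈ Γ) {ω : α} (hω : ω ∉ Γ) :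
    z ω ∉ Γ := by
  intro h
  have himg : Γ.image z = Γ := by
    apply Finset.eq_of_subset_of_card_le
    · intro b hb
      rw [Finset.mem_image] at hb
      obtain ⟨a, ha, rfl⟩ := hb
      exact hz a ha
    · rw [Finset.card_image_of_injective _ z.injective]
  rw [← himg, Finset.mem_image] at h
  obtain ⟨a, ha, hab⟩ := h
  have := z.injective hab
  rw [this] at ha
  exact hω ha

theorem pres_inv {Γ : Finset α} {z : Perm α} (hz : ∀ a ∈ Γ, z a ∈ Γ) : ∀ a ∈ Γ, z⁻¹ a ∈ Γ := by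
  intro a ha
  by_contra h
  have := pres_notin hz h
  simp at this
  exact this ha

theorem pres_mul {Γ : Finset α} {z w : Perm α} (hz : ∀ a ∈ Γ, z a ∈ Γ) (hw : ∀ a ∈ Γ, w a ∈ Γ) :
    ∀ a ∈ Γ, (z * w) a ∈ Γ := by
  intro a ha
  rw [Perm.mul_apply]
  exact hz _ (hw a ha)

theorem pres_of_fixG {G : Subgroup (Perm α)} {Γ : Finset α} {κ : Perm α} (hκ : κ ∈ fixG G Γ) :
    ∀ a ∈ Γ, κ a ∈ Γ := by
  intro a ha
  rw [hκ.2 a ha]; exact ha

/-- a `Γ`-preserving element normalizes `fixG G Γ` -/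
theorem conj_fixG {G : Subgroup (Perm α)} {Γ : Finset α} {z κ : Perm α} (hz : z ∈ G)
    (hzΓ : ∀ a ∈ Γ, z a ∈ Γ) (hκ : κ ∈ fixG G Γ) : z⁻¹ * κ * z ∈ fixG G Γ := by
  refine ⟨G.mul_mem (G.mul_mem (G.inv_mem hz) hκ.1) hz, ?_⟩
  intro a ha
  simp only [Perm.mul_apply]
  rw [hκ.2 _ (hzΓ a ha)]
  simp

theorem conj_fixG' {G : Subgroup (Perm α)} {Γ : Finset α} {z κ : Perm α} (hz : z ∈ G)
    (hzΓ : ∀ a ∈ Γ, z a ∈ Γ) (hκ : κ ∈ fixG G Γ) : z * κ * z⁻¹ ∈ fixG G Γ := by
  have := conj_fixG (G.inv_mem hz) (pres_inv hzΓ) hκ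
  simpa using this

/-- a lift `s` of the action of `z` on `Γ` fixing `ω` makes `ω` a good point -/
theorem good_of_lift {G : Subgroup (Perm α)} {Γ : Finset α} {z s : Perm α} (hz : z ∈ G)
    (hs : s ∈ G) (hsz : ∀ a ∈ Γ, s a = z a) {ω : α} (hsω : s ω = ω) :
    ∃ κ ∈ fixG G Γ, z (κ ω) = ω := by
  refine ⟨z⁻¹ * s, ⟨G.mul_mem (G.inv_mem hz) hs, ?_⟩, ?_⟩
  · intro a ha
    rw [Perm.mul_apply, hsz a ha]; simp
  · rw [Perm.mul_apply, hsω]; simp

/-- **Lemma C**: the counting lemma. -/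
theorem lemmaC (G : Subgroup (Perm α)) (k : ℕ) (hS : Star G k) (Γ : Finset α) (hΓ : Γ.card = k)
    (z : Perm α) (hz : z ∈ G) (hzΓ : ∀ a ∈ Γ, z a ∈ Γ) (m : ℕ)
    (hm : (Γ.filter (fun a => z a ≠ a)).card ≤ m) (hm1 : ∃ a ∈ Γ, z a ≠ a)
    (P : Finset α) (hPΓ : ∀ ω ∈ P, ω ∉ Γ) (hgood : ∀ ω ∈ P, ∃ κ ∈ fixG G Γ, z (κ ω) = ω)
    (hdist : ∀ ω ∈ P, ∀ ω' ∈ P, ω ≠ ω' → ¬ SameOrb (fixG G Γ) ω ω') : P.card ≤ m := by
  classical
  let KF : Finset (Perm α) := Finset.univ.filter (fun g => g ∈ fixG G Γ)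
  have hKF : ∀ g, g ∈ KF ↔ g ∈ fixG G Γ := fun g => by simp [KF]
  let Good : Finset α := Finset.univ.filter (fun ω => ω ∉ Γ ∧ ∃ κ ∈ fixG G Γ, z (κ ω) = ω)
  have hGood : ∀ ω, ω ∈ Good ↔ (ω ∉ Γ ∧ ∃ κ ∈ fixG G Γ, z (κ ω) = ω) := fun ω => by simp [Good]
  -- upper bound
  have hout : ∀ κ ∈ KF, (Finset.univ.filter (fun ω => ω ∉ Γ ∧ z (κ ω) = ω)).card ≤ m := by
    intro κ hκ
    rw [hKF] at hκ
    have hne : z * κ ≠ 1 := by
      obtain ⟨a, ha, hza⟩ := hm1
      intro h1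
      have := congrArg (fun f : Perm α => f a) h1
      simp only [Perm.mul_apply, Perm.one_apply] at this
      rw [hκ.2 a ha] at this
      exact hza this
    have h1 := hS (z * κ) (G.mul_mem hz hκ.1) hne
    have hsplit : (Γ.filter (fun a => z a = a)) ∪
        (Finset.univ.filter (fun ω => ω ∉ Γ ∧ z (κ ω) = ω)) ⊆ fixS (z * κ) := by
      intro a ha
      rw [mem_fixS, Perm.mul_apply]
      rcases Finset.mem_union.mp ha with ha | ha
      · rw [Finset.mem_filter] at ha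
        rw [hκ.2 a ha.1]; exact ha.2
      · rw [Finset.mem_filter] at ha
        exact ha.2.2
    have hdisj : Disjoint (Γ.filter (fun a => z a = a))
        (Finset.univ.filter (fun ω => ω ∉ Γ ∧ z (κ ω) = ω)) := by
      rw [Finset.disjoint_left]
      intro a ha hb
      rw [Finset.mem_filter] at ha hb
      exact hb.2.1 ha.1
    have h2 := Finset.card_le_card hsplit
    rw [Finset.card_union_of_disjoint hdisj] at h2
    have h3 : (Γ.filter (fun a => z a = a)).card + (Γ.filter (fun a => z a ≠ a)).card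
        = Γ.card := by
      have := Finset.card_filter_add_card_filter_not (s := Γ) (fun a => z a = a)
      convert this using 2
    omega
  have hupper : Good.card ≤ KF.card * m := by
    have hsub : Good ⊆ KF.biUnion (fun κ => Finset.univ.filter (fun ω => ω ∉ Γ ∧ z (κ ω) = ω)) := by
      intro ω hω
      rw [hGood] at hω
      obtain ⟨h1, κ, hκ, h2⟩ := hω
      rw [Finset.mem_biUnion]
      exact ⟨κ, (hKF κ).mpr hκ, by simp [h1, h2]⟩
    calc Good.card ≤ _ := Finset.card_le_card hsub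
      _ ≤ ∑ κ ∈ KF, (Finset.univ.filter (fun ω => ω ∉ Γ ∧ z (κ ω) = ω)).card :=
          Finset.card_biUnion_le
      _ ≤ KF.card • m := Finset.sum_le_card_nsmul _ _ _ hout
      _ = KF.card * m := by simp
  -- lower bound
  have hlower : KF.card * P.card ≤ Good.card := by
    rw [← Finset.card_product]
    apply Finset.card_le_card_of_injOn (fun p => p.1 p.2)
    · intro p hp
      have hp' := Finset.mem_product.mp hp
      have hκ := (hKF p.1).mp hp'.1
      have hω := hp'.2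
      show p.1 p.2 ∈ Good
      rw [hGood]
      refine ⟨fixG_notin hκ (hPΓ _ hω), ?_⟩
      obtain ⟨κω, hκω, h1⟩ := hgood _ hω
      refine ⟨z⁻¹ * p.1 * z * κω * p.1⁻¹, ?_, ?_⟩
      · exact (fixG G Γ).mul_mem ((fixG G Γ).mul_mem (conj_fixG hz hzΓ hκ) hκω)
          ((fixG G Γ).inv_mem hκ)
      · simp only [Perm.mul_apply]
        simp [h1]
    · intro p hp q hq hpq
      have hp' := Finset.mem_product.mp hp
      have hq' := Finset.mem_product.mp hq
      have hκp := (hKF p.1).mp hp'.1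
      have hκq := (hKF q.1).mp hq'.1
      have hpq' : p.1 p.2 = q.1 q.2 := hpq
      have h2 : (q.1⁻¹ * p.1) p.2 = q.2 := by
        rw [Perm.mul_apply, hpq']; simp
      have hmem : q.1⁻¹ * p.1 ∈ fixG G Γ := (fixG G Γ).mul_mem ((fixG G Γ).inv_mem hκq) hκp
      have hω : p.2 = q.2 := by
        by_contra hne
        exact hdist _ hp'.2 _ hq'.2 hne ⟨_, hmem, h2⟩
      have hone : q.1⁻¹ * p.1 = 1 := by
        apply hS.eq_one hmem.1 (insert p.2 Γ)
        · rw [Finset.card_insert_of_notMem (hPΓ _ hp'.2)]; omega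
        · intro a ha
          rcases Finset.mem_insert.mp ha with rfl | ha
          · rw [h2, hω]
          · exact hmem.2 a ha
      have hκ : p.1 = q.1 := by
        have := congrArg (fun f => q.1 * f) hone
        simpa using this
      exact Prod.ext hκ hω
  have hpos : 0 < KF.card := Finset.card_pos.mpr ⟨1, (hKF 1).mpr (fixG G Γ).one_mem⟩
  have : KF.card * P.card ≤ KF.card * m := le_trans hlower hupper
  exact Nat.le_of_mul_le_mul_left this hpos

end Cfsg.Agent.Lib.Helper61.KAlt
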