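import Mathlib
import Cfsg.Agent.Lib.Helper61.KAlt2

set_option autoImplicit false
set_option linter.unusedVariables false
set_option linter.unusedSectionVars false

namespace Cfsg.Agent.Lib.Helper61.KAlt

open Equiv Equiv.Perm
open Cfsg.Agent.Lib.Helper61.Miller

variable {α : Type*} [Fintype α] [DecidableEq α]

/-- `s` acts on `Γ` as the transposition `(a b)` -/
def IsTr (Γ : Finset α) (s : Perm α) (a b : α) : Prop :=
  s a = b ∧ s b = a ∧ ∀ w ∈ Γ, w ≠ a → w ≠ b → s w = w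

/-- `s` acts on `Γ` as the 3-cycle `(a b c)` -/
def Is3 (Γ : Finset α) (s : Perm α) (a b c : α) : Prop :=
  s a = b ∧ s b = c ∧ s c = a ∧ ∀ w ∈ Γ, w ≠ a → w ≠ b → w ≠ c → s w = w

theorem IsTr.pres {Γ : Finset α} {s : Perm α} {a b : α} (h : IsTr Γ s a b) (ha : a ∈ Γ)
    (hb : b ∈ Γ) : ∀ w ∈ Γ, s w ∈ Γ := by
  intro w hw
  by_cases h1 : w = a
  · rw [h1, h.1]; exact hb
  · by_cases h2 : w = b
    · rw [h2, h.2.1]; exact ha
    · rw [h.2.2 w hw h1 h2]; exact hw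

theorem Is3.pres {Γ : Finset α} {s : Perm α} {a b c : α} (h : Is3 Γ s a b c) (ha : a ∈ Γ)
    (hb : b ∈ Γ) (hc : c ∈ Γ) : ∀ w ∈ Γ, s w ∈ Γ := by
  intro w hw
  by_cases h1 : w = a
  · rw [h1, h.1]; exact hb
  · by_cases h2 : w = b
    · rw [h2, h.2.1]; exact hc
    · by_cases h3 : w = c
      · rw [h3, h.2.2.1]; exact ha
      · rw [h.2.2.2 w hw h1 h2 h3]; exact hw

theorem IsTr.inv {Γ : Finset α} {s : Perm α} {a b : α} (h : IsTr Γ s a b) : IsTr Γ s⁻¹ a b :=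
  ⟨inv_apply_of h.2.1, inv_apply_of h.1, fun w hw h1 h2 => inv_apply_of (h.2.2 w hw h1 h2)⟩

theorem Is3.inv {Γ : Finset α} {s : Perm α} {a b c : α} (h : Is3 Γ s a b c) : Is3 Γ s⁻¹ c b a :=
  ⟨inv_apply_of h.2.1, inv_apply_of h.1, inv_apply_of h.2.2.1,
    fun w hw h1 h2 h3 => inv_apply_of (h.2.2.2 w hw h3 h2 h1)⟩

theorem IsTr.congr {Γ : Finset α} {s s' : Perm α} {a b : α} (h : IsTr Γ s a b) (ha : a ∈ Γ)
    (hb : b ∈ Γ) (hst : ∀ w ∈ Γ, s' w = s w) : IsTr Γ s' a b :=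
  ⟨(hst a ha).trans h.1, (hst b hb).trans h.2.1,
    fun w hw h1 h2 => (hst w hw).trans (h.2.2 w hw h1 h2)⟩

theorem Is3.congr {Γ : Finset α} {s s' : Perm α} {a b c : α} (h : Is3 Γ s a b c) (ha : a ∈ Γ)
    (hb : b ∈ Γ) (hc : c ∈ Γ) (hst : ∀ w ∈ Γ, s' w = s w) : Is3 Γ s' a b c :=
  ⟨(hst a ha).trans h.1, (hst b hb).trans h.2.1, (hst c hc).trans h.2.2.1,
    fun w hw h1 h2 h3 => (hst w hw).trans (h.2.2.2 w hw h1 h2 h3)⟩

theorem Is3.agree {Γ : Finset α} {s z : Perm α} {a b c : α} (h1 : Is3 Γ s a b c)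
    (h2 : Is3 Γ z a b c) : ∀ w ∈ Γ, s w = z w := by
  intro w hw
  by_cases e1 : w = a
  · rw [e1, h1.1, h2.1]
  · by_cases e2 : w = b
    · rw [e2, h1.2.1, h2.2.1]
    · by_cases e3 : w = c
      · rw [e3, h1.2.2.1, h2.2.2.1]
      · rw [h1.2.2.2 w hw e1 e2 e3, h2.2.2.2 w hw e1 e2 e3]

theorem IsTr.filter_card {Γ : Finset α} {s : Perm α} {a b : α} (h : IsTr Γ s a b) :
    (Γ.filter (fun w => s w ≠ w)).card ≤ 2 := by
  have hsub : Γ.filter (fun w => s w ≠ w) ⊆ {a, b} := by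
    intro w hw
    rw [Finset.mem_filter] at hw
    rw [Finset.mem_insert, Finset.mem_singleton]
    by_contra hcon
    push Not at hcon
    exact hw.2 (h.2.2 w hw.1 hcon.1 hcon.2)
  exact (Finset.card_le_card hsub).trans Finset.card_le_two

theorem Is3.filter_card {Γ : Finset α} {s : Perm α} {a b c : α} (h : Is3 Γ s a b c) :
    (Γ.filter (fun w => s w ≠ w)).card ≤ 3 := by
  have hsub : Γ.filter (fun w => s w ≠ w) ⊆ {a, b, c} := by
    intro w hw
    rw [Finset.mem_filter] at hw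
    rw [Finset.mem_insert, Finset.mem_insert, Finset.mem_singleton]
    by_contra hcon
    push Not at hcon
    exact hw.2 (h.2.2.2 w hw.1 hcon.1 hcon.2.1 hcon.2.2)
  exact (Finset.card_le_card hsub).trans Finset.card_le_three

theorem conj_tr_3 {Γ : Finset α} {t u : Perm α} {a b c : α} (ht : IsTr Γ t a b)
    (hu : Is3 Γ u c b a) (hc : c ∈ Γ) (hac : a ≠ c) (hbc : b ≠ c) :
    Is3 Γ (t * u * t⁻¹) a b c := by
  have hti := ht.inv
  refine ⟨?_, ?_, ?_, ?_⟩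
  · simp only [Perm.mul_apply]
    rw [hti.1, hu.2.1, ht.1]
  · simp only [Perm.mul_apply]
    rw [hti.2.1, hu.2.2.1, ht.2.2 c hc (Ne.symm hac) (Ne.symm hbc)]
  · simp only [Perm.mul_apply]
    rw [hti.2.2 c hc (Ne.symm hac) (Ne.symm hbc), hu.1, ht.2.1]
  · intro w hw h1 h2 h3
    simp only [Perm.mul_apply]
    rw [hti.2.2 w hw h1 h2, hu.2.2.2 w hw h3 h2 h1, ht.2.2 w hw h1 h2]

theorem exists_notin {Γ : Finset α} (T : Finset α) (h : T.card < Γ.card) : ∃ d ∈ Γ, d ∉ T :=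
  Finset.exists_mem_notMem_of_card_lt_card h

/-- the hypothesis (A): every element of `G` stabilizing `insert x Γ` fixes `x` -/
def HA (G : Subgroup (Perm α)) (Γ : Finset α) (x : α) : Prop :=
  ∀ g ∈ G, (∀ a ∈ insert x Γ, g a ∈ insert x Γ) → g x = x

/-- `v` fixes `Γ - y` pointwise and maps `x` to `y` -/
def IsV (G : Subgroup (Perm α)) (Γ : Finset α) (x y : α) (v : Perm α) : Prop :=
  v ∈ G ∧ v x = y ∧ ∀ a ∈ Γ, a ≠ y → v a = a

theorem exists_isV {G : Subgroup (Perm α)} {k : ℕ} (hE : Ext G k) {Γ : Finset α}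
    (hΓ : Γ.card = k) {x y : α} (hx : x ∉ Γ) (hy : y ∈ Γ) : ∃ v, IsV G Γ x y v := by
  classical
  have hxe : x ∉ Γ.erase y := fun h => hx (Finset.mem_of_mem_erase h)
  have hcard : (insert x (Γ.erase y)).card ≤ k := by
    rw [Finset.card_insert_of_notMem hxe, Finset.card_erase_of_mem hy]
    have : 0 < Γ.card := Finset.card_pos.mpr ⟨y, hy⟩
    omega
  have hf : Set.InjOn (fun a => if a = x then y else a)
      ((insert x (Γ.erase y) : Finset α) : Set α) := by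
    intro a ha b hb hab
    simp only [Finset.coe_insert, Set.mem_insert_iff, Finset.mem_coe, Finset.mem_erase] at ha hb
    by_cases h1 : a = x <;> by_cases h2 : b = x
    · rw [h1, h2]
    · simp only [if_pos h1, if_neg h2] at hab
      rcases hb with hb | hb
      · exact absurd hb h2
      · exact absurd hab.symm hb.1
    · simp only [if_neg h1, if_pos h2] at hab
      rcases ha with ha | ha
      · exact absurd ha h1
      · exact absurd hab ha.1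
    · simp only [if_neg h1, if_neg h2] at hab; exact hab
  obtain ⟨g, hg, hgs⟩ := hE _ hcard _ hf
  refine ⟨g, hg, ?_, ?_⟩
  · have := hgs x (Finset.mem_insert_self _ _)
    simpa using this
  · intro a ha hay
    have hax : a ≠ x := fun h => hx (h ▸ ha)
    have := hgs a (Finset.mem_insert_of_mem (Finset.mem_erase.mpr ⟨hay, ha⟩))
    simpa [hax] using this

section facts
variable {G : Subgroup (Perm α)} {Γ : Finset α} {x y : α} {v : Perm α}

theorem IsV.notin (hv : IsV G Γ x y v) (hx : x ∉ Γ) (hy : y ∈ Γ) : v y ∉ Γ := by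
  intro h
  by_cases e : v y = y
  · have h1 : v y = v x := by rw [e, hv.2.1]
    have h2 := v.injective h1
    exact hx (h2 ▸ hy)
  · have h1 := hv.2.2 _ h e
    exact e (v.injective h1)

theorem IsV.inv_mem (hv : IsV G Γ x y v) {b : α} (hb : b ∈ Γ) : v⁻¹ b ∈ insert x Γ := by
  by_cases e : b = y
  · rw [e, inv_apply_of hv.2.1]; exact Finset.mem_insert_self _ _
  · rw [inv_apply_of (hv.2.2 b hb e)]; exact Finset.mem_insert_of_mem hb

theorem IsV.ne_x (hA : HA G Γ x) (hv : IsV G Γ x y v) (hx : x ∉ Γ) (hy : y ∈ Γ) : v y ≠ x := by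
  intro h
  have h1 : ∀ a ∈ insert x Γ, v a ∈ insert x Γ := by
    intro a ha
    rcases Finset.mem_insert.mp ha with h0 | ha
    · rw [h0, hv.2.1]; exact Finset.mem_insert_of_mem hy
    · by_cases e : a = y
      · rw [e, h]; exact Finset.mem_insert_self _ _
      · rw [hv.2.2 a ha e]; exact Finset.mem_insert_of_mem ha
  have h2 := hA v hv.1 h1
  rw [hv.2.1] at h2
  exact hx (h2 ▸ hy)

theorem F2 (hA : HA G Γ x) (hv : IsV G Γ x y v) (hx : x ∉ Γ) (hy : y ∈ Γ) {s : Perm α}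
    (hs : s ∈ G) (hsΓ : ∀ a ∈ Γ, s a ∈ Γ) (hsf : s (v y) = v y) : s y = y := by
  have h1 : ∀ a ∈ insert x Γ, (v⁻¹ * s * v) a ∈ insert x Γ := by
    intro a ha
    simp only [Perm.mul_apply]
    rcases Finset.mem_insert.mp ha with h0 | ha
    · rw [h0, hv.2.1]; exact hv.inv_mem (hsΓ y hy)
    · by_cases e : a = y
      · rw [e, hsf, show v⁻¹ (v y) = y by simp]; exact Finset.mem_insert_of_mem hy
      · rw [hv.2.2 a ha e]; exact hv.inv_mem (hsΓ a ha)
  have h2 := hA _ (G.mul_mem (G.mul_mem (G.inv_mem hv.1) hs) hv.1) h1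
  simp only [Perm.mul_apply] at h2
  rw [hv.2.1] at h2
  have h3 : s y = v x := Perm.inv_eq_iff_eq.mp h2
  rw [h3, hv.2.1]

theorem F3 (hv : IsV G Γ x y v) (hy : y ∈ Γ) {s' : Perm α} (hs : s' ∈ G)
    (hsΓ : ∀ a ∈ Γ, s' a ∈ Γ) (hsx : s' x = x) (hsy : s' y = y) :
    v * s' * v⁻¹ ∈ G ∧ (∀ a ∈ Γ, (v * s' * v⁻¹) a = s' a) ∧ (v * s' * v⁻¹) (v y) = v y := by
  refine ⟨G.mul_mem (G.mul_mem hv.1 hs) (G.inv_mem hv.1), ?_, ?_⟩
  · intro a ha
    simp only [Perm.mul_apply]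
    by_cases e : a = y
    · rw [e, inv_apply_of hv.2.1, hsx, hv.2.1, hsy]
    · rw [inv_apply_of (hv.2.2 a ha e)]
      have : s' a ≠ y := fun h => e (s'.injective (h.trans hsy.symm))
      exact hv.2.2 _ (hsΓ a ha) this
  · simp only [Perm.mul_apply]
    rw [show v⁻¹ (v y) = y by simp, hsy]

theorem F4 (hA : HA G Γ x) (hv : IsV G Γ x y v) (hx : x ∉ Γ) (hy : y ∈ Γ) {s : Perm α}
    (hs : s ∈ G) (hsΓ : ∀ a ∈ Γ, s a ∈ Γ) (hsf : s (v y) = v y) :
    v⁻¹ * s * v ∈ G ∧ (∀ a ∈ Γ, (v⁻¹ * s * v) a = s a) ∧ (v⁻¹ * s * v) x = x := by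
  have hsy := F2 hA hv hx hy hs hsΓ hsf
  refine ⟨G.mul_mem (G.mul_mem (G.inv_mem hv.1) hs) hv.1, ?_, ?_⟩
  · intro a ha
    simp only [Perm.mul_apply]
    by_cases e : a = y
    · rw [e, hsf, hsy]; simp
    · rw [hv.2.2 a ha e]
      have : s a ≠ y := fun h => e (s.injective (h.trans hsy.symm))
      exact inv_apply_of (hv.2.2 _ (hsΓ a ha) this)
  · simp only [Perm.mul_apply]
    rw [hv.2.1, hsy]; exact inv_apply_of hv.2.1

theorem D1 (hA : HA G Γ x) (hv : IsV G Γ x y v) (hx : x ∉ Γ) (hy : y ∈ Γ) {w : Perm α}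
    (hw : w ∈ G) (hwΓ : ∀ a ∈ Γ, w a ∈ Γ) (hwx : w x = v y) : False := by
  have h1 : ∀ a ∈ insert x Γ, (v⁻¹ * w) a ∈ insert x Γ := by
    intro a ha
    simp only [Perm.mul_apply]
    rcases Finset.mem_insert.mp ha with h0 | ha
    · rw [h0, hwx, show v⁻¹ (v y) = y by simp]; exact Finset.mem_insert_of_mem hy
    · exact hv.inv_mem (hwΓ a ha)
  have h2 := hA _ (G.mul_mem (G.inv_mem hv.1) hw) h1
  simp only [Perm.mul_apply] at h2
  rw [hwx, show v⁻¹ (v y) = y by simp] at h2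
  exact hx (h2 ▸ hy)

theorem D2 (hA : HA G Γ x) {y1 y2 : α} {v1 v2 : Perm α} (hv1 : IsV G Γ x y1 v1)
    (hv2 : IsV G Γ x y2 v2) (hx : x ∉ Γ) (hy1 : y1 ∈ Γ) (hy2 : y2 ∈ Γ) (hne : y1 ≠ y2)
    {κ : Perm α} (hκ : κ ∈ fixG G Γ) (h : κ (v1 y1) = v2 y2) : False := by
  have h1 : ∀ a ∈ insert x Γ, (v2⁻¹ * κ * v1) a ∈ insert x Γ := by
    intro a ha
    simp only [Perm.mul_apply]
    rcases Finset.mem_insert.mp ha with h0 | ha
    · rw [h0, hv1.2.1, hκ.2 y1 hy1]; exact hv2.inv_mem hy1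
    · by_cases e : a = y1
      · rw [e, h, show v2⁻¹ (v2 y2) = y2 by simp]; exact Finset.mem_insert_of_mem hy2
      · rw [hv1.2.2 a ha e, hκ.2 a ha]; exact hv2.inv_mem ha
  have h2 := hA _ (G.mul_mem (G.mul_mem (G.inv_mem hv2.1) hκ.1) hv1.1) h1
  simp only [Perm.mul_apply] at h2
  rw [hv1.2.1, hκ.2 y1 hy1, inv_apply_of (hv2.2.2 y1 hy1 hne)] at h2
  exact hx (h2 ▸ hy1)

end facts

/-- Lemma C for three points and `m = 2` -/
theorem lemmaC3 (G : Subgroup (Perm α)) (k : ℕ) (hS : Star G k) (Γ : Finset α) (hΓ : Γ.card = k)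
    (z : Perm α) (hz : z ∈ G) (hzΓ : ∀ a ∈ Γ, z a ∈ Γ)
    (hm : (Γ.filter (fun a => z a ≠ a)).card ≤ 2) (hm1 : ∃ a ∈ Γ, z a ≠ a)
    (p1 p2 p3 : α) (hp1 : p1 ∉ Γ) (hp2 : p2 ∉ Γ) (hp3 : p3 ∉ Γ)
    (g1 : ∃ κ ∈ fixG G Γ, z (κ p1) = p1) (g2 : ∃ κ ∈ fixG G Γ, z (κ p2) = p2)
    (g3 : ∃ κ ∈ fixG G Γ, z (κ p3) = p3)
    (d12 : ¬ SameOrb (fixG G Γ) p1 p2) (d13 : ¬ SameOrb (fixG G Γ) p1 p3)
    (d23 : ¬ SameOrb (fixG G Γ) p2 p3) : False := by
  have n12 : p1 ≠ p2 := fun h => d12 (h ▸ SameOrb.refl _ _)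
  have n13 : p1 ≠ p3 := fun h => d13 (h ▸ SameOrb.refl _ _)
  have n23 : p2 ≠ p3 := fun h => d23 (h ▸ SameOrb.refl _ _)
  have hcard : ({p1, p2, p3} : Finset α).card = 3 := by
    rw [Finset.card_insert_of_notMem, Finset.card_insert_of_notMem, Finset.card_singleton]
    · simpa using n23
    · simp [n12, n13]
  have := lemmaC G k hS Γ hΓ z hz hzΓ 2 hm hm1 {p1, p2, p3} ?_ ?_ ?_
  · omega
  · intro ω hω
    simp only [Finset.mem_insert, Finset.mem_singleton] at hω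
    rcases hω with rfl | rfl | rfl <;> assumption
  · intro ω hω
    simp only [Finset.mem_insert, Finset.mem_singleton] at hω
    rcases hω with rfl | rfl | rfl <;> assumption
  · intro ω hω ω' hω' hne
    simp only [Finset.mem_insert, Finset.mem_singleton] at hω hω'
    rcases hω with rfl | rfl | rfl <;> rcases hω' with rfl | rfl | rfl <;>
      first
        | exact absurd rfl hne
        | assumption
        | exact fun h => d12 h.symm
        | exact fun h => d13 h.symm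
        | exact fun h => d23 h.symm

/-- Lemma C for four points and `m = 3` -/
theorem lemmaC4 (G : Subgroup (Perm α)) (k : ℕ) (hS : Star G k) (Γ : Finset α) (hΓ : Γ.card = k)
    (z : Perm α) (hz : z ∈ G) (hzΓ : ∀ a ∈ Γ, z a ∈ Γ)
    (hm : (Γ.filter (fun a => z a ≠ a)).card ≤ 3) (hm1 : ∃ a ∈ Γ, z a ≠ a)
    (p1 p2 p3 p4 : α) (hp1 : p1 ∉ Γ) (hp2 : p2 ∉ Γ) (hp3 : p3 ∉ Γ) (hp4 : p4 ∉ Γ)
    (g1 : ∃ κ ∈ fixG G Γ, z (κ p1) = p1) (g2 : ∃ κ ∈ fixG G Γ, z (κ p2) = p2)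
    (g3 : ∃ κ ∈ fixG G Γ, z (κ p3) = p3) (g4 : ∃ κ ∈ fixG G Γ, z (κ p4) = p4)
    (d12 : ¬ SameOrb (fixG G Γ) p1 p2) (d13 : ¬ SameOrb (fixG G Γ) p1 p3)
    (d14 : ¬ SameOrb (fixG G Γ) p1 p4) (d23 : ¬ SameOrb (fixG G Γ) p2 p3)
    (d24 : ¬ SameOrb (fixG G Γ) p2 p4) (d34 : ¬ SameOrb (fixG G Γ) p3 p4) : False := by
  have n12 : p1 ≠ p2 := fun h => d12 (h ▸ SameOrb.refl _ _)
  have n13 : p1 ≠ p3 := fun h => d13 (h ▸ SameOrb.refl _ _)
  have n14 : p1 ≠ p4 := fun h => d14 (h ▸ SameOrb.refl _ _)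
  have n23 : p2 ≠ p3 := fun h => d23 (h ▸ SameOrb.refl _ _)
  have n24 : p2 ≠ p4 := fun h => d24 (h ▸ SameOrb.refl _ _)
  have n34 : p3 ≠ p4 := fun h => d34 (h ▸ SameOrb.refl _ _)
  have hcard : ({p1, p2, p3, p4} : Finset α).card = 4 := by
    rw [Finset.card_insert_of_notMem, Finset.card_insert_of_notMem,
      Finset.card_insert_of_notMem, Finset.card_singleton]
    · simpa using n34
    · simp [n23, n24]
    · simp [n12, n13, n14]
  have := lemmaC G k hS Γ hΓ z hz hzΓ 3 hm hm1 {p1, p2, p3, p4} ?_ ?_ ?_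
  · omega
  · intro ω hω
    simp only [Finset.mem_insert, Finset.mem_singleton] at hω
    rcases hω with rfl | rfl | rfl | rfl <;> assumption
  · intro ω hω
    simp only [Finset.mem_insert, Finset.mem_singleton] at hω
    rcases hω with rfl | rfl | rfl | rfl <;> assumption
  · intro ω hω ω' hω' hne
    simp only [Finset.mem_insert, Finset.mem_singleton] at hω hω'
    rcases hω with rfl | rfl | rfl | rfl <;> rcases hω' with rfl | rfl | rfl | rfl <;>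
      first
        | exact absurd rfl hne
        | assumption
        | exact fun h => d12 h.symm
        | exact fun h => d13 h.symm
        | exact fun h => d14 h.symm
        | exact fun h => d23 h.symm
        | exact fun h => d24 h.symm
        | exact fun h => d34 h.symm

end Cfsg.Agent.Lib.Helper61.KAlt
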