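import Mathlib
import Cfsg.Agent.Lib.Helper61.KAlt3

set_option autoImplicit false
set_option linter.unusedVariables false
set_option linter.unusedSectionVars false

namespace Cfsg.Agent.Lib.Helper61.KAlt

open Equiv Equiv.Perm
open Cfsg.Agent.Lib.Helper61.Miller

variable {α : Type*} [Fintype α] [DecidableEq α]

/-- a lift of the transposition `(a b)` of `Γ` -/
theorem exists_isTr {G : Subgroup (Perm α)} {k : ℕ} (hE : Ext G k) {Γ : Finset α}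
    (hΓ : Γ.card = k) {a b : α} (ha : a ∈ Γ) (hb : b ∈ Γ) : ∃ t ∈ G, IsTr Γ t a b := by
  obtain ⟨t, ht, hts⟩ := hE Γ hΓ.le (swap a b) (swap a b).injective.injOn
  refine ⟨t, ht, ?_, ?_, ?_⟩
  · rw [hts a ha, swap_apply_left]
  · rw [hts b hb, swap_apply_right]
  · intro w hw h1 h2
    rw [hts w hw, swap_apply_of_ne_of_ne h1 h2]

theorem case1 {G : Subgroup (Perm α)} {k : ℕ} (hS : Star G k) (hE : Ext G k) (hk : 4 ≤ k)
    {Γ : Finset α} (hΓ : Γ.card = k) {x : α} (hx : x ∉ Γ) (hA : HA G Γ x)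
    {t₀ : Perm α} {a b : α} (ht : t₀ ∈ G) (htx : t₀ x = x) (ha : a ∈ Γ) (hb : b ∈ Γ)
    (hab : a ≠ b) (htr : IsTr Γ t₀ a b) : False := by
  classical
  obtain ⟨y1, hy1, hy1n⟩ := exists_notin (Γ := Γ) {a, b}
    (lt_of_le_of_lt Finset.card_le_two (by omega))
  obtain ⟨y2, hy2, hy2n⟩ := exists_notin (Γ := Γ) {a, b, y1}
    (lt_of_le_of_lt Finset.card_le_three (by omega))
  simp only [Finset.mem_insert, Finset.mem_singleton, not_or] at hy1n hy2n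
  obtain ⟨v1, hv1⟩ := exists_isV hE hΓ hx hy1
  obtain ⟨v2, hv2⟩ := exists_isV hE hΓ hx hy2
  have htΓ := htr.pres ha hb
  have hy12 : y1 ≠ y2 := fun h => hy2n.2.2 h.symm
  refine lemmaC3 G k hS Γ hΓ t₀ ht htΓ htr.filter_card ⟨a, ha, by rw [htr.1]; exact Ne.symm hab⟩
    x (v1 y1) (v2 y2) hx (hv1.notin hx hy1) (hv2.notin hx hy2) ?_ ?_ ?_ ?_ ?_ ?_
  · exact ⟨1, (fixG G Γ).one_mem, by simpa using htx⟩
  · obtain ⟨h1, h2, h3⟩ := F3 hv1 hy1 ht htΓ htx (htr.2.2 y1 hy1 hy1n.1 hy1n.2)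
    exact good_of_lift ht h1 h2 h3
  · obtain ⟨h1, h2, h3⟩ := F3 hv2 hy2 ht htΓ htx (htr.2.2 y2 hy2 hy2n.1 hy2n.2.1)
    exact good_of_lift ht h1 h2 h3
  · rintro ⟨κ, hκ, e⟩
    exact D1 hA hv1 hx hy1 hκ.1 (pres_of_fixG hκ) e
  · rintro ⟨κ, hκ, e⟩
    exact D1 hA hv2 hx hy2 hκ.1 (pres_of_fixG hκ) e
  · rintro ⟨κ, hκ, e⟩
    exact D2 hA hv1 hv2 hx hy1 hy2 hy12 hκ e

theorem case2 {G : Subgroup (Perm α)} {k : ℕ} (hS : Star G k) (hE : Ext G k) (hk : 4 ≤ k)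
    {Γ : Finset α} (hΓ : Γ.card = k) {x : α} (hx : x ∉ Γ) (hA : HA G Γ x) (h3c : GP3 G Γ x)
    (hNT : ∀ s ∈ G, s x = x → ∀ a ∈ Γ, ∀ b ∈ Γ, a ≠ b → IsTr Γ s a b → False) : False := by
  classical
  obtain ⟨a, ha⟩ : ∃ a, a ∈ Γ := Finset.card_pos.mp (by omega)
  obtain ⟨b, hb, hbn⟩ := exists_notin (Γ := Γ) {a} (by rw [Finset.card_singleton]; omega)
  obtain ⟨c, hc, hcn⟩ := exists_notin (Γ := Γ) {a, b}
    (lt_of_le_of_lt Finset.card_le_two (by omega))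
  obtain ⟨y, hy, hyn⟩ := exists_notin (Γ := Γ) {a, b, c}
    (lt_of_le_of_lt Finset.card_le_three (by omega))
  simp only [Finset.mem_insert, Finset.mem_singleton, not_or] at hbn hcn hyn
  have hab : a ≠ b := Ne.symm hbn
  have hac : a ≠ c := Ne.symm hcn.1
  have hbc : b ≠ c := Ne.symm hcn.2
  obtain ⟨z, hz, hzx, hz1, hz2, hz3, hz4⟩ := h3c a ha b hb c hc hab hac hbc
  have hz3' : Is3 Γ z a b c := ⟨hz1, hz2, hz3, hz4⟩
  have hzΓ := hz3'.pres ha hb hc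
  obtain ⟨t, ht, htr⟩ := exists_isTr hE hΓ ha hb
  have htΓ := htr.pres ha hb
  obtain ⟨v, hv⟩ := exists_isV hE hΓ hx hy
  have hzy : z y = y := hz4 y hy hyn.1 hyn.2.1 hyn.2.2
  have hvy := hv.notin hx hy
  -- the transposition-like element `t⁻¹ κ`
  have htrκ : ∀ κ ∈ fixG G Γ, IsTr Γ (t⁻¹ * κ) a b := by
    intro κ hκ
    refine htr.inv.congr ha hb ?_
    intro w hw
    rw [Perm.mul_apply, hκ.2 w hw]
  refine lemmaC4 G k hS Γ hΓ z hz hzΓ hz3'.filter_card ⟨a, ha, by rw [hz1]; exact Ne.symm hab⟩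
    x (t x) (v y) (t (v y)) hx (pres_notin htΓ hx) hvy (pres_notin htΓ hvy)
    ?_ ?_ ?_ ?_ ?_ ?_ ?_ ?_ ?_ ?_
  · exact ⟨1, (fixG G Γ).one_mem, by simpa using hzx⟩
  · -- t x
    have h1 : Is3 Γ (t * z⁻¹ * t⁻¹) a b c := conj_tr_3 htr hz3'.inv hc hac hbc
    refine good_of_lift hz (G.mul_mem (G.mul_mem ht (G.inv_mem hz)) (G.inv_mem ht))
      (h1.agree hz3') ?_
    simp only [Perm.mul_apply]
    rw [show t⁻¹ (t x) = x by simp, inv_apply_of hzx]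
  · -- v y
    obtain ⟨h1, h2, h3⟩ := F3 hv hy hz hzΓ hzx hzy
    exact good_of_lift hz h1 h2 h3
  · -- t (v y)
    obtain ⟨h1, h2, h3⟩ := F3 hv hy (G.inv_mem hz) (pres_inv hzΓ) (inv_apply_of hzx)
      (inv_apply_of hzy)
    have hu : Is3 Γ (v * z⁻¹ * v⁻¹) c b a := hz3'.inv.congr hc hb ha h2
    have h4 : Is3 Γ (t * (v * z⁻¹ * v⁻¹) * t⁻¹) a b c := conj_tr_3 htr hu hc hac hbc
    refine good_of_lift hz (G.mul_mem (G.mul_mem ht h1) (G.inv_mem ht)) (h4.agree hz3') ?_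
    rw [Perm.mul_apply, Perm.mul_apply, show t⁻¹ (t (v y)) = v y by simp, h3]
  · -- x vs t x
    rintro ⟨κ, hκ, e⟩
    refine hNT (t⁻¹ * κ) (G.mul_mem (G.inv_mem ht) hκ.1) ?_ a ha b hb hab (htrκ κ hκ)
    rw [Perm.mul_apply, e]; simp
  · -- x vs v y
    rintro ⟨κ, hκ, e⟩
    exact D1 hA hv hx hy hκ.1 (pres_of_fixG hκ) e
  · -- x vs t (v y)
    rintro ⟨κ, hκ, e⟩
    refine D1 hA hv hx hy (G.mul_mem (G.inv_mem ht) hκ.1)
      (pres_mul (pres_inv htΓ) (pres_of_fixG hκ)) ?_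
    rw [Perm.mul_apply, e]; simp
  · -- t x vs v y
    rintro ⟨κ, hκ, e⟩
    refine D1 hA hv hx hy (G.mul_mem hκ.1 ht) (pres_mul (pres_of_fixG hκ) htΓ) ?_
    rw [Perm.mul_apply, e]
  · -- t x vs t (v y)
    rintro ⟨κ, hκ, e⟩
    refine D1 hA hv hx hy (G.mul_mem (G.mul_mem (G.inv_mem ht) hκ.1) ht)
      (pres_mul (pres_mul (pres_inv htΓ) (pres_of_fixG hκ)) htΓ) ?_
    rw [Perm.mul_apply, Perm.mul_apply, e]; simp
  · -- v y vs t (v y)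
    rintro ⟨κ, hκ, e⟩
    have hw : t⁻¹ * κ ∈ G := G.mul_mem (G.inv_mem ht) hκ.1
    have hwΓ : ∀ a ∈ Γ, (t⁻¹ * κ) a ∈ Γ := pres_mul (pres_inv htΓ) (pres_of_fixG hκ)
    have hwf : (t⁻¹ * κ) (v y) = v y := by
      rw [Perm.mul_apply, e]; simp
    obtain ⟨h1, h2, h3⟩ := F4 hA hv hx hy hw hwΓ hwf
    exact hNT _ h1 h3 a ha b hb hab ((htrκ κ hκ).congr ha hb h2)

/-- **Step 2b, Part I**: some element of `G` stabilizes `insert x Γ` and moves `x`. -/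
theorem partI {G : Subgroup (Perm α)} {k : ℕ} (hS : Star G k) (hE : Ext G k) (hk : 4 ≤ k)
    {Γ : Finset α} (hΓ : Γ.card = k) {x : α} (hx : x ∉ Γ) (h3c : GP3 G Γ x) :
    ∃ g ∈ G, (∀ a ∈ insert x Γ, g a ∈ insert x Γ) ∧ g x ≠ x := by
  by_contra hcon
  have hA : HA G Γ x := by
    intro g hg hgΔ
    by_contra hne
    exact hcon ⟨g, hg, hgΔ, hne⟩
  by_cases hT : ∃ s ∈ G, s x = x ∧ ∃ a ∈ Γ, ∃ b ∈ Γ, a ≠ b ∧ IsTr Γ s a b
  · obtain ⟨s, hs, hsx, a, ha, b, hb, hab, htr⟩ := hT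
    exact case1 hS hE hk hΓ hx hA hs hsx ha hb hab htr
  · exact case2 hS hE hk hΓ hx hA h3c
      (fun s hs hsx a ha b hb hab htr => hT ⟨s, hs, hsx, a, ha, b, hb, hab, htr⟩)

end Cfsg.Agent.Lib.Helper61.KAlt
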