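import Mathlib
import Cfsg.Agent.Lib.Helper61.KAlt4

set_option autoImplicit false
set_option linter.unusedVariables false
set_option linter.unusedSectionVars false

namespace Cfsg.Agent.Lib.Helper61.KAlt

open Equiv Equiv.Perm
open Cfsg.Agent.Lib.Helper61.Miller

variable {α : Type*} [Fintype α] [DecidableEq α]

/-- a `Δ`-preserving element of `G` induces an element of `indGroup G Δ` -/
theorem exists_ind {G : Subgroup (Perm α)} {Δ : Finset α} {g : Perm α} (hg : g ∈ G)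
    (hgΔ : ∀ w ∈ Δ, g w ∈ Δ) : ∃ σ ∈ indGroup G Δ, ∀ b : ↥Δ, g (b : α) = (σ b : α) := by
  have hgi := pres_inv hgΔ
  let σ : Perm ↥Δ :=
    { toFun := fun b => ⟨g b, hgΔ b b.2⟩
      invFun := fun b => ⟨g⁻¹ b, hgi b b.2⟩
      left_inv := fun b => Subtype.ext (by simp)
      right_inv := fun b => Subtype.ext (by simp) }
  exact ⟨σ, ⟨g, hg, fun b => rfl⟩, fun b => rfl⟩

/-- **Step 2b, Part II** -/
theorem partII {G : Subgroup (Perm α)} {k : ℕ} (hk : 4 ≤ k)
    {Γ : Finset α} (hΓ : Γ.card = k) {x : α} (hx : x ∉ Γ) (h3c : GP3 G Γ x)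
    (hI : ∃ g ∈ G, (∀ a ∈ insert x Γ, g a ∈ insert x Γ) ∧ g x ≠ x) :
    alternatingGroup ↥(insert x Γ) ≤ indGroup G (insert x Γ) := by
  classical
  obtain ⟨g₀, hg₀, hg₀Δ, hg₀x⟩ := hI
  -- transitivity of the 3-cycles on Γ
  have T0 : ∀ u ∈ Γ, ∀ u' ∈ Γ, ∃ g ∈ G, (∀ w ∈ insert x Γ, g w ∈ insert x Γ) ∧ g x = x ∧
      g u = u' := by
    intro u hu u' hu'
    by_cases e : u = u'
    · exact ⟨1, G.one_mem, fun w hw => hw, rfl, e⟩
    · obtain ⟨w, hw, hwn⟩ := exists_notin (Γ := Γ) {u, u'}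
        (lt_of_le_of_lt Finset.card_le_two (by omega))
      simp only [Finset.mem_insert, Finset.mem_singleton, not_or] at hwn
      obtain ⟨g, hg, hgx, h1, h2, h3, h4⟩ := h3c u hu u' hu' w hw e (Ne.symm hwn.1)
        (Ne.symm hwn.2)
      have h3' : Is3 Γ g u u' w := ⟨h1, h2, h3, h4⟩
      refine ⟨g, hg, ?_, hgx, h1⟩
      intro a ha
      rcases Finset.mem_insert.mp ha with h0 | ha
      · rw [h0, hgx]; exact Finset.mem_insert_self _ _
      · exact Finset.mem_insert_of_mem (h3'.pres hu hu' hw a ha)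
  have hu₀ : g₀ x ∈ Γ := by
    rcases Finset.mem_insert.mp (hg₀Δ x (Finset.mem_insert_self _ _)) with h | h
    · exact absurd h hg₀x
    · exact h
  have T1 : ∀ u ∈ insert x Γ, ∃ g ∈ G, (∀ w ∈ insert x Γ, g w ∈ insert x Γ) ∧ g u = x := by
    intro u hu
    rcases Finset.mem_insert.mp hu with h0 | hu
    · exact ⟨1, G.one_mem, fun w hw => hw, h0⟩
    · obtain ⟨h, hh, hhΔ, hhx, hhu⟩ := T0 u hu (g₀ x) hu₀
      refine ⟨g₀⁻¹ * h, G.mul_mem (G.inv_mem hg₀) hh, pres_mul (pres_inv hg₀Δ) hhΔ, ?_⟩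
      rw [Perm.mul_apply, hhu]; simp
  have T2 : ∀ a ∈ insert x Γ, ∀ b ∈ insert x Γ, ∀ c ∈ insert x Γ, ∀ d ∈ insert x Γ,
      a ≠ b → c ≠ d → ∃ g ∈ G, (∀ w ∈ insert x Γ, g w ∈ insert x Γ) ∧ g a = c ∧ g b = d := by
    intro a ha b hb c hc d hd hab hcd
    obtain ⟨h1, hh1, hh1Δ, hh1a⟩ := T1 a ha
    obtain ⟨h2, hh2, hh2Δ, hh2c⟩ := T1 c hc
    have hb' : h1 b ∈ Γ := by
      rcases Finset.mem_insert.mp (hh1Δ b hb) with h | h
      · exact absurd (h1.injective (h.trans hh1a.symm)) (Ne.symm hab)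
      · exact h
    have hd' : h2 d ∈ Γ := by
      rcases Finset.mem_insert.mp (hh2Δ d hd) with h | h
      · exact absurd (h2.injective (h.trans hh2c.symm)) (Ne.symm hcd)
      · exact h
    obtain ⟨h3, hh3, hh3Δ, hh3x, hh3b⟩ := T0 _ hb' _ hd'
    refine ⟨h2⁻¹ * h3 * h1, G.mul_mem (G.mul_mem (G.inv_mem hh2) hh3) hh1,
      pres_mul (pres_mul (pres_inv hh2Δ) hh3Δ) hh1Δ, ?_, ?_⟩
    · simp only [Perm.mul_apply]
      rw [hh1a, hh3x]; exact inv_apply_of hh2c
    · simp only [Perm.mul_apply]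
      rw [hh3b]; simp
  -- two-transitivity of the induced group
  have h2t : MulAction.IsMultiplyPretransitive ↥(indGroup G (insert x Γ)) ↥(insert x Γ) 2 := by
    rw [MulAction.is_two_pretransitive_iff]
    intro a b c d hab hcd
    have hab' : (a : α) ≠ b := fun h => hab (Subtype.ext h)
    have hcd' : (c : α) ≠ d := fun h => hcd (Subtype.ext h)
    obtain ⟨g, hg, hgΔ, hga, hgb⟩ := T2 a a.2 b b.2 c c.2 d d.2 hab' hcd'
    obtain ⟨σ, hσ, hσg⟩ := exists_ind hg hgΔ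
    refine ⟨⟨σ, hσ⟩, ?_, ?_⟩
    · apply Subtype.ext
      show ((σ a : ↥(insert x Γ)) : α) = c
      rw [← hσg a, hga]
    · apply Subtype.ext
      show ((σ b : ↥(insert x Γ)) : α) = d
      rw [← hσg b, hgb]
  have hprim : MulAction.IsPreprimitive ↥(indGroup G (insert x Γ)) ↥(insert x Γ) :=
    MulAction.isPreprimitive_of_is_two_pretransitive h2t
  -- a three-cycle
  obtain ⟨a, ha⟩ : ∃ a, a ∈ Γ := Finset.card_pos.mp (by omega)
  obtain ⟨b, hb, hbn⟩ := exists_notin (Γ := Γ) {a} (by rw [Finset.card_singleton]; omega)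
  obtain ⟨c, hc, hcn⟩ := exists_notin (Γ := Γ) {a, b}
    (lt_of_le_of_lt Finset.card_le_two (by omega))
  simp only [Finset.mem_insert, Finset.mem_singleton, not_or] at hbn hcn
  have hab : a ≠ b := Ne.symm hbn
  have hac : a ≠ c := Ne.symm hcn.1
  have hbc : b ≠ c := Ne.symm hcn.2
  obtain ⟨z, hz, hzx, hz1, hz2, hz3, hz4⟩ := h3c a ha b hb c hc hab hac hbc
  let a' : ↥(insert x Γ) := ⟨a, Finset.mem_insert_of_mem ha⟩
  let b' : ↥(insert x Γ) := ⟨b, Finset.mem_insert_of_mem hb⟩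
  let c' : ↥(insert x Γ) := ⟨c, Finset.mem_insert_of_mem hc⟩
  have hab' : a' ≠ b' := fun h => hab (congrArg Subtype.val h)
  have hac' : a' ≠ c' := fun h => hac (congrArg Subtype.val h)
  have hbc' : b' ≠ c' := fun h => hbc (congrArg Subtype.val h)
  have h3 : (swap a' c' * swap a' b').IsThreeCycle :=
    isThreeCycle_swap_mul_swap_same hac' hab' (Ne.symm hbc')
  have hmem : swap a' c' * swap a' b' ∈ indGroup G (insert x Γ) := by
    refine ⟨z, hz, ?_⟩
    intro w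
    by_cases e1 : w = a'
    · rw [e1, Perm.mul_apply, swap_apply_left, swap_apply_of_ne_of_ne (Ne.symm hab') hbc']
      exact hz1
    · by_cases e2 : w = b'
      · rw [e2, Perm.mul_apply, swap_apply_right, swap_apply_left]
        exact hz2
      · by_cases e3 : w = c'
        · rw [e3, Perm.mul_apply, swap_apply_of_ne_of_ne (Ne.symm hac') (Ne.symm hbc'),
            swap_apply_right]
          exact hz3
        · rw [Perm.mul_apply, swap_apply_of_ne_of_ne e1 e2, swap_apply_of_ne_of_ne e1 e3]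
          rcases Finset.mem_insert.mp w.2 with h0 | hw
          · rw [h0]; exact hzx
          · exact hz4 w hw (fun h => e1 (Subtype.ext h)) (fun h => e2 (Subtype.ext h))
              (fun h => e3 (Subtype.ext h))
  exact alternatingGroup_le_of_isPreprimitive_of_isThreeCycle_mem hprim h3 hmem

/-- **Step 2b** -/
theorem step2b {G : Subgroup (Perm α)} {k : ℕ} (hS : Star G k) (hE : Ext G k) (hk : 4 ≤ k)
    {Γ : Finset α} (hΓ : Γ.card = k) {x : α} (hx : x ∉ Γ) (h3c : GP3 G Γ x) :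
    alternatingGroup ↥(insert x Γ) ≤ indGroup G (insert x Γ) :=
  partII hk hΓ hx h3c (partI hS hE hk hΓ hx h3c)

end Cfsg.Agent.Lib.Helper61.KAlt
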