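import Mathlib
import Cfsg.Agent.Lib.Helper61.KAlt5

set_option autoImplicit false
set_option linter.unusedVariables false
set_option linter.unusedSectionVars false

namespace Cfsg.Agent.Lib.Helper61.KAlt

open Equiv Equiv.Perm
open Cfsg.Agent.Lib.Helper61.Miller

variable {α : Type*} [Fintype α] [DecidableEq α]

theorem natCard_eq_filter (K : Subgroup (Perm α)) [DecidablePred (fun g => g ∈ K)] :
    Nat.card ↥K = (Finset.univ.filter (fun g => g ∈ K)).card := by
  classical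
  rw [Nat.card_eq_fintype_card, ← Fintype.card_subtype]

/-- (R2): no three points outside `Γ` in pairwise distinct orbits of `fixG G Γ` -/
def R2 (G : Subgroup (Perm α)) (Γ : Finset α) : Prop :=
  ∀ p1 p2 p3 : α, p1 ∉ Γ → p2 ∉ Γ → p3 ∉ Γ →
    SameOrb (fixG G Γ) p1 p2 ∨ SameOrb (fixG G Γ) p1 p3 ∨ SameOrb (fixG G Γ) p2 p3

theorem Is3.sq {Γ : Finset α} {w : Perm α} {a b c : α} (h : Is3 Γ w a c b) :
    Is3 Γ (w * w) a b c := by
  refine ⟨?_, ?_, ?_, ?_⟩
  · rw [Perm.mul_apply, h.1, h.2.1]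
  · rw [Perm.mul_apply, h.2.2.1, h.1]
  · rw [Perm.mul_apply, h.2.1, h.2.2.1]
  · intro u hu h1 h2 h3
    rw [Perm.mul_apply, h.2.2.2 u hu h1 h3 h2, h.2.2.2 u hu h1 h3 h2]

/-- **Lemma D** -/
theorem lemmaD {G : Subgroup (Perm α)} {k : ℕ} (hE : Ext G k) {Γ : Finset α} (hΓ : Γ.card = k)
    {x : α} (hx : x ∉ Γ) (hR : R2 G Γ) : GP3 G Γ x := by
  intro a ha b hb c hc hab hac hbc
  obtain ⟨s, hs, hsσ⟩ := hE Γ hΓ.le (swap a b * swap a c) (swap a b * swap a c).injective.injOn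
  have hs3 : Is3 Γ s a c b := by
    refine ⟨?_, ?_, ?_, ?_⟩
    · rw [hsσ a ha, Perm.mul_apply, swap_apply_left, swap_apply_of_ne_of_ne (Ne.symm hac)
        (Ne.symm hbc)]
    · rw [hsσ c hc, Perm.mul_apply, swap_apply_right, swap_apply_left]
    · rw [hsσ b hb, Perm.mul_apply, swap_apply_of_ne_of_ne (Ne.symm hab) hbc, swap_apply_right]
    · intro u hu h1 h2 h3
      rw [hsσ u hu, Perm.mul_apply, swap_apply_of_ne_of_ne h1 h2, swap_apply_of_ne_of_ne h1 h3]
  have hsΓ := hs3.pres ha hc hb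
  have key : SameOrb (fixG G Γ) x (s x) → ∃ g ∈ G, g x = x ∧ Is3 Γ g a b c := by
    rintro ⟨κ, hκ, e⟩
    have hw : κ⁻¹ * s ∈ G := G.mul_mem (G.inv_mem hκ.1) hs
    have hwx : (κ⁻¹ * s) x = x := by
      rw [Perm.mul_apply, ← e]; simp
    have hw3 : Is3 Γ (κ⁻¹ * s) a c b := by
      refine hs3.congr ha hc hb ?_
      intro u hu
      rw [Perm.mul_apply]
      exact inv_apply_of (hκ.2 _ (hsΓ u hu))
    refine ⟨(κ⁻¹ * s) * (κ⁻¹ * s), G.mul_mem hw hw, ?_, hw3.sq⟩
    rw [Perm.mul_apply, hwx, hwx]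
  have hsx : s x ∉ Γ := pres_notin hsΓ hx
  have hssx : s (s x) ∉ Γ := pres_notin hsΓ hsx
  rcases hR x (s x) (s (s x)) hx hsx hssx with h | h | h
  · exact key h
  · obtain ⟨κ, hκ, e⟩ := h
    refine ⟨κ⁻¹ * (s * s), G.mul_mem (G.inv_mem hκ.1) (G.mul_mem hs hs), ?_, ?_⟩
    · rw [Perm.mul_apply, Perm.mul_apply, ← e]; simp
    · refine hs3.sq.congr ha hb hc ?_
      intro u hu
      rw [Perm.mul_apply]
      exact inv_apply_of (hκ.2 _ (pres_mul hsΓ hsΓ u hu))
  · obtain ⟨κ, hκ, e⟩ := h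
    apply key
    refine ⟨s⁻¹ * κ * s, conj_fixG hs hsΓ hκ, ?_⟩
    simp only [Perm.mul_apply]
    rw [e]; simp

/-- orbit counting for the semiregular action of `fixG G Γ` outside `Γ` -/
theorem orbit_count {G : Subgroup (Perm α)} {k : ℕ} (hS : Star G k) {Γ : Finset α}
    (hΓ : Γ.card = k) (P : Finset α) (hPΓ : ∀ ω ∈ P, ω ∉ Γ)
    (hdist : ∀ ω ∈ P, ∀ ω' ∈ P, ω ≠ ω' → ¬ SameOrb (fixG G Γ) ω ω') :
    Nat.card (fixG G Γ) * P.card ≤ Fintype.card α - k := by
  classical
  rw [natCard_eq_filter]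
  have hKF : ∀ g, g ∈ Finset.univ.filter (fun g => g ∈ fixG G Γ) ↔ g ∈ fixG G Γ :=
    fun g => by simp
  have hc : (Γᶜ : Finset α).card = Fintype.card α - k := by rw [Finset.card_compl, hΓ]
  rw [← hc, ← Finset.card_product]
  apply Finset.card_le_card_of_injOn (fun p => p.1 p.2)
  · intro p hp
    have hp' := Finset.mem_product.mp hp
    have hκ := (hKF p.1).mp hp'.1
    show p.1 p.2 ∈ ((Γᶜ : Finset α) : Set α)
    rw [Finset.mem_coe, Finset.mem_compl]
    exact fixG_notin hκ (hPΓ _ hp'.2)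
  · intro p hp q hq hpq
    have hp' := Finset.mem_product.mp hp
    have hq' := Finset.mem_product.mp hq
    have hκp := (hKF p.1).mp hp'.1
    have hκq := (hKF q.1).mp hq'.1
    have hpq' : p.1 p.2 = q.1 q.2 := hpq
    have h2 : (q.1⁻¹ * p.1) p.2 = q.2 := by
      rw [Perm.mul_apply, hpq']; simp
    have hmem : q.1⁻¹ * p.1 ∈ fixG G Γ := (fixG G Γ).mul_mem ((fixG G Γ).inv_mem hκq) hκp
    have hω : p.2 = q.2 := by
      by_contra hne
      exact hdist _ hp'.2 _ hq'.2 hne ⟨_, hmem, h2⟩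
    have hone : q.1⁻¹ * p.1 = 1 := by
      apply hS.eq_one hmem.1 (insert p.2 Γ)
      · rw [Finset.card_insert_of_notMem (hPΓ _ hp'.2)]; omega
      · intro a ha
        rcases Finset.mem_insert.mp ha with h0 | ha
        · rw [h0, h2, hω]
        · exact hmem.2 a ha
    have hκ : p.1 = q.1 := by
      have := congrArg (fun f => q.1 * f) hone
      simpa using this
    exact Prod.ext hκ hω

theorem r2_of_card {G : Subgroup (Perm α)} {k : ℕ} (hS : Star G k) {Γ : Finset α}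
    (hΓ : Γ.card = k) (hcard : Fintype.card α - k < 3 * Nat.card (fixG G Γ)) : R2 G Γ := by
  classical
  intro p1 p2 p3 hp1 hp2 hp3
  by_contra hcon
  push Not at hcon
  obtain ⟨d12, d13, d23⟩ := hcon
  have n12 : p1 ≠ p2 := fun h => d12 (h ▸ SameOrb.refl _ _)
  have n13 : p1 ≠ p3 := fun h => d13 (h ▸ SameOrb.refl _ _)
  have n23 : p2 ≠ p3 := fun h => d23 (h ▸ SameOrb.refl _ _)
  have hcard3 : ({p1, p2, p3} : Finset α).card = 3 := by
    rw [Finset.card_insert_of_notMem, Finset.card_insert_of_notMem, Finset.card_singleton]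
    · simpa using n23
    · simp [n12, n13]
  have := orbit_count hS hΓ {p1, p2, p3} ?_ ?_
  · rw [hcard3] at this; omega
  · intro ω hω
    simp only [Finset.mem_insert, Finset.mem_singleton] at hω
    rcases hω with rfl | rfl | rfl <;> assumption
  · intro ω hω ω' hω' hne
    simp only [Finset.mem_insert, Finset.mem_singleton] at hω hω'
    rcases hω with rfl | rfl | rfl <;> rcases hω' with rfl | rfl | rfl <;>
      first
        | exact absurd rfl hne
        | assumption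
        | exact fun h => d12 h.symm
        | exact fun h => d13 h.symm
        | exact fun h => d23 h.symm

end Cfsg.Agent.Lib.Helper61.KAlt
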