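import Mathlib
import Cfsg.Agent.Lib.Helper61.KAlt6

set_option autoImplicit false
set_option linter.unusedVariables false
set_option linter.unusedSectionVars false

namespace Cfsg.Agent.Lib.Helper61.KAlt

open Equiv Equiv.Perm
open Cfsg.Agent.Lib.Helper61.Miller

/-- the set of points of a finset moved by an involution has even size -/
theorem even_moved_of_involution {β : Type*} [DecidableEq β] (S : Finset β) (f : β → β)
    (hf : ∀ x ∈ S, f x ∈ S) (hff : ∀ x ∈ S, f (f x) = x) :
    Even (S.filter (fun x => f x ≠ x)).card := by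
  have h := Finset.sum_involution (s := S.filter (fun x => f x ≠ x))
    (f := fun _ => (1 : ZMod 2)) (fun a _ => f a)
    (fun a ha => by decide)
    (fun a ha _ => (Finset.mem_filter.mp ha).2)
    (fun a ha => by
      rw [Finset.mem_filter] at ha ⊢
      refine ⟨hf a ha.1, ?_⟩
      rw [hff a ha.1]
      exact Ne.symm ha.2)
    (fun a ha => hff a (Finset.mem_filter.mp ha).1)
  rw [Finset.sum_const, nsmul_one] at h
  exact ZMod.natCast_eq_zero_iff_even.mp h

/-- an involution of a finset of odd size has a fixed point -/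
theorem exists_fixed_of_odd {β : Type*} [DecidableEq β] (S : Finset β) (f : β → β)
    (hf : ∀ x ∈ S, f x ∈ S) (hff : ∀ x ∈ S, f (f x) = x) (hodd : Odd S.card) :
    ∃ x ∈ S, f x = x := by
  by_contra hcon
  push Not at hcon
  have h1 := even_moved_of_involution S f hf hff
  have h2 : S.filter (fun x => f x ≠ x) = S := by
    apply Finset.filter_true_of_mem
    exact hcon
  rw [h2] at h1
  exact (Nat.not_even_iff_odd.mpr hodd) h1

/-- the fixed points of an involution of a finset of odd size: odd number -/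
theorem odd_fixed_of_odd {β : Type*} [DecidableEq β] (S : Finset β) (f : β → β)
    (hf : ∀ x ∈ S, f x ∈ S) (hff : ∀ x ∈ S, f (f x) = x) (hodd : Odd S.card) :
    Odd (S.filter (fun x => f x = x)).card := by
  have h1 := even_moved_of_involution S f hf hff
  have h3 : (S.filter (fun x => f x = x)).card + (S.filter (fun x => f x ≠ x)).card
      = S.card := by
    have := Finset.card_filter_add_card_filter_not (s := S) (fun x => f x = x)
    convert this using 2
  rcases h1 with ⟨r, hr⟩
  rcases hodd with ⟨q, hq⟩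
  exact ⟨q - r, by omega⟩

variable {α : Type*} [Fintype α] [DecidableEq α]

theorem fixS_parity {g : Perm α} (hg : g * g = 1) :
    Even (Fintype.card α - (fixS g).card) := by
  have h1 := even_moved_of_involution (Finset.univ : Finset α) g (fun _ _ => Finset.mem_univ _)
    (fun x _ => by
      have := congrArg (fun f : Perm α => f x) hg
      simpa using this)
  have h3 : (fixS g).card + ((Finset.univ : Finset α).filter (fun x => g x ≠ x)).card
      = Fintype.card α := by
    have := Finset.card_filter_add_card_filter_not (s := (Finset.univ : Finset α))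
      (fun x => g x = x)
    rw [Finset.card_univ] at this
    unfold fixS
    convert this using 2
  have : Fintype.card α - (fixS g).card
      = ((Finset.univ : Finset α).filter (fun x => g x ≠ x)).card := by omega
  rw [this]; exact h1

theorem odd_card_of_no_involution (K : Subgroup (Perm α))
    (h : ∀ g ∈ K, g * g = 1 → g = 1) : Odd (Nat.card K) := by
  by_contra hcon
  rw [Nat.not_odd_iff_even] at hcon
  have : Fact (Nat.Prime 2) := ⟨Nat.prime_two⟩
  obtain ⟨x, hx⟩ := exists_prime_orderOf_dvd_card' (G := ↥K) 2 hcon.two_dvd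
  have h1 : x ^ 2 = 1 := by rw [← hx]; exact pow_orderOf_eq_one x
  have h2 : (x : Perm α) * x = 1 := by
    have := congrArg Subtype.val h1
    simpa [pow_two] using this
  have h3 := h x x.2 h2
  have h4 : x = 1 := Subtype.ext h3
  rw [h4, orderOf_one] at hx
  omega

/-- the coset of lifts of a map on `Λ` -/
theorem coset_card (G : Subgroup (Perm α)) (Λ : Finset α) (f : α → α)
    [DecidablePred (fun s : Perm α => s ∈ G ∧ ∀ w ∈ Λ, s w = f w)] (s₀ : Perm α)
    (hs₀ : s₀ ∈ G) (hs₀f : ∀ w ∈ Λ, s₀ w = f w) :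
    (Finset.univ.filter (fun s : Perm α => s ∈ G ∧ ∀ w ∈ Λ, s w = f w)).card
      = Nat.card (fixG G Λ) := by
  classical
  rw [natCard_eq_filter]
  apply Finset.card_bij' (fun s _ => s₀⁻¹ * s) (fun κ _ => s₀ * κ)
  · intro s hs
    rw [Finset.mem_filter] at hs ⊢
    refine ⟨Finset.mem_univ _, G.mul_mem (G.inv_mem hs₀) hs.2.1, ?_⟩
    intro w hw
    rw [Perm.mul_apply, hs.2.2 w hw, ← hs₀f w hw]; simp
  · intro κ hκ
    rw [Finset.mem_filter] at hκ ⊢
    refine ⟨Finset.mem_univ _, G.mul_mem hs₀ hκ.2.1, ?_⟩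
    intro w hw
    rw [Perm.mul_apply, hκ.2.2 w hw, hs₀f w hw]
  · intro s hs; simp
  · intro κ hκ; simp

/-- the involutions in a coset of lifts of an involutive map: an odd number -/
theorem odd_involutions_in_coset (G : Subgroup (Perm α)) (Λ : Finset α) (f : α → α)
    [DecidablePred (fun s : Perm α => s ∈ G ∧ ∀ w ∈ Λ, s w = f w)]
    (hf : ∀ w ∈ Λ, f w ∈ Λ) (hff : ∀ w ∈ Λ, f (f w) = w)
    (hodd : Odd (Nat.card (fixG G Λ))) (s₀ : Perm α)
    (hs₀ : s₀ ∈ G) (hs₀f : ∀ w ∈ Λ, s₀ w = f w) :
    Odd ((Finset.univ.filter (fun s : Perm α => s ∈ G ∧ ∀ w ∈ Λ, s w = f w)).filter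
      (fun s => s⁻¹ = s)).card := by
  apply odd_fixed_of_odd _ (fun s => s⁻¹)
  · intro s hs
    rw [Finset.mem_filter] at hs ⊢
    refine ⟨Finset.mem_univ _, G.inv_mem hs.2.1, ?_⟩
    intro w hw
    apply inv_apply_of
    rw [hs.2.2 _ (hf w hw), hff w hw]
  · intro s hs
    exact inv_inv s
  · rw [coset_card G Λ f s₀ hs₀ hs₀f]
    exact hodd

theorem no_inv_odd {G : Subgroup (Perm α)} (hS : Star G 4) (hodd : Odd (Fintype.card α))
    {Λ : Finset α} (hΛ : Λ.card = 4) : ∀ g ∈ fixG G Λ, g * g = 1 → g = 1 := by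
  intro g hg hgg
  by_contra hne
  have h1 := hS g hg.1 hne
  have h2 : Λ ⊆ fixS g := fun a ha => mem_fixS.mpr (hg.2 a ha)
  have h3 := Finset.card_le_card h2
  have h4 := fixS_parity hgg
  have h5 : (fixS g).card ≤ Fintype.card α := Finset.card_le_univ _
  rcases h4 with ⟨r, hr⟩
  rcases hodd with ⟨q, hq⟩
  omega

/-- **Lemma E** -/
theorem lemmaE {G : Subgroup (Perm α)} (hS : Star G 4) (hE : Ext G 4)
    (hodd : Odd (Fintype.card α)) {Δ : Finset α} (hΔ : Δ.card = 5) {a b d e : α}
    (ha : a ∈ Δ) (hb : b ∈ Δ) (hd : d ∈ Δ) (he : e ∈ Δ) (hab : a ≠ b) (had : a ≠ d)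
    (hae : a ≠ e) (hbd : b ≠ d) (hbe : b ≠ e) (hde : d ≠ e) {t : Perm α} (ht : t ∈ G)
    (htr : IsTr Δ t a b) : ∃ s ∈ G, IsTr Δ s d e := by
  classical
  -- t is an involution
  have htt : t * t = 1 := by
    apply hS.eq_one (G.mul_mem ht ht) Δ (by omega)
    intro w hw
    rw [Perm.mul_apply]
    by_cases h1 : w = a
    · rw [h1, htr.1, htr.2.1]
    · by_cases h2 : w = b
      · rw [h2, htr.2.1, htr.1]
      · rw [htr.2.2 w hw h1 h2, htr.2.2 w hw h1 h2]
  have hti : t⁻¹ = t := by
    have := congrArg (fun f => t⁻¹ * f) htt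
    simpa using this.symm
  have htne : t ≠ 1 := by
    intro h
    rw [h] at htr
    exact hab htr.1
  -- fixed points of t
  have hΦsub : (Δ.erase a).erase b ⊆ fixS t := by
    intro w hw
    rw [Finset.mem_erase, Finset.mem_erase] at hw
    exact mem_fixS.mpr (htr.2.2 w hw.2.2 hw.2.1 hw.1)
  have hΦcard : ((Δ.erase a).erase b).card = 3 := by
    rw [Finset.card_erase_of_mem (Finset.mem_erase.mpr ⟨Ne.symm hab, hb⟩),
      Finset.card_erase_of_mem ha, hΔ]
  have hfixcard : (fixS t).card = 3 := by
    have h1 := hS t ht htne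
    have h2 := Finset.card_le_card hΦsub
    have h4 := fixS_parity htt
    have h5 : (fixS t).card ≤ Fintype.card α := Finset.card_le_univ _
    rcases h4 with ⟨r, hr⟩
    rcases hodd with ⟨q, hq⟩
    omega
  have hfix : fixS t = (Δ.erase a).erase b :=
    (Finset.eq_of_subset_of_card_le hΦsub (by rw [hfixcard, hΦcard])).symm
  -- the coset
  have hΛcard : ({a, b, d, e} : Finset α).card = 4 := by
    rw [Finset.card_insert_of_notMem, Finset.card_insert_of_notMem,
      Finset.card_insert_of_notMem, Finset.card_singleton]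
    · simpa using hde
    · simp [hbd, hbe]
    · simp [hab, had, hae]
  have hΛsub : ({a, b, d, e} : Finset α) ⊆ Δ := by
    intro w hw
    simp only [Finset.mem_insert, Finset.mem_singleton] at hw
    rcases hw with rfl | rfl | rfl | rfl <;> assumption
  obtain ⟨s₀, hs₀, hs₀f⟩ := hE {a, b, d, e} hΛcard.le (swap d e) (swap d e).injective.injOn
  have hf : ∀ w ∈ ({a, b, d, e} : Finset α), swap d e w ∈ ({a, b, d, e} : Finset α) := by
    intro w hw
    simp only [Finset.mem_insert, Finset.mem_singleton] at hw ⊢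
    rcases hw with rfl | rfl | rfl | rfl
    · rw [swap_apply_of_ne_of_ne had hae]; simp
    · rw [swap_apply_of_ne_of_ne hbd hbe]; simp
    · rw [swap_apply_left]; simp
    · rw [swap_apply_right]; simp
  have hKodd : Odd (Nat.card (fixG G {a, b, d, e})) :=
    odd_card_of_no_involution _ (no_inv_odd hS hodd hΛcard)
  have hLodd := odd_involutions_in_coset G {a, b, d, e} (swap d e) hf
    (fun w _ => swap_apply_self d e w) hKodd s₀ hs₀ hs₀f
  -- conjugation by t
  have key : ∃ s ∈ ((Finset.univ.filter (fun s : Perm α => s ∈ G ∧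
      ∀ w ∈ ({a, b, d, e} : Finset α), s w = swap d e w)).filter (fun s => s⁻¹ = s)),
      t * s * t⁻¹ = s := by
    apply exists_fixed_of_odd _ (fun s => t * s * t⁻¹) ?_ ?_ hLodd
    · intro s hs
      rw [Finset.mem_filter, Finset.mem_filter] at hs ⊢
      obtain ⟨⟨_, hsG, hsf⟩, hsi⟩ := hs
      have htd : t d = d := htr.2.2 d hd (Ne.symm had) (Ne.symm hbd)
      have hte : t e = e := htr.2.2 e he (Ne.symm hae) (Ne.symm hbe)
      refine ⟨⟨Finset.mem_univ _, G.mul_mem (G.mul_mem ht hsG) (G.inv_mem ht), ?_⟩, ?_⟩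
      · intro w hw
        simp only [Finset.mem_insert, Finset.mem_singleton] at hw
        simp only [Perm.mul_apply]
        rw [hti]
        rcases hw with rfl | rfl | rfl | rfl
        · rw [htr.1, hsf _ (by simp), swap_apply_of_ne_of_ne hbd hbe, htr.2.1,
            swap_apply_of_ne_of_ne had hae]
        · rw [htr.2.1, hsf _ (by simp), swap_apply_of_ne_of_ne had hae, htr.1,
            swap_apply_of_ne_of_ne hbd hbe]
        · rw [htd, hsf _ (by simp), swap_apply_left, hte]
        · rw [hte, hsf _ (by simp), swap_apply_right, htd]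
      · rw [mul_inv_rev, mul_inv_rev, inv_inv, hsi, mul_assoc]
    · intro s hs
      show t * (t * s * t⁻¹) * t⁻¹ = s
      rw [hti]
      calc t * (t * s * t) * t = (t * t) * s * (t * t) := by group
        _ = s := by rw [htt]; simp
  obtain ⟨s, hs, hst⟩ := key
  rw [Finset.mem_filter, Finset.mem_filter] at hs
  obtain ⟨⟨_, hsG, hsf⟩, hsi⟩ := hs
  have hcomm : ∀ w, t (s w) = s (t w) := by
    intro w
    have h1 : t * s = s * t := by
      have := congrArg (fun f => f * t) hst
      simpa [mul_assoc] using this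
    have := congrArg (fun f : Perm α => f w) h1
    simpa using this
  have hsd : s d = e := by rw [hsf d (by simp), swap_apply_left]
  have hse : s e = d := by rw [hsf e (by simp), swap_apply_right]
  have hsa : s a = a := by rw [hsf a (by simp), swap_apply_of_ne_of_ne had hae]
  have hsb : s b = b := by rw [hsf b (by simp), swap_apply_of_ne_of_ne hbd hbe]
  refine ⟨s, hsG, hsd, hse, ?_⟩
  intro w hw hwd hwe
  by_cases h1 : w = a
  · rw [h1]; exact hsa
  by_cases h2 : w = b
  · rw [h2]; exact hsb
  have htw : t w = w := htr.2.2 w hw h1 h2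
  have h3 : s w ∈ fixS t := by
    rw [mem_fixS, hcomm, htw]
  rw [hfix, Finset.mem_erase, Finset.mem_erase] at h3
  have h4 : s w ≠ d := fun h => hwe (s.injective (h.trans hse.symm))
  have h5 : s w ≠ e := fun h => hwd (s.injective (h.trans hsd.symm))
  have hcard1 : (Δ \ {a, b, d, e}).card ≤ 1 := by
    rw [Finset.card_sdiff_of_subset hΛsub, hΔ, hΛcard]
  have hm1 : s w ∈ Δ \ {a, b, d, e} := by
    rw [Finset.mem_sdiff]
    refine ⟨h3.2.2, ?_⟩
    simp only [Finset.mem_insert, Finset.mem_singleton, not_or]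
    exact ⟨h3.2.1, h3.1, h4, h5⟩
  have hm2 : w ∈ Δ \ {a, b, d, e} := by
    rw [Finset.mem_sdiff]
    refine ⟨hw, ?_⟩
    simp only [Finset.mem_insert, Finset.mem_singleton, not_or]
    exact ⟨h1, h2, hwd, hwe⟩
  exact Finset.card_le_one.mp hcard1 _ hm1 _ hm2

end Cfsg.Agent.Lib.Helper61.KAlt
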