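import Mathlib
import Cfsg.Agent.Lib.Helper61.KAlt7

set_option autoImplicit false
set_option linter.unusedVariables false
set_option linter.unusedSectionVars false

namespace Cfsg.Agent.Lib.Helper61.KAlt

open Equiv Equiv.Perm
open Cfsg.Agent.Lib.Helper61.Miller

variable {α : Type*} [Fintype α] [DecidableEq α]

/-- an involutive lift in a coset of odd size -/
theorem exists_inv_lift (G : Subgroup (Perm α)) (Λ : Finset α) (f : α → α)
    (hf : ∀ w ∈ Λ, f w ∈ Λ) (hff : ∀ w ∈ Λ, f (f w) = w)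
    (hodd : Odd (Nat.card (fixG G Λ))) (s₀ : Perm α)
    (hs₀ : s₀ ∈ G) (hs₀f : ∀ w ∈ Λ, s₀ w = f w) :
    ∃ s ∈ G, (∀ w ∈ Λ, s w = f w) ∧ s * s = 1 := by
  classical
  have h := odd_involutions_in_coset G Λ f hf hff hodd s₀ hs₀ hs₀f
  have hne : ((Finset.univ.filter (fun s : Perm α => s ∈ G ∧ ∀ w ∈ Λ, s w = f w)).filter
      (fun s => s⁻¹ = s)).Nonempty := by
    rw [← Finset.card_pos]
    rcases h with ⟨r, hr⟩
    omega
  obtain ⟨s, hs⟩ := hne
  rw [Finset.mem_filter, Finset.mem_filter] at hs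
  refine ⟨s, hs.1.2.1, hs.1.2.2, ?_⟩
  have := congrArg (fun f => s * f) hs.2
  simpa using this.symm

theorem IsTr.symm {Γ : Finset α} {s : Perm α} {a b : α} (h : IsTr Γ s a b) : IsTr Γ s b a :=
  ⟨h.2.1, h.1, fun w hw h1 h2 => h.2.2 w hw h2 h1⟩

/-- a realized transposition gives a swap in the induced group -/
theorem swap_mem_ind {G : Subgroup (Perm α)} {Δ : Finset α} {s : Perm α} (hs : s ∈ G)
    (u v : ↥Δ) (htr : IsTr Δ s u v) : swap u v ∈ indGroup G Δ := by
  refine ⟨s, hs, ?_⟩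
  intro w
  by_cases e1 : w = u
  · rw [e1, swap_apply_left]; exact htr.1
  · by_cases e2 : w = v
    · rw [e2, swap_apply_right]; exact htr.2.1
    · rw [swap_apply_of_ne_of_ne e1 e2]
      exact htr.2.2 w w.2 (fun h => e1 (Subtype.ext h)) (fun h => e2 (Subtype.ext h))

/-- all transpositions of a 5-set are realized once one is -/
theorem caseA_aux {G : Subgroup (Perm α)} (hS : Star G 4) (hE : Ext G 4)
    (hodd : Odd (Fintype.card α)) {Δ : Finset α} (hΔ : Δ.card = 5) {p1 p2 : α}
    (hp1 : p1 ∈ Δ) (hp2 : p2 ∈ Δ) (h12 : p1 ≠ p2) {t : Perm α} (ht : t ∈ G)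
    (htr : IsTr Δ t p1 p2) : alternatingGroup ↥Δ ≤ indGroup G Δ := by
  classical
  have step : ∀ a ∈ Δ, ∀ b ∈ Δ, ∀ d ∈ Δ, ∀ e ∈ Δ,
      a ≠ b → a ≠ d → a ≠ e → b ≠ d → b ≠ e → d ≠ e →
      (∃ t ∈ G, IsTr Δ t a b) → ∃ s ∈ G, IsTr Δ s d e := by
    intro a ha b hb d hd e he hab had hae hbd hbe hde h
    obtain ⟨t', ht', htr'⟩ := h
    exact lemmaE hS hE hodd hΔ ha hb hd he hab had hae hbd hbe hde ht' htr'
  have all : ∀ u ∈ Δ, ∀ v ∈ Δ, u ≠ v → ∃ s ∈ G, IsTr Δ s u v := by
    intro u hu v hv huv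
    by_cases hdisj : u ≠ p1 ∧ u ≠ p2 ∧ v ≠ p1 ∧ v ≠ p2
    · exact step p1 hp1 p2 hp2 u hu v hv h12 (Ne.symm hdisj.1) (Ne.symm hdisj.2.2.1)
        (Ne.symm hdisj.2.1) (Ne.symm hdisj.2.2.2) huv ⟨t, ht, htr⟩
    · have hT : ({p1, p2, u, v} : Finset α).card ≤ 3 := by
        have hcases : u = p1 ∨ u = p2 ∨ v = p1 ∨ v = p2 := by
          by_contra hcon
          push Not at hcon
          exact hdisj hcon
        rcases hcases with h | h | h | h
        · have : ({p1, p2, u, v} : Finset α) = {p1, p2, v} := by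
            rw [h]; ext w; simp only [Finset.mem_insert, Finset.mem_singleton]; tauto
          rw [this]; exact Finset.card_le_three
        · have : ({p1, p2, u, v} : Finset α) = {p1, p2, v} := by
            rw [h]; ext w; simp only [Finset.mem_insert, Finset.mem_singleton]; tauto
          rw [this]; exact Finset.card_le_three
        · have : ({p1, p2, u, v} : Finset α) = {p1, p2, u} := by
            rw [h]; ext w; simp only [Finset.mem_insert, Finset.mem_singleton]; tauto
          rw [this]; exact Finset.card_le_three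
        · have : ({p1, p2, u, v} : Finset α) = {p1, p2, u} := by
            rw [h]; ext w; simp only [Finset.mem_insert, Finset.mem_singleton]; tauto
          rw [this]; exact Finset.card_le_three
      obtain ⟨r, hr, hrn⟩ := exists_notin (Γ := Δ) {p1, p2, u, v} (by omega)
      obtain ⟨r', hr', hrn'⟩ := exists_notin (Γ := Δ)
        (insert r {p1, p2, u, v}) (lt_of_le_of_lt (Finset.card_insert_le _ _) (by omega))
      simp only [Finset.mem_insert, Finset.mem_singleton, not_or] at hrn hrn'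
      have h1 := step p1 hp1 p2 hp2 r hr r' hr' h12 (Ne.symm hrn.1) (Ne.symm hrn'.2.1)
        (Ne.symm hrn.2.1) (Ne.symm hrn'.2.2.1) (Ne.symm hrn'.1) ⟨t, ht, htr⟩
      exact step r hr r' hr' u hu v hv (Ne.symm hrn'.1) hrn.2.2.1 hrn.2.2.2 hrn'.2.2.2.1
        hrn'.2.2.2.2 huv h1
  have htop : (⊤ : Subgroup (Perm ↥Δ)) ≤ indGroup G Δ := by
    rw [← Equiv.Perm.closure_isSwap, Subgroup.closure_le]
    rintro σ ⟨u, v, huv, rfl⟩
    obtain ⟨s, hs, hstr⟩ := all u u.2 v v.2 (fun h => huv (Subtype.ext h))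
    exact swap_mem_ind hs u v hstr
  exact fun σ _ => htop (Subgroup.mem_top σ)

/-- **Case (a)**: `n` odd. -/
theorem caseA {G : Subgroup (Perm α)} (hS : Star G 4) (hE : Ext G 4)
    (hn : 4 < Fintype.card α) (hodd : Odd (Fintype.card α)) :
    ∃ Δ : Finset α, Δ.card = 5 ∧ alternatingGroup ↥Δ ≤ indGroup G Δ := by
  classical
  have huniv : (Finset.univ : Finset α).card = Fintype.card α := Finset.card_univ
  obtain ⟨p1, -, -⟩ := exists_notin (Γ := (Finset.univ : Finset α)) ∅ (by rw [huniv]; simp; omega)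
  obtain ⟨p2, -, h2n⟩ := exists_notin (Γ := (Finset.univ : Finset α)) {p1}
    (by rw [huniv, Finset.card_singleton]; omega)
  obtain ⟨p3, -, h3n⟩ := exists_notin (Γ := (Finset.univ : Finset α)) {p1, p2}
    (lt_of_le_of_lt Finset.card_le_two (by omega))
  obtain ⟨p4, -, h4n⟩ := exists_notin (Γ := (Finset.univ : Finset α)) {p1, p2, p3}
    (lt_of_le_of_lt Finset.card_le_three (by omega))
  simp only [Finset.mem_insert, Finset.mem_singleton, not_or] at h2n h3n h4n
  have h12 : p1 ≠ p2 := Ne.symm h2n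
  have h13 : p1 ≠ p3 := Ne.symm h3n.1
  have h23 : p2 ≠ p3 := Ne.symm h3n.2
  have h14 : p1 ≠ p4 := Ne.symm h4n.1
  have h24 : p2 ≠ p4 := Ne.symm h4n.2.1
  have h34 : p3 ≠ p4 := Ne.symm h4n.2.2
  have hΛcard : ({p1, p2, p3, p4} : Finset α).card = 4 := by
    rw [Finset.card_insert_of_notMem, Finset.card_insert_of_notMem,
      Finset.card_insert_of_notMem, Finset.card_singleton]
    · simpa using h34
    · simp [h23, h24]
    · simp [h12, h13, h14]
  obtain ⟨s₀, hs₀, hs₀f⟩ := hE {p1, p2, p3, p4} hΛcard.le (swap p1 p2)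
    (swap p1 p2).injective.injOn
  have hf : ∀ w ∈ ({p1, p2, p3, p4} : Finset α), swap p1 p2 w ∈ ({p1, p2, p3, p4} : Finset α) := by
    intro w hw
    simp only [Finset.mem_insert, Finset.mem_singleton] at hw ⊢
    rcases hw with rfl | rfl | rfl | rfl
    · rw [swap_apply_left]; simp
    · rw [swap_apply_right]; simp
    · rw [swap_apply_of_ne_of_ne (Ne.symm h13) (Ne.symm h23)]; simp
    · rw [swap_apply_of_ne_of_ne (Ne.symm h14) (Ne.symm h24)]; simp
  have hKodd : Odd (Nat.card (fixG G {p1, p2, p3, p4})) :=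
    odd_card_of_no_involution _ (no_inv_odd hS hodd hΛcard)
  obtain ⟨t, ht, htf, htt⟩ := exists_inv_lift G {p1, p2, p3, p4} (swap p1 p2) hf
    (fun w _ => swap_apply_self p1 p2 w) hKodd s₀ hs₀ hs₀f
  have ht1 : t p1 = p2 := by rw [htf p1 (by simp), swap_apply_left]
  have ht2 : t p2 = p1 := by rw [htf p2 (by simp), swap_apply_right]
  have ht3 : t p3 = p3 := by
    rw [htf p3 (by simp), swap_apply_of_ne_of_ne (Ne.symm h13) (Ne.symm h23)]
  have ht4 : t p4 = p4 := by
    rw [htf p4 (by simp), swap_apply_of_ne_of_ne (Ne.symm h14) (Ne.symm h24)]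
  have htne : t ≠ 1 := by
    intro h
    rw [h] at ht1
    exact h12 ht1
  -- a third fixed point
  have hfixcard : 3 ≤ (fixS t).card := by
    have h1 : ({p3, p4} : Finset α) ⊆ fixS t := by
      intro w hw
      simp only [Finset.mem_insert, Finset.mem_singleton] at hw
      rcases hw with rfl | rfl
      · exact mem_fixS.mpr ht3
      · exact mem_fixS.mpr ht4
    have h2 := Finset.card_le_card h1
    rw [Finset.card_pair h34] at h2
    have h4 := fixS_parity htt
    have h5 : (fixS t).card ≤ Fintype.card α := Finset.card_le_univ _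
    rcases h4 with ⟨r, hr⟩
    rcases hodd with ⟨q, hq⟩
    omega
  obtain ⟨x, hx, hxn⟩ := exists_notin (Γ := fixS t) {p3, p4}
    (lt_of_le_of_lt Finset.card_le_two (by omega))
  rw [mem_fixS] at hx
  simp only [Finset.mem_insert, Finset.mem_singleton, not_or] at hxn
  have hx1 : x ≠ p1 := by
    intro h
    rw [h, ht1] at hx
    exact h12 hx.symm
  have hx2 : x ≠ p2 := by
    intro h
    rw [h, ht2] at hx
    exact h12 hx
  have hΔ : ({p1, p2, p3, p4, x} : Finset α).card = 5 := by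
    rw [Finset.card_insert_of_notMem, Finset.card_insert_of_notMem,
      Finset.card_insert_of_notMem, Finset.card_insert_of_notMem, Finset.card_singleton]
    · simpa using Ne.symm hxn.2
    · simp [h34, Ne.symm hxn.1]
    · simp [h23, h24, Ne.symm hx2]
    · simp [h12, h13, h14, Ne.symm hx1]
  have hp1 : p1 ∈ ({p1, p2, p3, p4, x} : Finset α) := by simp
  have hp2 : p2 ∈ ({p1, p2, p3, p4, x} : Finset α) := by simp
  have htr : IsTr ({p1, p2, p3, p4, x} : Finset α) t p1 p2 := by
    refine ⟨ht1, ht2, ?_⟩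
    intro w hw hw1 hw2
    simp only [Finset.mem_insert, Finset.mem_singleton] at hw
    rcases hw with rfl | rfl | rfl | rfl | rfl
    · exact absurd rfl hw1
    · exact absurd rfl hw2
    · exact ht3
    · exact ht4
    · exact hx
  exact ⟨{p1, p2, p3, p4, x}, hΔ, caseA_aux hS hE hodd hΔ hp1 hp2 h12 ht htr⟩

end Cfsg.Agent.Lib.Helper61.KAlt
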