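import Mathlib
import Cfsg.Agent.Lib.Helper61.KAlt8

set_option autoImplicit false
set_option linter.unusedVariables false
set_option linter.unusedSectionVars false

namespace Cfsg.Agent.Lib.Helper61.KAlt

open Equiv Equiv.Perm
open Cfsg.Agent.Lib.Helper61.Miller

variable {α : Type*} [Fintype α] [DecidableEq α]

theorem invol_apply {v : Perm α} (hvv : v * v = 1) (w : α) : v (v w) = w := by
  have := congrArg (fun f : Perm α => f w) hvv
  simpa using this

/-- an involution fixing `q3, q4` in a group with `Star G 4` fixes at most two further points -/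
theorem fixed_le_two {G : Subgroup (Perm α)} (hS : Star G 4) {q3 q4 : α} (h34 : q3 ≠ q4)
    {v : Perm α} (hv : v ∈ G) (hv1 : v ≠ 1) (hv3 : v q3 = q3) (hv4 : v q4 = q4) :
    (((Finset.univ : Finset α) \ {q3, q4}).filter (fun c => v c = c)).card ≤ 2 := by
  have h1 := hS v hv hv1
  have hsub : ({q3, q4} : Finset α) ∪
      (((Finset.univ : Finset α) \ {q3, q4}).filter (fun c => v c = c)) ⊆ fixS v := by
    intro w hw
    rw [mem_fixS]
    rcases Finset.mem_union.mp hw with hw | hw
    · simp only [Finset.mem_insert, Finset.mem_singleton] at hw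
      rcases hw with rfl | rfl
      · exact hv3
      · exact hv4
    · exact (Finset.mem_filter.mp hw).2
  have hdisj : Disjoint ({q3, q4} : Finset α)
      (((Finset.univ : Finset α) \ {q3, q4}).filter (fun c => v c = c)) := by
    rw [Finset.disjoint_left]
    intro w hw hw'
    exact (Finset.mem_sdiff.mp (Finset.mem_filter.mp hw').1).2 hw
  have h2 := Finset.card_le_card hsub
  rw [Finset.card_union_of_disjoint hdisj, Finset.card_pair h34] at h2
  omega

theorem injOn_four {f : α → α} {q1 q2 q3 q4 c e : α} (f1 : f q1 = c) (f2 : f q2 = e)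
    (f3 : f q3 = q3) (f4 : f q4 = q4) (hc3 : c ≠ q3) (hc4 : c ≠ q4) (he3 : e ≠ q3)
    (he4 : e ≠ q4) (hce : c ≠ e) (h34 : q3 ≠ q4) :
    Set.InjOn f (({q1, q2, q3, q4} : Finset α) : Set α) := by
  intro a ha b hb hab
  simp only [Finset.coe_insert, Finset.coe_singleton, Set.mem_insert_iff,
    Set.mem_singleton_iff] at ha hb
  rcases ha with ha | ha | ha | ha <;> rcases hb with hb | hb | hb | hb <;>
    rw [ha, hb] at hab <;> rw [ha, hb]
  all_goals
    exfalso
    simp only [f1, f2, f3, f4] at hab
    first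
      | exact hce hab | exact hce hab.symm | exact hc3 hab | exact hc3 hab.symm
      | exact hc4 hab | exact hc4 hab.symm | exact he3 hab | exact he3 hab.symm
      | exact he4 hab | exact he4 hab.symm | exact h34 hab | exact h34 hab.symm

/-- **Case (b)**: the counting argument. -/
theorem caseB_count {G : Subgroup (Perm α)} (hS : Star G 4) (hE : Ext G 4) {q1 q2 q3 q4 : α}
    (h12 : q1 ≠ q2) (h13 : q1 ≠ q3) (h14 : q1 ≠ q4) (h23 : q2 ≠ q3) (h24 : q2 ≠ q4)
    (h34 : q3 ≠ q4) {j : Perm α} (hj : j ∈ fixG G {q1, q2, q3, q4}) (hjj : j * j = 1)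
    (hj1 : j ≠ 1) :
    Fintype.card α - 4 ≤ 2 * Nat.card (fixG G {q1, q2, q3, q4}) := by
  classical
  have hΛcard : ({q1, q2, q3, q4} : Finset α).card = 4 := by
    rw [Finset.card_insert_of_notMem, Finset.card_insert_of_notMem,
      Finset.card_insert_of_notMem, Finset.card_singleton]
    · simpa using h34
    · simp [h23, h24]
    · simp [h12, h13, h14]
  -- the set of involutions
  let I : Finset (Perm α) := Finset.univ.filter
    (fun v => v ∈ G ∧ v ≠ 1 ∧ v * v = 1 ∧ v q3 = q3 ∧ v q4 = q4)
  have hI : ∀ v, v ∈ I ↔ (v ∈ G ∧ v ≠ 1 ∧ v * v = 1 ∧ v q3 = q3 ∧ v q4 = q4) := by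
    intro v; simp [I]
  have hjI : j ∈ I := by
    rw [hI]
    exact ⟨hj.1, hj1, hjj, hj.2 q3 (by simp), hj.2 q4 (by simp)⟩
  let Ω' : Finset α := Finset.univ \ {q3, q4}
  have hΩ' : ∀ c, c ∈ Ω' ↔ (c ≠ q3 ∧ c ≠ q4) := by
    intro c; simp [Ω']
  have hm : Ω'.card = Fintype.card α - 2 := by
    rw [Finset.card_sdiff_of_subset (Finset.subset_univ _), Finset.card_univ, Finset.card_pair h34]
  -- conjugate stabilizers
  have hd : ∀ p ∈ Ω'.offDiag, Nat.card (fixG G {q3, q4, p.1, p.2})
      = Nat.card (fixG G {q1, q2, q3, q4}) ∧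
      ∃ v ∈ I, v p.1 = p.1 ∧ v p.2 = p.2 := by
    intro p hp
    rw [Finset.mem_offDiag, hΩ', hΩ'] at hp
    obtain ⟨⟨hp13, hp14⟩, ⟨hp23, hp24⟩, hp12⟩ := hp
    have hinj : Set.InjOn (fun w => if w = q1 then p.1 else if w = q2 then p.2 else w)
        (({q1, q2, q3, q4} : Finset α) : Set α) := by
      apply injOn_four (c := p.1) (e := p.2) _ _ _ _ hp13 hp14 hp23 hp24 hp12 h34
      · simp
      · simp [Ne.symm h12]
      · simp [Ne.symm h13, Ne.symm h23]
      · simp [Ne.symm h14, Ne.symm h24]
    obtain ⟨g, hg, hgs⟩ := hE {q1, q2, q3, q4} hΛcard.le _ hinj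
    have hg1 : g q1 = p.1 := by
      have := hgs q1 (by simp); simpa using this
    have hg2 : g q2 = p.2 := by
      have := hgs q2 (by simp); simpa [Ne.symm h12] using this
    have hg3 : g q3 = q3 := by
      have := hgs q3 (by simp); simpa [Ne.symm h13, Ne.symm h23] using this
    have hg4 : g q4 = q4 := by
      have := hgs q4 (by simp); simpa [Ne.symm h14, Ne.symm h24] using this
    have hTcard : ({q3, q4, p.1, p.2} : Finset α).card = 4 := by
      rw [Finset.card_insert_of_notMem, Finset.card_insert_of_notMem,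
        Finset.card_insert_of_notMem, Finset.card_singleton]
      · simpa using hp12
      · simp [Ne.symm hp14, Ne.symm hp24]
      · simp [h34, Ne.symm hp13, Ne.symm hp23]
    have hST : ∀ a ∈ ({q1, q2, q3, q4} : Finset α), g a ∈ ({q3, q4, p.1, p.2} : Finset α) := by
      intro a ha
      simp only [Finset.mem_insert, Finset.mem_singleton] at ha
      rcases ha with rfl | rfl | rfl | rfl
      · rw [hg1]; simp
      · rw [hg2]; simp
      · rw [hg3]; simp
      · rw [hg4]; simp
    refine ⟨(card_fixG_conj hg hST (by rw [hTcard, hΛcard])).symm, g * j * g⁻¹, ?_, ?_, ?_⟩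
    · rw [hI]
      refine ⟨G.mul_mem (G.mul_mem hg hj.1) (G.inv_mem hg), ?_, ?_, ?_, ?_⟩
      · intro h
        apply hj1
        have := congrArg (fun f => g⁻¹ * f * g) h
        simpa [mul_assoc] using this
      · calc g * j * g⁻¹ * (g * j * g⁻¹) = g * (j * j) * g⁻¹ := by group
          _ = 1 := by rw [hjj]; simp
      · simp only [Perm.mul_apply]
        rw [inv_apply_of hg3, hj.2 q3 (by simp), hg3]
      · simp only [Perm.mul_apply]
        rw [inv_apply_of hg4, hj.2 q4 (by simp), hg4]
    · simp only [Perm.mul_apply]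
      rw [inv_apply_of hg1, hj.2 q1 (by simp), hg1]
    · simp only [Perm.mul_apply]
      rw [inv_apply_of hg2, hj.2 q2 (by simp), hg2]
  -- (i)
  have h_i : Ω'.offDiag.card • 1 ≤ I.card • 2 := by
    apply Finset.card_nsmul_le_card_nsmul (fun (p : α × α) (v : Perm α) => v p.1 = p.1 ∧ v p.2 = p.2)
    · intro p hp
      obtain ⟨_, v, hv, hv1, hv2⟩ := hd p hp
      simp only [Nat.cast_id]
      rw [Nat.succ_le_iff, Finset.card_pos]
      exact ⟨v, (Finset.mem_bipartiteAbove _).mpr ⟨hv, hv1, hv2⟩⟩
    · intro v hv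
      simp only [Nat.cast_id]
      have hv' := (hI v).mp hv
      have hF := fixed_le_two hS h34 hv'.1 hv'.2.1 hv'.2.2.2.1 hv'.2.2.2.2
      have hsub : Ω'.offDiag.bipartiteBelow
          (fun (p : α × α) (v : Perm α) => v p.1 = p.1 ∧ v p.2 = p.2) v
          ⊆ (Ω'.filter (fun c => v c = c)).offDiag := by
        intro p hp
        rw [Finset.mem_bipartiteBelow, Finset.mem_offDiag] at hp
        rw [Finset.mem_offDiag, Finset.mem_filter, Finset.mem_filter]
        exact ⟨⟨hp.1.1, hp.2.1⟩, ⟨hp.1.2.1, hp.2.2⟩, hp.1.2.2⟩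
      refine (Finset.card_le_card hsub).trans ?_
      rw [Finset.offDiag_card]
      have : (Ω'.filter (fun c => v c = c)).card ≤ 2 := hF
      interval_cases (Ω'.filter (fun c => v c = c)).card <;> omega
  -- (ii)
  have h_ii : I.card • (Fintype.card α - 4) ≤
      Ω'.offDiag.card • Nat.card (fixG G {q1, q2, q3, q4}) := by
    apply Finset.card_nsmul_le_card_nsmul (fun (v : Perm α) (p : α × α) => v p.1 = p.2)
    · intro v hv
      simp only [Nat.cast_id]
      have hv' := (hI v).mp hv
      have hF := fixed_le_two hS h34 hv'.1 hv'.2.1 hv'.2.2.2.1 hv'.2.2.2.2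
      have hsplit : (Ω'.filter (fun c => v c = c)).card + (Ω'.filter (fun c => v c ≠ c)).card
          = Ω'.card := by
        have := Finset.card_filter_add_card_filter_not (s := Ω') (fun c => v c = c)
        convert this using 2
      have hle : (Ω'.filter (fun c => v c ≠ c)).card ≤
          (Ω'.offDiag.bipartiteAbove (fun (v : Perm α) (p : α × α) => v p.1 = p.2) v).card := by
        apply Finset.card_le_card_of_injOn (fun c => (c, v c))
        · intro c hc
          have hc' := Finset.mem_filter.mp hc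
          have hcΩ := (hΩ' c).mp hc'.1
          show (c, v c) ∈ _
          rw [Finset.mem_coe, Finset.mem_bipartiteAbove, Finset.mem_offDiag, hΩ', hΩ']
          refine ⟨⟨hcΩ, ⟨?_, ?_⟩, Ne.symm hc'.2⟩, rfl⟩
          · intro h
            exact hcΩ.1 (v.injective (h.trans hv'.2.2.2.1.symm))
          · intro h
            exact hcΩ.2 (v.injective (h.trans hv'.2.2.2.2.symm))
        · intro c hc c' hc' h
          exact (Prod.mk.inj h).1
      have hF' : (Ω'.filter (fun c => v c = c)).card ≤ 2 := hF
      omega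
    · intro p hp
      simp only [Nat.cast_id]
      obtain ⟨hcard, _⟩ := hd p hp
      rw [← hcard, natCard_eq_filter]
      by_cases hne : (I.bipartiteBelow (fun (v : Perm α) (p : α × α) => v p.1 = p.2) p).Nonempty
      · obtain ⟨v₀, hv₀⟩ := hne
        rw [Finset.mem_bipartiteBelow] at hv₀
        have hv₀' := (hI v₀).mp hv₀.1
        have hv₀p : v₀ p.1 = p.2 := hv₀.2
        have hv₀p' : v₀ p.2 = p.1 := by rw [← hv₀p]; exact invol_apply hv₀'.2.2.1 _
        apply Finset.card_le_card_of_injOn (fun v => v₀⁻¹ * v)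
        · intro v hv
          rw [Finset.mem_coe, Finset.mem_bipartiteBelow] at hv
          have hv' := (hI v).mp hv.1
          have hvp : v p.1 = p.2 := hv.2
          have hvp' : v p.2 = p.1 := by rw [← hvp]; exact invol_apply hv'.2.2.1 _
          show v₀⁻¹ * v ∈ _
          rw [Finset.mem_coe, Finset.mem_filter]
          refine ⟨Finset.mem_univ _, G.mul_mem (G.inv_mem hv₀'.1) hv'.1, ?_⟩
          intro w hw
          simp only [Finset.mem_insert, Finset.mem_singleton] at hw
          rw [Perm.mul_apply]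
          rcases hw with rfl | rfl | rfl | rfl
          · rw [hv'.2.2.2.1]; exact inv_apply_of hv₀'.2.2.2.1
          · rw [hv'.2.2.2.2]; exact inv_apply_of hv₀'.2.2.2.2
          · rw [hvp]; exact inv_apply_of hv₀p
          · rw [hvp']; exact inv_apply_of hv₀p'
        · intro v hv v' hv' h
          exact mul_left_cancel h
      · rw [Finset.not_nonempty_iff_eq_empty] at hne
        rw [hne]; simp
  -- combine
  simp only [smul_eq_mul, mul_one] at h_i h_ii
  have hIpos : 0 < I.card := Finset.card_pos.mpr ⟨j, hjI⟩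
  have h3 : I.card * (Fintype.card α - 4) ≤ I.card * (2 * Nat.card (fixG G {q1, q2, q3, q4})) :=
    calc I.card * (Fintype.card α - 4) ≤ Ω'.offDiag.card * Nat.card (fixG G {q1, q2, q3, q4}) := h_ii
      _ ≤ (I.card * 2) * Nat.card (fixG G {q1, q2, q3, q4}) := Nat.mul_le_mul_right _ h_i
      _ = I.card * (2 * Nat.card (fixG G {q1, q2, q3, q4})) := by ring
  exact Nat.le_of_mul_le_mul_left h3 hIpos

end Cfsg.Agent.Lib.Helper61.KAlt
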