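import Mathlib
import Cfsg.Agent.Lib.Helper61.KAlt9

set_option autoImplicit false
set_option linter.unusedVariables false
set_option linter.unusedSectionVars false

namespace Cfsg.Agent.Lib.Helper61.KAlt

open Equiv Equiv.Perm
open Cfsg.Agent.Lib.Helper61.Miller

variable {α : Type*} [Fintype α] [DecidableEq α]

/-- no involutions in four-point stabilizers -/
def NI (G : Subgroup (Perm α)) : Prop :=
  ∀ Λ : Finset α, Λ.card = 4 → ∀ g ∈ fixG G Λ, g * g = 1 → g = 1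

/-- an involution of `G` preserving `Γ` with exactly two fixed points, both outside `Γ` -/
def Inv2 (G : Subgroup (Perm α)) (Γ : Finset α) (u : Perm α) (f1 f2 : α) : Prop :=
  u ∈ G ∧ u * u = 1 ∧ (∀ a ∈ Γ, u a ∈ Γ) ∧ f1 ≠ f2 ∧ f1 ∉ Γ ∧ f2 ∉ Γ ∧ u f1 = f1 ∧ u f2 = f2 ∧
    ∀ w, u w = w → w = f1 ∨ w = f2

theorem inv_eq_of_invol {u : Perm α} (h : u * u = 1) : u⁻¹ = u := by
  have := congrArg (fun f => u⁻¹ * f) h
  simpa using this.symm

theorem Inv2.conj {G : Subgroup (Perm α)} {Γ : Finset α} {u : Perm α} {f1 f2 : α}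
    (h : Inv2 G Γ u f1 f2) {g : Perm α} (hg : g ∈ G) (hgΓ : ∀ a ∈ Γ, g a ∈ Γ) :
    Inv2 G Γ (g * u * g⁻¹) (g f1) (g f2) := by
  obtain ⟨hu, huu, huΓ, hne, h1, h2, hf1, hf2, hfix⟩ := h
  refine ⟨G.mul_mem (G.mul_mem hg hu) (G.inv_mem hg), ?_, ?_, ?_, ?_, ?_, ?_, ?_, ?_⟩
  · calc g * u * g⁻¹ * (g * u * g⁻¹) = g * (u * u) * g⁻¹ := by group
      _ = 1 := by rw [huu]; simp
  · exact pres_mul (pres_mul hgΓ huΓ) (pres_inv hgΓ)
  · exact fun h => hne (g.injective h)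
  · exact pres_notin hgΓ h1
  · exact pres_notin hgΓ h2
  · simp only [Perm.mul_apply]
    rw [show g⁻¹ (g f1) = f1 by simp, hf1]
  · simp only [Perm.mul_apply]
    rw [show g⁻¹ (g f2) = f2 by simp, hf2]
  · intro w hw
    simp only [Perm.mul_apply] at hw
    have h3 : u (g⁻¹ w) = g⁻¹ w := (Perm.inv_eq_iff_eq.mpr hw.symm).symm
    rcases hfix _ h3 with h4 | h4
    · left; rw [← h4]; simp
    · right; rw [← h4]; simp

/-- an `Inv2` involution inverts the pointwise stabilizer -/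
theorem Inv2.inverts {G : Subgroup (Perm α)} (hS : Star G 4) (hNI : NI G) {Γ : Finset α}
    (hΓ : Γ.card = 4) {u : Perm α} {f1 f2 : α} (h : Inv2 G Γ u f1 f2) :
    ∀ κ ∈ fixG G Γ, u * κ * u⁻¹ = κ⁻¹ := by
  classical
  obtain ⟨hu, huu, huΓ, hne, h1, h2, hf1, hf2, hfix⟩ := h
  have hui : u⁻¹ = u := inv_eq_of_invol huu
  -- centralizer is trivial
  have hcent : ∀ κ ∈ fixG G Γ, u * κ * u⁻¹ = κ → κ = 1 := by
    intro κ hκ hc
    have hcomm : ∀ w, u (κ w) = κ (u w) := by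
      intro w
      have h3 : u * κ = κ * u := by
        have := congrArg (fun f => f * u) hc
        simpa [mul_assoc] using this
      have := congrArg (fun f : Perm α => f w) h3
      simpa using this
    have hk1 : κ f1 = f1 ∨ κ f1 = f2 := hfix _ (by rw [hcomm, hf1])
    have hk2 : κ f2 = f1 ∨ κ f2 = f2 := hfix _ (by rw [hcomm, hf2])
    have hkk1 : κ (κ f1) = f1 := by
      rcases hk1 with e | e
      · rw [e, e]
      · rcases hk2 with e' | e'
        · rw [e, e']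
        · exact absurd (κ.injective (e.trans e'.symm)) hne
    have hkk2 : κ (κ f2) = f2 := by
      rcases hk2 with e | e
      · rcases hk1 with e' | e'
        · exact absurd (κ.injective (e'.trans e.symm)) hne
        · rw [e, e']
      · rw [e, e]
    have hsq : κ * κ = 1 := by
      apply hS.eq_one (G.mul_mem hκ.1 hκ.1) (insert f1 (insert f2 Γ))
      · rw [Finset.card_insert_of_notMem, Finset.card_insert_of_notMem h2, hΓ]
        · omega
        · simp [hne, h1]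
      · intro a ha
        rw [Perm.mul_apply]
        rcases Finset.mem_insert.mp ha with e | ha
        · rw [e]; exact hkk1
        · rcases Finset.mem_insert.mp ha with e | ha
          · rw [e]; exact hkk2
          · rw [hκ.2 a ha, hκ.2 a ha]
    exact hNI Γ hΓ κ hκ hsq
  -- the map κ ↦ κ⁻¹ u κ u⁻¹ is a bijection of K
  let KF : Finset (Perm α) := Finset.univ.filter (fun g => g ∈ fixG G Γ)
  have hKF : ∀ g, g ∈ KF ↔ g ∈ fixG G Γ := fun g => by simp [KF]
  have hmaps : ∀ κ ∈ KF, κ⁻¹ * (u * κ * u⁻¹) ∈ KF := by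
    intro κ hκ
    rw [hKF] at hκ ⊢
    exact (fixG G Γ).mul_mem ((fixG G Γ).inv_mem hκ) (conj_fixG' hu huΓ hκ)
  have hinj : Set.InjOn (fun κ => κ⁻¹ * (u * κ * u⁻¹)) (KF : Set (Perm α)) := by
    intro κ hκ l hl hkl
    rw [Finset.mem_coe, hKF] at hκ hl
    have hkl' : κ⁻¹ * (u * κ * u⁻¹) = l⁻¹ * (u * l * u⁻¹) := hkl
    have hν : l * κ⁻¹ ∈ fixG G Γ := (fixG G Γ).mul_mem hl ((fixG G Γ).inv_mem hκ)
    have hc : u * (l * κ⁻¹) * u⁻¹ = l * κ⁻¹ := by
      have e1 : u * (l * κ⁻¹) * u⁻¹ = (u * l * u⁻¹) * (u * κ * u⁻¹)⁻¹ := by group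
      have e2 : u * κ * u⁻¹ = κ * (l⁻¹ * (u * l * u⁻¹)) := by
        rw [← hkl']; group
      rw [e1, e2]; group
    have := hcent _ hν hc
    have h5 : l = κ := by
      have := congrArg (fun f => f * κ) this
      simpa using this
    exact h5.symm
  have himg : KF.image (fun κ => κ⁻¹ * (u * κ * u⁻¹)) = KF := by
    apply Finset.eq_of_subset_of_card_le
    · intro μ hμ
      rw [Finset.mem_image] at hμ
      obtain ⟨κ, hκ, rfl⟩ := hμ
      exact hmaps κ hκ
    · rw [Finset.card_image_of_injOn hinj]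
  intro μ hμ
  have hμ' : μ ∈ KF.image (fun κ => κ⁻¹ * (u * κ * u⁻¹)) := by
    rw [himg, hKF]; exact hμ
  rw [Finset.mem_image] at hμ'
  obtain ⟨κ, hκ, rfl⟩ := hμ'
  rw [hui]
  have e1 : u * (κ⁻¹ * (u * κ * u)) * u = (u * κ⁻¹ * u * κ) * (u * u) := by group
  have e2 : (κ⁻¹ * (u * κ * u))⁻¹ = u⁻¹ * κ⁻¹ * u⁻¹ * κ := by group
  rw [e1, e2, huu, hui, mul_one]

end Cfsg.Agent.Lib.Helper61.KAlt
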