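import Mathlib
import Cfsg.Agent.Lib.Helper61.KAlt10
import Cfsg.Agent.S0708

set_option autoImplicit false
set_option linter.unusedVariables false
set_option linter.unusedSectionVars false

namespace Cfsg.Agent.Lib.Helper61.KAlt

open Equiv Equiv.Perm
open Cfsg.Agent.Lib.Helper61.Miller

variable {α : Type*} [Fintype α] [DecidableEq α]

theorem exists_map_finset {G : Subgroup (Perm α)} {k : ℕ} (hE : Ext G k) (S T : Finset α)
    (hS : S.card ≤ k) (hST : S.card = T.card) : ∃ g ∈ G, ∀ a ∈ S, g a ∈ T := by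
  classical
  let e : ↥S ≃ ↥T := Finset.equivOfCardEq hST
  let f : α → α := fun a => if h : a ∈ S then (e ⟨a, h⟩ : α) else a
  have hf : Set.InjOn f (S : Set α) := by
    intro a ha b hb hab
    have ha' : a ∈ S := ha
    have hb' : b ∈ S := hb
    simp only [f, dif_pos ha', dif_pos hb'] at hab
    have h1 := e.injective (Subtype.ext hab)
    exact congrArg Subtype.val h1
  obtain ⟨g, hg, hgs⟩ := hE S hS f hf
  refine ⟨g, hg, fun a ha => ?_⟩
  rw [hgs a ha]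
  simp only [f, dif_pos ha]
  exact (e ⟨a, ha⟩).2

/-- the stabilizer of the special four-set is trivial -/
theorem caseC_K {G : Subgroup (Perm α)} (hS : Star G 4) (hE : Ext G 4) (hNI : NI G)
    {t : Perm α} {q1 q2 r1 r2 y : α} (h12 : q1 ≠ q2) (hq1r1 : q1 ≠ r1) (hq1r2 : q1 ≠ r2)
    (hq2r1 : q2 ≠ r1) (hq2r2 : q2 ≠ r2) (hr : r1 ≠ r2)
    (ht : t ∈ G) (htt : t * t = 1) (ht1 : t q1 = q2) (ht2 : t q2 = q1) (htr1 : t r1 = r1)
    (htr2 : t r2 = r2) (hfix : ∀ w, t w = w → w = r1 ∨ w = r2)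
    (hy1 : y ≠ q1) (hy2 : y ≠ q2) (hy3 : y ≠ r1) (hy4 : y ≠ r2) :
    ∀ κ ∈ fixG G {q1, q2, y, t y}, κ = 1 := by
  classical
  have htty : t (t y) = y := invol_apply htt y
  have hty_y : t y ≠ y := by
    intro h
    rcases hfix y h with e | e
    · exact hy3 e
    · exact hy4 e
  have hty1 : t y ≠ q1 := by
    intro h
    have : t (t y) = q2 := by rw [h, ht1]
    rw [htty] at this
    exact hy2 this
  have hty2 : t y ≠ q2 := by
    intro h
    have : t (t y) = q1 := by rw [h, ht2]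
    rw [htty] at this
    exact hy1 this
  have htyr1 : t y ≠ r1 := by
    intro h
    have : t (t y) = r1 := by rw [h, htr1]
    rw [htty] at this
    exact hy3 this
  have htyr2 : t y ≠ r2 := by
    intro h
    have : t (t y) = r2 := by rw [h, htr2]
    rw [htty] at this
    exact hy4 this
  have hΓ : ({q1, q2, y, t y} : Finset α).card = 4 := by
    rw [Finset.card_insert_of_notMem, Finset.card_insert_of_notMem,
      Finset.card_insert_of_notMem, Finset.card_singleton]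
    · simpa using Ne.symm hty_y
    · simp [Ne.symm hy2, Ne.symm hty2]
    · simp [h12, Ne.symm hy1, Ne.symm hty1]
  have hr1Γ : r1 ∉ ({q1, q2, y, t y} : Finset α) := by
    simp [Ne.symm hq1r1, Ne.symm hq2r1, Ne.symm hy3, Ne.symm htyr1]
  have hr2Γ : r2 ∉ ({q1, q2, y, t y} : Finset α) := by
    simp [Ne.symm hq1r2, Ne.symm hq2r2, Ne.symm hy4, Ne.symm htyr2]
  have htΓ : ∀ a ∈ ({q1, q2, y, t y} : Finset α), t a ∈ ({q1, q2, y, t y} : Finset α) := by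
    intro a ha
    simp only [Finset.mem_insert, Finset.mem_singleton] at ha
    rcases ha with e | e | e | e
    · rw [e, ht1]; simp
    · rw [e, ht2]; simp
    · rw [e]; simp
    · rw [e, htty]; simp
  have hInv : Inv2 G {q1, q2, y, t y} t r1 r2 :=
    ⟨ht, htt, htΓ, hr, hr1Γ, hr2Γ, htr1, htr2, hfix⟩
  -- the two conjugating elements
  obtain ⟨g₁, hg₁, hg₁s⟩ := hE {q1, q2, y, t y} hΓ.le (swap q2 y) (swap q2 y).injective.injOn
  obtain ⟨g₂, hg₂, hg₂s⟩ := hE {q1, q2, y, t y} hΓ.le (swap q2 (t y))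
    (swap q2 (t y)).injective.injOn
  have a1 : g₁ q1 = q1 := by rw [hg₁s q1 (by simp), swap_apply_of_ne_of_ne h12 (Ne.symm hy1)]
  have a2 : g₁ q2 = y := by rw [hg₁s q2 (by simp), swap_apply_left]
  have a3 : g₁ y = q2 := by rw [hg₁s y (by simp), swap_apply_right]
  have a4 : g₁ (t y) = t y := by rw [hg₁s (t y) (by simp), swap_apply_of_ne_of_ne hty2 hty_y]
  have b1 : g₂ q1 = q1 := by rw [hg₂s q1 (by simp), swap_apply_of_ne_of_ne h12 (Ne.symm hty1)]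
  have b2 : g₂ q2 = t y := by rw [hg₂s q2 (by simp), swap_apply_left]
  have b3 : g₂ y = y := by rw [hg₂s y (by simp), swap_apply_of_ne_of_ne hy2 (Ne.symm hty_y)]
  have b4 : g₂ (t y) = q2 := by rw [hg₂s (t y) (by simp), swap_apply_right]
  have hg₁Γ : ∀ a ∈ ({q1, q2, y, t y} : Finset α), g₁ a ∈ ({q1, q2, y, t y} : Finset α) := by
    intro a ha
    simp only [Finset.mem_insert, Finset.mem_singleton] at ha
    rcases ha with e | e | e | e
    · rw [e, a1]; simp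
    · rw [e, a2]; simp
    · rw [e, a3]; simp
    · rw [e, a4]; simp
  have hg₂Γ : ∀ a ∈ ({q1, q2, y, t y} : Finset α), g₂ a ∈ ({q1, q2, y, t y} : Finset α) := by
    intro a ha
    simp only [Finset.mem_insert, Finset.mem_singleton] at ha
    rcases ha with e | e | e | e
    · rw [e, b1]; simp
    · rw [e, b2]; simp
    · rw [e, b3]; simp
    · rw [e, b4]; simp
  have inv_t := hInv.inverts hS hNI hΓ
  have inv_1 := (hInv.conj hg₁ hg₁Γ).inverts hS hNI hΓ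
  have inv_2 := (hInv.conj hg₂ hg₂Γ).inverts hS hNI hΓ
  -- actions of the conjugates
  have s1q1 : (g₁ * t * g₁⁻¹) q1 = y := by
    simp only [Perm.mul_apply]; rw [inv_apply_of a1, ht1, a2]
  have s1y : (g₁ * t * g₁⁻¹) y = q1 := by
    simp only [Perm.mul_apply]; rw [inv_apply_of a2, ht2, a1]
  have s1q2 : (g₁ * t * g₁⁻¹) q2 = t y := by
    simp only [Perm.mul_apply]; rw [inv_apply_of a3, a4]
  have s1ty : (g₁ * t * g₁⁻¹) (t y) = q2 := by
    simp only [Perm.mul_apply]; rw [inv_apply_of a4, htty, a3]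
  have s2q1 : (g₂ * t * g₂⁻¹) q1 = t y := by
    simp only [Perm.mul_apply]; rw [inv_apply_of b1, ht1, b2]
  have s2ty : (g₂ * t * g₂⁻¹) (t y) = q1 := by
    simp only [Perm.mul_apply]; rw [inv_apply_of b2, ht2, b1]
  have s2q2 : (g₂ * t * g₂⁻¹) q2 = y := by
    simp only [Perm.mul_apply]; rw [inv_apply_of b4, htty, b3]
  have s2y : (g₂ * t * g₂⁻¹) y = q2 := by
    simp only [Perm.mul_apply]; rw [inv_apply_of b3, b4]
  have hs1G : g₁ * t * g₁⁻¹ ∈ G := G.mul_mem (G.mul_mem hg₁ ht) (G.inv_mem hg₁)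
  have hs2G : g₂ * t * g₂⁻¹ ∈ G := G.mul_mem (G.mul_mem hg₂ ht) (G.inv_mem hg₂)
  have hκ₀ : t * (g₁ * t * g₁⁻¹) * (g₂ * t * g₂⁻¹) ∈ fixG G {q1, q2, y, t y} := by
    refine ⟨G.mul_mem (G.mul_mem ht hs1G) hs2G, ?_⟩
    intro a ha
    simp only [Finset.mem_insert, Finset.mem_singleton] at ha
    rw [Perm.mul_apply, Perm.mul_apply]
    rcases ha with e | e | e | e
    · rw [e, s2q1, s1ty, ht2]
    · rw [e, s2q2, s1y, ht1]
    · rw [e, s2y, s1q2, htty]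
    · rw [e, s2ty, s1q1]
  have hconj : ∀ κ ∈ fixG G {q1, q2, y, t y},
      (t * (g₁ * t * g₁⁻¹) * (g₂ * t * g₂⁻¹)) * κ * (t * (g₁ * t * g₁⁻¹) * (g₂ * t * g₂⁻¹))⁻¹
        = κ⁻¹ := by
    intro κ hκ
    have e0 : (t * (g₁ * t * g₁⁻¹) * (g₂ * t * g₂⁻¹)) * κ *
        (t * (g₁ * t * g₁⁻¹) * (g₂ * t * g₂⁻¹))⁻¹
        = t * ((g₁ * t * g₁⁻¹) * ((g₂ * t * g₂⁻¹) * κ * (g₂ * t * g₂⁻¹)⁻¹) *
          (g₁ * t * g₁⁻¹)⁻¹) * t⁻¹ := by group
    rw [e0, inv_2 κ hκ, inv_1 κ⁻¹ ((fixG G _).inv_mem hκ), inv_inv, inv_t κ hκ]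
  have hκ₀1 : t * (g₁ * t * g₁⁻¹) * (g₂ * t * g₂⁻¹) = 1 := by
    apply hNI _ hΓ _ hκ₀
    have h1 := hconj _ hκ₀
    have h2 : (t * (g₁ * t * g₁⁻¹) * (g₂ * t * g₂⁻¹)) = (t * (g₁ * t * g₁⁻¹) * (g₂ * t * g₂⁻¹))⁻¹ := by
      rw [← h1]; group
    calc (t * (g₁ * t * g₁⁻¹) * (g₂ * t * g₂⁻¹)) * (t * (g₁ * t * g₁⁻¹) * (g₂ * t * g₂⁻¹))
        = (t * (g₁ * t * g₁⁻¹) * (g₂ * t * g₂⁻¹)) * (t * (g₁ * t * g₁⁻¹) * (g₂ * t * g₂⁻¹))⁻¹ := by
          rw [← h2]
      _ = 1 := mul_inv_cancel _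
  intro κ hκ
  apply hNI _ hΓ _ hκ
  have h1 := hconj κ hκ
  rw [hκ₀1] at h1
  have h2 : κ = κ⁻¹ := by simpa using h1
  calc κ * κ = κ * κ⁻¹ := by rw [← h2]
    _ = 1 := mul_inv_cancel _

end Cfsg.Agent.Lib.Helper61.KAlt
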