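import Mathlib
import Cfsg.Agent.Lib.Helper61.KAlt11

set_option autoImplicit false
set_option linter.unusedVariables false
set_option linter.unusedSectionVars false

namespace Cfsg.Agent.Lib.Helper61.KAlt

open Equiv Equiv.Perm
open Cfsg.Agent.Lib.Helper61.Miller

variable {α : Type*} [Fintype α] [DecidableEq α]

/-- an involution with exactly two fixed points -/
theorem exists_inv2 {G : Subgroup (Perm α)} (hS : Star G 4) (hE : Ext G 4) (hNI : NI G)
    (hn : 4 < Fintype.card α) (heven : Even (Fintype.card α)) :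
    ∃ (t : Perm α) (q1 q2 r1 r2 : α), q1 ≠ q2 ∧ q1 ≠ r1 ∧ q1 ≠ r2 ∧ q2 ≠ r1 ∧ q2 ≠ r2 ∧
      r1 ≠ r2 ∧ t ∈ G ∧ t * t = 1 ∧ t q1 = q2 ∧ t q2 = q1 ∧ t r1 = r1 ∧ t r2 = r2 ∧
      ∀ w, t w = w → w = r1 ∨ w = r2 := by
  classical
  have huniv : (Finset.univ : Finset α).card = Fintype.card α := Finset.card_univ
  obtain ⟨p1, -, -⟩ := exists_notin (Γ := (Finset.univ : Finset α)) ∅ (by rw [huniv]; simp; omega)
  obtain ⟨p2, -, h2n⟩ := exists_notin (Γ := (Finset.univ : Finset α)) {p1}
    (by rw [huniv, Finset.card_singleton]; omega)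
  obtain ⟨p3, -, h3n⟩ := exists_notin (Γ := (Finset.univ : Finset α)) {p1, p2}
    (lt_of_le_of_lt Finset.card_le_two (by omega))
  obtain ⟨p4, -, h4n⟩ := exists_notin (Γ := (Finset.univ : Finset α)) {p1, p2, p3}
    (lt_of_le_of_lt Finset.card_le_three (by omega))
  simp only [Finset.mem_insert, Finset.mem_singleton, not_or] at h2n h3n h4n
  have h12 : p1 ≠ p2 := Ne.symm h2n
  have h13 : p1 ≠ p3 := Ne.symm h3n.1
  have h23 : p2 ≠ p3 := Ne.symm h3n.2
  have h14 : p1 ≠ p4 := Ne.symm h4n.1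
  have h24 : p2 ≠ p4 := Ne.symm h4n.2.1
  have h34 : p3 ≠ p4 := Ne.symm h4n.2.2
  have hΛcard : ({p1, p2, p3, p4} : Finset α).card = 4 := by
    rw [Finset.card_insert_of_notMem, Finset.card_insert_of_notMem,
      Finset.card_insert_of_notMem, Finset.card_singleton]
    · simpa using h34
    · simp [h23, h24]
    · simp [h12, h13, h14]
  obtain ⟨s₀, hs₀, hs₀f⟩ := hE {p1, p2, p3, p4} hΛcard.le (swap p1 p2)
    (swap p1 p2).injective.injOn
  have hf : ∀ w ∈ ({p1, p2, p3, p4} : Finset α), swap p1 p2 w ∈ ({p1, p2, p3, p4} : Finset α) := by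
    intro w hw
    simp only [Finset.mem_insert, Finset.mem_singleton] at hw ⊢
    rcases hw with rfl | rfl | rfl | rfl
    · rw [swap_apply_left]; simp
    · rw [swap_apply_right]; simp
    · rw [swap_apply_of_ne_of_ne (Ne.symm h13) (Ne.symm h23)]; simp
    · rw [swap_apply_of_ne_of_ne (Ne.symm h14) (Ne.symm h24)]; simp
  have hKodd : Odd (Nat.card (fixG G {p1, p2, p3, p4})) :=
    odd_card_of_no_involution _ (hNI _ hΛcard)
  obtain ⟨t, ht, htf, htt⟩ := exists_inv_lift G {p1, p2, p3, p4} (swap p1 p2) hf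
    (fun w _ => swap_apply_self p1 p2 w) hKodd s₀ hs₀ hs₀f
  have ht1 : t p1 = p2 := by rw [htf p1 (by simp), swap_apply_left]
  have ht2 : t p2 = p1 := by rw [htf p2 (by simp), swap_apply_right]
  have ht3 : t p3 = p3 := by
    rw [htf p3 (by simp), swap_apply_of_ne_of_ne (Ne.symm h13) (Ne.symm h23)]
  have ht4 : t p4 = p4 := by
    rw [htf p4 (by simp), swap_apply_of_ne_of_ne (Ne.symm h14) (Ne.symm h24)]
  have htne : t ≠ 1 := by
    intro h
    rw [h] at ht1
    exact h12 ht1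
  have hsub : ({p3, p4} : Finset α) ⊆ fixS t := by
    intro w hw
    simp only [Finset.mem_insert, Finset.mem_singleton] at hw
    rcases hw with rfl | rfl
    · exact mem_fixS.mpr ht3
    · exact mem_fixS.mpr ht4
  have hfixcard : (fixS t).card = 2 := by
    have h2 := Finset.card_le_card hsub
    rw [Finset.card_pair h34] at h2
    have h1 := hS t ht htne
    have h4 := fixS_parity htt
    have h5 : (fixS t).card ≤ Fintype.card α := Finset.card_le_univ _
    have h6 : (fixS t).card ≠ 4 := by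
      intro h
      exact htne (hNI (fixS t) h t ⟨ht, fun a ha => mem_fixS.mp ha⟩ htt)
    rcases h4 with ⟨r, hr⟩
    rcases heven with ⟨q, hq⟩
    omega
  have hfix : fixS t = {p3, p4} :=
    (Finset.eq_of_subset_of_card_le hsub (by rw [hfixcard, Finset.card_pair h34])).symm
  refine ⟨t, p1, p2, p3, p4, h12, h13, h14, h23, h24, h34, ht, htt, ht1, ht2, ht3, ht4, ?_⟩
  intro w hw
  have : w ∈ fixS t := mem_fixS.mpr hw
  rw [hfix] at this
  simpa using this

/-- under `NI` and even degree, all four-point stabilizers are trivial -/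
theorem caseC_trivial {G : Subgroup (Perm α)} (hS : Star G 4) (hE : Ext G 4) (hNI : NI G)
    (hn : 4 < Fintype.card α) (heven : Even (Fintype.card α)) :
    ∀ Λ : Finset α, Λ.card = 4 → ∀ g ∈ fixG G Λ, g = 1 := by
  classical
  obtain ⟨t, q1, q2, r1, r2, h12, hq1r1, hq1r2, hq2r1, hq2r2, hr, ht, htt, ht1, ht2, htr1, htr2,
    hfix⟩ := exists_inv2 hS hE hNI hn heven
  obtain ⟨y, -, hyn⟩ := exists_notin (Γ := (Finset.univ : Finset α)) {q1, q2, r1, r2}
    (lt_of_le_of_lt Finset.card_le_four (by rw [Finset.card_univ]; omega))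
  simp only [Finset.mem_insert, Finset.mem_singleton, not_or] at hyn
  have hK := caseC_K hS hE hNI h12 hq1r1 hq1r2 hq2r1 hq2r2 hr ht htt ht1 ht2 htr1 htr2 hfix
    hyn.1 hyn.2.1 hyn.2.2.1 hyn.2.2.2
  have hΓcard : ({q1, q2, y, t y} : Finset α).card ≤ 4 := Finset.card_le_four
  intro Λ hΛ g hg
  have hΓ4 : ({q1, q2, y, t y} : Finset α).card = 4 := by
    -- recompute the cardinality from the distinctness facts
    have htty : t (t y) = y := invol_apply htt y
    have hty_y : t y ≠ y := by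
      intro h
      rcases hfix y h with e | e
      · exact hyn.2.2.1 e
      · exact hyn.2.2.2 e
    have hty1 : t y ≠ q1 := by
      intro h
      have : t (t y) = q2 := by rw [h, ht1]
      rw [htty] at this
      exact hyn.2.1 this
    have hty2 : t y ≠ q2 := by
      intro h
      have : t (t y) = q1 := by rw [h, ht2]
      rw [htty] at this
      exact hyn.1 this
    rw [Finset.card_insert_of_notMem, Finset.card_insert_of_notMem,
      Finset.card_insert_of_notMem, Finset.card_singleton]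
    · simpa using Ne.symm hty_y
    · simp [Ne.symm hyn.2.1, Ne.symm hty2]
    · simp [h12, Ne.symm hyn.1, Ne.symm hty1]
  obtain ⟨h, hh, hhΛ⟩ := exists_map_finset hE Λ {q1, q2, y, t y} hΛ.le (by rw [hΛ, hΓ4])
  have h1 := conj_mem_fixG hh hhΛ (by rw [hΛ, hΓ4]) hg
  have h2 := hK _ h1
  have := congrArg (fun f => h⁻¹ * f * h) h2
  simpa [mul_assoc] using this

/-- **Case (c)** -/
theorem caseC {G : Subgroup (Perm α)} (hS : Star G 4) (hE : Ext G 4) (hNI : NI G)
    (hn : 4 < Fintype.card α) (heven : Even (Fintype.card α)) :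
    ∃ (Γ : Finset α) (x : α), Γ.card = 4 ∧ x ∉ Γ ∧ GP3 G Γ x := by
  classical
  have htriv := caseC_trivial hS hE hNI hn heven
  have h4 : MulAction.IsMultiplyPretransitive ↥G α 4 := pretransitive_of_ext G 4 hE
  have hsharp : ∀ x : Fin 4 ↪ α, MulAction.stabilizer ↥G x = ⊥ := by
    intro x
    rw [Subgroup.eq_bot_iff_forall]
    intro g hg
    rw [MulAction.mem_stabilizer_iff] at hg
    have hΛ : (Finset.univ.map x).card = 4 := by simp
    have hmem : (g : Perm α) ∈ fixG G (Finset.univ.map x) := by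
      refine ⟨g.2, ?_⟩
      intro a ha
      rw [Finset.mem_map] at ha
      obtain ⟨i, -, rfl⟩ := ha
      have := DFunLike.congr_fun hg i
      exact this
    exact Subtype.ext (htriv _ hΛ _ hmem)
  have hne : Nonempty (Fin 4 ↪ α) := by
    apply Function.Embedding.nonempty_of_card_le
    rw [Fintype.card_fin]; omega
  obtain ⟨_, _, h6⟩ := Cfsg.Agent.S0708.result h4 hsharp hne
  rw [Nat.card_eq_fintype_card] at h6
  have hn6 := h6 heven
  obtain ⟨Γ, -, hΓ⟩ := Finset.exists_subset_card_eq (s := (Finset.univ : Finset α)) (n := 4)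
    (by rw [Finset.card_univ]; omega)
  obtain ⟨x, -, hx⟩ := exists_notin (Γ := (Finset.univ : Finset α)) Γ
    (by rw [hΓ, Finset.card_univ]; exact hn)
  have hpos : 0 < Nat.card (fixG G Γ) := Nat.card_pos
  have hR : R2 G Γ := r2_of_card hS hΓ (by omega)
  exact ⟨Γ, x, hΓ, hx, lemmaD hE hΓ hx hR⟩

/-- **Case (b)** -/
theorem caseB {G : Subgroup (Perm α)} (hS : Star G 4) (hE : Ext G 4)
    (hn : 4 < Fintype.card α) {Γ : Finset α} (hΓ : Γ.card = 4) {j : Perm α}
    (hj : j ∈ fixG G Γ) (hjj : j * j = 1) (hj1 : j ≠ 1) :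
    ∃ (Γ : Finset α) (x : α), Γ.card = 4 ∧ x ∉ Γ ∧ GP3 G Γ x := by
  classical
  obtain ⟨q1, q2, q3, q4, h12, h13, h14, h23, h24, h34, rfl⟩ := Finset.card_eq_four.mp hΓ
  have hcount := caseB_count hS hE h12 h13 h14 h23 h24 h34 hj hjj hj1
  obtain ⟨x, -, hx⟩ := exists_notin (Γ := (Finset.univ : Finset α)) {q1, q2, q3, q4}
    (by rw [hΓ, Finset.card_univ]; exact hn)
  have hpos : 0 < Nat.card (fixG G {q1, q2, q3, q4}) := Nat.card_pos
  have hR : R2 G {q1, q2, q3, q4} := r2_of_card hS hΓ (by omega)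
  exact ⟨_, x, hΓ, hx, lemmaD hE hΓ hx hR⟩

/-- **The base case** `k = 4` under `Star`. -/
theorem base4 {G : Subgroup (Perm α)} (hS : Star G 4) (hE : Ext G 4)
    (hn : 4 < Fintype.card α) :
    (∃ Δ : Finset α, Δ.card = 5 ∧ alternatingGroup ↥Δ ≤ indGroup G Δ) ∨
    (∃ (Γ : Finset α) (x : α), Γ.card = 4 ∧ x ∉ Γ ∧ GP3 G Γ x) := by
  by_cases hNI : NI G
  · rcases Nat.even_or_odd (Fintype.card α) with heven | hodd
    · exact Or.inr (caseC hS hE hNI hn heven)
    · exact Or.inl (caseA hS hE hn hodd)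
  · unfold NI at hNI
    push Not at hNI
    obtain ⟨Λ, hΛ, j, hj, hjj, hj1⟩ := hNI
    exact Or.inr (caseB hS hE hn hΛ hj hjj hj1)

end Cfsg.Agent.Lib.Helper61.KAlt
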