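import Mathlib
import Cfsg.Agent.Lib.Helper61.KAlt12
import Cfsg.Agent.S0743

set_option autoImplicit false
set_option linter.unusedVariables false
set_option linter.unusedSectionVars false

namespace Cfsg.Agent.Lib.Helper61.KAlt

open Equiv Equiv.Perm
open Cfsg.Agent.Lib.Helper61.Miller

section grp
variable {G : Type*} [Group G] [Finite G]

theorem exists_isSyl_ge {p : ℕ} [Fact p.Prime] {K Q : Subgroup G} (hQK : Q ≤ K)
    (hQ : IsPGroup p Q) : ∃ P, IsSyl p K P ∧ Q ≤ P := by
  have hQ' : IsPGroup p (Q.subgroupOf K) := hQ.comap_subtype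
  obtain ⟨S, hS⟩ := hQ'.exists_le_sylow
  refine ⟨(S : Subgroup ↥K).map K.subtype, ⟨Subgroup.map_subtype_le _, ?_⟩, ?_⟩
  · rw [Subgroup.card_map_of_injective K.subtype_injective]
    exact S.card_eq_multiplicity
  · intro y hy
    exact ⟨⟨y, hQK hy⟩, hS (by rw [Subgroup.mem_subgroupOf]; exact hy), rfl⟩

theorem exists_normalizing {p : ℕ} [Fact p.Prime] {P Q : Subgroup G} (hP : IsPGroup p P)
    (hQP : Q ≤ P) (hne : Q ≠ P) :
    ∃ x ∈ P, x ∉ Q ∧ x ∈ Subgroup.normalizer (Q : Set G) := by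
  have hnil : Group.IsNilpotent ↥P := hP.isNilpotent
  have hnc : NormalizerCondition ↥P := Group.normalizerCondition_of_isNilpotent
  have hlt : Q.subgroupOf P < ⊤ := by
    rw [lt_top_iff_ne_top]
    intro h
    apply hne
    apply le_antisymm hQP
    intro y hy
    have : (⟨y, hy⟩ : ↥P) ∈ Q.subgroupOf P := by rw [h]; trivial
    rwa [Subgroup.mem_subgroupOf] at this
  have h2 := hnc _ hlt
  obtain ⟨x, hxN, hxQ⟩ := SetLike.exists_of_lt h2
  refine ⟨x, x.2, ?_, ?_⟩
  · intro h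
    exact hxQ (by rw [Subgroup.mem_subgroupOf]; exact h)
  · rw [Subgroup.mem_normalizer_iff]
    rw [Subgroup.mem_normalizer_iff] at hxN
    intro n
    constructor
    · intro hn
      have := (hxN ⟨n, hQP hn⟩).mp (by rw [Subgroup.mem_subgroupOf]; exact hn)
      rw [Subgroup.mem_subgroupOf] at this
      simpa using this
    · intro hn
      have hnP : n ∈ P := by
        have h3 : (x : G) * n * (x : G)⁻¹ ∈ P := hQP hn
        have := P.mul_mem (P.mul_mem (P.inv_mem x.2) h3) x.2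
        have e : (x : G)⁻¹ * ((x : G) * n * (x : G)⁻¹) * (x : G) = n := by group
        rwa [e] at this
      have := (hxN ⟨n, hnP⟩).mpr (by rw [Subgroup.mem_subgroupOf]; simpa using hn)
      rwa [Subgroup.mem_subgroupOf] at this

end grp

variable {α : Type*} [Fintype α] [DecidableEq α]

/-- the fixed points of a subgroup -/
noncomputable def fixQ (Q : Subgroup (Perm α)) : Finset α := by
  classical exact Finset.univ.filter (fun a => FixedBy Q a)

theorem mem_fixQ {Q : Subgroup (Perm α)} {a : α} : a ∈ fixQ Q ↔ FixedBy Q a := by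
  classical
  simp [fixQ]

theorem fixQ_anti {Q Q' : Subgroup (Perm α)} (h : Q ≤ Q') : fixQ Q' ⊆ fixQ Q := by
  intro a ha
  rw [mem_fixQ] at ha ⊢
  exact fun u hu => ha u (h hu)

theorem fixQ_card_lt {Q : Subgroup (Perm α)} (hQ : Q ≠ ⊥) : (fixQ Q).card < Fintype.card α := by
  obtain ⟨u, hu, hu1⟩ : ∃ u ∈ Q, u ≠ 1 := by
    by_contra hcon
    push Not at hcon
    apply hQ
    rw [Subgroup.eq_bot_iff_forall]
    exact hcon
  obtain ⟨a, ha⟩ : ∃ a, u a ≠ a := by
    by_contra hcon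
    push Not at hcon
    exact hu1 (Perm.ext hcon)
  rw [← Finset.card_univ]
  apply Finset.card_lt_card
  rw [Finset.ssubset_univ_iff]
  intro h
  have : a ∈ fixQ Q := by rw [h]; exact Finset.mem_univ _
  rw [mem_fixQ] at this
  exact ha (this u hu)

theorem isPGroup_indGroup {p : ℕ} (Q : Subgroup (Perm α)) (F : Finset α) (h : IsPGroup p Q) :
    IsPGroup p (indGroup Q F) := by
  rintro ⟨σ, x, hx, hxσ⟩
  obtain ⟨m, hm⟩ := h ⟨x, hx⟩
  have hm' : x ^ (p ^ m) = 1 := by
    have := congrArg Subtype.val hm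
    simpa using this
  have hpow : ∀ j : ℕ, ∀ b : ↥F, (x ^ j) (b : α) = ((σ ^ j) b : α) := by
    intro j
    induction j with
    | zero => intro b; simp
    | succ j ih =>
      intro b
      rw [pow_succ, pow_succ, Perm.mul_apply, Perm.mul_apply, hxσ b, ih (σ b)]
  refine ⟨m, ?_⟩
  apply Subtype.ext
  show σ ^ (p ^ m) = 1
  ext b
  rw [← hpow (p ^ m) b, hm']
  rfl

/-- candidates for the maximal `p`-subgroup -/
def Cand (G : Subgroup (Perm α)) (p k : ℕ) (Q : Subgroup (Perm α)) : Prop :=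
  Q ≤ G ∧ IsPGroup p Q ∧ Q ≠ ⊥ ∧ k + 1 ≤ (fixQ Q).card

theorem exists_cand {G : Subgroup (Perm α)} {k : ℕ} (hnS : ¬ Star G k) :
    ∃ p : ℕ, p.Prime ∧ ∃ Q, Cand G p k Q := by
  unfold Star at hnS
  push Not at hnS
  obtain ⟨g, hg, hg1, hgfix⟩ := hnS
  have hord : orderOf g ≠ 1 := by
    intro h
    exact hg1 (orderOf_eq_one_iff.mp h)
  obtain ⟨p, hp, hpd⟩ := Nat.exists_prime_and_dvd hord
  have hpos : orderOf g ≠ 0 := (orderOf_pos g).ne'
  have hord' : orderOf (g ^ (orderOf g / p)) = p := orderOf_pow_orderOf_div hpos hpd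
  refine ⟨p, hp, Subgroup.zpowers (g ^ (orderOf g / p)), ?_, ?_, ?_, ?_⟩
  · rw [Subgroup.zpowers_le]
    exact G.pow_mem hg _
  · apply IsPGroup.of_card (n := 1)
    rw [Nat.card_zpowers, hord', pow_one]
  · intro h
    rw [Subgroup.zpowers_eq_bot] at h
    rw [h, orderOf_one] at hord'
    exact hp.one_lt.ne hord'
  · have hsub : fixS g ⊆ fixQ (Subgroup.zpowers (g ^ (orderOf g / p))) := by
      intro a ha
      rw [mem_fixS] at ha
      rw [mem_fixQ]
      intro u hu
      rw [Subgroup.mem_zpowers_iff] at hu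
      obtain ⟨z, rfl⟩ := hu
      exact Perm.zpow_apply_eq_self_of_apply_eq_self
        (Perm.pow_apply_eq_self_of_apply_eq_self ha _) z
    have := Finset.card_le_card hsub
    omega

end Cfsg.Agent.Lib.Helper61.KAlt
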