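import Mathlib
import Cfsg.Agent.Lib.Helper61.KAlt13

set_option autoImplicit false
set_option linter.unusedVariables false
set_option linter.unusedSectionVars false

namespace Cfsg.Agent.Lib.Helper61.KAlt

open Equiv Equiv.Perm
open Cfsg.Agent.Lib.Helper61.Miller

variable {α : Type*} [Fintype α] [DecidableEq α]

theorem step1_key {G : Subgroup (Perm α)} {p k : ℕ} [Fact p.Prime]
    {Q : Subgroup (Perm α)} (hQ : Cand G p k Q)
    (hmax : ∀ Q', Cand G p k Q' → Nat.card Q' ≤ Nat.card Q)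
    (h : ∀ A : Finset α, A ⊆ fixQ Q → A.card = k → ¬ IsSyl p (fixG G A) Q) :
    ∀ A : Finset α, A ⊆ fixQ Q → A.card = k →
      ∃ Q₁ : Subgroup (Perm α), Q₁ ≤ G ⊓ Subgroup.normalizer (Q : Set (Perm α)) ∧
        IsPGroup p Q₁ ∧ fixQ Q₁ = A := by
  intro A hAF hA
  have hQK : Q ≤ fixG G A := fun u hu => ⟨hQ.1 hu, fun a ha => (mem_fixQ.mp (hAF ha)) u hu⟩
  obtain ⟨P, hP, hQP⟩ := exists_isSyl_ge hQK hQ.2.1
  have hne : Q ≠ P := by
    intro e
    apply h A hAF hA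
    rw [e]; exact hP
  obtain ⟨x, hxP, hxQ, hxN⟩ := exists_normalizing hP.isPGroup hQP hne
  have hQQ₁ : Q ≤ P ⊓ Subgroup.normalizer (Q : Set (Perm α)) := le_inf hQP Subgroup.le_normalizer
  have hx₁ : x ∈ P ⊓ Subgroup.normalizer (Q : Set (Perm α)) := ⟨hxP, hxN⟩
  have hQ₁P : P ⊓ Subgroup.normalizer (Q : Set (Perm α)) ≤ P := inf_le_left
  have hQ₁G : P ⊓ Subgroup.normalizer (Q : Set (Perm α)) ≤ G := fun u hu => (hP.1 (hQ₁P hu)).1
  have hQ₁p : IsPGroup p ↥(P ⊓ Subgroup.normalizer (Q : Set (Perm α))) :=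
    hP.isPGroup.to_le hQ₁P
  have hQ₁bot : P ⊓ Subgroup.normalizer (Q : Set (Perm α)) ≠ ⊥ := by
    intro e
    apply hQ.2.2.1
    rw [← le_bot_iff, ← e]
    exact hQQ₁
  have hcard : ¬ Nat.card ↥(P ⊓ Subgroup.normalizer (Q : Set (Perm α))) ≤ Nat.card Q := by
    intro hle
    have := Subgroup.eq_of_le_of_card_ge hQQ₁ hle
    apply hxQ
    rw [this]; exact hx₁
  have hfixle : (fixQ (P ⊓ Subgroup.normalizer (Q : Set (Perm α)))).card ≤ k := by
    by_contra hc
    push Not at hc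
    exact hcard (hmax _ ⟨hQ₁G, hQ₁p, hQ₁bot, hc⟩)
  have hAsub : A ⊆ fixQ (P ⊓ Subgroup.normalizer (Q : Set (Perm α))) :=
    fun a ha => mem_fixQ.mpr (fun u hu => (hP.1 (hQ₁P hu)).2 a ha)
  have hfix : fixQ (P ⊓ Subgroup.normalizer (Q : Set (Perm α))) = A :=
    (Finset.eq_of_subset_of_card_le hAsub (by rw [hA]; exact hfixle)).symm
  exact ⟨_, fun u hu => ⟨hQ₁G hu, hu.2⟩, hQ₁p, hfix⟩

theorem step1_ext {G : Subgroup (Perm α)} {p k : ℕ} [Fact p.Prime] (hk : 1 ≤ k) (hE : Ext G k)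
    {Q : Subgroup (Perm α)} (hQ : Cand G p k Q)
    (hmax : ∀ Q', Cand G p k Q' → Nat.card Q' ≤ Nat.card Q) :
    Ext (indGroup (G ⊓ Subgroup.normalizer (Q : Set (Perm α))) (fixQ Q)) k := by
  classical
  by_cases h : ∃ A : Finset α, A ⊆ fixQ Q ∧ A.card = k ∧ IsSyl p (fixG G A) Q
  · obtain ⟨A, hAF, hA, hSyl⟩ := h
    exact witt_ext p G k hE A hA Q hSyl (fixQ Q) (fun a => mem_fixQ)
  · push Not at h
    have key := step1_key hQ hmax h
    have hFcard : k < Fintype.card ↥(fixQ Q) := by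
      rw [Fintype.card_coe]; exact hQ.2.2.2
    have hpre : MulAction.IsMultiplyPretransitive
        ↥(indGroup (G ⊓ Subgroup.normalizer (Q : Set (Perm α))) (fixQ Q)) ↥(fixQ Q) k := by
      apply Cfsg.Agent.S0743.result _ (Fact.out : p.Prime) hk hFcard
      intro s hs
      have hAF : s.map (Function.Embedding.subtype _) ⊆ fixQ Q := by
        intro a ha
        obtain ⟨b, -, rfl⟩ := Finset.mem_map.mp ha
        exact b.2
      have hA : (s.map (Function.Embedding.subtype (fun a => a ∈ fixQ Q))).card = k := by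
        rw [Finset.card_map]; exact hs
      obtain ⟨Q₁, hQ₁M, hQ₁p, hfix⟩ := key _ hAF hA
      refine ⟨(indGroup Q₁ (fixQ Q)).subgroupOf
        (indGroup (G ⊓ Subgroup.normalizer (Q : Set (Perm α))) (fixQ Q)),
        (isPGroup_indGroup Q₁ (fixQ Q) hQ₁p).comap_subtype, ?_⟩
      ext b
      rw [MulAction.mem_fixedPoints]
      constructor
      · intro hb
        have hbA : (b : α) ∈ fixQ Q₁ := by
          rw [mem_fixQ]
          intro x hx
          have hxN : x ∈ Subgroup.normalizer (Q : Set (Perm α)) := (hQ₁M hx).2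
          have hxF : ∀ w ∈ fixQ Q, x w ∈ fixQ Q :=
            fun w hw => mem_fixQ.mpr ((mem_fixQ.mp hw).map hxN)
          obtain ⟨σ, hσ, hσx⟩ := exists_ind (G := Q₁) hx hxF
          have hσM : σ ∈ indGroup (G ⊓ Subgroup.normalizer (Q : Set (Perm α))) (fixQ Q) := by
            obtain ⟨x', hx', h'⟩ := hσ
            exact ⟨x', hQ₁M hx', h'⟩
          have h2 := hb ⟨⟨σ, hσM⟩, by rw [Subgroup.mem_subgroupOf]; exact hσ⟩
          have h3 : σ b = b := h2
          rw [hσx b, h3]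
        rw [hfix] at hbA
        obtain ⟨b', hb', hbb'⟩ := Finset.mem_map.mp hbA
        have : b' = b := Subtype.ext hbb'
        rw [← this]; exact hb'
      · intro hb σ
        have hbA : (b : α) ∈ fixQ Q₁ := by
          rw [hfix]; exact Finset.mem_map.mpr ⟨b, hb, rfl⟩
        rw [mem_fixQ] at hbA
        have hσ : (σ : ↥(indGroup (G ⊓ Subgroup.normalizer (Q : Set (Perm α))) (fixQ Q))).1
            ∈ indGroup Q₁ (fixQ Q) := Subgroup.mem_subgroupOf.mp σ.2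
        obtain ⟨x, hx, hxσ⟩ := hσ
        apply Subtype.ext
        show ((σ.1.1 b : ↥(fixQ Q)) : α) = b
        rw [← hxσ b]; exact hbA x hx
    exact ext_of_pretransitive _ k hpre (by rw [Fintype.card_coe]; have := hQ.2.2.2; omega)

/-- **Step 1**: the reduction when `Star` fails. -/
theorem step1 {G : Subgroup (Perm α)} {k : ℕ} (hk : 1 ≤ k) (hE : Ext G k) (hnS : ¬ Star G k) :
    ∃ (F : Finset α) (M : Subgroup (Perm α)), M ≤ G ∧ k + 1 ≤ F.card ∧
      F.card < Fintype.card α ∧ Ext (indGroup M F) k := by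
  obtain ⟨p, hp, Q₀, hQ₀⟩ := exists_cand hnS
  have : Fact p.Prime := ⟨hp⟩
  have hne : Nonempty {Q : Subgroup (Perm α) // Cand G p k Q} := ⟨⟨Q₀, hQ₀⟩⟩
  obtain ⟨⟨Q, hQ⟩, hmax⟩ := Finite.exists_max
    (fun Q : {Q : Subgroup (Perm α) // Cand G p k Q} => Nat.card Q.1)
  exact ⟨fixQ Q, G ⊓ Subgroup.normalizer (Q : Set (Perm α)), inf_le_left, hQ.2.2.2,
    fixQ_card_lt hQ.2.2.1, step1_ext hk hE hQ (fun Q' hQ' => hmax ⟨Q', hQ'⟩)⟩

end Cfsg.Agent.Lib.Helper61.KAlt
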