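import Mathlib
import Cfsg.Agent.Lib.Helper61.KAlt14

set_option autoImplicit false
set_option linter.unusedVariables false
set_option linter.unusedSectionVars false

namespace Cfsg.Agent.Lib.Helper61.KAlt

open Equiv Equiv.Perm
open Cfsg.Agent.Lib.Helper61.Miller

universe u

section
variable {α : Type*} [Fintype α] [DecidableEq α]

theorem indGroup_mono {M G : Subgroup (Perm α)} (h : M ≤ G) (S : Finset α) :
    indGroup M S ≤ indGroup G S := by
  rintro σ ⟨x, hx, hxσ⟩
  exact ⟨x, h hx, hxσ⟩

/-- the point stabilizer is `(k-1)`-transitive on the remaining points -/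
theorem ext_pointStab {G : Subgroup (Perm α)} {k : ℕ} (hk : 1 ≤ k) (hE : Ext G k) (a : α) :
    Ext (indGroup (fixG G {a}) (Finset.univ.erase a)) (k - 1) := by
  classical
  intro s hs f hf
  have haS : a ∉ (Finset.univ.erase a : Finset α) := Finset.notMem_erase a _
  have hanot : a ∉ s.map (Function.Embedding.subtype (fun b => b ∈ (Finset.univ.erase a : Finset α))) := by
    intro h
    obtain ⟨b, -, hb⟩ := Finset.mem_map.mp h
    exact (Finset.mem_erase.mp b.2).1 hb
  have hcard : (insert a (s.map (Function.Embedding.subtype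
      (fun b => b ∈ (Finset.univ.erase a : Finset α))))).card ≤ k := by
    rw [Finset.card_insert_of_notMem hanot, Finset.card_map]
    omega
  let f' : α → α := fun b => if h : b ∈ (Finset.univ.erase a : Finset α) then (f ⟨b, h⟩ : α) else b
  have hf'a : f' a = a := by simp only [f', dif_neg haS]
  have hf'S : ∀ b : ↥(Finset.univ.erase a : Finset α), f' (b : α) = (f b : α) := by
    intro b
    simp only [f', dif_pos b.2]
  have hf'ne : ∀ b : ↥(Finset.univ.erase a : Finset α), f' (b : α) ≠ a := by
    intro b h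
    rw [hf'S] at h
    exact (Finset.mem_erase.mp (f b).2).1 h
  have hinj : Set.InjOn f' ((insert a (s.map (Function.Embedding.subtype
      (fun b => b ∈ (Finset.univ.erase a : Finset α)))) : Finset α) : Set α) := by
    intro b hb c hc hbc
    rw [Finset.mem_coe, Finset.mem_insert] at hb hc
    rcases hb with hb | hb <;> rcases hc with hc | hc
    · rw [hb, hc]
    · obtain ⟨c', hc', rfl⟩ := Finset.mem_map.mp hc
      rw [hb, hf'a] at hbc
      exact absurd hbc.symm (hf'ne c')
    · obtain ⟨b', hb', rfl⟩ := Finset.mem_map.mp hb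
      rw [hc, hf'a] at hbc
      exact absurd hbc (hf'ne b')
    · obtain ⟨b', hb', rfl⟩ := Finset.mem_map.mp hb
      obtain ⟨c', hc', rfl⟩ := Finset.mem_map.mp hc
      show (b' : α) = c'
      have h1 : f' (b' : α) = f' (c' : α) := hbc
      rw [hf'S, hf'S] at h1
      have h2 := hf hb' hc' (Subtype.ext h1)
      rw [h2]
  obtain ⟨g, hg, hgs⟩ := hE _ hcard f' hinj
  have hga : g a = a := by rw [hgs a (Finset.mem_insert_self _ _), hf'a]
  have hgfix : g ∈ fixG G {a} := by
    refine ⟨hg, ?_⟩
    intro w hw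
    rw [Finset.mem_singleton] at hw
    rw [hw]; exact hga
  have hgS : ∀ w ∈ (Finset.univ.erase a : Finset α), g w ∈ (Finset.univ.erase a : Finset α) := by
    intro w hw
    rw [Finset.mem_erase] at hw ⊢
    refine ⟨?_, Finset.mem_univ _⟩
    intro h
    exact hw.1 (g.injective (h.trans hga.symm))
  obtain ⟨σ, hσ, hσg⟩ := exists_ind hgfix hgS
  refine ⟨σ, hσ, ?_⟩
  intro b hb
  apply Subtype.ext
  rw [← hσg b, hgs b (Finset.mem_insert_of_mem (Finset.mem_map.mpr ⟨b, hb, rfl⟩)), hf'S]

end

/-- the main induction on the degree, for fixed `k` -/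
theorem main_step (k : ℕ) (hk : 4 ≤ k)
    (hpair : ∀ (α : Type u) [Fintype α] [DecidableEq α] (G : Subgroup (Perm α)),
      Star G k → Ext G k → k < Fintype.card α →
      (∃ Δ : Finset α, Δ.card = k + 1 ∧ alternatingGroup ↥Δ ≤ indGroup G Δ) ∨
      (∃ (Γ : Finset α) (x : α), Γ.card = k ∧ x ∉ Γ ∧ GP3 G Γ x)) :
    ∀ (n : ℕ) (α : Type u) [Fintype α] [DecidableEq α] (G : Subgroup (Perm α)),
      Fintype.card α = n → Ext G k → k < n →
      ∃ Δ : Finset α, Δ.card = k + 1 ∧ alternatingGroup ↥Δ ≤ indGroup G Δ := by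
  intro n
  induction n using Nat.strong_induction_on with
  | _ n ih =>
    intro α _ _ G hcard hE hkn
    by_cases hS : Star G k
    · rcases hpair α G hS hE (by rw [hcard]; exact hkn) with h | ⟨Γ, x, hΓ, hx, h3⟩
      · exact h
      · exact ⟨insert x Γ, by rw [Finset.card_insert_of_notMem hx, hΓ],
          step2b hS hE hk hΓ hx h3⟩
    · obtain ⟨F, M, hMG, hFk, hFn, hEF⟩ := step1 (by omega) hE hS
      obtain ⟨Δ', hΔ', hAlt⟩ := ih F.card (by rw [← hcard]; exact hFn) ↥F (indGroup M F)
        (Fintype.card_coe F) hEF (by omega)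
      refine ⟨Δ'.map (Function.Embedding.subtype _), by rw [Finset.card_map]; exact hΔ', ?_⟩
      exact (transfer M F Δ' hAlt).trans (indGroup_mono hMG _)

theorem main_all : ∀ k, 4 ≤ k → ∀ (n : ℕ) (α : Type u) [Fintype α] [DecidableEq α]
    (G : Subgroup (Perm α)), Fintype.card α = n → Ext G k → k < n →
    ∃ Δ : Finset α, Δ.card = k + 1 ∧ alternatingGroup ↥Δ ≤ indGroup G Δ := by
  intro k hk
  induction k, hk using Nat.le_induction with
  | base => exact main_step 4 le_rfl (fun α _ _ G hS hE hn => base4 hS hE hn)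
  | succ k hk ih =>
    apply main_step (k + 1) (by omega)
    intro α _ _ G hS hE hn
    classical
    right
    have hpos : 0 < Fintype.card α := by omega
    obtain ⟨a⟩ : Nonempty α := Fintype.card_pos_iff.mp hpos
    have hES := ext_pointStab (by omega : 1 ≤ k + 1) hE a
    have hcardS : Fintype.card ↥(Finset.univ.erase a : Finset α) = Fintype.card α - 1 := by
      rw [Fintype.card_coe, Finset.card_erase_of_mem (Finset.mem_univ a), Finset.card_univ]
    obtain ⟨Δ', hΔ', hAlt⟩ := ih (Fintype.card α - 1) ↥(Finset.univ.erase a : Finset α)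
      (indGroup (fixG G {a}) (Finset.univ.erase a)) hcardS hES (by omega)
    have h1 := transfer (fixG G {a}) (Finset.univ.erase a) Δ' hAlt
    refine ⟨Δ'.map (Function.Embedding.subtype _), a, by rw [Finset.card_map]; exact hΔ', ?_,
      gp3_of_alt G _ a h1⟩
    intro h
    obtain ⟨b, -, hb⟩ := Finset.mem_map.mp h
    exact (Finset.mem_erase.mp b.2).1 hb

end Cfsg.Agent.Lib.Helper61.KAlt
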