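import Mathlib
import Cfsg.Agent.Lib.Helper61.Miller2

set_option autoImplicit false
set_option linter.unusedVariables false
set_option linter.unusedSectionVars false

namespace Cfsg.Agent.Lib.Helper61.Miller

open Equiv

variable {α : Type*} [Fintype α] [DecidableEq α]

theorem card_fixG_singleton (U : Subgroup (Perm α)) (γ : α) :
    Nat.card (fixG U {γ}) * Nat.card (MulAction.orbit ↥U γ) = Nat.card U := by
  have h1 : (MulAction.stabilizer ↥U γ).map U.subtype = fixG U {γ} := by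
    ext x
    constructor
    · rintro ⟨u, hu, rfl⟩
      refine ⟨u.2, fun a ha => ?_⟩
      rw [Finset.mem_singleton] at ha
      subst ha
      exact hu
    · rintro ⟨hxU, hx⟩
      exact ⟨⟨x, hxU⟩, hx γ (Finset.mem_singleton_self γ), rfl⟩
  have h2 : Nat.card (fixG U {γ}) = Nat.card (MulAction.stabilizer ↥U γ) := by
    rw [← h1, Subgroup.card_map_of_injective U.subtype_injective]
  rw [h2, Nat.card_coe_set_eq, ← MulAction.index_stabilizer, Subgroup.card_mul_index]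

theorem mem_orbit_sub {U : Subgroup (Perm α)} {a b : α} :
    b ∈ MulAction.orbit ↥U a ↔ ∃ u ∈ U, u a = b := by
  rw [MulAction.mem_orbit_iff]
  constructor
  · rintro ⟨u, rfl⟩
    exact ⟨u, u.2, rfl⟩
  · rintro ⟨u, hu, rfl⟩
    exact ⟨⟨u, hu⟩, rfl⟩


theorem orbit_fixG_eq (G : Subgroup (Perm α)) (Δ : Finset α) (r : ℕ) (hΔ : Δ.card = r)
    (hE : Ext G (r + 1)) {γ : α} (hγ : γ ∉ Δ) :
    MulAction.orbit ↥(fixG G Δ) γ = ((Δ : Set α))ᶜ := by
  ext b
  rw [mem_orbit_sub]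
  constructor
  · rintro ⟨u, hu, rfl⟩
    intro hb
    have hb' : u γ ∈ Δ := hb
    have := hu.2 _ hb'
    have h2 := u.injective this
    exact hγ (h2 ▸ hb')
  · intro hb
    have hb' : b ∉ Δ := hb
    obtain ⟨g, hgG, hg⟩ := hE (insert γ Δ) (by rw [Finset.card_insert_of_notMem hγ, hΔ])
      (swap γ b) ((swap γ b).injective.injOn)
    refine ⟨g, ⟨hgG, fun δ hδ => ?_⟩, ?_⟩
    · rw [hg δ (Finset.mem_insert_of_mem hδ)]
      apply swap_apply_of_ne_of_ne
      · rintro rfl; exact hγ hδ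
      · rintro rfl; exact hb' hδ
    · rw [hg γ (Finset.mem_insert_self _ _), swap_apply_left]

theorem card_orbit_fixG (G : Subgroup (Perm α)) (Δ : Finset α) (r : ℕ) (hΔ : Δ.card = r)
    (hE : Ext G (r + 1)) {γ : α} (hγ : γ ∉ Δ) :
    Nat.card (MulAction.orbit ↥(fixG G Δ) γ) = Fintype.card α - r := by
  rw [orbit_fixG_eq G Δ r hΔ hE hγ, Nat.card_coe_set_eq, ← Finset.coe_compl,
    Set.ncard_coe_finset, Finset.card_compl, hΔ]

theorem card_orbit_sylow (p : ℕ) [Fact p.Prime] (G : Subgroup (Perm α)) (Δ : Finset α) (k r : ℕ)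
    (hcard : Fintype.card α = k * p + r) (hΔ : Δ.card = r) (hk1 : 1 ≤ k) (hkp : k < p)
    (hE : Ext G (r + 1)) (P : Subgroup (Perm α)) (hP : IsSyl p (fixG G Δ) P) {γ : α}
    (hγ : γ ∉ Δ) : Nat.card (MulAction.orbit ↥P γ) = p := by
  have hp : p.Prime := Fact.out
  set K := fixG G Δ with hK
  have hKorb : Nat.card (MulAction.orbit ↥K γ) = k * p := by
    rw [card_orbit_fixG G Δ r hΔ hE hγ, hcard]; omega
  have h1 := card_fixG_singleton K γ
  have h2 := card_fixG_singleton P γ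
  rw [hKorb] at h1
  rw [hP.2] at h2
  have hle : fixG P {γ} ≤ fixG K {γ} := by
    rintro x ⟨hxP, hx⟩
    exact ⟨hP.1 hxP, hx⟩
  have hdvd : Nat.card (fixG P {γ}) ∣ Nat.card (fixG K {γ}) := Subgroup.card_dvd_of_le hle
  have hKpos : Nat.card K ≠ 0 := Nat.card_pos.ne'
  obtain ⟨m, hm, hm2⟩ := (Nat.dvd_prime_pow hp).mp (Dvd.intro_left _ h2)
  obtain ⟨b, hb, hb2⟩ := (Nat.dvd_prime_pow hp).mp (Dvd.intro _ h2)
  rw [hm2]
  -- b + m = a
  rw [hm2, hb2, ← pow_add] at h2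
  have hbm : b + m = (Nat.card K).factorization p := Nat.pow_right_injective hp.two_le h2
  -- p^(b+1) ∣ |K|
  have h3 : p ^ (b + 1) ∣ Nat.card K := by
    rw [← h1, pow_succ]
    rw [hb2] at hdvd
    exact Nat.mul_dvd_mul hdvd (Dvd.intro_left _ rfl)
  have h4 : b + 1 ≤ (Nat.card K).factorization p :=
    (hp.pow_dvd_iff_le_factorization hKpos).mp h3
  have hm1 : 1 ≤ m := by omega
  -- m < 2
  have hsub : Nat.card (MulAction.orbit ↥P γ) ≤ Nat.card (MulAction.orbit ↥K γ) := by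
    rw [Nat.card_coe_set_eq, Nat.card_coe_set_eq]
    apply Set.ncard_le_ncard _ (Set.toFinite _)
    intro x hx
    rw [mem_orbit_sub] at hx ⊢
    obtain ⟨u, hu, rfl⟩ := hx
    exact ⟨u, hP.1 hu, rfl⟩
  rw [hm2, hKorb] at hsub
  have hlt : p ^ m < p ^ 2 := by
    calc p ^ m ≤ k * p := hsub
      _ < p * p := Nat.mul_lt_mul_of_pos_right hkp hp.pos
      _ = p ^ 2 := by ring
  have hm2' : m < 2 := (Nat.pow_lt_pow_iff_right hp.one_lt).mp hlt
  have : m = 1 := by omega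
  rw [this, pow_one]


section F3
variable (p : ℕ) [Fact p.Prime] (U : Subgroup (Perm α)) (hU : IsPGroup p ↥U) (a : α)
  (hO : Nat.card (MulAction.orbit ↥U a) = p)

include hU hO in
theorem stab_fixes {u : Perm α} (hu : u ∈ U) (hua : u a = a) {v : Perm α} (hv : v ∈ U) :
    u (v a) = v a := by
  have hp : p.Prime := Fact.out
  have hidx : (MulAction.stabilizer ↥U a).index = p := by
    rw [MulAction.index_stabilizer, ← Nat.card_coe_set_eq]; exact hO
  obtain ⟨e, he⟩ := hU.exists_card_eq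
  have he0 : e ≠ 0 := by
    rintro rfl
    have := (MulAction.stabilizer ↥U a).index_dvd_card
    rw [hidx, he, pow_zero] at this
    exact hp.one_lt.ne' (Nat.dvd_one.mp this)
  have hnorm : (MulAction.stabilizer ↥U a).Normal := by
    apply Subgroup.normal_of_index_eq_minFac_card
    rw [hidx, he, hp.pow_minFac he0]
  have hmem : (⟨u, hu⟩ : ↥U) ∈ MulAction.stabilizer ↥U a := by
    rw [MulAction.mem_stabilizer_iff]; exact hua
  have h1 := hnorm.conj_mem _ hmem (⟨v, hv⟩⁻¹)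
  rw [MulAction.mem_stabilizer_iff] at h1
  have h2 : (v⁻¹ * u * v⁻¹⁻¹) a = a := h1
  simp only [inv_inv, Perm.mul_apply] at h2
  rw [Perm.inv_eq_iff_eq] at h2
  exact h2

include hU hO in
theorem stab_fixes_orbit {u : Perm α} (hu : u ∈ U) (hua : u a = a) {b : α}
    (hb : b ∈ MulAction.orbit ↥U a) : u b = b := by
  rw [mem_orbit_sub] at hb
  obtain ⟨v, hv, rfl⟩ := hb
  exact stab_fixes p U hU a hO hu hua hv

include hU hO in
theorem pow_p_fix {u : Perm α} (hu : u ∈ U) : (u ^ p) a = a := by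
  have hp : p.Prime := Fact.out
  have hidx : (MulAction.stabilizer ↥U a).index = p := by
    rw [MulAction.index_stabilizer, ← Nat.card_coe_set_eq]; exact hO
  obtain ⟨e, he⟩ := hU.exists_card_eq
  have he0 : e ≠ 0 := by
    rintro rfl
    have := (MulAction.stabilizer ↥U a).index_dvd_card
    rw [hidx, he, pow_zero] at this
    exact hp.one_lt.ne' (Nat.dvd_one.mp this)
  have hnorm : (MulAction.stabilizer ↥U a).Normal := by
    apply Subgroup.normal_of_index_eq_minFac_card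
    rw [hidx, he, hp.pow_minFac he0]
  have h1 := (MulAction.stabilizer ↥U a).pow_index_mem (⟨u, hu⟩ : ↥U)
  rw [hidx, MulAction.mem_stabilizer_iff] at h1
  exact h1

include hU hO in
theorem pow_inj {u₀ : Perm α} (hu₀ : u₀ ∈ U) (hne : u₀ a ≠ a) {i j : ℕ} (hi : i < p) (hj : j < p)
    (hij : i ≤ j) (h : (u₀ ^ i) a = (u₀ ^ j) a) : i = j := by
  have hp : p.Prime := Fact.out
  by_contra hne'
  have hlt : i < j := lt_of_le_of_ne hij hne'
  set d := j - i with hd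
  have hd0 : 0 < d := by omega
  have hdp : d < p := by omega
  have h1 : (u₀ ^ d) a = a := by
    have : j = i + d := by omega
    rw [this, pow_add, Perm.mul_apply] at h
    exact ((u₀ ^ i).injective h).symm
  have hcop : Nat.Coprime d p := (Nat.coprime_of_lt_prime hd0.ne' hdp hp).symm
  obtain ⟨m, -, hm⟩ := Nat.exists_mul_mod_eq_one_of_coprime hcop hp.one_lt
  have h2 : ((u₀ ^ d) ^ m) a = a := Perm.pow_apply_eq_self_of_apply_eq_self h1 m
  have h3 : d * m = p * (d * m / p) + 1 := by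
    have := Nat.div_add_mod (d * m) p
    omega
  rw [← pow_mul, h3, pow_succ, pow_mul, Perm.mul_apply] at h2
  have h4 : (u₀ ^ p) (u₀ a) = u₀ a := by
    have := stab_fixes p U hU a hO (U.pow_mem hu₀ p) (pow_p_fix p U hU a hO hu₀) hu₀
    exact this
  have h5 : ((u₀ ^ p) ^ (d * m / p)) (u₀ a) = u₀ a :=
    Perm.pow_apply_eq_self_of_apply_eq_self h4 _
  rw [h5] at h2
  exact hne h2

include hU hO in
theorem exists_pow {u₀ : Perm α} (hu₀ : u₀ ∈ U) (hne : u₀ a ≠ a) {b : α}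
    (hb : b ∈ MulAction.orbit ↥U a) : ∃ i : ℕ, b = (u₀ ^ i) a := by
  let φ : Fin p → ↥(MulAction.orbit ↥U a) := fun i =>
    ⟨(u₀ ^ (i : ℕ)) a, mem_orbit_sub.mpr ⟨u₀ ^ (i : ℕ), U.pow_mem hu₀ _, rfl⟩⟩
  have hinj : Function.Injective φ := by
    intro i j hij
    have h : (u₀ ^ (i : ℕ)) a = (u₀ ^ (j : ℕ)) a := congrArg Subtype.val hij
    rcases le_total (i : ℕ) (j : ℕ) with hle | hle
    · exact Fin.ext (pow_inj p U hU a hO hu₀ hne i.2 j.2 hle h)
    · exact Fin.ext (pow_inj p U hU a hO hu₀ hne j.2 i.2 hle h.symm).symm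
  have hbij : Function.Bijective φ := by
    apply hinj.bijective_of_nat_card_le
    rw [hO, Nat.card_fin]
  obtain ⟨i, hi⟩ := hbij.2 ⟨b, hb⟩
  exact ⟨i, (congrArg Subtype.val hi).symm⟩

include hU hO in
theorem acts_as_pow {u₀ : Perm α} (hu₀ : u₀ ∈ U) (hne : u₀ a ≠ a) {v : Perm α} (hv : v ∈ U) :
    ∃ l : ℕ, ∀ b ∈ MulAction.orbit ↥U a, v b = (u₀ ^ l) b := by
  have hva : v a ∈ MulAction.orbit ↥U a := mem_orbit_sub.mpr ⟨v, hv, rfl⟩
  obtain ⟨l, hl⟩ := exists_pow p U hU a hO hu₀ hne hva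
  refine ⟨l, fun b hb => ?_⟩
  have h1 : ((u₀ ^ l)⁻¹ * v) a = a := by
    rw [Perm.mul_apply, hl]; simp
  have h2 := stab_fixes_orbit p U hU a hO (U.mul_mem (U.inv_mem (U.pow_mem hu₀ l)) hv) h1 hb
  rw [Perm.mul_apply, Perm.inv_eq_iff_eq] at h2
  exact h2

theorem conj_mem_of_normalizer {z u : Perm α} (hz : z ∈ Subgroup.normalizer (U : Set (Perm α)))
    (hu : u ∈ U) : z * u * z⁻¹ ∈ U := (Subgroup.mem_normalizer_iff.mp hz u).mp hu

theorem map_orbit {z : Perm α} (hz : z ∈ Subgroup.normalizer (U : Set (Perm α)))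
    (hza : z a ∈ MulAction.orbit ↥U a) {b : α} (hb : b ∈ MulAction.orbit ↥U a) :
    z b ∈ MulAction.orbit ↥U a := by
  rw [mem_orbit_sub] at hb hza ⊢
  obtain ⟨u, hu, rfl⟩ := hb
  obtain ⟨v, hv, hva⟩ := hza
  refine ⟨z * u * z⁻¹ * v, U.mul_mem (conj_mem_of_normalizer U hz hu) hv, ?_⟩
  simp only [Perm.mul_apply]
  rw [hva]; simp

theorem inv_map_base {z : Perm α} (hz : z ∈ Subgroup.normalizer (U : Set (Perm α)))
    (hza : z a ∈ MulAction.orbit ↥U a) : z⁻¹ a ∈ MulAction.orbit ↥U a := by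
  rw [mem_orbit_sub] at hza ⊢
  obtain ⟨v, hv, hva⟩ := hza
  have hz' : z⁻¹ ∈ Subgroup.normalizer (U : Set (Perm α)) :=
    (Subgroup.normalizer (U : Set (Perm α))).inv_mem hz
  refine ⟨z⁻¹ * v⁻¹ * z⁻¹⁻¹, conj_mem_of_normalizer U hz' (U.inv_mem hv), ?_⟩
  simp only [inv_inv, Perm.mul_apply]
  rw [← hva]; simp

include hU hO in
theorem affine {u₀ : Perm α} (hu₀ : u₀ ∈ U) (hne : u₀ a ≠ a) {z : Perm α}
    (hz : z ∈ Subgroup.normalizer (U : Set (Perm α))) (hza : z a ∈ MulAction.orbit ↥U a) :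
    ∃ l m : ℕ, ∀ i : ℕ, z ((u₀ ^ i) a) = (u₀ ^ (l * i + m)) a := by
  obtain ⟨l, hl⟩ := acts_as_pow p U hU a hO hu₀ hne (conj_mem_of_normalizer U hz hu₀)
  obtain ⟨m, hm⟩ := exists_pow p U hU a hO hu₀ hne hza
  refine ⟨l, m, fun i => ?_⟩
  induction i with
  | zero => simpa using hm
  | succ i ih =>
    have h1 : z ((u₀ ^ (i + 1)) a) = (z * u₀ * z⁻¹) (z ((u₀ ^ i) a)) := by
      rw [pow_succ']; simp [Perm.mul_apply]
    rw [h1, ih]
    have h2 : (u₀ ^ (l * i + m)) a ∈ MulAction.orbit ↥U a :=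
      mem_orbit_sub.mpr ⟨_, U.pow_mem hu₀ _, rfl⟩
    rw [hl _ h2, ← Perm.mul_apply, ← pow_add]
    congr 2
    ring

include hU hO in
/-- key lemma: commutators of orbit-preserving normalizing elements have `p`-th power acting
trivially on an orbit of length `p` -/
theorem comm_pow_fix {x y : Perm α} (hx : x ∈ Subgroup.normalizer (U : Set (Perm α)))
    (hy : y ∈ Subgroup.normalizer (U : Set (Perm α))) (hxa : x a ∈ MulAction.orbit ↥U a)
    (hya : y a ∈ MulAction.orbit ↥U a) {b : α} (hb : b ∈ MulAction.orbit ↥U a) :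
    ((x * y * x⁻¹ * y⁻¹) ^ p) b = b := by
  have hp : p.Prime := Fact.out
  -- choose u₀
  have hex : ∃ u₀ ∈ U, u₀ a ≠ a := by
    by_contra hcon
    push Not at hcon
    have : MulAction.orbit ↥U a = {a} := by
      ext c
      rw [mem_orbit_sub, Set.mem_singleton_iff]
      constructor
      · rintro ⟨u, hu, rfl⟩; exact hcon u hu
      · rintro rfl; exact ⟨1, U.one_mem, rfl⟩
    rw [this] at hO
    simp at hO
    exact hp.one_lt.ne hO
  obtain ⟨u₀, hu₀, hne⟩ := hex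
  obtain ⟨lx, mx, hxaff⟩ := affine p U hU a hO hu₀ hne hx hxa
  obtain ⟨ly, my, hyaff⟩ := affine p U hU a hO hu₀ hne hy hya
  have hx' := (Subgroup.normalizer (U : Set (Perm α))).inv_mem hx
  have hy' := (Subgroup.normalizer (U : Set (Perm α))).inv_mem hy
  have hxa' := inv_map_base U a hx hxa
  have hya' := inv_map_base U a hy hya
  obtain ⟨w, hw⟩ : ∃ w, w = x * y * x⁻¹ * y⁻¹ := ⟨_, rfl⟩
  rw [← hw]
  obtain ⟨A, hA⟩ : ∃ A, A = ly * mx + my := ⟨_, rfl⟩
  obtain ⟨B, hB⟩ : ∃ B, B = lx * my + mx := ⟨_, rfl⟩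
  have key : ∀ c ∈ MulAction.orbit ↥U a, (u₀ ^ A) (w c) = (u₀ ^ B) c := by
    intro c hc
    have hb' : x⁻¹ (y⁻¹ c) ∈ MulAction.orbit ↥U a :=
      map_orbit U a hx' hxa' (map_orbit U a hy' hya' hc)
    obtain ⟨i, hi⟩ := exists_pow p U hU a hO hu₀ hne hb'
    have hc1 : c = y (x ((u₀ ^ i) a)) := by rw [← hi]; simp
    have hwc : w c = x (y ((u₀ ^ i) a)) := by
      rw [← hi, hw]; simp [Perm.mul_apply]
    rw [hwc, hyaff, hxaff]
    conv_rhs => rw [hc1, hxaff, hyaff]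
    rw [← Perm.mul_apply, ← Perm.mul_apply, ← pow_add, ← pow_add]
    congr 2
    rw [hA, hB]; ring
  obtain ⟨ρ, hρ⟩ : ∃ ρ, ρ = (u₀ ^ A)⁻¹ * u₀ ^ B := ⟨_, rfl⟩
  have hρU : ρ ∈ U := by
    rw [hρ]; exact U.mul_mem (U.inv_mem (U.pow_mem hu₀ _)) (U.pow_mem hu₀ _)
  have hwρ : ∀ c ∈ MulAction.orbit ↥U a, w c = ρ c := by
    intro c hc
    rw [hρ, Perm.mul_apply, ← key c hc]; simp
  have hρO : ∀ c ∈ MulAction.orbit ↥U a, ρ c ∈ MulAction.orbit ↥U a := by
    intro c hc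
    rw [mem_orbit_sub] at hc ⊢
    obtain ⟨u, hu, rfl⟩ := hc
    exact ⟨ρ * u, U.mul_mem hρU hu, rfl⟩
  have hpow : ∀ n : ℕ, ∀ c ∈ MulAction.orbit ↥U a, (w ^ n) c = (ρ ^ n) c ∧
      (ρ ^ n) c ∈ MulAction.orbit ↥U a := by
    intro n
    induction n with
    | zero => intro c hc; exact ⟨rfl, hc⟩
    | succ n ih =>
      intro c hc
      obtain ⟨h1, h2⟩ := ih c hc
      rw [pow_succ', pow_succ', Perm.mul_apply, Perm.mul_apply, h1, hwρ _ h2]
      exact ⟨rfl, hρO _ h2⟩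
  rw [(hpow p b hb).1]
  exact stab_fixes_orbit p U hU a hO (U.pow_mem hρU p) (pow_p_fix p U hU a hO hρU) hb

end F3

end Cfsg.Agent.Lib.Helper61.Miller
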