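import Mathlib
import Cfsg.Agent.Lib.Helper61.Miller3

set_option autoImplicit false
set_option linter.unusedVariables false
set_option linter.unusedSectionVars false

namespace Cfsg.Agent.Lib.Helper61.Miller

open Equiv
open scoped Pointwise Classical

variable {α : Type*} [Fintype α] [DecidableEq α]

/-- orbit as a finset -/
noncomputable def orbF (U : Subgroup (Perm α)) (a : α) : Finset α :=
  Finset.univ.filter (fun b => b ∈ MulAction.orbit ↥U a)

theorem mem_orbF {U : Subgroup (Perm α)} {a b : α} :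
    b ∈ orbF U a ↔ b ∈ MulAction.orbit ↥U a := by simp [orbF]

theorem self_mem_orbF (U : Subgroup (Perm α)) (a : α) : a ∈ orbF U a :=
  mem_orbF.mpr (MulAction.mem_orbit_self a)

theorem orbF_eq_of_mem {U : Subgroup (Perm α)} {a b : α} (h : b ∈ orbF U a) :
    orbF U b = orbF U a := by
  ext c
  rw [mem_orbF, mem_orbF, MulAction.orbit_eq_iff.mpr (mem_orbF.mp h)]

theorem card_orbF (U : Subgroup (Perm α)) (a : α) :
    (orbF U a).card = Nat.card (MulAction.orbit ↥U a) := by
  rw [Nat.card_coe_set_eq, ← Set.ncard_coe_finset]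
  congr 1
  ext b
  simp [mem_orbF]

theorem smul_orbF {U : Subgroup (Perm α)} {z : Perm α}
    (hz : z ∈ Subgroup.normalizer (U : Set (Perm α))) (a : α) :
    z • orbF U a = orbF U (z a) := by
  ext c
  rw [Finset.mem_smul_finset]
  constructor
  · rintro ⟨b, hb, rfl⟩
    rw [mem_orbF, mem_orbit_sub] at hb ⊢
    obtain ⟨u, hu, rfl⟩ := hb
    refine ⟨z * u * z⁻¹, conj_mem_of_normalizer U hz hu, ?_⟩
    simp [Perm.smul_def]
  · intro hc
    rw [mem_orbF, mem_orbit_sub] at hc
    obtain ⟨v, hv, rfl⟩ := hc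
    have hz' := (Subgroup.normalizer (U : Set (Perm α))).inv_mem hz
    refine ⟨(z⁻¹ * v * z⁻¹⁻¹) a, ?_, ?_⟩
    · rw [mem_orbF, mem_orbit_sub]
      exact ⟨_, conj_mem_of_normalizer U hz' hv, rfl⟩
    · simp [Perm.smul_def]


section act
variable (U M : Subgroup (Perm α)) (hM : M ≤ Subgroup.normalizer (U : Set (Perm α)))
  (Γ : Finset α) (hΓM : ∀ z ∈ M, ∀ a ∈ Γ, z a ∈ Γ)

/-- the set of `U`-orbits meeting `Γ` -/
noncomputable def orbSet : Finset (Finset α) := Γ.image (orbF U)

theorem sub_smul_finset (z : ↥M) (O : Finset α) : z • O = (z : Perm α) • O := by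
  ext c
  simp [Finset.mem_smul_finset, Subgroup.smul_def]

/-- the action of `M` on the orbit set -/
noncomputable def orbAct : SubMulAction ↥M (Finset α) where
  carrier := (orbSet U Γ : Set (Finset α))
  smul_mem' := by
    intro z O hO
    have hO' : O ∈ orbSet U Γ := hO
    rw [orbSet, Finset.mem_image] at hO'
    obtain ⟨a, ha, rfl⟩ := hO'
    show z • orbF U a ∈ orbSet U Γ
    rw [sub_smul_finset, smul_orbF (hM z.2), orbSet, Finset.mem_image]
    exact ⟨_, hΓM _ z.2 a ha, rfl⟩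

/-- the permutation representation on orbits -/
noncomputable def orbHom : ↥M →* Perm ↥(orbAct U M hM Γ hΓM) :=
  MulAction.toPermHom ↥M ↥(orbAct U M hM Γ hΓM)

theorem card_orbAct : Nat.card ↥(orbAct U M hM Γ hΓM) = (orbSet U Γ).card := by
  show Nat.card ↥((orbSet U Γ : Set (Finset α))) = _
  rw [Nat.card_coe_set_eq, Set.ncard_coe_finset]

theorem mem_ker_orbHom (z : ↥M) :
    z ∈ (orbHom U M hM Γ hΓM).ker ↔ ∀ a ∈ Γ, (z : Perm α) a ∈ MulAction.orbit ↥U a := by
  rw [MonoidHom.mem_ker]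
  constructor
  · intro h a ha
    have hO : orbF U a ∈ orbAct U M hM Γ hΓM := by
      show orbF U a ∈ orbSet U Γ
      rw [orbSet, Finset.mem_image]; exact ⟨a, ha, rfl⟩
    have h1 := congrArg (fun σ : Perm ↥(orbAct U M hM Γ hΓM) => ((σ ⟨orbF U a, hO⟩ : ↥(orbAct U M hM Γ hΓM)) : Finset α)) h
    simp only [orbHom, MulAction.toPermHom_apply, MulAction.toPerm_apply, SubMulAction.val_smul,
      Perm.coe_one, id_eq] at h1
    rw [sub_smul_finset, smul_orbF (hM z.2)] at h1
    have := self_mem_orbF U ((z : Perm α) a)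
    rw [h1, mem_orbF] at this
    exact this
  · intro h
    ext ⟨O, hO⟩
    have hO' : O ∈ orbSet U Γ := hO
    rw [orbSet, Finset.mem_image] at hO'
    obtain ⟨a, ha, rfl⟩ := hO'
    simp only [orbHom, MulAction.toPermHom_apply, MulAction.toPerm_apply, SubMulAction.val_smul,
      Perm.coe_one, id_eq]
    rw [sub_smul_finset, smul_orbF (hM z.2)]
    rw [orbF_eq_of_mem (mem_orbF.mpr (h a ha))]

theorem card_orbSet_mul (p : ℕ) (hcard : ∀ a ∈ Γ, (orbF U a).card = p)
    (hΓU : ∀ a ∈ Γ, orbF U a ⊆ Γ) : (orbSet U Γ).card * p = Γ.card := by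
  have h1 := Finset.card_eq_sum_card_fiberwise (f := orbF U) (s := Γ) (t := orbSet U Γ)
    (fun a ha => Finset.mem_image_of_mem _ ha)
  rw [h1]
  have h2 : ∀ O ∈ orbSet U Γ, (Γ.filter (fun a => orbF U a = O)).card = p := by
    intro O hO
    rw [orbSet, Finset.mem_image] at hO
    obtain ⟨a₀, ha₀, rfl⟩ := hO
    rw [← hcard a₀ ha₀]
    congr 1
    ext a
    rw [Finset.mem_filter]
    constructor
    · rintro ⟨-, h⟩
      rw [← h]; exact self_mem_orbF U a
    · intro h
      exact ⟨hΓU a₀ ha₀ h, orbF_eq_of_mem h⟩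
  rw [Finset.sum_congr rfl h2, Finset.sum_const, smul_eq_mul]

include hM hΓM in
theorem pow_factorial_orb {z : Perm α} (hz : z ∈ M) {a : α} (ha : a ∈ Γ) :
    (z ^ ((orbSet U Γ).card).factorial) a ∈ MulAction.orbit ↥U a := by
  have h1 : (orbHom U M hM Γ hΓM ⟨z, hz⟩) ^ Nat.card (Perm ↥(orbAct U M hM Γ hΓM)) = 1 :=
    pow_card_eq_one'
  rw [Nat.card_perm, card_orbAct, ← map_pow, ← MonoidHom.mem_ker, mem_ker_orbHom] at h1
  have := h1 a ha
  simpa using this

include hM hΓM in
theorem exists_pair_same_orb {ι : Type*} [Finite ι] (f : ι → Perm α) (hf : ∀ i, f i ∈ M)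
    (hι : ((orbSet U Γ).card).factorial < Nat.card ι) :
    ∃ i i', i ≠ i' ∧ ∀ a ∈ Γ, (f i * (f i')⁻¹) a ∈ MulAction.orbit ↥U a := by
  by_contra hcon
  push Not at hcon
  let F : ι → Perm ↥(orbAct U M hM Γ hΓM) := fun i => orbHom U M hM Γ hΓM ⟨f i, hf i⟩
  have hinj : Function.Injective F := by
    intro i i' hii
    by_contra hne
    obtain ⟨a, ha, hna⟩ := hcon i i' hne
    apply hna
    have h1 : (⟨f i, hf i⟩ * ⟨f i', hf i'⟩⁻¹ : ↥M) ∈ (orbHom U M hM Γ hΓM).ker := by
      rw [MonoidHom.mem_ker, map_mul, map_inv]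
      show F i * (F i')⁻¹ = 1
      rw [hii, mul_inv_cancel]
    rw [mem_ker_orbHom] at h1
    exact h1 a ha
  have := Nat.card_le_card_of_injective F hinj
  rw [Nat.card_perm, card_orbAct] at this
  omega

end act

end Cfsg.Agent.Lib.Helper61.Miller
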