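import Mathlib
import Cfsg.Agent.Lib.Helper61.Miller4

set_option autoImplicit false
set_option linter.unusedVariables false
set_option linter.unusedSectionVars false

namespace Cfsg.Agent.Lib.Helper61.Miller

open Equiv

section grp
variable {H : Type*} [Group H]

theorem conj_eq_zpow (P : Subgroup H) (p : ℕ) [Fact p.Prime] (hP : Nat.card P = p) {z : H}
    (hz : z ∈ Subgroup.normalizer (P : Set H)) : ∃ a : ℤ, ∀ u ∈ P, z * u * z⁻¹ = u ^ a := by
  have : IsCyclic ↥P := isCyclic_of_prime_card hP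
  obtain ⟨g, hg⟩ := IsCyclic.exists_generator (α := ↥P)
  have h1 : z * (g : H) * z⁻¹ ∈ P := (Subgroup.mem_normalizer_iff.mp hz _).mp g.2
  obtain ⟨a, ha⟩ := Subgroup.mem_zpowers_iff.mp (hg ⟨_, h1⟩)
  have ha' : (g : H) ^ a = z * (g : H) * z⁻¹ := by
    have := congrArg (Subtype.val) ha
    simpa using this
  refine ⟨a, fun u hu => ?_⟩
  obtain ⟨i, hi⟩ := Subgroup.mem_zpowers_iff.mp (hg ⟨u, hu⟩)
  have hi' : (g : H) ^ i = u := by
    have := congrArg (Subtype.val) hi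
    simpa using this
  rw [← hi', ← conj_zpow, ← ha', ← zpow_mul, ← zpow_mul, mul_comm]

theorem cyc_comm (P : Subgroup H) (p : ℕ) [Fact p.Prime] (hP : Nat.card P = p) {x y : H}
    (hx : x ∈ Subgroup.normalizer (P : Set H)) (hy : y ∈ Subgroup.normalizer (P : Set H))
    {v : H} (hv : v ∈ P) :
    (x * y * x⁻¹ * y⁻¹) * v * (x * y * x⁻¹ * y⁻¹)⁻¹ = v := by
  obtain ⟨a, ha⟩ := conj_eq_zpow P p hP hx
  obtain ⟨b, hb⟩ := conj_eq_zpow P p hP hy
  have hN := Subgroup.normalizer (P : Set H)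
  have hyx : (y * x)⁻¹ ∈ Subgroup.normalizer (P : Set H) :=
    (Subgroup.normalizer (P : Set H)).inv_mem ((Subgroup.normalizer (P : Set H)).mul_mem hy hx)
  have hu : (y * x)⁻¹ * v * (y * x)⁻¹⁻¹ ∈ P := (Subgroup.mem_normalizer_iff.mp hyx _).mp hv
  set u := (y * x)⁻¹ * v * (y * x)⁻¹⁻¹ with hudef
  have h1 : x * (y * u * y⁻¹) * x⁻¹ = y * (x * u * x⁻¹) * y⁻¹ := by
    rw [hb u hu, ha u hu, ha _ (P.zpow_mem hu b), hb _ (P.zpow_mem hu a), ← zpow_mul, ← zpow_mul,
      mul_comm]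
  have h2 : y * (x * u * x⁻¹) * y⁻¹ = v := by
    rw [hudef]; group
  rw [h2] at h1
  have e : (x * y * x⁻¹ * y⁻¹) * v * (x * y * x⁻¹ * y⁻¹)⁻¹ = x * (y * u * y⁻¹) * x⁻¹ := by
    rw [hudef]; group
  rw [e, h1]

end grp

section perm
variable {α : Type*} [Fintype α] [DecidableEq α]

/-- an element centralizing `P` (of prime order) and preserving an orbit acts on it with
`p`-th power trivial -/
theorem cent_pow_fix (P : Subgroup (Perm α)) (p : ℕ) [Fact p.Prime] (hP : Nat.card P = p)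
    {c : Perm α} (hc : ∀ u ∈ P, c * u = u * c) {a : α} (hca : c a ∈ MulAction.orbit ↥P a)
    {b : α} (hb : b ∈ MulAction.orbit ↥P a) : (c ^ p) b = b := by
  have : IsCyclic ↥P := isCyclic_of_prime_card hP
  rw [mem_orbit_sub] at hca hb
  obtain ⟨u₁, hu₁, hu₁a⟩ := hca
  obtain ⟨v, hv, rfl⟩ := hb
  have hcomm : ∀ w ∈ P, u₁ * w = w * u₁ := by
    intro w hw
    have := mul_comm' (⟨u₁, hu₁⟩ : ↥P) ⟨w, hw⟩
    exact congrArg Subtype.val this
  have key : ∀ n : ℕ, ∀ w ∈ P, (c ^ n) (w a) = (u₁ ^ n) (w a) := by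
    intro n
    induction n with
    | zero => intro w hw; rfl
    | succ n ih =>
      intro w hw
      rw [pow_succ, pow_succ, Perm.mul_apply, Perm.mul_apply]
      have h1 : c (w a) = u₁ (w a) := by
        rw [← Perm.mul_apply, hc w hw, Perm.mul_apply, ← hu₁a, ← Perm.mul_apply, ← Perm.mul_apply,
          hcomm w hw]
      rw [h1, ← Perm.mul_apply u₁ w]
      exact ih (u₁ * w) (P.mul_mem hu₁ hw)
  rw [key p v hv]
  have : u₁ ^ p = 1 := by
    have h := pow_card_eq_one' (G := ↥P) (x := ⟨u₁, hu₁⟩)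
    rw [hP] at h
    have := congrArg Subtype.val h
    simpa using this
  rw [this]; rfl

theorem threeCycle_eq_commutator {β : Type*} [Fintype β] [DecidableEq β] {σ : Perm β}
    (h : σ.IsThreeCycle) : ∃ τ : Perm β, σ = τ * σ * τ⁻¹ * σ⁻¹ := by
  have hconj : IsConj σ σ⁻¹ := by
    rw [Equiv.Perm.isConj_iff_cycleType_eq, Equiv.Perm.cycleType_inv]
  obtain ⟨τ, hτ⟩ := isConj_iff.mp hconj
  refine ⟨τ, ?_⟩
  rw [hτ]
  have h3 : σ ^ 3 = 1 := by rw [← h.orderOf]; exact pow_orderOf_eq_one σ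
  have h3' : σ * σ * σ = 1 := by rw [← h3, pow_succ, pow_two]
  have : σ⁻¹ * σ⁻¹ = σ⁻¹ * σ⁻¹ * (σ * σ * σ) := by rw [h3', mul_one]
  rw [this]; group

theorem dswap {β : Type*} [Fintype β] [DecidableEq β] {x y z w : β} (hxy : x ≠ y) (hzw : z ≠ w)
    (hxz : x ≠ z) (hxw : x ≠ w) (hyz : y ≠ z) (hyw : y ≠ w) :
    (swap x y * swap z w) ^ 2 = 1 ∧ swap x y * swap z w ≠ 1 := by
  have hdis : Perm.Disjoint (swap x y) (swap z w) := by
    rw [Perm.disjoint_iff_disjoint_support, Perm.support_swap hxy, Perm.support_swap hzw]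
    simp only [Finset.disjoint_insert_left, Finset.mem_insert, Finset.mem_singleton,
      Finset.disjoint_singleton_left, not_or]
    exact ⟨⟨hxz, hxw⟩, hyz, hyw⟩
  refine ⟨?_, ?_⟩
  · rw [pow_two, mul_assoc, ← mul_assoc (swap z w), ← hdis.commute.eq, mul_assoc, swap_mul_self,
      mul_one, swap_mul_self]
  · intro h
    have := congrArg (fun σ : Perm β => σ z) h
    simp only [Perm.mul_apply, swap_apply_left, Perm.coe_one, id_eq] at this
    rw [swap_apply_of_ne_of_ne hxw.symm hyw.symm] at this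
    exact hzw this.symm

/-- a nontrivial normal subgroup of the symmetric group of degree `≥ 3` contains a 3-cycle
(in explicit form) or an involution -/
theorem NS {β : Type*} [Fintype β] [DecidableEq β] (T : Subgroup (Perm β))
    (hn : ∀ τ ∈ T, ∀ s : Perm β, s * τ * s⁻¹ ∈ T) (hT : ∃ τ ∈ T, τ ≠ 1)
    (h3 : 3 ≤ Fintype.card β) :
    ∃ ρ ∈ T, (∃ x y z : β, x ≠ y ∧ x ≠ z ∧ y ≠ z ∧ ρ = swap x y * swap x z) ∨
      (ρ ≠ 1 ∧ ρ ^ 2 = 1) := by
  obtain ⟨τ, hτT, hτ1⟩ := hT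
  have : ∃ a, τ a ≠ a := by
    by_contra hcon
    push Not at hcon
    exact hτ1 (Equiv.ext hcon)
  obtain ⟨a, ha⟩ := this
  obtain ⟨c, hc⟩ : ∃ c, c ∉ ({a, τ a} : Finset β) := by
    by_contra hcon
    push Not at hcon
    have h1 : ({a, τ a} : Finset β) = Finset.univ := Finset.eq_univ_iff_forall.mpr hcon
    have h2 : ({a, τ a} : Finset β).card ≤ 2 := Finset.card_le_two
    rw [h1, Finset.card_univ] at h2
    omega
  simp only [Finset.mem_insert, Finset.mem_singleton, not_or] at hc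
  obtain ⟨hca, hcb⟩ := hc
  have hca : c ≠ a := hca
  have hcb : c ≠ τ a := hcb
  set b := τ a with hb
  have hρT : τ * (swap a c * τ⁻¹ * (swap a c)⁻¹) ∈ T :=
    T.mul_mem hτT (hn _ (T.inv_mem hτT) _)
  have hρ : τ * (swap a c * τ⁻¹ * (swap a c)⁻¹) = swap b (τ c) * swap a c := by
    rw [swap_inv, hb, swap_apply_apply]; group
  rw [hρ] at hρT
  have heb : τ c ≠ b := fun h => hca (τ.injective h)
  refine ⟨_, hρT, ?_⟩
  by_cases hea : τ c = a
  · left
    refine ⟨a, b, c, ha.symm, hca.symm, hcb.symm, ?_⟩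
    rw [hea, swap_comm b a]
  · by_cases hec : τ c = c
    · left
      refine ⟨c, b, a, hcb, hca, ha, ?_⟩
      rw [hec, swap_comm b c, swap_comm a c]
    · right
      have := dswap (x := b) (y := τ c) (z := a) (w := c) heb.symm hca.symm ha
        hcb.symm hea hec
      exact ⟨this.2, this.1⟩

theorem NS' {β : Type*} [Fintype β] [DecidableEq β] (T : Subgroup (Perm β))
    (hn : ∀ τ ∈ T, ∀ s : Perm β, s * τ * s⁻¹ ∈ T) (hT : ∃ τ ∈ T, τ ≠ 1)
    (h4 : 4 ≤ Fintype.card β) : ∃ ρ ∈ T, ρ ≠ 1 ∧ ρ ^ 2 = 1 := by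
  obtain ⟨ρ, hρT, h | h⟩ := NS T hn hT (by omega)
  · obtain ⟨x, y, z, hxy, hxz, hyz, rfl⟩ := h
    obtain ⟨d, hd⟩ : ∃ d, d ∉ ({x, y, z} : Finset β) := by
      by_contra hcon
      push Not at hcon
      have h1 : ({x, y, z} : Finset β) = Finset.univ := Finset.eq_univ_iff_forall.mpr hcon
      have h2 : ({x, y, z} : Finset β).card ≤ 3 := Finset.card_le_three
      rw [h1, Finset.card_univ] at h2
      omega
    simp only [Finset.mem_insert, Finset.mem_singleton, not_or] at hd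
    obtain ⟨hdx, hdy, hdz⟩ := hd
    have h1 := hn _ hρT (swap z d)
    have e1 : swap z d * (swap x y * swap x z) * (swap z d)⁻¹ = swap x y * swap x d := by
      have a1 : swap z d * swap x y * (swap z d)⁻¹ = swap x y := by
        rw [← swap_apply_apply, swap_apply_of_ne_of_ne hxz (Ne.symm hdx),
          swap_apply_of_ne_of_ne hyz (Ne.symm hdy)]
      have a2 : swap z d * swap x z * (swap z d)⁻¹ = swap x d := by
        rw [← swap_apply_apply, swap_apply_of_ne_of_ne hxz (Ne.symm hdx), swap_apply_left]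
      calc swap z d * (swap x y * swap x z) * (swap z d)⁻¹
          = (swap z d * swap x y * (swap z d)⁻¹) * (swap z d * swap x z * (swap z d)⁻¹) := by group
        _ = swap x y * swap x d := by rw [a1, a2]
    rw [e1] at h1
    have h2 := T.mul_mem hρT h1
    have e2 : swap x y * swap x z * (swap x y * swap x d) = swap y z * swap x d := by
      have a3 : swap x y * swap x z * (swap x y)⁻¹ = swap y z := by
        rw [← swap_apply_apply, swap_apply_left, swap_apply_of_ne_of_ne hxz.symm hyz.symm]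
      rw [swap_inv] at a3
      rw [← a3]; group
    rw [e2] at h2
    have := dswap (x := y) (y := z) (z := x) (w := d) hyz (Ne.symm hdx) hxy.symm (Ne.symm hdy)
      hxz.symm (Ne.symm hdz)
    exact ⟨_, h2, this.2, this.1⟩
  · exact ⟨ρ, hρT, h⟩

theorem pow_ne_one_of_sq {β : Type*} [Fintype β] [DecidableEq β] {ρ : Perm β} (h1 : ρ ≠ 1)
    (h2 : ρ ^ 2 = 1) {p : ℕ} (hp : p.Prime) (hp2 : p ≠ 2) : ρ ^ p ≠ 1 := by
  intro h
  have d1 := orderOf_dvd_of_pow_eq_one h
  have d2 := orderOf_dvd_of_pow_eq_one h2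
  have d3 := Nat.dvd_gcd d1 d2
  have hcop : Nat.gcd p 2 = 1 := by
    rw [Nat.coprime_primes hp Nat.prime_two |>.mpr hp2]
  rw [hcop, Nat.dvd_one, orderOf_eq_one_iff] at d3
  exact h1 d3

theorem pow_ne_one_of_three {β : Type*} [Fintype β] [DecidableEq β] {ρ : Perm β}
    (h3 : ρ.IsThreeCycle) {p : ℕ} (hp : p.Prime) (hp3 : p ≠ 3) : ρ ^ p ≠ 1 := by
  intro h
  have d1 := orderOf_dvd_of_pow_eq_one h
  rw [h3.orderOf] at d1
  exact hp3 ((Nat.prime_dvd_prime_iff_eq Nat.prime_three hp).mp d1).symm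

end perm

end Cfsg.Agent.Lib.Helper61.Miller
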