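import Mathlib
import Cfsg.Agent.Lib.Helper61.Miller5

set_option autoImplicit false
set_option linter.unusedVariables false
set_option linter.unusedSectionVars false

namespace Cfsg.Agent.Lib.Helper61.Miller

open Equiv
open scoped Classical

variable {α : Type*} [Fintype α] [DecidableEq α]

theorem fixedBy_iff (p : ℕ) [Fact p.Prime] (G : Subgroup (Perm α)) (Δ : Finset α) (k r : ℕ)
    (hcard : Fintype.card α = k * p + r) (hΔ : Δ.card = r) (hk1 : 1 ≤ k) (hkp : k < p)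
    (hE : Ext G (r + 1)) (P : Subgroup (Perm α)) (hP : IsSyl p (fixG G Δ) P) (a : α) :
    FixedBy P a ↔ a ∈ Δ := by
  have hp : p.Prime := Fact.out
  constructor
  · intro h
    by_contra ha
    have h1 := card_orbit_sylow p G Δ k r hcard hΔ hk1 hkp hE P hP ha
    have h2 : MulAction.orbit ↥P a = {a} := by
      ext c
      rw [mem_orbit_sub, Set.mem_singleton_iff]
      constructor
      · rintro ⟨u, hu, rfl⟩; exact h u hu
      · rintro rfl; exact ⟨1, P.one_mem, rfl⟩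
    rw [h2] at h1
    simp at h1
    exact hp.one_lt.ne h1
  · intro ha u hu
    exact (hP.1 hu).2 a ha

theorem liftN (p : ℕ) [Fact p.Prime] (G : Subgroup (Perm α)) (Δ : Finset α) (r : ℕ)
    (hΔ : Δ.card = r) (hE : Ext G (r + 1)) (P : Subgroup (Perm α)) (hP : IsSyl p (fixG G Δ) P)
    (τ : Perm ↥Δ) :
    ∃ x ∈ G, x ∈ Subgroup.normalizer (P : Set (Perm α)) ∧ ∀ δ : ↥Δ, x (δ : α) = (τ δ : α) := by
  obtain ⟨x, hxG, hxN, hx⟩ := witt p G (r + 1) hE Δ (by omega) P hP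
    (fun a => Perm.ofSubtype τ a) ((Perm.ofSubtype τ).injective.injOn) (by
      intro δ hδ u hu
      have h1 : Perm.ofSubtype τ δ = τ ⟨δ, hδ⟩ := Perm.ofSubtype_apply_of_mem τ hδ
      show u (Perm.ofSubtype τ δ) = Perm.ofSubtype τ δ
      rw [h1]
      exact (hP.1 hu).2 _ (τ ⟨δ, hδ⟩).2)
  refine ⟨x, hxG, hxN, fun δ => ?_⟩
  rw [hx δ δ.2]
  exact Perm.ofSubtype_apply_coe τ δ

theorem ind_pow {S : Finset α} {x : Perm α} {σ : Perm ↥S} (h : ∀ b : ↥S, x (b : α) = (σ b : α))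
    (n : ℕ) (b : ↥S) : (x ^ n) (b : α) = ((σ ^ n) b : α) := by
  induction n generalizing b with
  | zero => rfl
  | succ n ih =>
    rw [pow_succ, pow_succ, Perm.mul_apply, Perm.mul_apply, h b, ih (σ b)]

/-- elements of `M` mapping each point of `Γ` into its `U`-orbit -/
def fixOrbSub (U M : Subgroup (Perm α)) (Γ : Finset α) (hΓM : ∀ z ∈ M, ∀ a ∈ Γ, z a ∈ Γ) :
    Subgroup (Perm α) where
  carrier := {z | z ∈ M ∧ ∀ a ∈ Γ, z a ∈ MulAction.orbit ↥U a}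
  one_mem' := ⟨M.one_mem, fun a _ => MulAction.mem_orbit_self a⟩
  mul_mem' := by
    rintro z₁ z₂ ⟨h1, h1'⟩ ⟨h2, h2'⟩
    refine ⟨M.mul_mem h1 h2, fun a ha => ?_⟩
    rw [Perm.mul_apply]
    have h3 := h1' (z₂ a) (hΓM z₂ h2 a ha)
    rw [MulAction.orbit_eq_iff.mpr (h2' a ha)] at h3
    exact h3
  inv_mem' := by
    rintro z ⟨h1, h1'⟩
    refine ⟨M.inv_mem h1, fun a ha => ?_⟩
    have h3 := h1' (z⁻¹ a) (hΓM z⁻¹ (M.inv_mem h1) a ha)
    rw [show z (z⁻¹ a) = a by simp] at h3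
    have h4 := MulAction.orbit_eq_iff.mpr h3
    rw [h4]
    exact MulAction.mem_orbit_self _


/-- `x` induces `σ` on the finset `S` -/
def Induces (S : Finset α) (x : Perm α) (σ : Perm ↥S) : Prop := ∀ b : ↥S, x (b : α) = (σ b : α)

theorem Induces.mul {S : Finset α} {x y : Perm α} {σ τ : Perm ↥S} (hx : Induces S x σ)
    (hy : Induces S y τ) : Induces S (x * y) (σ * τ) := by
  intro b
  rw [Perm.mul_apply, hy b, hx (τ b)]; rfl

theorem Induces.inv {S : Finset α} {x : Perm α} {σ : Perm ↥S} (hx : Induces S x σ) :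
    Induces S x⁻¹ σ⁻¹ := by
  intro b
  rw [Perm.inv_eq_iff_eq, hx (σ⁻¹ b)]; simp

theorem Induces.pow {S : Finset α} {x : Perm α} {σ : Perm ↥S} (hx : Induces S x σ) (n : ℕ) :
    Induces S (x ^ n) (σ ^ n) := fun b => ind_pow hx n b

theorem Induces.eq_one {S : Finset α} {x : Perm α} {σ : Perm ↥S} (hx : Induces S x σ)
    (h1 : x = 1) : σ = 1 := by
  ext b
  have := hx b
  rw [h1] at this
  exact this.symm

theorem conj_mem_centralizer {P : Subgroup (Perm α)} {x c : Perm α}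
    (hx : x ∈ Subgroup.normalizer (P : Set (Perm α)))
    (hc : c ∈ Subgroup.centralizer (P : Set (Perm α))) :
    x * c * x⁻¹ ∈ Subgroup.centralizer (P : Set (Perm α)) := by
  rw [Subgroup.mem_centralizer_iff] at hc ⊢
  intro u hu
  have hx' := (Subgroup.normalizer (P : Set (Perm α))).inv_mem hx
  have hu' : x⁻¹ * u * x⁻¹⁻¹ ∈ P := (Subgroup.mem_normalizer_iff.mp hx' u).mp hu
  have h1 := hc _ hu'
  have e1 : u * (x * c * x⁻¹) = x * ((x⁻¹ * u * x⁻¹⁻¹) * c) * x⁻¹ := by group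
  have e2 : x * c * x⁻¹ * u = x * (c * (x⁻¹ * u * x⁻¹⁻¹)) * x⁻¹ := by group
  rw [e1, e2, h1]


theorem caseA (p : ℕ) [Fact p.Prime] (G : Subgroup (Perm α)) (Δ : Finset α) (k r : ℕ)
    (hcard : Fintype.card α = k * p + r) (hΔ : Δ.card = r) (hk1 : 1 ≤ k) (hkp : k < p)
    (hkr : k < r) (hr3 : 3 ≤ r) (hp2 : p ≠ 2) (hp3 : p = 3 → 4 ≤ r)
    (hE : Ext G (r + 1)) (P : Subgroup (Perm α)) (hP : IsSyl p (fixG G Δ) P)
    (hPcard : Nat.card P = p) : alternatingGroup α ≤ G := by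
  have hp : p.Prime := Fact.out
  have hfix := fixedBy_iff p G Δ k r hcard hΔ hk1 hkp hE P hP
  have hPG : P ≤ G := fun u hu => (hP.1 hu).1
  obtain ⟨Nn, hNn⟩ : ∃ Nn, Nn = Subgroup.normalizer (P : Set (Perm α)) := ⟨_, rfl⟩
  obtain ⟨C, hC⟩ : ∃ C : Subgroup (Perm α), C = G ⊓ Subgroup.centralizer (P : Set (Perm α)) :=
    ⟨_, rfl⟩
  have hCN : C ≤ Subgroup.normalizer (P : Set (Perm α)) := by
    rw [hC]; exact fun c hc => Subgroup.centralizer_le_normalizer _ hc.2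
  obtain ⟨Γ, hΓ⟩ : ∃ Γ : Finset α, Γ = Δᶜ := ⟨_, rfl⟩
  have hmemΓ : ∀ a, a ∈ Γ ↔ a ∉ Δ := fun a => by rw [hΓ]; exact Finset.mem_compl
  have hpres : ∀ z ∈ Subgroup.normalizer (P : Set (Perm α)), ∀ a ∈ Γ, z a ∈ Γ := by
    intro z hz a ha
    rw [hmemΓ, ← hfix, FixedBy.map_iff hz, hfix, ← hmemΓ]; exact ha
  have hΓC : ∀ z ∈ C, ∀ a ∈ Γ, z a ∈ Γ := fun z hz => hpres z (hCN hz)
  have horbcard : ∀ a ∈ Γ, Nat.card (MulAction.orbit ↥P a) = p := fun a ha =>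
    card_orbit_sylow p G Δ k r hcard hΔ hk1 hkp hE P hP ((hmemΓ a).mp ha)
  have horb : ∀ a ∈ Γ, (orbF P a).card = p := by
    intro a ha
    rw [card_orbF]; exact horbcard a ha
  have horbΓ : ∀ a ∈ Γ, orbF P a ⊆ Γ := by
    intro a ha b hb
    rw [mem_orbF, mem_orbit_sub] at hb
    obtain ⟨u, hu, rfl⟩ := hb
    exact hpres u (Subgroup.le_normalizer hu) a ha
  have hj : (orbSet P Γ).card = k := by
    have h1 := card_orbSet_mul P Γ p horb horbΓ
    have h2 : Γ.card = k * p := by rw [hΓ, Finset.card_compl, hΔ, hcard]; omega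
    rw [h2] at h1
    exact Nat.eq_of_mul_eq_mul_right hp.pos h1
  -- commutators land in C
  have hcomm : ∀ x ∈ G, x ∈ Subgroup.normalizer (P : Set (Perm α)) → ∀ y ∈ G,
      y ∈ Subgroup.normalizer (P : Set (Perm α)) → x * y * x⁻¹ * y⁻¹ ∈ C := by
    intro x hxG hxN y hyG hyN
    rw [hC]
    refine Subgroup.mem_inf.mpr
      ⟨G.mul_mem (G.mul_mem (G.mul_mem hxG hyG) (G.inv_mem hxG)) (G.inv_mem hyG), ?_⟩
    rw [Subgroup.mem_centralizer_iff]
    intro v hv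
    have h1 := cyc_comm P p hPcard hxN hyN hv
    conv_lhs => rw [← h1]
    group
  -- A_Δ ≤ C^Δ
  have hAC : ∀ σ : Perm ↥Δ, σ ∈ alternatingGroup ↥Δ → ∃ c ∈ C, Induces Δ c σ := by
    have : alternatingGroup ↥Δ ≤ indGroup C Δ := by
      rw [← Equiv.Perm.closure_three_cycles_eq_alternating, Subgroup.closure_le]
      intro σ hσ
      obtain ⟨τ, hτ⟩ := threeCycle_eq_commutator hσ
      obtain ⟨x, hxG, hxN, hx⟩ := liftN p G Δ r hΔ hE P hP τ
      obtain ⟨y, hyG, hyN, hy⟩ := liftN p G Δ r hΔ hE P hP σ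
      refine ⟨x * y * x⁻¹ * y⁻¹, hcomm x hxG hxN y hyG hyN, ?_⟩
      have hx' : Induces Δ x τ := hx
      have hy' : Induces Δ y σ := hy
      have := ((hx'.mul hy').mul hx'.inv).mul hy'.inv
      rw [← hτ] at this
      exact this
    intro σ hσ
    exact this hσ
  -- pigeonhole
  have : Nontrivial ↥Δ := by
    rw [← Fintype.one_lt_card_iff_nontrivial, Fintype.card_coe, hΔ]; omega
  have hcardA : 2 * Nat.card (alternatingGroup ↥Δ) = r.factorial := by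
    rw [two_mul_nat_card_alternatingGroup, Nat.card_perm, Nat.card_eq_fintype_card,
      Fintype.card_coe, hΔ]
  have hι : ((orbSet P Γ).card).factorial < Nat.card (alternatingGroup ↥Δ) := by
    rw [hj]
    have h1 : k.factorial ≤ (r - 1).factorial := Nat.factorial_le (by omega)
    have h2 : r.factorial = r * (r - 1).factorial := by
      obtain ⟨m, rfl⟩ : ∃ m, r = m + 1 := ⟨r - 1, by omega⟩
      simp [Nat.factorial_succ]
    have h3 : 0 < (r - 1).factorial := Nat.factorial_pos _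
    nlinarith
  let f : ↥(alternatingGroup ↥Δ) → Perm α := fun σ => Classical.choose (hAC σ.1 σ.2)
  have hf : ∀ σ, f σ ∈ C := fun σ => (Classical.choose_spec (hAC σ.1 σ.2)).1
  have hf' : ∀ σ, Induces Δ (f σ) σ.1 := fun σ => (Classical.choose_spec (hAC σ.1 σ.2)).2
  obtain ⟨i, i', hii', horbs⟩ := exists_pair_same_orb P C hCN Γ hΓC f hf hι
  -- T
  obtain ⟨T, hT⟩ : ∃ T, T = fixOrbSub P C Γ hΓC := ⟨_, rfl⟩
  have hmemT : ∀ z, z ∈ T ↔ z ∈ C ∧ ∀ a ∈ Γ, z a ∈ MulAction.orbit ↥P a := by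
    intro z; rw [hT]; exact Iff.rfl
  have htT : f i * (f i')⁻¹ ∈ T := (hmemT _).mpr ⟨C.mul_mem (hf i) (C.inv_mem (hf i')), horbs⟩
  have htind : Induces Δ (f i * (f i')⁻¹) (i.1 * i'.1⁻¹) := (hf' i).mul (hf' i').inv
  -- normality of T^Δ
  have hn : ∀ τ ∈ indGroup T Δ, ∀ s : Perm ↥Δ, s * τ * s⁻¹ ∈ indGroup T Δ := by
    rintro τ ⟨t₀, ht₀, hτ⟩ s
    obtain ⟨x, hxG, hxN, hx⟩ := liftN p G Δ r hΔ hE P hP s
    have hx' : Induces Δ x s := hx
    have hτ' : Induces Δ t₀ τ := hτ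
    refine ⟨x * t₀ * x⁻¹, ?_, (hx'.mul hτ').mul hx'.inv⟩
    rw [hmemT] at ht₀ ⊢
    obtain ⟨ht₀C, ht₀orb⟩ := ht₀
    refine ⟨?_, ?_⟩
    · rw [hC] at ht₀C ⊢
      exact ⟨G.mul_mem (G.mul_mem hxG ht₀C.1) (G.inv_mem hxG), conj_mem_centralizer hxN ht₀C.2⟩
    · intro a ha
      have hx'' := (Subgroup.normalizer (P : Set (Perm α))).inv_mem hxN
      have ha' : x⁻¹ a ∈ Γ := hpres _ hx'' a ha
      have h1 := ht₀orb _ ha'
      rw [mem_orbit_sub] at h1 ⊢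
      obtain ⟨u, hu, hua⟩ := h1
      refine ⟨x * u * x⁻¹, conj_mem_of_normalizer P hxN hu, ?_⟩
      simp only [Perm.mul_apply]
      rw [hua]
  have hTne : ∃ τ ∈ indGroup T Δ, τ ≠ 1 := by
    refine ⟨i.1 * i'.1⁻¹, ⟨_, htT, htind⟩, ?_⟩
    intro h
    apply hii'
    apply Subtype.ext
    exact mul_inv_eq_one.mp h
  have hcardΔ : Fintype.card ↥Δ = r := by rw [Fintype.card_coe, hΔ]
  -- find ρ with ρ^p ≠ 1
  have hρ : ∃ ρ ∈ indGroup T Δ, ρ ^ p ≠ 1 := by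
    by_cases h3 : p = 3
    · obtain ⟨ρ, hρT, hρ1, hρ2⟩ := NS' (indGroup T Δ) hn hTne (by rw [hcardΔ]; exact hp3 h3)
      exact ⟨ρ, hρT, pow_ne_one_of_sq hρ1 hρ2 hp hp2⟩
    · obtain ⟨ρ, hρT, h | h⟩ := NS (indGroup T Δ) hn hTne (by rw [hcardΔ]; exact hr3)
      · obtain ⟨x, y, z, hxy, hxz, hyz, rfl⟩ := h
        exact ⟨_, hρT, pow_ne_one_of_three (Equiv.Perm.isThreeCycle_swap_mul_swap_same hxy hxz hyz)
          hp h3⟩
      · exact ⟨ρ, hρT, pow_ne_one_of_sq h.1 h.2 hp hp2⟩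
  obtain ⟨ρ, ⟨t, htT', htρ⟩, hρp⟩ := hρ
  have htρ' : Induces Δ t ρ := htρ
  rw [hmemT] at htT'
  obtain ⟨htC, htorb⟩ := htT'
  rw [hC] at htC
  -- y = t ^ p
  have hyG : t ^ p ∈ G := G.pow_mem htC.1 p
  have hy1 : t ^ p ≠ 1 := fun h => hρp ((htρ'.pow p).eq_one h)
  have hcent : ∀ u ∈ P, t * u = u * t := by
    intro u hu
    exact ((Subgroup.mem_centralizer_iff.mp htC.2) u hu).symm
  have hsupp : (t ^ p).support ⊆ Δ := by
    intro a ha
    by_contra haΔ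
    have haΓ : a ∈ Γ := (hmemΓ a).mpr haΔ
    have := cent_pow_fix P p hPcard hcent (htorb a haΓ) (MulAction.mem_orbit_self a)
    exact (Perm.mem_support.mp ha) this
  have hcs : (t ^ p).support.card ≤ r := by
    rw [← hΔ]; exact Finset.card_le_card hsupp
  have hkp' : 2 ≤ k * p := by nlinarith [hp.two_le]
  exact alt_le_of_small_support G (r + 1) (by omega) hE hyG hy1 (by omega) (by omega)

end Cfsg.Agent.Lib.Helper61.Miller
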