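import Mathlib
import Cfsg.Agent.Lib.Helper61.Miller6

set_option autoImplicit false
set_option linter.unusedVariables false
set_option linter.unusedSectionVars false

namespace Cfsg.Agent.Lib.Helper61.Miller

open Equiv
open scoped Classical

universe u
variable {α : Type u} [Fintype α] [DecidableEq α]

theorem fixG_insert (G : Subgroup (Perm α)) (Δ : Finset α) (γ : α) :
    fixG G (insert γ Δ) = fixG (fixG G Δ) {γ} := by
  ext x
  simp only [mem_fixG, Finset.mem_insert, Finset.mem_singleton]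
  constructor
  · rintro ⟨h1, h2⟩
    exact ⟨⟨h1, fun a ha => h2 a (Or.inr ha)⟩, fun a ha => h2 a (Or.inl ha)⟩
  · rintro ⟨⟨h1, h2⟩, h3⟩
    refine ⟨h1, fun a ha => ?_⟩
    rcases ha with ha | ha
    · exact h3 a ha
    · exact h2 a ha

/-- the stabilizer of a point in a Sylow subgroup of `G_Δ` is Sylow in `G_{Δ ∪ γ}` -/
theorem sylow_step (p : ℕ) [Fact p.Prime] (G : Subgroup (Perm α)) (Δ : Finset α) (k r : ℕ)
    (hcard : Fintype.card α = k * p + r) (hΔ : Δ.card = r) (hk1 : 1 ≤ k) (hkp : k < p)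
    (hE : Ext G (r + 1)) (P : Subgroup (Perm α)) (hP : IsSyl p (fixG G Δ) P) {γ : α}
    (hγ : γ ∉ Δ) :
    IsSyl p (fixG G (insert γ Δ)) (fixG P {γ}) ∧
      Nat.card (fixG P {γ}) * p = Nat.card P := by
  have hp : p.Prime := Fact.out
  have h2 := card_fixG_singleton P γ
  rw [card_orbit_sylow p G Δ k r hcard hΔ hk1 hkp hE P hP hγ] at h2
  refine ⟨⟨?_, ?_⟩, h2⟩
  · rw [fixG_insert]
    rintro x ⟨hxP, hx⟩
    exact ⟨hP.1 hxP, hx⟩
  · have h1 := card_fixG_singleton (fixG G Δ) γ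
    have hKorb : Nat.card (MulAction.orbit ↥(fixG G Δ) γ) = k * p := by
      rw [card_orbit_fixG G Δ r hΔ hE hγ, hcard]; omega
    rw [hKorb, ← fixG_insert] at h1
    have hpos1 : Nat.card (fixG G (insert γ Δ)) ≠ 0 := Nat.card_pos.ne'
    have hkp0 : k * p ≠ 0 := by
      have := hp.pos
      positivity
    have hfac : (Nat.card (fixG G Δ)).factorization p =
        (Nat.card (fixG G (insert γ Δ))).factorization p + 1 := by
      have e : (k * p).factorization p = 1 := by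
        rw [Nat.factorization_mul (by omega) hp.ne_zero]
        simp only [Finsupp.coe_add, Pi.add_apply]
        rw [hp.factorization_self, Nat.factorization_eq_zero_of_not_dvd]
        intro hdvd
        have := Nat.le_of_dvd (by omega) hdvd
        omega
      rw [← h1, Nat.factorization_mul hpos1 hkp0]
      simp only [Finsupp.coe_add, Pi.add_apply]
      rw [e]
    rw [hP.2, hfac, pow_succ] at h2
    exact Nat.eq_of_mul_eq_mul_right hp.pos h2

/-- orbits of a subgroup of `P` inside an orbit of length `p`: trivial or everything -/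
theorem card_orbit_sub (p : ℕ) [Fact p.Prime] (P P' : Subgroup (Perm α)) (hle : P' ≤ P)
    (hP' : IsPGroup p ↥P') {a : α} (ha : Nat.card (MulAction.orbit ↥P a) = p)
    (hmove : ¬ FixedBy P' a) : Nat.card (MulAction.orbit ↥P' a) = p := by
  have hp : p.Prime := Fact.out
  obtain ⟨n, hn⟩ := hP'.card_orbit a
  have hsub : Nat.card (MulAction.orbit ↥P' a) ≤ Nat.card (MulAction.orbit ↥P a) := by
    rw [Nat.card_coe_set_eq, Nat.card_coe_set_eq]
    apply Set.ncard_le_ncard _ (Set.toFinite _)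
    intro x hx
    rw [mem_orbit_sub] at hx ⊢
    obtain ⟨u, hu, rfl⟩ := hx
    exact ⟨u, hle hu, rfl⟩
  rw [ha, hn] at hsub
  have hn0 : n ≠ 0 := by
    rintro rfl
    apply hmove
    intro u hu
    have h1 : Nat.card (MulAction.orbit ↥P' a) = 1 := by rw [hn, pow_zero]
    rw [Nat.card_coe_set_eq, Set.ncard_eq_one] at h1
    obtain ⟨b, hb⟩ := h1
    have h2 : a ∈ MulAction.orbit ↥P' a := MulAction.mem_orbit_self a
    have h3 : u a ∈ MulAction.orbit ↥P' a := mem_orbit_sub.mpr ⟨u, hu, rfl⟩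
    rw [hb, Set.mem_singleton_iff] at h2 h3
    exact h3.trans h2.symm
  have : n = 1 := by
    by_contra hne
    have h2 : 2 ≤ n := by omega
    have : p ^ 2 ≤ p ^ n := Nat.pow_le_pow_right hp.pos h2
    have h3 : p < p ^ 2 := by
      have := hp.one_lt
      nlinarith
    omega
  rw [hn, this, pow_one]


theorem comm_four {β : Type*} [Fintype β] [DecidableEq β] {a b c d : β} (hab : a ≠ b)
    (hac : a ≠ c) (had : a ≠ d) (hbc : b ≠ c) (hbd : b ≠ d) (hcd : c ≠ d) :
    (swap a b * swap a c) * (swap a b * swap c d) * (swap a b * swap a c)⁻¹ *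
      (swap a b * swap c d)⁻¹ = swap b c * swap a d := by
  have hdis : Perm.Disjoint (swap a b) (swap c d) := by
    rw [Perm.disjoint_iff_disjoint_support, Perm.support_swap hab, Perm.support_swap hcd]
    simp only [Finset.disjoint_insert_left, Finset.mem_insert, Finset.mem_singleton,
      Finset.disjoint_singleton_left, not_or]
    exact ⟨⟨hac, had⟩, hbc, hbd⟩
  have hc : swap a b * swap c d = swap c d * swap a b := hdis.commute.eq
  have h3 : swap a b * (swap c d * swap a b) = swap c d := by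
    rw [← mul_assoc, hc, mul_assoc, swap_mul_self, mul_one]
  have e1 : swap a b * swap a c * (swap a b)⁻¹ = swap b c := by
    rw [← swap_apply_apply, swap_apply_left, swap_apply_of_ne_of_ne hac.symm hbc.symm]
  have e2 : swap c d * swap a c * (swap c d)⁻¹ = swap a d := by
    rw [← swap_apply_apply, swap_apply_of_ne_of_ne hac had, swap_apply_left]
  rw [mul_inv_rev, mul_inv_rev, swap_inv, swap_inv, swap_inv]
  calc swap a b * swap a c * (swap a b * swap c d) * (swap a c * swap a b) * (swap c d * swap a b)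
      = swap a b * swap a c * swap a b * swap c d * swap a c * (swap a b * (swap c d * swap a b)) := by
        simp only [mul_assoc]
    _ = swap a b * swap a c * swap a b * swap c d * swap a c * swap c d := by rw [h3]
    _ = (swap a b * swap a c * (swap a b)⁻¹) * (swap c d * swap a c * (swap c d)⁻¹) := by
        rw [swap_inv, swap_inv]; simp only [mul_assoc]
    _ = swap b c * swap a d := by rw [e1, e2]


theorem caseB (p : ℕ) [Fact p.Prime] (G : Subgroup (Perm α)) (Δ : Finset α) (k r : ℕ)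
    (hcard : Fintype.card α = k * p + r) (hΔ : Δ.card = r) (hk1 : 1 ≤ k) (hkp : k < p)
    (hkr : k < r) (hr3 : 3 ≤ r) (hp2 : p ≠ 2)
    (hE : Ext G (r + 1)) (P : Subgroup (Perm α)) (hP : IsSyl p (fixG G Δ) P)
    (hPcard : Nat.card P ≠ p)
    (IH : ∀ m < k, 1 ≤ m → ∀ (β : Type u) [Fintype β] [DecidableEq β] (H : Subgroup (Perm β)),
      Fintype.card β = m * p + r → Ext H (r + 1) → alternatingGroup β ≤ H) :
    alternatingGroup α ≤ G := by
  have hp : p.Prime := Fact.out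
  have hp3 : 3 ≤ p := by
    have := hp.two_le
    omega
  have hfix := fixedBy_iff p G Δ k r hcard hΔ hk1 hkp hE P hP
  -- choose γ
  obtain ⟨γ, hγ⟩ : ∃ γ, γ ∉ Δ := by
    by_contra hcon
    push Not at hcon
    have h1 : Δ = Finset.univ := Finset.eq_univ_iff_forall.mpr hcon
    rw [h1, Finset.card_univ, hcard] at hΔ
    have := hp.pos
    nlinarith
  obtain ⟨hP'syl, hP'card⟩ := sylow_step p G Δ k r hcard hΔ hk1 hkp hE P hP hγ
  obtain ⟨P', hP'def⟩ : ∃ P', P' = fixG P {γ} := ⟨_, rfl⟩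
  rw [← hP'def] at hP'syl hP'card
  have hP'le : P' ≤ P := by rw [hP'def]; exact fixG_le P {γ}
  have hP'pg : IsPGroup p ↥P' := hP'syl.isPGroup
  have hPpg : IsPGroup p ↥P := hP.isPGroup
  have horbP : ∀ a, a ∉ Δ → Nat.card (MulAction.orbit ↥P a) = p := fun a ha =>
    card_orbit_sylow p G Δ k r hcard hΔ hk1 hkp hE P hP ha
  -- P' nontrivial
  have hP'ne : ∃ u ∈ P', u ≠ 1 := by
    by_contra hcon
    push Not at hcon
    have h1 : Nat.card ↥P' = 1 := by
      rw [Nat.card_eq_one_iff_unique]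
      refine ⟨⟨fun x y => ?_⟩, ⟨1⟩⟩
      apply Subtype.ext
      rw [hcon x x.2, hcon y y.2]
    rw [h1, one_mul] at hP'card
    exact hPcard hP'card.symm
  -- Φ'
  obtain ⟨Φ', hΦ'def⟩ : ∃ Φ' : Finset α, Φ' = Finset.univ.filter (fun a => FixedBy P' a) := ⟨_, rfl⟩
  have hΦ' : ∀ a, a ∈ Φ' ↔ FixedBy P' a := by
    intro a; rw [hΦ'def]; simp
  obtain ⟨Γ', hΓ'def⟩ : ∃ Γ' : Finset α, Γ' = Φ'ᶜ := ⟨_, rfl⟩
  have hmemΓ' : ∀ a, a ∈ Γ' ↔ ¬ FixedBy P' a := by
    intro a; rw [hΓ'def, Finset.mem_compl, hΦ']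
  have hΔΦ : Δ ⊆ Φ' := by
    intro a ha
    rw [hΦ']
    intro u hu
    exact (hfix a).mpr ha u (hP'le hu)
  have horbγΦ : orbF P γ ⊆ Φ' := by
    intro b hb
    rw [hΦ']
    intro u hu
    have hu' : u ∈ fixG P {γ} := by rw [← hP'def]; exact hu
    exact stab_fixes_orbit p P hPpg γ (horbP γ hγ) hu'.1 (hu'.2 γ (Finset.mem_singleton_self γ))
      (mem_orbF.mp hb)
  have hdisj : Disjoint Δ (orbF P γ) := by
    rw [Finset.disjoint_left]
    intro a ha hb
    rw [mem_orbF, mem_orbit_sub] at hb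
    obtain ⟨u, hu, rfl⟩ := hb
    have h1 := (hP.1 hu).2 _ ha
    have h2 : u γ = γ := u.injective h1
    exact hγ (h2 ▸ ha)
  have hΦcard_ge : r + p ≤ Φ'.card := by
    have h1 : (Δ ∪ orbF P γ).card = r + p := by
      rw [Finset.card_union_of_disjoint hdisj, hΔ, card_orbF, horbP γ hγ]
    rw [← h1]
    exact Finset.card_le_card (Finset.union_subset hΔΦ horbγΦ)
  -- orbits of P' on Γ'
  have horbP' : ∀ a ∈ Γ', Nat.card (MulAction.orbit ↥P' a) = p := by
    intro a ha
    have hna : ¬ FixedBy P' a := (hmemΓ' a).mp ha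
    have haΔ : a ∉ Δ := fun h => hna ((hΦ' a).mp (hΔΦ h))
    exact card_orbit_sub p P P' hP'le hP'pg (horbP a haΔ) hna
  have hpres : ∀ z ∈ Subgroup.normalizer (P' : Set (Perm α)), ∀ a ∈ Γ', z a ∈ Γ' := by
    intro z hz a ha
    rw [hmemΓ', FixedBy.map_iff hz, ← hmemΓ']; exact ha
  have horb' : ∀ a ∈ Γ', (orbF P' a).card = p := by
    intro a ha
    rw [card_orbF]; exact horbP' a ha
  have horbΓ' : ∀ a ∈ Γ', orbF P' a ⊆ Γ' := by
    intro a ha b hb
    rw [mem_orbF, mem_orbit_sub] at hb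
    obtain ⟨u, hu, rfl⟩ := hb
    exact hpres u (Subgroup.le_normalizer hu) a ha
  obtain ⟨j, hjdef⟩ : ∃ j, j = (orbSet P' Γ').card := ⟨_, rfl⟩
  have hjmul : j * p = Γ'.card := by rw [hjdef]; exact card_orbSet_mul P' Γ' p horb' horbΓ'
  have hΓ'card : Γ'.card + Φ'.card = k * p + r := by
    rw [hΓ'def, Finset.card_compl, hcard]
    have := Finset.card_le_univ Φ'
    rw [hcard] at this
    omega
  have hΓ'ne : 0 < Γ'.card := by
    obtain ⟨u, hu, hu1⟩ := hP'ne
    have : ∃ a, u a ≠ a := by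
      by_contra hcon
      push Not at hcon
      exact hu1 (Equiv.ext hcon)
    obtain ⟨a, ha⟩ := this
    rw [Finset.card_pos]
    exact ⟨a, (hmemΓ' a).mpr (fun h => ha (h u hu))⟩
  have hj1 : 1 ≤ j := by
    by_contra hcon
    have : j = 0 := by omega
    rw [this, zero_mul] at hjmul
    omega
  have hjk : j + 1 ≤ k := by
    by_contra hcon
    have h1 : k ≤ j := by omega
    have h2 : k * p ≤ j * p := Nat.mul_le_mul_right p h1
    omega
  obtain ⟨m, hm⟩ : ∃ m, k = j + m := ⟨k - j, by omega⟩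
  have hm1 : 1 ≤ m := by omega
  have hmk : m < k := by omega
  have hΦcard : Φ'.card = m * p + r := by
    have : k * p = j * p + m * p := by rw [hm]; ring
    omega
  have hjp : j < p := by omega
  -- N'
  obtain ⟨N', hN'def⟩ : ∃ N' : Subgroup (Perm α),
      N' = G ⊓ Subgroup.normalizer (P' : Set (Perm α)) := ⟨_, rfl⟩
  have hN'le : N' ≤ Subgroup.normalizer (P' : Set (Perm α)) := by
    rw [hN'def]; exact inf_le_right
  have hΓN' : ∀ z ∈ N', ∀ a ∈ Γ', z a ∈ Γ' := fun z hz => hpres z (hN'le hz)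
  have hExt' : Ext (indGroup N' Φ') (r + 1) := by
    rw [hN'def]
    exact witt_ext p G (r + 1) hE (insert γ Δ) (by rw [Finset.card_insert_of_notMem hγ, hΔ]) P'
      hP'syl Φ' hΦ'
  have hAH : alternatingGroup ↥Φ' ≤ indGroup N' Φ' :=
    IH m hmk hm1 ↥Φ' (indGroup N' Φ') (by rw [Fintype.card_coe, hΦcard]) hExt'
  -- N'₀
  obtain ⟨N0, hN0def⟩ : ∃ N0, N0 = fixOrbSub P' N' Γ' hΓN' := ⟨_, rfl⟩
  have hmemN0 : ∀ z, z ∈ N0 ↔ z ∈ N' ∧ ∀ a ∈ Γ', z a ∈ MulAction.orbit ↥P' a := by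
    intro z; rw [hN0def]; exact Iff.rfl
  have hconjN0 : ∀ x ∈ N', ∀ t ∈ N0, x * t * x⁻¹ ∈ N0 := by
    intro x hx t ht
    rw [hmemN0] at ht ⊢
    obtain ⟨htN, htorb⟩ := ht
    refine ⟨N'.mul_mem (N'.mul_mem hx htN) (N'.inv_mem hx), ?_⟩
    intro a ha
    have hxN := hN'le hx
    have hx'' := (Subgroup.normalizer (P' : Set (Perm α))).inv_mem hxN
    have ha' : x⁻¹ a ∈ Γ' := hpres _ hx'' a ha
    have h1 := htorb _ ha'
    rw [mem_orbit_sub] at h1 ⊢
    obtain ⟨u, hu, hua⟩ := h1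
    refine ⟨x * u * x⁻¹, conj_mem_of_normalizer P' hxN hu, ?_⟩
    simp only [Perm.mul_apply]
    rw [hua]
  have hcardΦ'6 : 6 ≤ Fintype.card ↥Φ' := by
    rw [Fintype.card_coe, hΦcard]
    nlinarith
  -- A ≤ N0^Φ'
  have hA0 : alternatingGroup ↥Φ' ≤ indGroup N0 Φ' := by
    have : IsSimpleGroup ↥(alternatingGroup ↥Φ') :=
      alternatingGroup.isSimpleGroup (by rw [Nat.card_eq_fintype_card]; omega)
    have hnormal : ((indGroup N0 Φ').subgroupOf (alternatingGroup ↥Φ')).Normal := by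
      constructor
      intro n hn g
      rw [Subgroup.mem_subgroupOf] at hn ⊢
      obtain ⟨t, htN0, ht⟩ := hn
      obtain ⟨x, hxN', hx⟩ := hAH g.2
      have hx' : Induces Φ' x g.1 := hx
      have ht' : Induces Φ' t n.1 := ht
      exact ⟨x * t * x⁻¹, hconjN0 x hxN' t htN0, (hx'.mul ht').mul hx'.inv⟩
    rcases hnormal.eq_bot_or_eq_top with hbot | htop
    · exfalso
      -- element of order p in A
      have hcardA : 2 * Nat.card (alternatingGroup ↥Φ') = (Fintype.card ↥Φ').factorial := by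
        have : Nontrivial ↥Φ' := by
          rw [← Fintype.one_lt_card_iff_nontrivial]; omega
        rw [two_mul_nat_card_alternatingGroup, Nat.card_perm, Nat.card_eq_fintype_card]
      have hpdvd : p ∣ Nat.card (alternatingGroup ↥Φ') := by
        have h1 : p ∣ (Fintype.card ↥Φ').factorial := by
          rw [hp.dvd_factorial, Fintype.card_coe, hΦcard]
          nlinarith
        rw [← hcardA] at h1
        exact (Nat.Coprime.dvd_mul_left ((Nat.coprime_primes hp Nat.prime_two).mpr hp2)).mp h1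
      obtain ⟨σ, hσ⟩ := exists_prime_orderOf_dvd_card' (G := ↥(alternatingGroup ↥Φ')) p hpdvd
      obtain ⟨x, hxN', hx⟩ := hAH σ.2
      have hx' : Induces Φ' x σ.1 := hx
      have hmem : σ ^ j.factorial ∈ (indGroup N0 Φ').subgroupOf (alternatingGroup ↥Φ') := by
        rw [Subgroup.mem_subgroupOf]
        refine ⟨x ^ j.factorial, ?_, ?_⟩
        · rw [hmemN0]
          refine ⟨N'.pow_mem hxN' _, fun a ha => ?_⟩
          rw [hjdef]
          exact pow_factorial_orb P' N' hN'le Γ' hΓN' hxN' ha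
        · intro b
          rw [SubgroupClass.coe_pow]
          exact hx'.pow j.factorial b
      rw [hbot, Subgroup.mem_bot] at hmem
      have hdvd := orderOf_dvd_of_pow_eq_one hmem
      rw [hσ, hp.dvd_factorial] at hdvd
      omega
    · rw [Subgroup.subgroupOf_eq_top] at htop
      exact htop
  -- four points
  obtain ⟨e⟩ : Nonempty (Fin 4 ↪ ↥Φ') :=
    Function.Embedding.nonempty_of_card_le (by rw [Fintype.card_fin]; omega)
  obtain ⟨a, ha⟩ : ∃ a, a = e 0 := ⟨_, rfl⟩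
  obtain ⟨b, hb⟩ : ∃ b, b = e 1 := ⟨_, rfl⟩
  obtain ⟨c, hc⟩ : ∃ c, c = e 2 := ⟨_, rfl⟩
  obtain ⟨d, hd⟩ : ∃ d, d = e 3 := ⟨_, rfl⟩
  have hab : a ≠ b := by rw [ha, hb]; exact e.injective.ne (by decide)
  have hac : a ≠ c := by rw [ha, hc]; exact e.injective.ne (by decide)
  have had : a ≠ d := by rw [ha, hd]; exact e.injective.ne (by decide)
  have hbc : b ≠ c := by rw [hb, hc]; exact e.injective.ne (by decide)
  have hbd : b ≠ d := by rw [hb, hd]; exact e.injective.ne (by decide)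
  have hcd : c ≠ d := by rw [hc, hd]; exact e.injective.ne (by decide)
  have hσ₁A : swap a b * swap a c ∈ alternatingGroup ↥Φ' :=
    (Equiv.Perm.isThreeCycle_swap_mul_swap_same hab hac hbc).mem_alternatingGroup
  have hσ₂A : swap a b * swap c d ∈ alternatingGroup ↥Φ' := by
    rw [Equiv.Perm.mem_alternatingGroup, Equiv.Perm.sign_mul, Equiv.Perm.sign_swap hab,
      Equiv.Perm.sign_swap hcd]
    decide
  obtain ⟨y₁, hy₁N0, hy₁⟩ := hA0 hσ₁A
  obtain ⟨y₂, hy₂N0, hy₂⟩ := hA0 hσ₂A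
  have hy₁' : Induces Φ' y₁ (swap a b * swap a c) := hy₁
  have hy₂' : Induces Φ' y₂ (swap a b * swap c d) := hy₂
  have hzind := ((hy₁'.mul hy₂').mul hy₁'.inv).mul hy₂'.inv
  rw [comm_four hab hac had hbc hbd hcd] at hzind
  obtain ⟨hw2, hw1⟩ := dswap (x := b) (y := c) (z := a) (w := d) hbc had hab.symm hbd hac.symm hcd
  have hwp : (swap b c * swap a d) ^ p ≠ 1 := pow_ne_one_of_sq hw1 hw2 hp hp2
  obtain ⟨z, hzdef⟩ : ∃ z, z = y₁ * y₂ * y₁⁻¹ * y₂⁻¹ := ⟨_, rfl⟩
  rw [← hzdef] at hzind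
  rw [hmemN0] at hy₁N0 hy₂N0
  have hN'G : N' ≤ G := by rw [hN'def]; exact inf_le_left
  have hzG : z ∈ G := by
    rw [hzdef]
    exact G.mul_mem (G.mul_mem (G.mul_mem (hN'G hy₁N0.1) (hN'G hy₂N0.1)) (G.inv_mem (hN'G hy₁N0.1)))
      (G.inv_mem (hN'G hy₂N0.1))
  have hzpG : z ^ p ∈ G := G.pow_mem hzG p
  have hzp1 : z ^ p ≠ 1 := fun h => hwp ((hzind.pow p).eq_one h)
  have hsupp : (z ^ p).support ⊆ ({(a : α), (b : α), (c : α), (d : α)} : Finset α) := by
    intro x hx
    by_contra hxn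
    simp only [Finset.mem_insert, Finset.mem_singleton, not_or] at hxn
    apply (Perm.mem_support.mp hx)
    by_cases hxΦ : x ∈ Φ'
    · have h1 := (hzind.pow p) ⟨x, hxΦ⟩
      have h2 : (swap b c * swap a d) (⟨x, hxΦ⟩ : ↥Φ') = ⟨x, hxΦ⟩ := by
        have n1 : (⟨x, hxΦ⟩ : ↥Φ') ≠ a := fun h => hxn.1 (congrArg Subtype.val h)
        have n2 : (⟨x, hxΦ⟩ : ↥Φ') ≠ b := fun h => hxn.2.1 (congrArg Subtype.val h)
        have n3 : (⟨x, hxΦ⟩ : ↥Φ') ≠ c := fun h => hxn.2.2.1 (congrArg Subtype.val h)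
        have n4 : (⟨x, hxΦ⟩ : ↥Φ') ≠ d := fun h => hxn.2.2.2 (congrArg Subtype.val h)
        rw [Perm.mul_apply, swap_apply_of_ne_of_ne n1 n4, swap_apply_of_ne_of_ne n2 n3]
      have h3 := Perm.pow_apply_eq_self_of_apply_eq_self h2 p
      rw [h3] at h1
      exact h1
    · have hxΓ : x ∈ Γ' := by rw [hΓ'def, Finset.mem_compl]; exact hxΦ
      rw [hzdef]
      exact comm_pow_fix p P' hP'pg x (horbP' x hxΓ) (hN'le hy₁N0.1) (hN'le hy₂N0.1)
        (hy₁N0.2 x hxΓ) (hy₂N0.2 x hxΓ) (MulAction.mem_orbit_self x)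
  have hcs : (z ^ p).support.card ≤ 4 := by
    refine (Finset.card_le_card hsupp).trans ?_
    exact Finset.card_le_four
  have hkp' : 2 ≤ k * p := by nlinarith [hp.two_le]
  exact alt_le_of_small_support G (r + 1) (by omega) hE hzpG hzp1 (by omega) (by omega)

end Cfsg.Agent.Lib.Helper61.Miller
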