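import Mathlib
import Cfsg.Agent.Lib.Helper61.Miller7

set_option autoImplicit false
set_option linter.unusedVariables false
set_option linter.unusedSectionVars false

namespace Cfsg.Agent.Lib.Helper61.Miller

open Equiv

universe u
variable {α : Type u} [Fintype α] [DecidableEq α]

theorem fixG_empty (G : Subgroup (Perm α)) : fixG G ∅ = G := by
  ext x
  simp [mem_fixG]

theorem card_fixG_desc (G : Subgroup (Perm α)) (t : ℕ) (hE : Ext G t) (Δ : Finset α)
    (hΔ : Δ.card ≤ t) :
    Nat.card (fixG G Δ) * (Fintype.card α).descFactorial Δ.card = Nat.card G := by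
  induction Δ using Finset.induction_on with
  | empty => simp [fixG_empty]
  | insert a s ha ih =>
    rw [Finset.card_insert_of_notMem ha] at hΔ ⊢
    have h1 := ih (by omega)
    have h2 := card_fixG_singleton (fixG G s) a
    have h3 := card_orbit_fixG G s s.card rfl (hE.mono hΔ) ha
    rw [fixG_insert, Nat.descFactorial_succ, ← h1, ← h2, h3]
    ring

theorem no_small_prime (G : Subgroup (Perm α)) (hcard : Fintype.card α = 9)
    (H0 : ∀ y ∈ G, y ≠ 1 → 5 ≤ y.support.card) (Δ : Finset α) (hΔ : Δ.card = 4)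
    (q : ℕ) [Fact q.Prime] (hq : q ∣ Nat.card (fixG G Δ)) : q = 5 := by
  obtain ⟨y, hy⟩ := exists_prime_orderOf_dvd_card' q hq
  have hy' : orderOf (y : Perm α) = q := by rw [Subgroup.orderOf_coe]; exact hy
  have hyne : (y : Perm α) ≠ 1 := by
    intro h
    rw [h, orderOf_one] at hy'
    exact (Fact.out : q.Prime).one_lt.ne hy'
  have hsub : (y : Perm α).support ⊆ Δᶜ := by
    intro x hx
    rw [Finset.mem_compl]
    intro hxΔ
    exact (Perm.mem_support.mp hx) ((mem_fixG.mp y.2).2 x hxΔ)
  have h5 : (y : Perm α).support.card ≤ 5 := by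
    calc _ ≤ Δᶜ.card := Finset.card_le_card hsub
      _ = 5 := by rw [Finset.card_compl, hcard, hΔ]
  have h5' := H0 y (fixG_le G Δ y.2) hyne
  obtain ⟨n, hn⟩ := Equiv.Perm.cycleType_prime_order (σ := (y : Perm α))
    (by rw [hy']; exact Fact.out)
  have hs := Equiv.Perm.sum_cycleType (y : Perm α)
  rw [hn, Multiset.sum_replicate, smul_eq_mul, hy'] at hs
  have h : q ∣ 5 := ⟨n + 1, by rw [mul_comm]; omega⟩
  exact (Nat.prime_dvd_prime_iff_eq Fact.out (by norm_num)).mp h

theorem comm_seven (hcard : Fintype.card α = 9) {z c : Perm α} (hz : orderOf z = 7)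
    (hc : c * z = z * c) : ∃ i : ℕ, ((z ^ i)⁻¹ * c).support.card ≤ 2 := by
  obtain ⟨n, hn⟩ := Equiv.Perm.cycleType_prime_order (σ := z) (by rw [hz]; norm_num)
  have hs := Equiv.Perm.sum_cycleType z
  rw [hn, Multiset.sum_replicate, smul_eq_mul, hz] at hs
  have hsle : z.support.card ≤ 9 := by rw [← hcard]; exact Finset.card_le_univ _
  have hn0 : n = 0 := by omega
  have hs7 : z.support.card = 7 := by omega
  have hcyc : z.IsCycle := by
    rw [← Equiv.Perm.card_cycleType_eq_one, hn, hn0]; simp
  have hne : z ≠ 1 := by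
    intro h; rw [h, orderOf_one] at hz; omega
  obtain ⟨a, ha⟩ : ∃ a, z a ≠ a := by
    by_contra hcon
    push Not at hcon
    exact hne (Equiv.ext hcon)
  have hca : z (c a) ≠ c a := by
    intro h
    have h2 : c (z a) = c a := by
      have h3 := congrArg (fun f => f a) hc
      simp only [Perm.mul_apply] at h3
      rw [h3, h]
    exact ha (c.injective h2)
  obtain ⟨i, hi⟩ := hcyc.exists_pow_eq ha hca
  refine ⟨i, ?_⟩
  obtain ⟨w, hw⟩ : ∃ w, w = (z ^ i)⁻¹ * c := ⟨_, rfl⟩
  rw [← hw]
  have hwa : w a = a := by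
    rw [hw, Perm.mul_apply, ← hi]; simp
  have hwz : Commute w z := by
    rw [hw]
    apply Commute.mul_left
    · exact ((Commute.refl z).pow_left i).inv_left
    · exact hc
  have hfix : ∀ b ∈ z.support, w b = b := by
    intro b hb
    obtain ⟨j, hj⟩ := hcyc.exists_pow_eq ha (Perm.mem_support.mp hb)
    have hwzj : w * z ^ j = z ^ j * w := (hwz.pow_right j)
    rw [← hj, ← Perm.mul_apply, hwzj, Perm.mul_apply, hwa]
  have hsub : w.support ⊆ z.supportᶜ := by
    intro b hb
    rw [Finset.mem_compl]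
    intro hbz
    exact (Perm.mem_support.mp hb) (hfix b hbz)
  calc w.support.card ≤ z.supportᶜ.card := Finset.card_le_card hsub
    _ = 2 := by rw [Finset.card_compl, hcard, hs7]

theorem nine (G : Subgroup (Perm α)) (hcard : Fintype.card α = 9) (hE : Ext G 4) :
    alternatingGroup α ≤ G := by
  by_contra hA
  have H0 : ∀ y ∈ G, y ≠ 1 → 5 ≤ y.support.card := by
    intro y hy hy1
    by_contra hlt
    push Not at hlt
    exact hA (alt_le_of_small_support G 4 (by norm_num) hE hy hy1 (by omega) (by omega))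
  obtain ⟨Δ, -, hΔ⟩ := Finset.exists_subset_card_eq (s := (Finset.univ : Finset α)) (n := 4)
    (by rw [Finset.card_univ, hcard]; norm_num)
  have hord := card_fixG_desc G 4 hE Δ hΔ.le
  rw [hΔ, hcard] at hord
  have h3024 : Nat.descFactorial 9 4 = 3024 := by decide
  rw [h3024] at hord
  obtain ⟨m, hm⟩ : ∃ m, m = Nat.card (fixG G Δ) := ⟨_, rfl⟩
  rw [← hm] at hord
  have hdvd : Nat.card G ∣ Nat.card (Perm α) := Subgroup.card_subgroup_dvd_card G
  rw [Nat.card_perm, Nat.card_eq_fintype_card (α := α), hcard, ← hord] at hdvd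
  have h9 : Nat.factorial 9 = 120 * 3024 := by decide
  have hm120 : m ∣ 120 := by
    rw [h9] at hdvd
    exact Nat.dvd_of_mul_dvd_mul_right (by norm_num) hdvd
  have hm2 : ¬ 2 ∣ m := fun h => by
    have : Fact (Nat.Prime 2) := ⟨Nat.prime_two⟩
    have := no_small_prime G hcard H0 Δ hΔ 2 (hm ▸ h)
    omega
  have hm3 : ¬ 3 ∣ m := fun h => by
    have : Fact (Nat.Prime 3) := ⟨Nat.prime_three⟩
    have := no_small_prime G hcard H0 Δ hΔ 3 (hm ▸ h)
    omega
  have hm15 : m = 1 ∨ m = 5 := by
    have hle : m ≤ 120 := Nat.le_of_dvd (by norm_num) hm120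
    interval_cases m <;> omega
  have : Fact (Nat.Prime 7) := ⟨by norm_num⟩
  have h7 : 7 ∣ Nat.card G := ⟨432 * m, by rw [← hord]; ring⟩
  obtain ⟨z, hz⟩ := exists_prime_orderOf_dvd_card' 7 h7
  obtain ⟨Z, hZ⟩ : ∃ Z : Subgroup ↥G, Z = Subgroup.zpowers z := ⟨_, rfl⟩
  have hZcard : Nat.card Z = 7 := by rw [hZ, Nat.card_zpowers, hz]
  have hfac : (Nat.card G).factorization 7 = 1 := by
    have h1 : Nat.card G = 7 * (432 * m) := by rw [← hord]; ring
    have h2 : 432 * m ≠ 0 := by rcases hm15 with h | h <;> rw [h] <;> norm_num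
    have h3 : ¬ 7 ∣ 432 * m := by rcases hm15 with h | h <;> rw [h] <;> norm_num
    rw [h1, Nat.factorization_mul (by norm_num) h2, Finsupp.add_apply,
      Nat.Prime.factorization_self (by norm_num), Nat.factorization_eq_zero_of_not_dvd h3]
  have hP : ∃ P : Sylow 7 ↥G, (P : Subgroup ↥G) = Z :=
    ⟨Sylow.ofCard Z (by rw [hZcard, hfac, pow_one]), Sylow.coe_ofCard _ _⟩
  obtain ⟨P, hP⟩ := hP
  have hn7 := card_sylow_modEq_one 7 ↥G
  have hidx : Nat.card (Sylow 7 ↥G) = (Subgroup.normalizer (Z : Set ↥G)).index := by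
    have h := Sylow.card_eq_index_normalizer P
    have hPZ : (P : Set ↥G) = (Z : Set ↥G) := by rw [← hP]; rfl
    rwa [hPZ] at h
  have hzc : orderOf (z : Perm α) = 7 := by rw [Subgroup.orderOf_coe]; exact hz
  have hC : Subgroup.centralizer (Z : Set ↥G) = Z := by
    apply le_antisymm
    · intro c hc
      rw [Subgroup.mem_centralizer_iff] at hc
      have hcz : z * c = c * z := hc z (by rw [hZ]; exact Subgroup.mem_zpowers z)
      have hcz' : (c : Perm α) * (z : Perm α) = (z : Perm α) * (c : Perm α) := by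
        have := congrArg (fun x : ↥G => (x : Perm α)) hcz
        simpa using this.symm
      obtain ⟨i, hi⟩ := comm_seven hcard hzc hcz'
      have hw : ((z : Perm α) ^ i)⁻¹ * (c : Perm α) = 1 := by
        by_contra hne
        have := H0 _ (G.mul_mem (G.inv_mem (G.pow_mem z.2 i)) c.2) hne
        omega
      have hcz2 : c = z ^ i := by
        apply Subtype.ext
        rw [SubgroupClass.coe_pow]
        exact (inv_mul_eq_one.mp hw).symm
      rw [hZ, hcz2]
      exact Subgroup.pow_mem _ (Subgroup.mem_zpowers z) i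
    · rw [hZ]
      exact Subgroup.le_centralizer _
  have key := Subgroup.card_dvd_of_injective _
    (QuotientGroup.kerLift_injective Z.normalizerMonoidHom)
  rw [Subgroup.normalizerMonoidHom_ker, ← Subgroup.index, ← Subgroup.relIndex] at key
  have : IsCyclic Z := by rw [hZ]; infer_instance
  rw [IsCyclic.card_mulAut, hZcard, Nat.totient_prime (by norm_num)] at key
  have h1 := Subgroup.relIndex_mul_index (Subgroup.centralizer_le_normalizer (Z : Set ↥G))
  have h2 := Subgroup.card_mul_index (Subgroup.centralizer (Z : Set ↥G))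
  rw [hC] at h1 h2 key
  rw [hZcard, ← h1, ← hidx, ← hord] at h2
  obtain ⟨d, hd⟩ : ∃ d, d = Z.relIndex (Subgroup.normalizer (Z : Set ↥G)) := ⟨_, rfl⟩
  obtain ⟨n, hn⟩ : ∃ n, n = Nat.card (Sylow 7 ↥G) := ⟨_, rfl⟩
  rw [← hd] at key h2
  rw [← hn] at hn7 h2
  have hd6 : d ≤ 6 := Nat.le_of_dvd (by norm_num) key
  have hn7' : n % 7 = 1 := hn7
  rcases hm15 with h | h <;> subst h <;> interval_cases d <;> omega

theorem miller_main (p : ℕ) [Fact p.Prime] (r : ℕ) : ∀ (k : ℕ) (α : Type u) [Fintype α]
    [DecidableEq α] (G : Subgroup (Perm α)), Fintype.card α = k * p + r → 1 ≤ k → k < p →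
    k < r → ¬ (k = 1 ∧ r = 2) → Ext G (r + 1) → alternatingGroup α ≤ G := by
  intro k
  induction k using Nat.strong_induction_on with
  | _ k ih =>
    intro α _ _ G hcard hk1 hkp hkr hex hE
    have hp : p.Prime := Fact.out
    have hp2' := hp.two_le
    have hr3 : 3 ≤ r := by omega
    obtain ⟨Δ, -, hΔ⟩ := Finset.exists_subset_card_eq (s := (Finset.univ : Finset α)) (n := r)
      (by rw [Finset.card_univ, hcard]; omega)
    by_cases h0 : k * p ≤ r + 1
    · have hc : Δᶜ.card = k * p := by rw [Finset.card_compl, hΔ, hcard]; omega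
      have h2 : 1 < Δᶜ.card := by
        rw [hc]; nlinarith
      obtain ⟨γ, hγ, γ', hγ', hne⟩ := Finset.one_lt_card.mp h2
      rw [Finset.mem_compl] at hγ hγ'
      have hmem : γ' ∈ MulAction.orbit ↥(fixG G Δ) γ := by
        rw [orbit_fixG_eq G Δ r hΔ hE hγ]; exact hγ'
      obtain ⟨u, hu, huγ⟩ := mem_orbit_sub.mp hmem
      have hu1 : u ≠ 1 := by
        rintro rfl
        exact hne (by simpa using huγ)
      have hsub : u.support ⊆ Δᶜ := by
        intro x hx
        rw [Finset.mem_compl]
        intro hxΔ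
        exact (Perm.mem_support.mp hx) ((mem_fixG.mp hu).2 x hxΔ)
      have hle : u.support.card ≤ k * p := hc ▸ Finset.card_le_card hsub
      exact alt_le_of_small_support G (r + 1) (by omega) hE (fixG_le G Δ hu) hu1 (by omega)
        (by rw [hcard]; omega)
    · obtain ⟨P, hP⟩ := exists_isSyl p (fixG G Δ)
      by_cases h9 : k = 2 ∧ p = 3 ∧ r = 3
      · obtain ⟨rfl, rfl, rfl⟩ := h9
        exact nine G (by rw [hcard]) hE
      · have hp2 : p ≠ 2 := by
          rintro rfl
          have : k = 1 := by omega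
          subst this
          omega
        have hp3 : p = 3 → 4 ≤ r := by
          rintro rfl
          by_contra hr4
          have hr : r = 3 := by omega
          subst hr
          have hk : k = 1 ∨ k = 2 := by omega
          rcases hk with rfl | rfl
          · omega
          · exact h9 ⟨rfl, rfl, rfl⟩
        by_cases hPc : Nat.card P = p
        · exact caseA p G Δ k r hcard hΔ hk1 hkp hkr hr3 hp2 hp3 hE P hP hPc
        · exact caseB p G Δ k r hcard hΔ hk1 hkp hkr hr3 hp2 hE P hP hPc
            (fun m hm hm1 β _ _ H hβ hH =>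
              ih m hm β H hβ hm1 (by omega) (by omega) (by omega) hH)

end Cfsg.Agent.Lib.Helper61.Miller
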