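import Mathlib
import Cfsg.Agent.Lib.Helper61.Miller8
import Cfsg.Agent.Lib.Helper61.KAlt15

namespace Cfsg.Agent.Lib.Helper61.LW

open Equiv Equiv.Perm Cfsg.Agent.Lib.Helper61.Miller Cfsg.Agent.Lib.Helper61.KAlt

set_option linter.unusedSectionVars false
set_option linter.unusedVariables false
variable {α : Type*} [Fintype α] [DecidableEq α]

/-- finset form of `j`-homogeneity -/
def Hom (G : Subgroup (Perm α)) (j : ℕ) : Prop :=
  ∀ S T : Finset α, S.card = j → T.card = j → ∃ g ∈ G, ∀ a ∈ S, g a ∈ T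

theorem hom_of_ext {G : Subgroup (Perm α)} {j : ℕ} (hE : Ext G j) : Hom G j :=
  fun S T hS hT => exists_map_finset hE S T hS.le (hS.trans hT.symm)

theorem card_fixG_hom {G : Subgroup (Perm α)} {j : ℕ} (hH : Hom G j) {S T : Finset α}
    (hS : S.card = j) (hT : T.card = j) : Nat.card (fixG G S) = Nat.card (fixG G T) := by
  obtain ⟨g, hg, hgST⟩ := hH S T hS hT
  exact card_fixG_conj hg hgST (hT.trans hS.symm)

theorem image_eq_of_maps {S T : Finset α} {g : Perm α} (h : ∀ a ∈ S, g a ∈ T)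
    (hc : T.card ≤ S.card) : S.image g = T := by
  apply Finset.eq_of_subset_of_card_le
  · intro b hb
    rw [Finset.mem_image] at hb
    obtain ⟨a, ha, rfl⟩ := hb
    exact h a ha
  · rw [Finset.card_image_of_injective _ g.injective]; exact hc

theorem exists_nonorb {G : Subgroup (Perm α)} {t : ℕ} (hE : Ext G t) (hnE : ¬ Ext G (t + 1)) :
    ∃ Γ : Finset α, Γ.card = t ∧ ∃ ω ω' : α, ω ∉ Γ ∧ ω' ∉ Γ ∧ ¬ SameOrb (fixG G Γ) ω ω' := by
  classical
  by_contra hcon
  apply hnE
  intro s hs f hf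
  by_cases hs1 : s.card ≤ t
  · exact hE s hs1 f hf
  have hs2 : s.card = t + 1 := by omega
  obtain ⟨x, hx⟩ : ∃ x, x ∈ s := Finset.card_pos.mp (by omega)
  have hs' : (s.erase x).card = t := by rw [Finset.card_erase_of_mem hx]; omega
  have hsub : ((s.erase x : Finset α) : Set α) ⊆ (s : Set α) := by
    intro a ha
    exact Finset.mem_of_mem_erase ha
  obtain ⟨g₁, hg₁, hg₁f⟩ := hE (s.erase x) hs'.le f (hf.mono hsub)
  have hΓc : ((s.erase x).image f).card = t := by
    rw [Finset.card_image_of_injOn (hf.mono hsub), hs']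
  have hω : g₁ x ∉ (s.erase x).image f := by
    intro h
    rw [Finset.mem_image] at h
    obtain ⟨a, ha, hfa⟩ := h
    have h1 : g₁ a = g₁ x := by rw [hg₁f a ha]; exact hfa
    have h2 := g₁.injective h1
    rw [h2] at ha
    exact (Finset.notMem_erase x s) ha
  have hω' : f x ∉ (s.erase x).image f := by
    intro h
    obtain ⟨a, ha, hfa⟩ := Finset.mem_image.mp h
    have h2 := hf (Finset.mem_of_mem_erase ha) hx hfa
    rw [h2] at ha
    exact (Finset.notMem_erase x s) ha
  have hso : SameOrb (fixG G ((s.erase x).image f)) (g₁ x) (f x) := by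
    by_contra h
    exact hcon ⟨_, hΓc, g₁ x, f x, hω, hω', h⟩
  obtain ⟨κ, hκ, hκx⟩ := hso
  refine ⟨κ * g₁, G.mul_mem hκ.1 hg₁, fun a ha => ?_⟩
  by_cases hax : a = x
  · rw [hax, Perm.mul_apply, hκx]
  · have ha' : a ∈ s.erase x := Finset.mem_erase.mpr ⟨hax, ha⟩
    rw [Perm.mul_apply, hg₁f a ha']
    exact hκ.2 _ (Finset.mem_image_of_mem f ha')

theorem fixG_mono (G : Subgroup (Perm α)) {S T : Finset α} (h : S ⊆ T) : fixG G T ≤ fixG G S :=
  fun g hg => ⟨hg.1, fun a ha => hg.2 a (h ha)⟩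

theorem card_pos_sub (K : Subgroup (Perm α)) : 0 < Nat.card K := Nat.card_pos

theorem orbF_card_one {U : Subgroup (Perm α)} {a : α} (h : (orbF U a).card = 1) :
    ∀ u ∈ U, u a = a := by
  intro u hu
  have h1 : a ∈ orbF U a := self_mem_orbF U a
  have h2 : u a ∈ orbF U a := mem_orbF.mpr (mem_orbit_sub.mpr ⟨u, hu, rfl⟩)
  exact Finset.card_le_one.mp h.le _ h2 _ h1

/-- STRUCT: the pointwise stabilizers of `(t+1)`-sets are trivial -/
theorem struct {G : Subgroup (Perm α)} {t : ℕ} (hH1 : Hom G (t + 1)) (hH2 : Hom G (t + 2))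
    {Γ : Finset α} (hΓ : Γ.card = t) {ω ω' : α} (hω : ω ∉ Γ) (hω' : ω' ∉ Γ)
    (hno : ¬ SameOrb (fixG G Γ) ω ω') :
    ∀ S : Finset α, S.card = t + 1 → ∀ g ∈ fixG G S, g = 1 := by
  classical
  have hne : ω ≠ ω' := fun h => hno (h ▸ SameOrb.refl _ _)
  have hcω : (insert ω Γ).card = t + 1 := by rw [Finset.card_insert_of_notMem hω, hΓ]
  have hω'2 : ω' ∉ insert ω Γ := by
    intro h
    rcases Finset.mem_insert.mp h with h | h
    · exact hne h.symm
    · exact hω' h
  -- orbit sizes under H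
  have hUH : fixG G (insert ω Γ) ≤ fixG G Γ := fixG_mono G (Finset.subset_insert _ _)
  have hμ : (orbF (fixG G Γ) ω).card = (orbF (fixG G Γ) ω').card := by
    have e1 := card_fixG_singleton (fixG G Γ) ω
    have e2 := card_fixG_singleton (fixG G Γ) ω'
    rw [← fixG_insert] at e1 e2
    have e3 : Nat.card (fixG G (insert ω' Γ)) = Nat.card (fixG G (insert ω Γ)) :=
      card_fixG_hom hH1 (by rw [Finset.card_insert_of_notMem hω', hΓ]) hcω
    rw [e3, ← e1] at e2
    rw [card_orbF, card_orbF]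
    exact (Nat.eq_of_mul_eq_mul_left (card_pos_sub _) e2).symm
  -- orbit sizes under U
  have hc : ∀ a, a ∉ insert ω Γ → (orbF (fixG G (insert ω Γ)) a).card
      = (orbF (fixG G (insert ω Γ)) ω').card := by
    intro a ha
    have e1 := card_fixG_singleton (fixG G (insert ω Γ)) a
    have e2 := card_fixG_singleton (fixG G (insert ω Γ)) ω'
    rw [← fixG_insert] at e1 e2
    have e3 : Nat.card (fixG G (insert a (insert ω Γ)))
        = Nat.card (fixG G (insert ω' (insert ω Γ))) :=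
      card_fixG_hom hH2 (by rw [Finset.card_insert_of_notMem ha, hcω])
        (by rw [Finset.card_insert_of_notMem hω'2, hcω])
    rw [e3, ← e2] at e1
    rw [card_orbF, card_orbF]
    exact Nat.eq_of_mul_eq_mul_left (card_pos_sub _) e1
  -- points of the orbit of ω'
  have hO' : ∀ a ∈ orbF (fixG G Γ) ω', a ∉ insert ω Γ := by
    intro a ha h
    rw [mem_orbF, mem_orbit_sub] at ha
    obtain ⟨κ, hκ, rfl⟩ := ha
    rcases Finset.mem_insert.mp h with h | h
    · exact hno (SameOrb.symm ⟨κ, hκ, h⟩)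
    · exact fixG_notin hκ hω' h
  have hO : ∀ a ∈ (orbF (fixG G Γ) ω).erase ω, a ∉ insert ω Γ := by
    intro a ha h
    rw [Finset.mem_erase, mem_orbF, mem_orbit_sub] at ha
    obtain ⟨hane, κ, hκ, rfl⟩ := ha
    rcases Finset.mem_insert.mp h with h | h
    · exact hane h
    · exact fixG_notin hκ hω h
  have d1 := card_orbSet_mul (fixG G (insert ω Γ)) (orbF (fixG G Γ) ω')
    ((orbF (fixG G (insert ω Γ)) ω').card) (fun a ha => hc a (hO' a ha)) (by
      intro a ha b hb
      rw [mem_orbF, mem_orbit_sub] at hb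
      obtain ⟨u, hu, rfl⟩ := hb
      rw [mem_orbF, mem_orbit_sub] at ha ⊢
      obtain ⟨κ, hκ, rfl⟩ := ha
      exact ⟨u * κ, (fixG G Γ).mul_mem (hUH hu) hκ, rfl⟩)
  have d2 := card_orbSet_mul (fixG G (insert ω Γ)) ((orbF (fixG G Γ) ω).erase ω)
    ((orbF (fixG G (insert ω Γ)) ω').card) (fun a ha => hc a (hO a ha)) (by
      intro a ha b hb
      rw [mem_orbF, mem_orbit_sub] at hb
      obtain ⟨u, hu, rfl⟩ := hb
      rw [Finset.mem_erase, mem_orbF, mem_orbit_sub] at ha ⊢
      obtain ⟨hane, κ, hκ, rfl⟩ := ha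
      refine ⟨?_, u * κ, (fixG G Γ).mul_mem (hUH hu) hκ, rfl⟩
      intro h
      have h1 : u ω = ω := hu.2 ω (Finset.mem_insert_self _ _)
      have h2 : u (κ ω) = u ω := by rw [h1]; exact h
      exact hane (u.injective h2))
  rw [Finset.card_erase_of_mem (self_mem_orbF _ _), hμ] at d2
  have hpos : 0 < (orbF (fixG G Γ) ω').card := Finset.card_pos.mpr ⟨ω', self_mem_orbF _ _⟩
  have hc1 : (orbF (fixG G (insert ω Γ)) ω').card = 1 := by
    have dv1 : (orbF (fixG G (insert ω Γ)) ω').card ∣ (orbF (fixG G Γ) ω').card :=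
      Dvd.intro_left _ d1
    have dv2 : (orbF (fixG G (insert ω Γ)) ω').card ∣ (orbF (fixG G Γ) ω').card - 1 :=
      Dvd.intro_left _ d2
    have := Nat.dvd_sub dv1 dv2
    have h3 : (orbF (fixG G Γ) ω').card - ((orbF (fixG G Γ) ω').card - 1) = 1 := by omega
    rw [h3] at this
    exact Nat.dvd_one.mp this
  -- U is trivial
  have hU : ∀ u ∈ fixG G (insert ω Γ), u = 1 := by
    intro u hu
    ext a
    rw [Perm.one_apply]
    by_cases ha : a ∈ insert ω Γ
    · exact hu.2 a ha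
    · exact orbF_card_one ((hc a ha).trans hc1) u hu
  have hUc : Nat.card (fixG G (insert ω Γ)) = 1 := by
    have : fixG G (insert ω Γ) = ⊥ := by
      rw [Subgroup.eq_bot_iff_forall]; exact hU
    rw [this, Subgroup.card_bot]
  intro S hS g hg
  have h1 : Nat.card (fixG G S) = 1 := (card_fixG_hom hH1 hS hcω).trans hUc
  have h2 := Subgroup.eq_bot_of_card_eq _ h1
  rw [h2] at hg
  exact Subgroup.mem_bot.mp hg

theorem star_of_trivial {G : Subgroup (Perm α)} {t : ℕ}
    (h : ∀ S : Finset α, S.card = t + 1 → ∀ g ∈ fixG G S, g = 1) : Star G t := by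
  intro g hg hg1
  by_contra hcon
  push Not at hcon
  obtain ⟨S, hSsub, hS⟩ := Finset.exists_subset_card_eq (s := fixS g) (n := t + 1) (by omega)
  exact hg1 (h S hS g ⟨hg, fun a ha => mem_fixS.mp (hSsub ha)⟩)

end Cfsg.Agent.Lib.Helper61.LW
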