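import Mathlib
import Cfsg.Agent.Lib.Helper61.LW1

namespace Cfsg.Agent.Lib.Helper61.LW

open Equiv Equiv.Perm Cfsg.Agent.Lib.Helper61.Miller Cfsg.Agent.Lib.Helper61.KAlt

set_option linter.unusedSectionVars false
set_option linter.unusedVariables false
variable {α : Type*} [Fintype α] [DecidableEq α]

/-- setwise stabilizer -/
def setStab (G : Subgroup (Perm α)) (S : Finset α) : Subgroup (Perm α) where
  carrier := {g | g ∈ G ∧ ∀ a ∈ S, g a ∈ S}
  one_mem' := ⟨G.one_mem, fun a ha => ha⟩
  mul_mem' := by
    rintro a b ⟨ha, ha'⟩ ⟨hb, hb'⟩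
    exact ⟨G.mul_mem ha hb, pres_mul ha' hb'⟩
  inv_mem' := by
    rintro a ⟨ha, ha'⟩
    exact ⟨G.inv_mem ha, pres_inv ha'⟩

theorem mem_setStab {G : Subgroup (Perm α)} {S : Finset α} {g : Perm α} :
    g ∈ setStab G S ↔ g ∈ G ∧ ∀ a ∈ S, g a ∈ S := Iff.rfl

theorem setStab_le (G : Subgroup (Perm α)) (S : Finset α) : setStab G S ≤ G := fun _ h => h.1

theorem card_setStab {G : Subgroup (Perm α)} {j : ℕ} (hH : Hom G j) {S : Finset α}
    (hS : S.card = j) :
    Nat.card (setStab G S) * (Fintype.card α).choose j = Nat.card G := by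
  classical
  rw [natCard_eq_filter (setStab G S), natCard_eq_filter G]
  have hmaps : Set.MapsTo (fun g : Perm α => S.image g)
      ↑(Finset.univ.filter (fun g : Perm α => g ∈ G))
      ↑(Finset.powersetCard j (Finset.univ : Finset α)) := by
    intro g hg
    rw [Finset.mem_coe, Finset.mem_powersetCard]
    exact ⟨Finset.subset_univ _, by rw [Finset.card_image_of_injective _ g.injective, hS]⟩
  rw [Finset.card_eq_sum_card_fiberwise hmaps]
  have hfib : ∀ T ∈ Finset.powersetCard j (Finset.univ : Finset α),
      ((Finset.univ.filter (fun g : Perm α => g ∈ G)).filter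
        (fun g => (fun g : Perm α => S.image g) g = T)).card
      = (Finset.univ.filter (fun g : Perm α => g ∈ setStab G S)).card := by
    intro T hT
    rw [Finset.mem_powersetCard] at hT
    obtain ⟨gT, hgT, hgTm⟩ := hH S T hS hT.2
    have himg : S.image gT = T := image_eq_of_maps hgTm (by rw [hT.2, hS])
    have hback : ∀ b ∈ T, gT⁻¹ b ∈ S := by
      intro b hb
      rw [← himg, Finset.mem_image] at hb
      obtain ⟨a, ha, rfl⟩ := hb
      simpa using ha
    apply Finset.card_bij' (fun g _ => gT⁻¹ * g) (fun s _ => gT * s)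
    · intro g hg
      simp only [Finset.mem_filter, Finset.mem_univ, true_and] at hg ⊢
      refine ⟨G.mul_mem (G.inv_mem hgT) hg.1, fun a ha => ?_⟩
      rw [Perm.mul_apply]
      apply hback
      rw [← hg.2]
      exact Finset.mem_image_of_mem _ ha
    · intro s hs
      simp only [Finset.mem_filter, Finset.mem_univ, true_and] at hs ⊢
      refine ⟨G.mul_mem hgT hs.1, ?_⟩
      apply image_eq_of_maps
      · intro a ha
        rw [Perm.mul_apply]
        exact hgTm _ (hs.2 a ha)
      · rw [hT.2, hS]
    · intro g _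
      simp
    · intro s _
      simp
  rw [Finset.sum_congr rfl hfib, Finset.sum_const, Finset.card_powersetCard, Finset.card_univ,
    smul_eq_mul, mul_comm]

/-- numerics of the Livingstone-Wagner configuration -/
theorem numerics {G : Subgroup (Perm α)} {t : ℕ} (hE : Ext G t) (hH1 : Hom G (t + 1))
    (hH2 : Hom G (t + 2)) (hn : t + 2 ≤ Fintype.card α)
    {Γ : Finset α} (hΓ : Γ.card = t) {ω ω' : α} (hω : ω ∉ Γ) (hω' : ω' ∉ Γ)
    (hno : ¬ SameOrb (fixG G Γ) ω ω') :
    ∃ r : ℕ, 2 ≤ r ∧ r * Nat.card (fixG G Γ) = Fintype.card α - t ∧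
      (∀ S : Finset α, S.card = t + 1 → Nat.card (setStab G S) * r = (t + 1).factorial) ∧
      (∀ D : Finset α, D.card = t + 2 →
        Nat.card (setStab G D) * r * (Fintype.card α - t - 1) = (t + 2).factorial) ∧
      Nat.card G = Nat.card (fixG G Γ) * (Fintype.card α).descFactorial t := by
  classical
  have htriv := struct hH1 hH2 hΓ hω hω' hno
  have hcard : ∀ a ∈ Γᶜ, (orbF (fixG G Γ) a).card = Nat.card (fixG G Γ) := by
    intro a ha
    rw [Finset.mem_compl] at ha
    have e1 := card_fixG_singleton (fixG G Γ) a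
    rw [← fixG_insert] at e1
    have e2 : Nat.card (fixG G (insert a Γ)) = 1 := by
      have : fixG G (insert a Γ) = ⊥ := by
        rw [Subgroup.eq_bot_iff_forall]
        exact htriv _ (by rw [Finset.card_insert_of_notMem ha, hΓ])
      rw [this, Subgroup.card_bot]
    rw [e2, one_mul] at e1
    rw [card_orbF, e1]
  have hsub : ∀ a ∈ Γᶜ, orbF (fixG G Γ) a ⊆ Γᶜ := by
    intro a ha b hb
    rw [Finset.mem_compl] at ha ⊢
    rw [mem_orbF, mem_orbit_sub] at hb
    obtain ⟨κ, hκ, rfl⟩ := hb
    exact fixG_notin hκ ha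
  have hr := card_orbSet_mul (fixG G Γ) Γᶜ _ hcard hsub
  rw [Finset.card_compl, hΓ] at hr
  have hr2 : 2 ≤ (orbSet (fixG G Γ) Γᶜ).card := by
    have h1 : orbF (fixG G Γ) ω ∈ orbSet (fixG G Γ) Γᶜ :=
      Finset.mem_image_of_mem _ (Finset.mem_compl.mpr hω)
    have h2 : orbF (fixG G Γ) ω' ∈ orbSet (fixG G Γ) Γᶜ :=
      Finset.mem_image_of_mem _ (Finset.mem_compl.mpr hω')
    have h3 : orbF (fixG G Γ) ω ≠ orbF (fixG G Γ) ω' := by
      intro h
      have h4 : ω' ∈ orbF (fixG G Γ) ω := by rw [h]; exact self_mem_orbF _ _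
      rw [mem_orbF, mem_orbit_sub] at h4
      exact hno h4
    exact Finset.one_lt_card.mpr ⟨_, h1, _, h2, h3⟩
  have hG : Nat.card G = Nat.card (fixG G Γ) * (Fintype.card α).descFactorial t := by
    have := card_fixG_desc G t hE Γ hΓ.le
    rw [hΓ] at this
    exact this.symm
  have h0pos : 0 < Nat.card (fixG G Γ) := Nat.card_pos
  refine ⟨(orbSet (fixG G Γ) Γᶜ).card, hr2, hr, ?_, ?_, hG⟩
  · intro S hS
    have hcount := card_setStab hH1 hS
    rw [hG] at hcount
    obtain ⟨m, hm⟩ : ∃ m, Fintype.card α - t = m + 1 := ⟨Fintype.card α - t - 1, by omega⟩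
    have F1 := Nat.choose_mul_factorial_mul_factorial (n := Fintype.card α) (k := t + 1) (by omega)
    have F2 := Nat.factorial_mul_descFactorial (n := Fintype.card α) (k := t) (by omega)
    have e1 : Fintype.card α - (t + 1) = m := by omega
    rw [e1] at F1
    rw [hm, Nat.factorial_succ] at F2
    rw [hm] at hr
    have key : Nat.card (setStab G S) * (m + 1) * (Fintype.card α).factorial
        = Nat.card (fixG G Γ) * (t + 1).factorial * (Fintype.card α).factorial := by
      calc Nat.card (setStab G S) * (m + 1) * (Fintype.card α).factorial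
          = Nat.card (setStab G S) * (m + 1) *
            ((Fintype.card α).choose (t + 1) * (t + 1).factorial * m.factorial) := by rw [F1]
        _ = (Nat.card (setStab G S) * (Fintype.card α).choose (t + 1)) *
            ((t + 1).factorial * ((m + 1) * m.factorial)) := by ring
        _ = (Nat.card (fixG G Γ) * (Fintype.card α).descFactorial t) *
            ((t + 1).factorial * ((m + 1) * m.factorial)) := by rw [hcount]
        _ = Nat.card (fixG G Γ) * (t + 1).factorial *
            ((m + 1) * m.factorial * (Fintype.card α).descFactorial t) := by ring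
        _ = Nat.card (fixG G Γ) * (t + 1).factorial * (Fintype.card α).factorial := by rw [F2]
    have key2 := Nat.eq_of_mul_eq_mul_right (Nat.factorial_pos _) key
    rw [← hr] at key2
    have key3 : (Nat.card (setStab G S) * (orbSet (fixG G Γ) Γᶜ).card) * Nat.card (fixG G Γ)
        = (t + 1).factorial * Nat.card (fixG G Γ) := by
      rw [mul_assoc, key2, mul_comm]
    exact Nat.eq_of_mul_eq_mul_right h0pos key3
  · intro D hD
    have hcount := card_setStab hH2 hD
    rw [hG] at hcount
    obtain ⟨m, hm⟩ : ∃ m, Fintype.card α - t = m + 2 := ⟨Fintype.card α - t - 2, by omega⟩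
    have F1 := Nat.choose_mul_factorial_mul_factorial (n := Fintype.card α) (k := t + 2) (by omega)
    have F2 := Nat.factorial_mul_descFactorial (n := Fintype.card α) (k := t) (by omega)
    have e1 : Fintype.card α - (t + 2) = m := by omega
    have e2 : Fintype.card α - t - 1 = m + 1 := by omega
    rw [e1] at F1
    rw [hm, Nat.factorial_succ, Nat.factorial_succ] at F2
    rw [hm] at hr
    rw [e2]
    have key : Nat.card (setStab G D) * ((m + 2) * (m + 1)) * (Fintype.card α).factorial
        = Nat.card (fixG G Γ) * (t + 2).factorial * (Fintype.card α).factorial := by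
      calc Nat.card (setStab G D) * ((m + 2) * (m + 1)) * (Fintype.card α).factorial
          = Nat.card (setStab G D) * ((m + 2) * (m + 1)) *
            ((Fintype.card α).choose (t + 2) * (t + 2).factorial * m.factorial) := by rw [F1]
        _ = (Nat.card (setStab G D) * (Fintype.card α).choose (t + 2)) *
            ((t + 2).factorial * ((m + 1 + 1) * ((m + 1) * m.factorial))) := by ring
        _ = (Nat.card (fixG G Γ) * (Fintype.card α).descFactorial t) *
            ((t + 2).factorial * ((m + 1 + 1) * ((m + 1) * m.factorial))) := by rw [hcount]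
        _ = Nat.card (fixG G Γ) * (t + 2).factorial *
            ((m + 1 + 1) * ((m + 1) * m.factorial) * (Fintype.card α).descFactorial t) := by ring
        _ = Nat.card (fixG G Γ) * (t + 2).factorial * (Fintype.card α).factorial := by rw [F2]
    have key2 := Nat.eq_of_mul_eq_mul_right (Nat.factorial_pos _) key
    rw [← hr] at key2
    have key3 : (Nat.card (setStab G D) * (orbSet (fixG G Γ) Γᶜ).card * (m + 1))
        * Nat.card (fixG G Γ) = (t + 2).factorial * Nat.card (fixG G Γ) := by
      rw [mul_comm (t + 2).factorial, ← key2]; ring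
    exact Nat.eq_of_mul_eq_mul_right h0pos key3

end Cfsg.Agent.Lib.Helper61.LW
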