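import Mathlib
import Cfsg.Agent.Lib.Helper61.LW2

namespace Cfsg.Agent.Lib.Helper61.LW

open Equiv Equiv.Perm Cfsg.Agent.Lib.Helper61.Miller Cfsg.Agent.Lib.Helper61.KAlt

set_option linter.unusedSectionVars false
set_option linter.unusedVariables false
variable {α : Type*} [Fintype α] [DecidableEq α]

theorem card_indGroup {G : Subgroup (Perm α)} {S : Finset α}
    (htriv : ∀ g ∈ fixG G S, g = 1) : Nat.card (indGroup G S) = Nat.card (setStab G S) := by
  classical
  have hex : ∀ g : ↥(setStab G S), ∃ σ ∈ indGroup G S, ∀ b : ↥S, (g : Perm α) (b : α) = (σ b : α) :=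
    fun g => exists_ind g.2.1 g.2.2
  let φ : ↥(setStab G S) → ↥(indGroup G S) := fun g => ⟨(hex g).choose, (hex g).choose_spec.1⟩
  have hφ : ∀ (g : ↥(setStab G S)) (b : ↥S), (g : Perm α) (b : α) = ((φ g : Perm ↥S) b : α) :=
    fun g => (hex g).choose_spec.2
  symm
  apply Nat.card_eq_of_bijective φ
  constructor
  · intro g g' hgg'
    have h1 : ∀ a ∈ S, (g : Perm α) a = (g' : Perm α) a := by
      intro a ha
      have e1 := hφ g ⟨a, ha⟩
      have e2 := hφ g' ⟨a, ha⟩
      rw [hgg'] at e1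
      exact e1.trans e2.symm
    have h2 : (g : Perm α)⁻¹ * (g' : Perm α) ∈ fixG G S := by
      refine ⟨G.mul_mem (G.inv_mem g.2.1) g'.2.1, fun a ha => ?_⟩
      rw [Perm.mul_apply, ← h1 a ha]; simp
    have h3 := htriv _ h2
    apply Subtype.ext
    have : (g : Perm α) = (g : Perm α) * ((g : Perm α)⁻¹ * (g' : Perm α)) := by
      rw [h3, mul_one]
    rw [this]; group
  · rintro ⟨σ, x, hx, hxσ⟩
    have hxS : x ∈ setStab G S := by
      refine ⟨hx, fun a ha => ?_⟩
      have := hxσ ⟨a, ha⟩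
      simp only at this
      rw [this]; exact (σ ⟨a, ha⟩).2
    refine ⟨⟨x, hxS⟩, ?_⟩
    apply Subtype.ext
    ext b
    have e1 := hφ ⟨x, hxS⟩ b
    simp only at e1
    rw [← e1, hxσ b]

theorem no_odd_of_index_two {G : Subgroup (Perm α)} {S : Finset α}
    (h : Nat.card (indGroup G S) * 2 = S.card.factorial) :
    ∀ σ ∈ indGroup G S, Perm.sign σ = 1 := by
  have h1 := Subgroup.card_mul_index (indGroup G S)
  rw [Nat.card_perm, Nat.card_eq_fintype_card (α := ↥S), Fintype.card_coe, ← h] at h1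
  have hpos : 0 < Nat.card (indGroup G S) := Nat.card_pos
  have h2 : (indGroup G S).index = 2 := Nat.eq_of_mul_eq_mul_left hpos h1
  have h3 := Equiv.Perm.eq_alternatingGroup_of_index_eq_two h2
  intro σ hσ
  rw [h3] at hσ
  exact Equiv.Perm.mem_alternatingGroup.mp hσ

/-- no element acts as a transposition on a `(t+1)`-set -/
def NoTr (G : Subgroup (Perm α)) (j : ℕ) : Prop :=
  ∀ S : Finset α, S.card = j → ∀ s ∈ G, ∀ a ∈ S, ∀ b ∈ S, a ≠ b → ¬ IsTr S s a b

theorem noTr_of_r2 {G : Subgroup (Perm α)} {j : ℕ}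
    (htriv : ∀ S : Finset α, S.card = j → ∀ g ∈ fixG G S, g = 1)
    (hN1 : ∀ S : Finset α, S.card = j → Nat.card (setStab G S) * 2 = j.factorial) :
    NoTr G j := by
  intro S hS s hs a ha b hb hab htr
  have h1 : Nat.card (indGroup G S) * 2 = S.card.factorial := by
    rw [card_indGroup (htriv S hS), hS, hN1 S hS]
  have h2 := no_odd_of_index_two h1 _ (swap_mem_ind hs ⟨a, ha⟩ ⟨b, hb⟩ htr)
  rw [Equiv.Perm.sign_swap (fun h => hab (congrArg Subtype.val h))] at h2
  exact absurd h2 (by decide)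

theorem odd_fix_of_noTr {G : Subgroup (Perm α)} {t : ℕ} (ht : 1 ≤ t) (hNT : NoTr G (t + 1))
    {Γ : Finset α} (hΓ : Γ.card = t) : Odd (Nat.card (fixG G Γ)) := by
  classical
  apply odd_card_of_no_involution
  intro g hg hgg
  by_contra hne
  obtain ⟨c, hc⟩ : ∃ c, g c ≠ c := by
    by_contra hcon
    push Not at hcon
    exact hne (Perm.ext hcon)
  have hcΓ : c ∉ Γ := fun h => hc (hg.2 c h)
  have hdΓ : g c ∉ Γ := fixG_notin hg hcΓ
  have hgd : g (g c) = c := invol_apply hgg c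
  obtain ⟨γ, hγ⟩ : ∃ γ, γ ∈ Γ := Finset.card_pos.mp (by omega)
  have hce : c ∉ insert (g c) (Γ.erase γ) := by
    intro h
    rcases Finset.mem_insert.mp h with h | h
    · exact hc h.symm
    · exact hcΓ (Finset.mem_of_mem_erase h)
  have hde : g c ∉ Γ.erase γ := fun h => hdΓ (Finset.mem_of_mem_erase h)
  have hScard : (insert c (insert (g c) (Γ.erase γ))).card = t + 1 := by
    rw [Finset.card_insert_of_notMem hce, Finset.card_insert_of_notMem hde,
      Finset.card_erase_of_mem hγ, hΓ]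
    omega
  refine hNT _ hScard g hg.1 c (Finset.mem_insert_self _ _) (g c)
    (Finset.mem_insert_of_mem (Finset.mem_insert_self _ _)) (Ne.symm hc) ⟨rfl, hgd, ?_⟩
  intro w hw h1 h2
  rcases Finset.mem_insert.mp hw with h | h
  · exact absurd h h1
  rcases Finset.mem_insert.mp h with h | h
  · exact absurd h h2
  exact hg.2 w (Finset.mem_of_mem_erase h)

theorem even_of_noTr {G : Subgroup (Perm α)} {t : ℕ} (ht : 2 ≤ t) (hE : Ext G t)
    (hNT : NoTr G (t + 1)) (hn : t ≤ Fintype.card α) : Even (Fintype.card α - t) := by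
  classical
  by_contra hodd
  rw [Nat.not_even_iff_odd] at hodd
  obtain ⟨Γ, -, hΓ⟩ := Finset.exists_subset_card_eq (s := (Finset.univ : Finset α)) (n := t)
    (by rw [Finset.card_univ]; exact hn)
  obtain ⟨p1, hp1⟩ : ∃ p, p ∈ Γ := Finset.card_pos.mp (by omega)
  obtain ⟨p2, hp2, hp2n⟩ := exists_notin (Γ := Γ) {p1} (by rw [Finset.card_singleton]; omega)
  have h12 : p1 ≠ p2 := by
    intro h; apply hp2n; rw [h]; exact Finset.mem_singleton_self _
  obtain ⟨s₀, hs₀, htr₀⟩ := exists_isTr hE hΓ hp1 hp2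
  have hs₀f : ∀ w ∈ Γ, s₀ w = swap p1 p2 w := by
    intro w hw
    by_cases e1 : w = p1
    · rw [e1, swap_apply_left]; exact htr₀.1
    · by_cases e2 : w = p2
      · rw [e2, swap_apply_right]; exact htr₀.2.1
      · rw [swap_apply_of_ne_of_ne e1 e2]; exact htr₀.2.2 w hw e1 e2
  have hfΓ : ∀ w ∈ Γ, swap p1 p2 w ∈ Γ := by
    intro w hw
    rw [← hs₀f w hw]
    exact htr₀.pres hp1 hp2 w hw
  obtain ⟨x, hx, hxf, hxx⟩ := exists_inv_lift G Γ (swap p1 p2) hfΓ
    (fun w _ => swap_apply_self p1 p2 w) (odd_fix_of_noTr (by omega) hNT hΓ) s₀ hs₀ hs₀f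
  have hxΓ : ∀ w ∈ Γ, x w ∈ Γ := fun w hw => by rw [hxf w hw]; exact hfΓ w hw
  have hcompl : (Γᶜ).card = Fintype.card α - t := by rw [Finset.card_compl, hΓ]
  obtain ⟨p5, hp5, hxp5⟩ := exists_fixed_of_odd Γᶜ x
    (fun w hw => Finset.mem_compl.mpr (pres_notin hxΓ (Finset.mem_compl.mp hw)))
    (fun w _ => invol_apply hxx w) (by rw [hcompl]; exact hodd)
  rw [Finset.mem_compl] at hp5
  have hScard : (insert p5 Γ).card = t + 1 := by rw [Finset.card_insert_of_notMem hp5, hΓ]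
  refine hNT _ hScard x hx p1 (Finset.mem_insert_of_mem hp1) p2 (Finset.mem_insert_of_mem hp2) h12
    ⟨?_, ?_, ?_⟩
  · rw [hxf p1 hp1, swap_apply_left]
  · rw [hxf p2 hp2, swap_apply_right]
  · intro w hw h1 h2
    rcases Finset.mem_insert.mp hw with h | h
    · rw [h]; exact hxp5
    · rw [hxf w h, swap_apply_of_ne_of_ne h1 h2]

end Cfsg.Agent.Lib.Helper61.LW
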