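import Mathlib
import Cfsg.Agent.Lib.Helper61.LW3

namespace Cfsg.Agent.Lib.Helper61.LW

open Equiv Equiv.Perm Cfsg.Agent.Lib.Helper61.Miller Cfsg.Agent.Lib.Helper61.KAlt

set_option linter.unusedSectionVars false
set_option linter.unusedVariables false
variable {α : Type*} [Fintype α] [DecidableEq α]

/-- the group induced on the complement of `Γ₀` by its pointwise stabilizer -/
abbrev resG (G : Subgroup (Perm α)) (Γ₀ : Finset α) : Subgroup (Perm ↥(Γ₀ᶜ)) :=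
  indGroup (fixG G Γ₀) Γ₀ᶜ

theorem card_res (Γ₀ : Finset α) : Fintype.card ↥(Γ₀ᶜ) = Fintype.card α - Γ₀.card := by
  rw [Fintype.card_coe, Finset.card_compl]

theorem exists_res {G : Subgroup (Perm α)} {Γ₀ : Finset α} {g : Perm α} (hg : g ∈ fixG G Γ₀) :
    ∃ σ ∈ resG G Γ₀, ∀ b : ↥(Γ₀ᶜ), g (b : α) = (σ b : α) :=
  exists_ind hg (fun w hw => Finset.mem_compl.mpr (fixG_notin hg (Finset.mem_compl.mp hw)))

theorem ext_res {G : Subgroup (Perm α)} {t j : ℕ} (hE : Ext G t) {Γ₀ : Finset α}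
    (hΓ₀ : Γ₀.card = j) (hj : j ≤ t) : Ext (resG G Γ₀) (t - j) := by
  classical
  intro s hs f hf
  let emb : ↥(Γ₀ᶜ) ↪ α := Function.Embedding.subtype _
  let f' : α → α := fun a => if h : a ∈ Γ₀ᶜ then (f ⟨a, h⟩ : α) else a
  have hf'1 : ∀ a (h : a ∈ Γ₀ᶜ), f' a = (f ⟨a, h⟩ : α) := fun a h => dif_pos h
  have hf'2 : ∀ a, a ∈ Γ₀ → f' a = a := fun a h => dif_neg (by
    rw [Finset.mem_compl]; exact fun h' => h' h)
  have hf'3 : ∀ b : ↥(Γ₀ᶜ), f' (emb b) = (f b : α) := fun b => hf'1 _ b.2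
  have hdisj : Disjoint Γ₀ (s.map emb) := by
    rw [Finset.disjoint_left]
    intro a ha hb
    obtain ⟨b, -, rfl⟩ := Finset.mem_map.mp hb
    exact (Finset.mem_compl.mp b.2) ha
  have hcard : (Γ₀ ∪ s.map emb).card ≤ t := by
    rw [Finset.card_union_of_disjoint hdisj, Finset.card_map, hΓ₀]; omega
  have hinj : Set.InjOn f' ((Γ₀ ∪ s.map emb : Finset α) : Set α) := by
    intro a ha b hb hab
    have ha' : a ∈ Γ₀ ∪ s.map emb := ha
    have hb' : b ∈ Γ₀ ∪ s.map emb := hb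
    rcases Finset.mem_union.mp ha' with ha1 | ha1 <;> rcases Finset.mem_union.mp hb' with hb1 | hb1
    · rw [hf'2 a ha1, hf'2 b hb1] at hab; exact hab
    · exfalso
      obtain ⟨b0, -, rfl⟩ := Finset.mem_map.mp hb1
      rw [hf'2 a ha1, hf'3 b0] at hab
      have := (f b0).2
      rw [← hab] at this
      exact (Finset.mem_compl.mp this) ha1
    · exfalso
      obtain ⟨a0, -, rfl⟩ := Finset.mem_map.mp ha1
      rw [hf'2 b hb1, hf'3 a0] at hab
      have := (f a0).2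
      rw [hab] at this
      exact (Finset.mem_compl.mp this) hb1
    · obtain ⟨a0, ha0, rfl⟩ := Finset.mem_map.mp ha1
      obtain ⟨b0, hb0, rfl⟩ := Finset.mem_map.mp hb1
      rw [hf'3 a0, hf'3 b0] at hab
      have h1 : f a0 = f b0 := Subtype.ext hab
      have h2 := hf ha0 hb0 h1
      rw [h2]
  obtain ⟨g, hg, hgf⟩ := hE _ hcard f' hinj
  have hgfix : g ∈ fixG G Γ₀ := by
    refine ⟨hg, fun a ha => ?_⟩
    rw [hgf a (Finset.mem_union_left _ ha), hf'2 a ha]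
  obtain ⟨σ, hσ, hσg⟩ := exists_res hgfix
  refine ⟨σ, hσ, fun x hx => ?_⟩
  apply Subtype.ext
  rw [← hσg x]
  exact (hgf (emb x) (Finset.mem_union_right _ (Finset.mem_map_of_mem emb hx))).trans (hf'3 x)

theorem star_res {G : Subgroup (Perm α)} {t j : ℕ} (hS : Star G t) {Γ₀ : Finset α}
    (hΓ₀ : Γ₀.card = j) (hj : j ≤ t) : Star (resG G Γ₀) (t - j) := by
  classical
  intro σ hσ hσ1
  by_contra hcon
  push Not at hcon
  obtain ⟨x, hx, hxσ⟩ := hσ
  let emb : ↥(Γ₀ᶜ) ↪ α := Function.Embedding.subtype _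
  have hdisj : Disjoint Γ₀ ((fixS σ).map emb) := by
    rw [Finset.disjoint_left]
    intro a ha hb
    obtain ⟨b, -, rfl⟩ := Finset.mem_map.mp hb
    exact (Finset.mem_compl.mp b.2) ha
  have hcard : t < (Γ₀ ∪ (fixS σ).map emb).card := by
    rw [Finset.card_union_of_disjoint hdisj, Finset.card_map, hΓ₀]; omega
  have hx1 : x = 1 := by
    apply hS.eq_one hx.1 _ hcard
    intro a ha
    rcases Finset.mem_union.mp ha with h | h
    · exact hx.2 a h
    · obtain ⟨b, hb, rfl⟩ := Finset.mem_map.mp h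
      have := hxσ b
      rw [mem_fixS.mp hb] at this
      exact this
  apply hσ1
  ext b
  have := hxσ b
  rw [hx1] at this
  rw [Perm.one_apply]
  exact congrArg Subtype.val (Subtype.ext this.symm)

/-- the finset of points of the complement of `Γ₀` lying in `Γ` -/
def resSet (Γ₀ Γ : Finset α) : Finset ↥(Γ₀ᶜ) := Finset.univ.filter (fun b => (b : α) ∈ Γ)

theorem card_resSet {Γ₀ Γ : Finset α} (h : Γ₀ ⊆ Γ) : (resSet Γ₀ Γ).card = Γ.card - Γ₀.card := by
  classical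
  have h1 : (resSet Γ₀ Γ).map (Function.Embedding.subtype _) = Γ \ Γ₀ := by
    ext a
    rw [Finset.mem_map, Finset.mem_sdiff]
    constructor
    · rintro ⟨b, hb, rfl⟩
      rw [resSet, Finset.mem_filter] at hb
      exact ⟨hb.2, Finset.mem_compl.mp b.2⟩
    · rintro ⟨h1, h2⟩
      refine ⟨⟨a, Finset.mem_compl.mpr h2⟩, ?_, rfl⟩
      rw [resSet, Finset.mem_filter]
      exact ⟨Finset.mem_univ _, h1⟩
  rw [← Finset.card_map (Function.Embedding.subtype _), h1, Finset.card_sdiff_of_subset h]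

theorem trivial_of_res {G : Subgroup (Perm α)} {Γ₀ Γ : Finset α} (h : Γ₀ ⊆ Γ)
    (htr : ∀ σ ∈ fixG (resG G Γ₀) (resSet Γ₀ Γ), σ = 1) : ∀ u ∈ fixG G Γ, u = 1 := by
  intro u hu
  have hu0 : u ∈ fixG G Γ₀ := fixG_mono G h hu
  obtain ⟨σ, hσ, hσu⟩ := exists_res hu0
  have hσfix : σ ∈ fixG (resG G Γ₀) (resSet Γ₀ Γ) := by
    refine ⟨hσ, fun b hb => ?_⟩
    rw [resSet, Finset.mem_filter] at hb
    apply Subtype.ext
    rw [← hσu b]
    exact hu.2 _ hb.2
  have hσ1 := htr σ hσfix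
  ext a
  rw [Perm.one_apply]
  by_cases ha : a ∈ Γ₀
  · exact hu0.2 a ha
  · have := hσu ⟨a, Finset.mem_compl.mpr ha⟩
    rw [hσ1] at this
    exact this

theorem ni_res {G : Subgroup (Perm α)} {t : ℕ} {Γ₀ : Finset α} (hΓ₀ : Γ₀.card + 4 = t)
    (hni : ∀ Γ : Finset α, Γ.card = t → ∀ g ∈ fixG G Γ, g * g = 1 → g = 1) :
    NI (resG G Γ₀) := by
  classical
  intro Λ hΛ σ hσ hσσ
  obtain ⟨⟨x, hx, hxσ⟩, hσfix⟩ := hσ
  let emb : ↥(Γ₀ᶜ) ↪ α := Function.Embedding.subtype _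
  have hdisj : Disjoint Γ₀ (Λ.map emb) := by
    rw [Finset.disjoint_left]
    intro a ha hb
    obtain ⟨b, -, rfl⟩ := Finset.mem_map.mp hb
    exact (Finset.mem_compl.mp b.2) ha
  have hcard : (Γ₀ ∪ Λ.map emb).card = t := by
    rw [Finset.card_union_of_disjoint hdisj, Finset.card_map, hΛ, hΓ₀]
  have hxfix : x ∈ fixG G (Γ₀ ∪ Λ.map emb) := by
    refine ⟨hx.1, fun a ha => ?_⟩
    rcases Finset.mem_union.mp ha with h | h
    · exact hx.2 a h
    · obtain ⟨b, hb, rfl⟩ := Finset.mem_map.mp h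
      have := hxσ b
      rw [hσfix b hb] at this
      exact this
  have hxx : x * x = 1 := by
    ext a
    rw [Perm.mul_apply, Perm.one_apply]
    by_cases ha : a ∈ Γ₀
    · rw [hx.2 a ha, hx.2 a ha]
    · have e1 := hxσ ⟨a, Finset.mem_compl.mpr ha⟩
      have e2 := hxσ (σ ⟨a, Finset.mem_compl.mpr ha⟩)
      simp only at e1
      rw [e1, e2]
      have : σ (σ ⟨a, Finset.mem_compl.mpr ha⟩) = ⟨a, Finset.mem_compl.mpr ha⟩ := by
        have := congrArg (fun τ : Perm ↥(Γ₀ᶜ) => τ ⟨a, Finset.mem_compl.mpr ha⟩) hσσ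
        simpa using this
      rw [this]
  have hx1 := hni _ hcard x hxfix hxx
  ext b
  have := hxσ b
  rw [hx1] at this
  rw [Perm.one_apply]
  exact congrArg Subtype.val (Subtype.ext this.symm)

end Cfsg.Agent.Lib.Helper61.LW
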