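import Mathlib
import Cfsg.Agent.Lib.Helper61.LW4

namespace Cfsg.Agent.Lib.Helper61.LW

open Equiv Equiv.Perm Cfsg.Agent.Lib.Helper61.Miller Cfsg.Agent.Lib.Helper61.KAlt

set_option linter.unusedSectionVars false
set_option linter.unusedVariables false
variable {α : Type*} [Fintype α] [DecidableEq α]

theorem no_invol_of_odd (K : Subgroup (Perm α)) (h : Odd (Nat.card K)) :
    ∀ g ∈ K, g * g = 1 → g = 1 := by
  intro g hg hgg
  have h1 : orderOf (⟨g, hg⟩ : ↥K) ∣ 2 := by
    apply orderOf_dvd_of_pow_eq_one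
    apply Subtype.ext
    rw [pow_two]
    exact hgg
  have h2 : orderOf (⟨g, hg⟩ : ↥K) ∣ Nat.card K := orderOf_dvd_natCard _
  have h3 : orderOf (⟨g, hg⟩ : ↥K) = 1 := by
    rcases (Nat.dvd_prime Nat.prime_two).mp h1 with h' | h'
    · exact h'
    · exfalso
      rw [h'] at h2
      exact (Nat.not_even_iff_odd.mpr h) (even_iff_two_dvd.mpr h2)
  have := orderOf_eq_one_iff.mp h3
  exact congrArg Subtype.val this

theorem card_bot_of_trivial {K : Subgroup (Perm α)} (h : ∀ u ∈ K, u = 1) : Nat.card K = 1 := by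
  have : K = ⊥ := by rw [Subgroup.eq_bot_iff_forall]; exact h
  rw [this, Subgroup.card_bot]

/-- the case `t ≥ 4` of the Livingstone-Wagner lemma -/
theorem big_case {G : Subgroup (Perm α)} {t : ℕ} (ht : 4 ≤ t) (hE : Ext G t)
    (hnE : ¬ Ext G (t + 1)) (hH1 : Hom G (t + 1)) (hH2 : Hom G (t + 2))
    (hn : t + 2 ≤ Fintype.card α) :
    Fintype.card α = t + 2 ∧ Nat.card G * 2 = (Fintype.card α).factorial := by
  classical
  obtain ⟨Γ, hΓ, ω, ω', hω, hω', hno⟩ := exists_nonorb hE hnE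
  have htriv := struct hH1 hH2 hΓ hω hω' hno
  have hStar := star_of_trivial htriv
  obtain ⟨r, hr2, hrm, hN1, hN2, hG⟩ := numerics hE hH1 hH2 hn hΓ hω hω' hno
  obtain ⟨Δ₀, hΔ₀, hAlt⟩ := main_all t ht (Fintype.card α) α G rfl hE (by omega)
  have hr : r = 2 := by
    have h1 : Nat.card (indGroup G Δ₀) * r = (t + 1).factorial := by
      rw [card_indGroup (htriv Δ₀ hΔ₀)]; exact hN1 Δ₀ hΔ₀
    have h2 : Nat.card (alternatingGroup ↥Δ₀) ≤ Nat.card (indGroup G Δ₀) :=
      Subgroup.card_le_of_le hAlt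
    have h3 : 2 * Nat.card (alternatingGroup ↥Δ₀) = (t + 1).factorial := by
      have hnt : Nontrivial ↥Δ₀ := by
        rw [← Fintype.one_lt_card_iff_nontrivial, Fintype.card_coe, hΔ₀]; omega
      have := two_mul_card_alternatingGroup (α := ↥Δ₀)
      rw [Fintype.card_perm, Fintype.card_coe, hΔ₀] at this
      rw [Nat.card_eq_fintype_card]; exact this
    have hpos : 0 < Nat.card (alternatingGroup ↥Δ₀) := Nat.card_pos
    have h4 : r * Nat.card (alternatingGroup ↥Δ₀) ≤ 2 * Nat.card (alternatingGroup ↥Δ₀) := by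
      calc r * Nat.card (alternatingGroup ↥Δ₀) ≤ r * Nat.card (indGroup G Δ₀) :=
            Nat.mul_le_mul_left _ h2
        _ = (t + 1).factorial := by rw [mul_comm]; exact h1
        _ = _ := h3.symm
    have := Nat.le_of_mul_le_mul_right h4 hpos
    omega
  rw [hr] at hrm hN1
  have hNT : NoTr G (t + 1) := noTr_of_r2 htriv hN1
  have heven := even_of_noTr (by omega) hE hNT (by omega)
  have hni : ∀ Γ' : Finset α, Γ'.card = t → ∀ g ∈ fixG G Γ', g * g = 1 → g = 1 :=
    fun Γ' hΓ' => no_invol_of_odd _ (odd_fix_of_noTr (by omega) hNT hΓ')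
  obtain ⟨Γ₀, hΓ₀sub, hΓ₀⟩ := Finset.exists_subset_card_eq (s := Γ) (n := t - 4)
    (by rw [hΓ]; omega)
  have hE4 : Ext (resG G Γ₀) 4 := by
    have := ext_res hE hΓ₀ (by omega)
    rwa [show t - (t - 4) = 4 by omega] at this
  have hS4 : Star (resG G Γ₀) 4 := by
    have := star_res hStar hΓ₀ (by omega)
    rwa [show t - (t - 4) = 4 by omega] at this
  have hNI : NI (resG G Γ₀) := ni_res (by rw [hΓ₀]; omega) hni
  have hcard : Fintype.card ↥(Γ₀ᶜ) = Fintype.card α - t + 4 := by rw [card_res, hΓ₀]; omega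
  have htr4 := caseC_trivial hS4 hE4 hNI (by rw [hcard]; omega)
    (by rw [hcard]; exact heven.add (by decide))
  have hH1' : ∀ u ∈ fixG G Γ, u = 1 :=
    trivial_of_res hΓ₀sub (htr4 _ (by rw [card_resSet hΓ₀sub, hΓ, hΓ₀]; omega))
  have hH1c : Nat.card (fixG G Γ) = 1 := card_bot_of_trivial hH1'
  rw [hH1c] at hrm hG
  have hnt : Fintype.card α = t + 2 := by omega
  refine ⟨hnt, ?_⟩
  rw [hG, one_mul]
  have := Nat.factorial_mul_descFactorial (n := Fintype.card α) (k := t) (by omega)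
  rw [show Fintype.card α - t = 2 by omega] at this
  rw [← this, Nat.factorial_two, mul_comm]

end Cfsg.Agent.Lib.Helper61.LW
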