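import Mathlib
import Cfsg.Agent.Lib.Helper61.LW5

namespace Cfsg.Agent.Lib.Helper61.LW

open Equiv Equiv.Perm Cfsg.Agent.Lib.Helper61.Miller Cfsg.Agent.Lib.Helper61.KAlt

set_option linter.unusedSectionVars false
set_option linter.unusedVariables false
variable {α : Type*} [Fintype α] [DecidableEq α]

theorem enum1 {r h0 m sS sD : ℕ} (h1 : sS * r = 2) (h2 : sD * r * (m - 1) = 6)
    (h3 : r * h0 = m) (hr : 2 ≤ r) (hm : 2 ≤ m) :
    r = 2 ∧ (m = 2 ∨ m = 4) := by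
  have hr2 : r ≤ 2 := Nat.le_of_dvd (by norm_num) (Dvd.intro_left _ h1)
  have hb : r * (m - 1) ≤ 6 := by
    apply Nat.le_of_dvd (by norm_num)
    exact Dvd.intro_left sD (by rw [← mul_assoc]; exact h2)
  have hb2 : 2 * (m - 1) ≤ r * (m - 1) := Nat.mul_le_mul_right _ hr
  have hm4 : m ≤ 4 := by omega
  have hr' : r = 2 := by omega
  subst hr'
  refine ⟨rfl, ?_⟩
  interval_cases m <;> omega

theorem enum2 {r h0 m sS sD : ℕ} (h1 : sS * r = 6) (h2 : sD * r * (m - 1) = 24)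
    (h3 : r * h0 = m) (hr : 2 ≤ r) (hm : 2 ≤ m) :
    (r = 2 ∧ m = 2) ∨ (r = 2 ∧ m = 4) ∨ (r = 3 ∧ m = 3) ∨ (r = 3 ∧ m = 9) := by
  have hr2 : r ≤ 6 := Nat.le_of_dvd (by norm_num) (Dvd.intro_left _ h1)
  have hb : r * (m - 1) ≤ 24 := by
    apply Nat.le_of_dvd (by norm_num)
    exact Dvd.intro_left sD (by rw [← mul_assoc]; exact h2)
  have hb2 : 2 * (m - 1) ≤ r * (m - 1) := Nat.mul_le_mul_right _ hr
  have hm4 : m ≤ 13 := by omega
  interval_cases r <;> first | omega | (interval_cases m <;> omega)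

set_option maxHeartbeats 4000000 in
theorem enum3 {r h0 m sS sD : ℕ} (h1 : sS * r = 24) (h2 : sD * r * (m - 1) = 120)
    (h3 : r * h0 = m) (hr : 2 ≤ r) (hm : 2 ≤ m) :
    (r = 2 ∧ m = 2) ∨ (r = 2 ∧ m = 4) ∨ (r = 2 ∧ m = 6) ∨ (r = 2 ∧ m = 16) ∨
    (r = 3 ∧ m = 3) ∨ (r = 3 ∧ m = 6) ∨ (r = 3 ∧ m = 9) ∨ (r = 3 ∧ m = 21) ∨
    (r = 4 ∧ m = 4) ∨ (r = 4 ∧ m = 16) ∨ (r = 6 ∧ m = 6) ∨ (r = 8 ∧ m = 16) := by
  have hr2 : r ≤ 24 := Nat.le_of_dvd (by norm_num) (Dvd.intro_left _ h1)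
  have hb : r * (m - 1) ≤ 120 := by
    apply Nat.le_of_dvd (by norm_num)
    exact Dvd.intro_left sD (by rw [← mul_assoc]; exact h2)
  have hb2 : 2 * (m - 1) ≤ r * (m - 1) := Nat.mul_le_mul_right _ hr
  interval_cases r
  all_goals first | omega | skip
  · have hm4 : h0 ≤ 30 := by omega
    have hm5 : 1 ≤ h0 := by omega
    subst h3
    interval_cases h0 <;> omega
  · have hm4 : h0 ≤ 13 := by omega
    have hm5 : 1 ≤ h0 := by omega
    subst h3
    interval_cases h0 <;> omega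
  · have hm4 : h0 ≤ 7 := by omega
    have hm5 : 1 ≤ h0 := by omega
    subst h3
    interval_cases h0 <;> omega
  · have hm4 : h0 ≤ 3 := by omega
    have hm5 : 1 ≤ h0 := by omega
    subst h3
    interval_cases h0 <;> omega
  · have hm4 : h0 ≤ 2 := by omega
    have hm5 : 1 ≤ h0 := by omega
    subst h3
    interval_cases h0 <;> omega

end Cfsg.Agent.Lib.Helper61.LW
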