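import Mathlib
import Cfsg.Agent.Lib.Helper61.LW5

namespace Cfsg.Agent.Lib.Helper61.LW

open Equiv Equiv.Perm Cfsg.Agent.Lib.Helper61.Miller Cfsg.Agent.Lib.Helper61.KAlt

set_option linter.unusedSectionVars false
set_option linter.unusedVariables false
variable {α : Type*} [Fintype α] [DecidableEq α]

theorem exists_invol {K : Subgroup (Perm α)} (h : Even (Nat.card K)) :
    ∃ u ∈ K, u * u = 1 ∧ u ≠ 1 := by
  have : Fact (Nat.Prime 2) := ⟨Nat.prime_two⟩
  obtain ⟨x, hx⟩ := exists_prime_orderOf_dvd_card' (G := ↥K) 2 h.two_dvd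
  refine ⟨x, x.2, ?_, ?_⟩
  · have h1 : x ^ 2 = 1 := by rw [← hx]; exact pow_orderOf_eq_one x
    have := congrArg Subtype.val h1
    simpa [pow_two] using this
  · intro h1
    have : x = 1 := Subtype.ext h1
    rw [this, orderOf_one] at hx
    omega

theorem two_dvd_of_invol {K : Subgroup (Perm α)} {u : Perm α} (hu : u ∈ K) (huu : u * u = 1)
    (hu1 : u ≠ 1) : 2 ∣ Nat.card K := by
  have : Fact (Nat.Prime 2) := ⟨Nat.prime_two⟩
  have h1 : orderOf (⟨u, hu⟩ : ↥K) = 2 := by
    apply orderOf_eq_prime
    · apply Subtype.ext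
      rw [pow_two]; exact huu
    · intro h
      exact hu1 (congrArg Subtype.val h)
  rw [← h1]
  exact orderOf_dvd_natCard _

theorem exists_moved {u : Perm α} (hu1 : u ≠ 1) : ∃ a, u a ≠ a := by
  by_contra hcon
  push Not at hcon
  exact hu1 (Perm.ext hcon)

/-- an involution fixing few points preserves a 4-set -/
theorem excl_four {G : Subgroup (Perm α)} (hS : Star G 2) (hn : 7 ≤ Fintype.card α)
    (hev : Even (Nat.card G))
    (hD : ∀ D : Finset α, D.card = 4 → Odd (Nat.card (setStab G D))) : False := by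
  classical
  obtain ⟨u, hu, huu, hu1⟩ := exists_invol hev
  obtain ⟨a, ha⟩ := exists_moved hu1
  have hfix := hS u hu hu1
  have hua : u (u a) = a := invol_apply huu a
  obtain ⟨c, -, hc⟩ := exists_notin (Γ := (Finset.univ : Finset α)) ({a, u a} ∪ fixS u) (by
    rw [Finset.card_univ]
    calc ({a, u a} ∪ fixS u).card ≤ ({a, u a} : Finset α).card + (fixS u).card :=
          Finset.card_union_le _ _
      _ ≤ 2 + 2 := Nat.add_le_add Finset.card_le_two hfix
      _ < Fintype.card α := by omega)
  rw [Finset.mem_union, Finset.mem_insert, Finset.mem_singleton, mem_fixS] at hc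
  push Not at hc
  obtain ⟨⟨hca, hcb⟩, hcf⟩ := hc
  have huc : u (u c) = c := invol_apply huu c
  have hda : u c ≠ a := fun h => hcb (by rw [← h, huc])
  have hdb : u c ≠ u a := fun h => hca (u.injective h)
  have hDc : ({a, u a, c, u c} : Finset α).card = 4 := by
    rw [Finset.card_insert_of_notMem, Finset.card_insert_of_notMem, Finset.card_insert_of_notMem,
      Finset.card_singleton]
    · simp only [Finset.mem_singleton]; exact fun h => hcf h.symm
    · simp only [Finset.mem_insert, Finset.mem_singleton, not_or]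
      exact ⟨fun h => hcb h.symm, fun h => hdb h.symm⟩
    · simp only [Finset.mem_insert, Finset.mem_singleton, not_or]
      exact ⟨fun h => ha h.symm, fun h => hca h.symm, fun h => hda h.symm⟩
  have huD : u ∈ setStab G {a, u a, c, u c} := by
    refine ⟨hu, fun x hx => ?_⟩
    simp only [Finset.mem_insert, Finset.mem_singleton] at hx ⊢
    rcases hx with rfl | rfl | rfl | rfl
    · right; left; rfl
    · left; exact hua
    · right; right; right; rfl
    · right; right; left; exact huc
  have h2 := two_dvd_of_invol huD huu hu1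
  exact (Nat.not_even_iff_odd.mpr (hD _ hDc)) (even_iff_two_dvd.mpr h2)

/-- an involution swapping two points and fixing a third preserves a 5-set -/
theorem excl_five {G : Subgroup (Perm α)} (hE : Ext G 3) (hS : Star G 3) {Γ : Finset α}
    (hΓ : Γ.card = 3) (hodd : Odd (Nat.card (fixG G Γ))) (hn : Even (Fintype.card α))
    (hn8 : 8 ≤ Fintype.card α)
    (hD : ∀ D : Finset α, D.card = 5 → Odd (Nat.card (setStab G D))) : False := by
  classical
  obtain ⟨a, b, c, hab, hac, hbc, rfl⟩ := Finset.card_eq_three.mp hΓ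
  have ha : a ∈ ({a, b, c} : Finset α) := by simp
  have hb : b ∈ ({a, b, c} : Finset α) := by simp
  have hc : c ∈ ({a, b, c} : Finset α) := by simp
  obtain ⟨s₀, hs₀, htr₀⟩ := exists_isTr hE hΓ ha hb
  have hs₀f : ∀ w ∈ ({a, b, c} : Finset α), s₀ w = swap a b w := by
    intro w hw
    by_cases e1 : w = a
    · rw [e1, swap_apply_left]; exact htr₀.1
    · by_cases e2 : w = b
      · rw [e2, swap_apply_right]; exact htr₀.2.1
      · rw [swap_apply_of_ne_of_ne e1 e2]; exact htr₀.2.2 w hw e1 e2
  have hfΓ : ∀ w ∈ ({a, b, c} : Finset α), swap a b w ∈ ({a, b, c} : Finset α) := by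
    intro w hw
    rw [← hs₀f w hw]
    exact htr₀.pres ha hb w hw
  obtain ⟨v, hv, hvf, hvv⟩ := exists_inv_lift G {a, b, c} (swap a b) hfΓ
    (fun w _ => swap_apply_self a b w) hodd s₀ hs₀ hs₀f
  have hva : v a = b := by rw [hvf a ha, swap_apply_left]
  have hvb : v b = a := by rw [hvf b hb, swap_apply_right]
  have hvc : v c = c := by rw [hvf c hc, swap_apply_of_ne_of_ne hac.symm hbc.symm]
  have hv1 : v ≠ 1 := by
    intro h
    rw [h, Perm.one_apply] at hva
    exact hab hva
  have hfix := hS v hv hv1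
  have hpar := fixS_parity hvv
  have hle : (fixS v).card ≤ Fintype.card α := by
    rw [← Finset.card_univ]; exact Finset.card_le_card (Finset.subset_univ _)
  have hfix2 : (fixS v).card ≤ 2 := by
    obtain ⟨x, hx⟩ := hpar
    obtain ⟨y, hy⟩ := hn
    omega
  obtain ⟨e, -, he⟩ := exists_notin (Γ := (Finset.univ : Finset α)) ({a, b} ∪ fixS v) (by
    rw [Finset.card_univ]
    calc ({a, b} ∪ fixS v).card ≤ ({a, b} : Finset α).card + (fixS v).card :=
          Finset.card_union_le _ _
      _ ≤ 2 + 2 := Nat.add_le_add Finset.card_le_two hfix2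
      _ < Fintype.card α := by omega)
  rw [Finset.mem_union, Finset.mem_insert, Finset.mem_singleton, mem_fixS] at he
  push Not at he
  obtain ⟨⟨hea, heb⟩, hef⟩ := he
  have hec : e ≠ c := fun h => hef (by rw [h]; exact hvc)
  have hve : v (v e) = e := invol_apply hvv e
  have h1 : v e ≠ a := fun h => heb (by rw [← hve, h, hva])
  have h2 : v e ≠ b := fun h => hea (by rw [← hve, h, hvb])
  have h3 : v e ≠ c := fun h => hec (v.injective (h.trans hvc.symm))
  have hDc : ({a, b, c, e, v e} : Finset α).card = 5 := by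
    rw [Finset.card_insert_of_notMem, Finset.card_insert_of_notMem, Finset.card_insert_of_notMem,
      Finset.card_insert_of_notMem, Finset.card_singleton]
    · simp only [Finset.mem_singleton]; exact fun h => hef h.symm
    · simp only [Finset.mem_insert, Finset.mem_singleton, not_or]
      exact ⟨fun h => hec h.symm, fun h => h3 h.symm⟩
    · simp only [Finset.mem_insert, Finset.mem_singleton, not_or]
      exact ⟨hbc, fun h => heb h.symm, fun h => h2 h.symm⟩
    · simp only [Finset.mem_insert, Finset.mem_singleton, not_or]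
      exact ⟨hab, hac, fun h => hea h.symm, fun h => h1 h.symm⟩
  have hvD : v ∈ setStab G {a, b, c, e, v e} := by
    refine ⟨hv, fun x hx => ?_⟩
    simp only [Finset.mem_insert, Finset.mem_singleton] at hx ⊢
    rcases hx with rfl | rfl | rfl | rfl | rfl
    · right; left; exact hva
    · left; exact hvb
    · right; right; left; exact hvc
    · right; right; right; right; rfl
    · right; right; right; left; exact hve
  have h2 := two_dvd_of_invol hvD hvv hv1
  exact (Nat.not_even_iff_odd.mpr (hD _ hDc)) (even_iff_two_dvd.mpr h2)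

theorem fixG_le_setStab_orbit (G : Subgroup (Perm α)) {Γ Γ' : Finset α} (hsub : Γ' ⊆ Γ)
    (ω : α) : fixG G Γ ≤ setStab G (orbF (fixG G Γ) ω ∪ Γ') := by
  intro g hg
  refine ⟨hg.1, fun a ha => ?_⟩
  rcases Finset.mem_union.mp ha with h | h
  · apply Finset.mem_union_left
    rw [mem_orbF, mem_orbit_sub] at h ⊢
    obtain ⟨κ, hκ, rfl⟩ := h
    exact ⟨g * κ, (fixG G Γ).mul_mem hg hκ, rfl⟩
  · apply Finset.mem_union_right
    rw [hg.2 a (hsub h)]; exact h

theorem card_orbit_union {G : Subgroup (Perm α)} {Γ Γ' : Finset α} (hsub : Γ' ⊆ Γ) {ω : α}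
    (hω : ω ∉ Γ) (htriv : ∀ g ∈ fixG G (insert ω Γ), g = 1) :
    (orbF (fixG G Γ) ω ∪ Γ').card = Nat.card (fixG G Γ) + Γ'.card := by
  have hdisj : Disjoint (orbF (fixG G Γ) ω) Γ' := by
    rw [Finset.disjoint_left]
    intro a ha hb
    rw [mem_orbF, mem_orbit_sub] at ha
    obtain ⟨κ, hκ, rfl⟩ := ha
    exact fixG_notin hκ hω (hsub hb)
  rw [Finset.card_union_of_disjoint hdisj]
  congr 1
  have e1 := card_fixG_singleton (fixG G Γ) ω
  rw [← fixG_insert, card_bot_of_trivial htriv, one_mul] at e1
  rw [card_orbF, e1]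

end Cfsg.Agent.Lib.Helper61.LW
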