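import Mathlib
import Cfsg.Agent.Lib.Helper61.LW7

namespace Cfsg.Agent.Lib.Helper61.LW

open Equiv Equiv.Perm Cfsg.Agent.Lib.Helper61.Miller Cfsg.Agent.Lib.Helper61.KAlt

set_option linter.unusedSectionVars false
set_option linter.unusedVariables false
variable {α : Type*} [Fintype α] [DecidableEq α]

theorem fact_3542 : (3542 : ℕ).factorization 23 = 1 := by
  have : (3542 : ℕ) = 23 * 154 := by norm_num
  rw [this, Nat.factorization_mul (by norm_num) (by norm_num)]
  simp [Nat.Prime.factorization_self (by norm_num : Nat.Prime 23),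
    Nat.factorization_eq_zero_of_not_dvd (by norm_num : ¬ 23 ∣ 154)]

theorem sylow_count_23 {n : ℕ} (h1 : n ≡ 1 [MOD 23]) (h2 : n ∣ 154) : n = 1 := by
  have hle : n ≤ 154 := Nat.le_of_dvd (by norm_num) h2
  unfold Nat.ModEq at h1
  obtain ⟨c, hc⟩ := h2
  have hq : n = 23 * (n / 23) + 1 := by
    have := Nat.div_add_mod n 23
    omega
  have hq6 : n / 23 ≤ 6 := by omega
  generalize n / 23 = q at hq hq6
  subst hq
  interval_cases q <;> omega

/-- the case `n = 24`, `|G| = 7 * 24 * 23 * 22` is impossible -/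
theorem excl_24 {G : Subgroup (Perm α)} (hE : Ext G 3) (hS : Star G 3)
    (hn : Fintype.card α = 24) (hG : Nat.card G = 7 * (24 * 23 * 22)) : False := by
  classical
  have : Fact (Nat.Prime 23) := ⟨by norm_num⟩
  obtain ⟨a⟩ : Nonempty α := by
    rw [← Fintype.card_pos_iff, hn]; norm_num
  -- order of G_a
  have hGa : Nat.card (fixG G {a}) = 3542 := by
    have := card_fixG_desc G 3 hE {a} (by simp)
    rw [hn, Finset.card_singleton, hG] at this
    simp only [Nat.descFactorial] at this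
    omega
  -- Sylow 23-subgroup
  obtain ⟨P⟩ : Nonempty (Sylow 23 ↥(fixG G {a})) := inferInstance
  have hPc : Nat.card (P : Subgroup ↥(fixG G {a})) = 23 := by
    rw [P.card_eq_multiplicity, hGa, fact_3542, pow_one]
  have hidx : (P : Subgroup ↥(fixG G {a})).index = 154 := by
    have := Subgroup.card_mul_index (P : Subgroup ↥(fixG G {a}))
    rw [hPc, hGa] at this
    omega
  have hn23 : Nat.card (Sylow 23 ↥(fixG G {a})) = 1 := by
    apply sylow_count_23 (card_sylow_modEq_one 23 ↥(fixG G {a}))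
    rw [← hidx]
    exact P.card_dvd_index
  have hsub : Subsingleton (Sylow 23 ↥(fixG G {a})) :=
    Finite.card_le_one_iff_subsingleton.mp hn23.le
  have hPn : (P : Subgroup ↥(fixG G {a})).Normal := P.normal_of_subsingleton
  -- an element of order 23 in P
  obtain ⟨x₁, hx₁⟩ := exists_prime_orderOf_dvd_card' (G := ↥(P : Subgroup ↥(fixG G {a}))) 23
    (by rw [hPc])
  have hX : orderOf ((x₁ : ↥(fixG G {a})) : Perm α) = 23 := by
    rw [Subgroup.orderOf_coe, Subgroup.orderOf_coe]; exact hx₁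
  have hX1 : ((x₁ : ↥(fixG G {a})) : Perm α) ≠ 1 := by
    intro h
    rw [h, orderOf_one] at hX
    norm_num at hX
  have hXa : ((x₁ : ↥(fixG G {a})) : Perm α) a = a :=
    (x₁ : ↥(fixG G {a})).2.2 a (Finset.mem_singleton_self a)
  obtain ⟨b, hb⟩ := exists_moved hX1
  have hba : a ≠ b := by
    intro h
    rw [← h] at hb
    exact hb hXa
  -- order of G_ab
  have hGab : Nat.card (fixG G {a, b}) = 154 := by
    have := card_fixG_desc G 3 hE {a, b} (by rw [Finset.card_pair hba]; omega)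
    rw [hn, Finset.card_pair hba, hG] at this
    simp only [Nat.descFactorial] at this
    omega
  have hle : fixG G {a, b} ≤ fixG G {a} := fixG_mono G (by
    intro y hy
    rw [Finset.mem_singleton] at hy
    rw [hy]; exact Finset.mem_insert_self _ _)
  -- pigeonhole
  let φ : ↥(fixG G {a, b}) → ↥(P : Subgroup ↥(fixG G {a})) := fun g =>
    ⟨(⟨g, hle g.2⟩ : ↥(fixG G {a})) * x₁ * (⟨g, hle g.2⟩ : ↥(fixG G {a}))⁻¹,
      hPn.conj_mem _ x₁.2 _⟩
  have hninj : ¬ Function.Injective φ := by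
    intro hinj
    have := Nat.card_le_card_of_injective φ hinj
    rw [hGab, hPc] at this
    omega
  rw [Function.not_injective_iff] at hninj
  obtain ⟨g₁, g₂, hφ, hne⟩ := hninj
  have hφ' : (g₁ : Perm α) * ((x₁ : ↥(fixG G {a})) : Perm α) * (g₁ : Perm α)⁻¹
      = (g₂ : Perm α) * ((x₁ : ↥(fixG G {a})) : Perm α) * (g₂ : Perm α)⁻¹ := by
    have := congrArg (fun z : ↥(P : Subgroup ↥(fixG G {a})) => ((z : ↥(fixG G {a})) : Perm α)) hφ
    exact this
  set X : Perm α := ((x₁ : ↥(fixG G {a})) : Perm α) with hXdef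
  have hgmem : (g₂ : Perm α)⁻¹ * (g₁ : Perm α) ∈ fixG G {a, b} :=
    (fixG G {a, b}).mul_mem ((fixG G {a, b}).inv_mem g₂.2) g₁.2
  have hg1 : (g₂ : Perm α)⁻¹ * (g₁ : Perm α) ≠ 1 := by
    intro h
    apply hne
    apply Subtype.ext
    have : (g₁ : Perm α) = (g₂ : Perm α) * ((g₂ : Perm α)⁻¹ * (g₁ : Perm α)) := by group
    rw [this, h, mul_one]
  have hcomm : Commute ((g₂ : Perm α)⁻¹ * (g₁ : Perm α)) X := by
    show (g₂ : Perm α)⁻¹ * (g₁ : Perm α) * X = X * ((g₂ : Perm α)⁻¹ * (g₁ : Perm α))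
    have h1 : (g₁ : Perm α) * X = (g₂ : Perm α) * X * (g₂ : Perm α)⁻¹ * (g₁ : Perm α) := by
      rw [← hφ']; group
    calc (g₂ : Perm α)⁻¹ * (g₁ : Perm α) * X = (g₂ : Perm α)⁻¹ * ((g₁ : Perm α) * X) := by group
      _ = (g₂ : Perm α)⁻¹ * ((g₂ : Perm α) * X * (g₂ : Perm α)⁻¹ * (g₁ : Perm α)) := by rw [h1]
      _ = X * ((g₂ : Perm α)⁻¹ * (g₁ : Perm α)) := by group
  set g : Perm α := (g₂ : Perm α)⁻¹ * (g₁ : Perm α) with hgdef
  have hgb : g b = b := hgmem.2 b (by simp)
  -- the orbit of b under ⟨X⟩ is fixed by g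
  have hUc : Nat.card (Subgroup.zpowers X) = 23 := by rw [Nat.card_zpowers, hX]
  have horb : (orbF (Subgroup.zpowers X) b).card = 23 := by
    have e1 := card_fixG_singleton (Subgroup.zpowers X) b
    rw [hUc, ← card_orbF] at e1
    have hdvd : (orbF (Subgroup.zpowers X) b).card ∣ 23 := Dvd.intro_left _ e1
    rcases (Nat.dvd_prime (by norm_num : Nat.Prime 23)).mp hdvd with h | h
    · exfalso
      exact hb (orbF_card_one h X (Subgroup.mem_zpowers X))
    · exact h
  have hsubfix : orbF (Subgroup.zpowers X) b ⊆ fixS g := by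
    intro y hy
    rw [mem_orbF, mem_orbit_sub] at hy
    obtain ⟨u, hu, rfl⟩ := hy
    obtain ⟨k, rfl⟩ := Subgroup.mem_zpowers_iff.mp hu
    rw [mem_fixS]
    have := (hcomm.zpow_right k).eq
    have h2 := congrArg (fun τ : Perm α => τ b) this
    simp only [Perm.mul_apply] at h2
    rw [hgb] at h2
    exact h2
  have h3 := hS g hgmem.1 hg1
  have h4 := Finset.card_le_card hsubfix
  omega

end Cfsg.Agent.Lib.Helper61.LW
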