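import Mathlib
import Cfsg.Agent.Lib.Helper61.LW6
import Cfsg.Agent.Lib.Helper61.LW8

namespace Cfsg.Agent.Lib.Helper61.LW

open Equiv Equiv.Perm Cfsg.Agent.Lib.Helper61.Miller Cfsg.Agent.Lib.Helper61.KAlt

set_option linter.unusedSectionVars false
set_option linter.unusedVariables false
variable {α : Type*} [Fintype α] [DecidableEq α]

theorem config {G : Subgroup (Perm α)} {t : ℕ} (hE : Ext G t) (hnE : ¬ Ext G (t + 1))
    (hH1 : Hom G (t + 1)) (hH2 : Hom G (t + 2)) (hn : t + 2 ≤ Fintype.card α) :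
    ∃ (Γ : Finset α) (ω ω' : α) (r : ℕ), Γ.card = t ∧ ω ∉ Γ ∧ ω' ∉ Γ ∧ ω ≠ ω' ∧
      (∀ S : Finset α, S.card = t + 1 → ∀ g ∈ fixG G S, g = 1) ∧ 2 ≤ r ∧
      r * Nat.card (fixG G Γ) = Fintype.card α - t ∧
      (∀ S : Finset α, S.card = t + 1 → Nat.card (setStab G S) * r = (t + 1).factorial) ∧
      (∀ D : Finset α, D.card = t + 2 →
        Nat.card (setStab G D) * r * (Fintype.card α - t - 1) = (t + 2).factorial) ∧
      Nat.card G = Nat.card (fixG G Γ) * (Fintype.card α).descFactorial t := by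
  obtain ⟨Γ, hΓ, ω, ω', hω, hω', hno⟩ := exists_nonorb hE hnE
  have htriv := struct hH1 hH2 hΓ hω hω' hno
  obtain ⟨r, hr2, hrm, hN1, hN2, hG⟩ := numerics hE hH1 hH2 hn hΓ hω hω' hno
  have hne : ω ≠ ω' := fun h => hno (h ▸ SameOrb.refl _ _)
  exact ⟨Γ, ω, ω', r, hΓ, hω, hω', hne, htriv, hr2, hrm, hN1, hN2, hG⟩

theorem card_ins2 {Γ : Finset α} {ω ω' : α} (hω : ω ∉ Γ) (hω' : ω' ∉ Γ) (hne : ω ≠ ω') :
    (insert ω Γ).card = Γ.card + 1 ∧ (insert ω' (insert ω Γ)).card = Γ.card + 2 := by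
  have h1 : (insert ω Γ).card = Γ.card + 1 := Finset.card_insert_of_notMem hω
  refine ⟨h1, ?_⟩
  rw [Finset.card_insert_of_notMem, h1]
  intro h
  rcases Finset.mem_insert.mp h with h | h
  · exact hne h.symm
  · exact hω' h

theorem lw_t1 {G : Subgroup (Perm α)} (hE : Ext G 1) (hnE : ¬ Ext G 2)
    (hH1 : Hom G 2) (hH2 : Hom G 3) (hn : 3 ≤ Fintype.card α) : Fintype.card α ≤ 5 := by
  obtain ⟨Γ, ω, ω', r, hΓ, hω, hω', hne, htriv, hr2, hrm, hN1, hN2, hG⟩ :=
    config hE hnE hH1 hH2 hn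
  obtain ⟨c1, c2⟩ := card_ins2 hω hω' hne
  rw [hΓ] at c1 c2
  have h1 := hN1 _ c1
  have h2 := hN2 _ c2
  simp only [Nat.factorial] at h1 h2
  obtain ⟨-, hm⟩ := enum1 h1 h2 hrm hr2 (by omega)
  omega

theorem lw_t2 {G : Subgroup (Perm α)} (hE : Ext G 2) (hnE : ¬ Ext G 3)
    (hH1 : Hom G 3) (hH2 : Hom G 4) (hn : 4 ≤ Fintype.card α) : Fintype.card α ≤ 6 := by
  obtain ⟨Γ, ω, ω', r, hΓ, hω, hω', hne, htriv, hr2, hrm, hN1, hN2, hG⟩ :=
    config hE hnE hH1 hH2 hn
  obtain ⟨c1, c2⟩ := card_ins2 hω hω' hne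
  rw [hΓ] at c1 c2
  have h1 := hN1 _ c1
  have h2 := hN2 _ c2
  simp only [Nat.factorial] at h1 h2
  have hStar := star_of_trivial htriv
  rcases enum2 h1 h2 hrm hr2 (by omega) with ⟨hr, hm⟩ | ⟨hr, hm⟩ | ⟨hr, hm⟩ | ⟨hr, hm⟩
  · omega
  · omega
  · omega
  · exfalso
    have hn11 : Fintype.card α = 11 := by omega
    subst hr
    rw [hn11] at hrm hN2 hG
    have h0 : Nat.card (fixG G Γ) = 3 := by omega
    have hev : Even (Nat.card G) := by
      rw [hG, h0]
      simp only [Nat.descFactorial]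
      decide
    refine excl_four hStar (by omega) hev (fun D hD => ?_)
    have := hN2 D hD
    simp only [Nat.factorial] at this
    have h5 : Nat.card (setStab G D) = 1 := by omega
    rw [h5]; decide

theorem lw_t3 {G : Subgroup (Perm α)} (hE : Ext G 3) (hnE : ¬ Ext G 4)
    (hH1 : Hom G 4) (hH2 : Hom G 5) (hn : 5 ≤ Fintype.card α) : Fintype.card α ≤ 9 := by
  classical
  obtain ⟨Γ, ω, ω', r, hΓ, hω, hω', hne, htriv, hr2, hrm, hN1, hN2, hG⟩ :=
    config hE hnE hH1 hH2 hn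
  obtain ⟨c1, c2⟩ := card_ins2 hω hω' hne
  rw [hΓ] at c1 c2
  have h1 := hN1 _ c1
  have h2 := hN2 _ c2
  simp only [Nat.factorial] at h1 h2
  have hStar := star_of_trivial htriv
  rcases enum3 h1 h2 hrm hr2 (by omega) with ⟨hr, hm⟩ | ⟨hr, hm⟩ | ⟨hr, hm⟩ | ⟨hr, hm⟩ |
    ⟨hr, hm⟩ | ⟨hr, hm⟩ | ⟨hr, hm⟩ | ⟨hr, hm⟩ | ⟨hr, hm⟩ | ⟨hr, hm⟩ | ⟨hr, hm⟩ | ⟨hr, hm⟩
  · omega
  · omega
  · omega
  · -- (2,16)
    exfalso
    subst hr
    have hNT : NoTr G (3 + 1) := noTr_of_r2 htriv hN1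
    have hodd := odd_fix_of_noTr (by omega) hNT hΓ
    have h0 : Nat.card (fixG G Γ) = 8 := by omega
    rw [h0] at hodd
    exact absurd hodd (by decide)
  · omega
  · omega
  · -- (3,9)
    exfalso
    have hn12 : Fintype.card α = 12 := by omega
    subst hr
    rw [hn12] at hrm hN2
    have h0 : Nat.card (fixG G Γ) = 3 := by omega
    refine excl_five hE hStar hΓ (by rw [h0]; decide) (by rw [hn12]; decide) (by omega)
      (fun D hD => ?_)
    have := hN2 D hD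
    simp only [Nat.factorial] at this
    have h5 : Nat.card (setStab G D) = 5 := by omega
    rw [h5]; decide
  · -- (3,21)
    exfalso
    have hn24 : Fintype.card α = 24 := by omega
    subst hr
    rw [hn24] at hrm hG
    have h0 : Nat.card (fixG G Γ) = 7 := by omega
    rw [h0] at hG
    simp only [Nat.descFactorial] at hG
    exact excl_24 hE hStar hn24 (by rw [hG])
  · omega
  · -- (4,16)
    exfalso
    have hn19 : Fintype.card α = 19 := by omega
    subst hr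
    rw [hn19] at hrm hN2
    have h0 : Nat.card (fixG G Γ) = 4 := by omega
    obtain ⟨Γ', hΓ'sub, hΓ'⟩ := Finset.exists_subset_card_eq (s := Γ) (n := 1) (by omega)
    have hcard := card_orbit_union hΓ'sub hω (htriv _ c1)
    rw [h0, hΓ'] at hcard
    have := hN2 _ hcard
    simp only [Nat.factorial] at this
    have h5 : Nat.card (setStab G (orbF (fixG G Γ) ω ∪ Γ')) = 2 := by omega
    have hdvd := Subgroup.card_dvd_of_le (fixG_le_setStab_orbit G hΓ'sub ω)
    rw [h0, h5] at hdvd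
    exact absurd hdvd (by decide)
  · omega
  · -- (8,16)
    exfalso
    have hn19 : Fintype.card α = 19 := by omega
    subst hr
    rw [hn19] at hrm hN2
    have h0 : Nat.card (fixG G Γ) = 2 := by omega
    have hcard := card_orbit_union (Finset.Subset.refl Γ) hω (htriv _ c1)
    rw [h0, hΓ] at hcard
    have := hN2 _ hcard
    simp only [Nat.factorial] at this
    have h5 : Nat.card (setStab G (orbF (fixG G Γ) ω ∪ Γ)) = 1 := by omega
    have hdvd := Subgroup.card_dvd_of_le (fixG_le_setStab_orbit G (Finset.Subset.refl Γ) ω)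
    rw [h0, h5] at hdvd
    exact absurd hdvd (by decide)

/-- the restricted Livingstone-Wagner lemma -/
theorem lw_restricted {G : Subgroup (Perm α)} {t : ℕ} (ht : 1 ≤ t) (hE : Ext G t)
    (hH1 : Hom G (t + 1)) (hH2 : Hom G (t + 2)) (hn : 2 * (t + 2) ≤ Fintype.card α) :
    Ext G (t + 1) := by
  by_contra hnE
  by_cases ht4 : 4 ≤ t
  · have := (big_case ht4 hE hnE hH1 hH2 (by omega)).1
    omega
  · obtain rfl | rfl | rfl : t = 1 ∨ t = 2 ∨ t = 3 := by omega
    · have := lw_t1 hE hnE hH1 hH2 (by omega)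
      omega
    · have := lw_t2 hE hnE hH1 hH2 (by omega)
      omega
    · have := lw_t3 hE hnE hH1 hH2 (by omega)
      omega

end Cfsg.Agent.Lib.Helper61.LW
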