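import Mathlib
import Cfsg.Agent.Lib.Helper61.LW9

namespace Cfsg.Agent.Lib.Helper61.LW

open Equiv Equiv.Perm Cfsg.Agent.Lib.Helper61.Miller Cfsg.Agent.Lib.Helper61.KAlt

set_option linter.unusedSectionVars false
set_option linter.unusedVariables false
variable {α : Type*} [Fintype α] [DecidableEq α]

/-- for an element of prime order, the moved points of an invariant set come in `p`-cycles -/
theorem prime_dvd_moved {w : Perm α} {p : ℕ} (hp : p.Prime) (hw : orderOf w = p) (S : Finset α)
    (hS : ∀ a ∈ S, w a ∈ S) : p ∣ (S.filter (fun a => w a ≠ a)).card := by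
  classical
  have hUc : Nat.card (Subgroup.zpowers w) = p := by rw [Nat.card_zpowers, hw]
  have hpres : ∀ u ∈ Subgroup.zpowers w, ∀ a ∈ S, u a ∈ S := by
    intro u hu
    have hle : Subgroup.zpowers w ≤ setStab ⊤ S :=
      Subgroup.zpowers_le.mpr ⟨Subgroup.mem_top _, hS⟩
    exact (hle hu).2
  have hcomm : ∀ u ∈ Subgroup.zpowers w, ∀ a, w (u a) = u (w a) := by
    intro u hu a
    obtain ⟨k, rfl⟩ := Subgroup.mem_zpowers_iff.mp hu
    have := ((Commute.refl w).zpow_right k).eq
    have h2 := congrArg (fun τ : Perm α => τ a) this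
    simpa only [Perm.mul_apply] using h2
  have h := card_orbSet_mul (Subgroup.zpowers w) (S.filter (fun a => w a ≠ a)) p (by
    intro a ha
    rw [Finset.mem_filter] at ha
    have e1 := card_fixG_singleton (Subgroup.zpowers w) a
    rw [hUc, ← card_orbF] at e1
    have hdvd : (orbF (Subgroup.zpowers w) a).card ∣ p := Dvd.intro_left _ e1
    rcases (Nat.dvd_prime hp).mp hdvd with h | h
    · exfalso
      exact ha.2 (orbF_card_one h w (Subgroup.mem_zpowers w))
    · exact h) (by
    intro a ha b hb
    rw [Finset.mem_filter] at ha ⊢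
    rw [mem_orbF, mem_orbit_sub] at hb
    obtain ⟨u, hu, rfl⟩ := hb
    refine ⟨hpres u hu a ha.1, ?_⟩
    rw [hcomm u hu a]
    exact fun h => ha.2 (u.injective h))
  exact Dvd.intro_left _ h

/-- the case `n = 9`, `|G| = 1008` -/
theorem excl_nine {G : Subgroup (Perm α)} {Γ : Finset α} (hΓ : Γ.card = 3)
    (h0 : Nat.card (fixG G Γ) = 2)
    (htriv : ∀ S : Finset α, S.card = 4 → ∀ g ∈ fixG G S, g = 1)
    (hS4 : ∀ S : Finset α, S.card = 4 → Nat.card (setStab G S) = 8)
    (hD5 : ∀ D : Finset α, D.card = 5 → Nat.card (setStab G D) = 8)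
    (hn : Fintype.card α = 9) : False := by
  classical
  obtain ⟨u, hu, huu, hu1⟩ := exists_invol (K := fixG G Γ) (by rw [h0]; decide)
  have hmoves : ∀ x, x ∉ Γ → u x ≠ x := by
    intro x hx hux
    apply hu1
    apply htriv (insert x Γ) (by rw [Finset.card_insert_of_notMem hx, hΓ])
    refine ⟨hu.1, fun a ha => ?_⟩
    rcases Finset.mem_insert.mp ha with h | h
    · rw [h]; exact hux
    · exact hu.2 a h
  obtain ⟨d, -, hd⟩ := exists_notin (Γ := (Finset.univ : Finset α)) Γ (by
    rw [Finset.card_univ, hΓ, hn]; norm_num)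
  have hd' : u d ∉ Γ := fixG_notin hu hd
  have hdd' : u d ≠ d := hmoves d hd
  have hud : u (u d) = d := invol_apply huu d
  obtain ⟨e, -, he⟩ := exists_notin (Γ := (Finset.univ : Finset α)) (Γ ∪ {d, u d}) (by
    rw [Finset.card_univ, hn]
    calc (Γ ∪ {d, u d}).card ≤ Γ.card + ({d, u d} : Finset α).card := Finset.card_union_le _ _
      _ ≤ 3 + 2 := Nat.add_le_add hΓ.le Finset.card_le_two
      _ < 9 := by norm_num)
  rw [Finset.mem_union, Finset.mem_insert, Finset.mem_singleton] at he
  push Not at he
  obtain ⟨heΓ, hed, hed'⟩ := he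
  have he' : u e ∉ Γ := fixG_notin hu heΓ
  have hee' : u e ≠ e := hmoves e heΓ
  have hue : u (u e) = e := invol_apply huu e
  have h1 : u e ≠ d := fun h => hed' (by rw [← h, hue])
  have h2 : u e ≠ u d := fun h => hed (u.injective h)
  have hQc : ({d, u d, e, u e} : Finset α).card = 4 := by
    rw [Finset.card_insert_of_notMem, Finset.card_insert_of_notMem, Finset.card_insert_of_notMem,
      Finset.card_singleton]
    · simp only [Finset.mem_singleton]; exact fun h => hee' h.symm
    · simp only [Finset.mem_insert, Finset.mem_singleton, not_or]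
      exact ⟨fun h => hed' h.symm, fun h => h2 h.symm⟩
    · simp only [Finset.mem_insert, Finset.mem_singleton, not_or]
      exact ⟨fun h => hdd' h.symm, fun h => hed h.symm, fun h => h1 h.symm⟩
  have hQΓ : ∀ x ∈ ({d, u d, e, u e} : Finset α), x ∉ Γ := by
    intro x hx
    simp only [Finset.mem_insert, Finset.mem_singleton] at hx
    rcases hx with rfl | rfl | rfl | rfl
    · exact hd
    · exact hd'
    · exact heΓ
    · exact he'
  have huQ : ∀ x ∈ ({d, u d, e, u e} : Finset α), u x ∈ ({d, u d, e, u e} : Finset α) := by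
    intro x hx
    simp only [Finset.mem_insert, Finset.mem_singleton] at hx ⊢
    rcases hx with rfl | rfl | rfl | rfl
    · right; left; rfl
    · left; exact hud
    · right; right; right; rfl
    · right; right; left; exact hue
  -- the stabilizer of Q fixes every point of Γ
  have key : ∀ γ ∈ Γ, ∀ g ∈ setStab G ({d, u d, e, u e} : Finset α), g γ = γ := by
    intro γ hγ
    have hγQ : γ ∉ ({d, u d, e, u e} : Finset α) := fun h => hQΓ γ h hγ
    have hΔc : (insert γ ({d, u d, e, u e} : Finset α)).card = 5 := by
      rw [Finset.card_insert_of_notMem hγQ, hQc]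
    have huγ : u γ = γ := hu.2 γ hγ
    have huK : u ∈ setStab G (insert γ ({d, u d, e, u e} : Finset α)) := by
      refine ⟨hu.1, fun a ha => ?_⟩
      rcases Finset.mem_insert.mp ha with h | h
      · rw [h, huγ]; exact Finset.mem_insert_self _ _
      · exact Finset.mem_insert_of_mem (huQ a h)
    have hOsub : ∀ x ∈ orbF (setStab G (insert γ ({d, u d, e, u e} : Finset α))) γ,
        x ∈ insert γ ({d, u d, e, u e} : Finset α) := by
      intro x hx
      rw [mem_orbF, mem_orbit_sub] at hx
      obtain ⟨g, hg, rfl⟩ := hx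
      exact hg.2 γ (Finset.mem_insert_self _ _)
    have e1 := card_fixG_singleton (setStab G (insert γ ({d, u d, e, u e} : Finset α))) γ
    rw [hD5 _ hΔc, ← card_orbF] at e1
    have hdvd : (orbF (setStab G (insert γ ({d, u d, e, u e} : Finset α))) γ).card ∣ 8 :=
      Dvd.intro_left _ e1
    have hpar := even_moved_of_involution
      ((orbF (setStab G (insert γ ({d, u d, e, u e} : Finset α))) γ).erase γ) u (by
        intro x hx
        rw [Finset.mem_erase] at hx ⊢
        refine ⟨fun h => hx.1 (by rw [← invol_apply huu x, h, huγ]), ?_⟩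
        rw [mem_orbF, mem_orbit_sub] at hx ⊢
        obtain ⟨g, hg, hgx⟩ := hx.2
        exact ⟨u * g, (setStab G _).mul_mem huK hg, by rw [Perm.mul_apply, hgx]⟩)
      (fun x _ => invol_apply huu x)
    have hall : ((orbF (setStab G (insert γ ({d, u d, e, u e} : Finset α))) γ).erase γ).filter
        (fun x => u x ≠ x) = (orbF (setStab G (insert γ ({d, u d, e, u e} : Finset α))) γ).erase γ := by
      apply Finset.filter_true_of_mem
      intro x hx
      rw [Finset.mem_erase] at hx
      have := hOsub x hx.2
      rcases Finset.mem_insert.mp this with h | h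
      · exact absurd h hx.1
      · exact hmoves x (hQΓ x h)
    rw [hall, Finset.card_erase_of_mem (self_mem_orbF _ _)] at hpar
    have hpos : 0 < (orbF (setStab G (insert γ ({d, u d, e, u e} : Finset α))) γ).card :=
      Finset.card_pos.mpr ⟨γ, self_mem_orbF _ _⟩
    have hO1 : (orbF (setStab G (insert γ ({d, u d, e, u e} : Finset α))) γ).card = 1 := by
      have hodd : Odd (orbF (setStab G (insert γ ({d, u d, e, u e} : Finset α))) γ).card := by
        obtain ⟨y, hy⟩ := hpar
        exact ⟨y, by omega⟩
      have hcop : Nat.Coprime (orbF (setStab G (insert γ ({d, u d, e, u e} : Finset α))) γ).card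
          (2 ^ 3) := Nat.Coprime.pow_right 3 (Nat.coprime_two_right.mpr hodd)
      exact Nat.Coprime.eq_one_of_dvd hcop hdvd
    have hKfix := orbF_card_one hO1
    have hle : setStab G (insert γ ({d, u d, e, u e} : Finset α))
        ≤ setStab G ({d, u d, e, u e} : Finset α) := by
      intro g hg
      refine ⟨hg.1, fun a ha => ?_⟩
      have h3 := hg.2 a (Finset.mem_insert_of_mem ha)
      rcases Finset.mem_insert.mp h3 with h | h
      · exfalso
        have h4 : g a = g γ := by rw [h, hKfix g hg]
        have := g.injective h4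
        rw [this] at ha
        exact hγQ ha
      · exact h
    have heq := Subgroup.eq_of_le_of_card_ge hle (by rw [hS4 _ hQc, hD5 _ hΔc])
    intro g hg
    rw [← heq] at hg
    exact hKfix g hg
  have hle2 : setStab G ({d, u d, e, u e} : Finset α) ≤ fixG G Γ :=
    fun g hg => ⟨hg.1, fun γ hγ => key γ hγ g hg⟩
  have := Subgroup.card_le_of_le hle2
  rw [hS4 _ hQc, h0] at this
  omega

end Cfsg.Agent.Lib.Helper61.LW
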