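import Mathlib
import Cfsg.Agent.Lib.Helper61.LW11

namespace Cfsg.Agent.Lib.Helper61.LW

open Equiv Equiv.Perm Cfsg.Agent.Lib.Helper61.Miller Cfsg.Agent.Lib.Helper61.KAlt

set_option linter.unusedSectionVars false
set_option linter.unusedVariables false
variable {α : Type*} [Fintype α] [DecidableEq α]

theorem card_fix_add_moved (w : Perm α) (S : Finset α) :
    (S.filter (fun a => w a = a)).card + (S.filter (fun a => w a ≠ a)).card = S.card := by
  have := Finset.card_filter_add_card_filter_not (s := S) (fun a => w a = a)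
  convert this using 2

/-- the case `n = 7`, `|G| = 210` -/
theorem excl_seven {G : Subgroup (Perm α)} (hS : Star G 2) (hn : Fintype.card α = 7)
    {S₀ : Finset α} (hS₀ : S₀.card = 4) (h6 : Nat.card (setStab G S₀) = 6) : False := by
  classical
  obtain ⟨v, hvK, hvv, hv1⟩ := exists_invol (K := setStab G S₀) (by rw [h6]; decide)
  have : Fact (Nat.Prime 3) := ⟨Nat.prime_three⟩
  obtain ⟨w', hw'⟩ := exists_prime_orderOf_dvd_card' (G := ↥(setStab G S₀)) 3
    (by rw [h6]; norm_num)
  have hw : orderOf (w' : Perm α) = 3 := by rw [Subgroup.orderOf_coe]; exact hw'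
  have hw1 : (w' : Perm α) ≠ 1 := by
    intro h
    rw [h, orderOf_one] at hw
    norm_num at hw
  have hv_fix : (fixS v).card = 1 := by
    have h1 := hS v hvK.1 hv1
    have h2 := fixS_parity hvv
    rw [hn] at h2
    obtain ⟨y, hy⟩ := h2
    omega
  have hw_fix : (fixS (w' : Perm α)).card = 1 := by
    have h1 := hS (w' : Perm α) w'.2.1 hw1
    have h2 := prime_dvd_moved Nat.prime_three hw Finset.univ (fun _ _ => Finset.mem_univ _)
    have h3 := card_fix_add_moved (w' : Perm α) Finset.univ
    rw [Finset.card_univ, hn] at h3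
    have h4 : (fixS (w' : Perm α)).card
        = (Finset.univ.filter (fun a => (w' : Perm α) a = a)).card := rfl
    obtain ⟨y, hy⟩ := h2
    omega
  have h4 := prime_dvd_moved Nat.prime_three hw S₀ w'.2.2
  have h5 := card_fix_add_moved (w' : Perm α) S₀
  rw [hS₀] at h5
  have hpos : 0 < (S₀.filter (fun a => (w' : Perm α) a = a)).card := by
    obtain ⟨y, hy⟩ := h4
    omega
  obtain ⟨p, hp⟩ := Finset.card_pos.mp hpos
  rw [Finset.mem_filter] at hp
  have hfixw : ∀ q, (w' : Perm α) q = q → q = p := fun q hq =>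
    Finset.card_le_one.mp hw_fix.le q (mem_fixS.mpr hq) p (mem_fixS.mpr hp.2)
  have hidx : (Subgroup.zpowers w').index = 2 := by
    have := Subgroup.card_mul_index (Subgroup.zpowers w')
    rw [Nat.card_zpowers, hw', h6] at this
    omega
  have hnorm := Subgroup.normal_of_index_eq_two hidx
  have hconj := hnorm.conj_mem w' (Subgroup.mem_zpowers w') ⟨v, hvK⟩
  obtain ⟨i, hi⟩ := Subgroup.mem_zpowers_iff.mp hconj
  have hi' : (w' : Perm α) ^ i = v * (w' : Perm α) * v⁻¹ := by
    have := congrArg Subtype.val hi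
    simpa using this
  have h6' : (v * (w' : Perm α) * v⁻¹) p = p := by
    rw [← hi']
    exact Equiv.Perm.zpow_apply_eq_self_of_apply_eq_self hp.2 i
  have h7 : (w' : Perm α) (v⁻¹ p) = v⁻¹ p := by
    simp only [Perm.mul_apply] at h6'
    have := congrArg (fun x => v⁻¹ x) h6'
    simpa using this
  have h8 : v⁻¹ p = p := hfixw _ h7
  have hvp : v p = p := by
    have := congrArg (fun x => v x) h8
    simpa using this.symm
  have hpar := even_moved_of_involution S₀ v hvK.2 (fun x _ => invol_apply hvv x)
  have h9 := card_fix_add_moved v S₀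
  rw [hS₀] at h9
  have h10 : (S₀.filter (fun x => v x = x)).card ≤ 1 := by
    calc (S₀.filter (fun x => v x = x)).card ≤ (fixS v).card :=
          Finset.card_le_card (fun x hx => mem_fixS.mpr (Finset.mem_filter.mp hx).2)
      _ = 1 := hv_fix
  have h11 : 0 < (S₀.filter (fun x => v x = x)).card :=
    Finset.card_pos.mpr ⟨p, Finset.mem_filter.mpr ⟨hp.1, hvp⟩⟩
  obtain ⟨y, hy⟩ := hpar
  omega

end Cfsg.Agent.Lib.Helper61.LW
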