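import Mathlib
import Cfsg.Agent.Lib.Helper61.LW12

namespace Cfsg.Agent.Lib.Helper61.LW

open Equiv Equiv.Perm Cfsg.Agent.Lib.Helper61.Miller Cfsg.Agent.Lib.Helper61.KAlt

set_option linter.unusedSectionVars false
set_option linter.unusedVariables false
variable {α : Type*} [Fintype α] [DecidableEq α]

theorem lwf_t1 {G : Subgroup (Perm α)} (hE : Ext G 1) (hnE : ¬ Ext G 2)
    (hH1 : Hom G 2) (hH2 : Hom G 3) (hn : 3 ≤ Fintype.card α) :
    Fintype.card α = 3 ∧ Nat.card G * 2 = (Fintype.card α).factorial := by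
  classical
  obtain ⟨Γ, ω, ω', r, hΓ, hω, hω', hne, htriv, hr2, hrm, hN1, hN2, hG⟩ :=
    config hE hnE hH1 hH2 hn
  obtain ⟨c1, c2⟩ := card_ins2 hω hω' hne
  rw [hΓ] at c1 c2
  have h1 := hN1 _ c1
  have h2 := hN2 _ c2
  simp only [Nat.factorial] at h1 h2
  obtain ⟨hr, hm | hm⟩ := enum1 h1 h2 hrm hr2 (by omega)
  · have hn3 : Fintype.card α = 3 := by omega
    subst hr
    rw [hn3] at hrm hG ⊢
    have h0 : Nat.card (fixG G Γ) = 1 := by omega
    rw [h0] at hG
    simp only [Nat.descFactorial] at hG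
    refine ⟨rfl, ?_⟩
    rw [hG]; rfl
  · exfalso
    have hn5 : Fintype.card α = 5 := by omega
    subst hr
    rw [hn5] at hrm
    have h0 : Nat.card (fixG G Γ) = 2 := by omega
    have hcard := card_orbit_union (Finset.empty_subset Γ) hω (htriv _ c1)
    rw [h0, Finset.card_empty] at hcard
    have := hN1 _ hcard
    simp only [Nat.factorial] at this
    have h5 : Nat.card (setStab G (orbF (fixG G Γ) ω ∪ ∅)) = 1 := by omega
    have hdvd := Subgroup.card_dvd_of_le (fixG_le_setStab_orbit G (Finset.empty_subset Γ) ω)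
    rw [h0, h5] at hdvd
    exact absurd hdvd (by decide)

theorem lwf_t2 {G : Subgroup (Perm α)} (hE : Ext G 2) (hnE : ¬ Ext G 3)
    (hH1 : Hom G 3) (hH2 : Hom G 4) (hn : 4 ≤ Fintype.card α) :
    (Fintype.card α = 4 ∧ Nat.card G * 2 = (Fintype.card α).factorial) ∨
    (Fintype.card α = 5 ∧ Nat.card G = 20) := by
  classical
  obtain ⟨Γ, ω, ω', r, hΓ, hω, hω', hne, htriv, hr2, hrm, hN1, hN2, hG⟩ :=
    config hE hnE hH1 hH2 hn
  obtain ⟨c1, c2⟩ := card_ins2 hω hω' hne
  rw [hΓ] at c1 c2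
  have h1 := hN1 _ c1
  have h2 := hN2 _ c2
  simp only [Nat.factorial] at h1 h2
  have hStar := star_of_trivial htriv
  rcases enum2 h1 h2 hrm hr2 (by omega) with ⟨hr, hm⟩ | ⟨hr, hm⟩ | ⟨hr, hm⟩ | ⟨hr, hm⟩
  · left
    have hn4 : Fintype.card α = 4 := by omega
    subst hr
    rw [hn4] at hrm hG ⊢
    have h0 : Nat.card (fixG G Γ) = 1 := by omega
    rw [h0] at hG
    simp only [Nat.descFactorial] at hG
    refine ⟨rfl, ?_⟩
    rw [hG]; rfl
  · exfalso
    have hn6 : Fintype.card α = 6 := by omega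
    subst hr
    rw [hn6] at hrm
    have h0 : Nat.card (fixG G Γ) = 2 := by omega
    obtain ⟨Γ', hΓ'sub, hΓ'⟩ := Finset.exists_subset_card_eq (s := Γ) (n := 1) (by omega)
    have hcard := card_orbit_union hΓ'sub hω (htriv _ c1)
    rw [h0, hΓ'] at hcard
    have := hN1 _ hcard
    simp only [Nat.factorial] at this
    have h5 : Nat.card (setStab G (orbF (fixG G Γ) ω ∪ Γ')) = 3 := by omega
    have hdvd := Subgroup.card_dvd_of_le (fixG_le_setStab_orbit G hΓ'sub ω)
    rw [h0, h5] at hdvd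
    exact absurd hdvd (by decide)
  · right
    have hn5 : Fintype.card α = 5 := by omega
    subst hr
    rw [hn5] at hrm hG
    have h0 : Nat.card (fixG G Γ) = 1 := by omega
    rw [h0] at hG
    simp only [Nat.descFactorial] at hG
    exact ⟨hn5, by rw [hG]⟩
  · exfalso
    have hn11 : Fintype.card α = 11 := by omega
    subst hr
    rw [hn11] at hrm hN2 hG
    have h0 : Nat.card (fixG G Γ) = 3 := by omega
    have hev : Even (Nat.card G) := by
      rw [hG, h0]
      simp only [Nat.descFactorial]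
      decide
    refine excl_four hStar (by omega) hev (fun D hD => ?_)
    have := hN2 D hD
    simp only [Nat.factorial] at this
    have h5 : Nat.card (setStab G D) = 1 := by omega
    rw [h5]; decide

theorem lwf_t3 {G : Subgroup (Perm α)} (hE : Ext G 3) (hnE : ¬ Ext G 4)
    (hH1 : Hom G 4) (hH2 : Hom G 5) (hn : 5 ≤ Fintype.card α) :
    (Fintype.card α = 5 ∧ Nat.card G * 2 = (Fintype.card α).factorial) ∨
    (Fintype.card α = 6 ∧ Nat.card G = 120) ∨
    (Fintype.card α = 9 ∧ (Nat.card G = 504 ∨ Nat.card G = 1512)) := by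
  classical
  obtain ⟨Γ, ω, ω', r, hΓ, hω, hω', hne, htriv, hr2, hrm, hN1, hN2, hG⟩ :=
    config hE hnE hH1 hH2 hn
  obtain ⟨c1, c2⟩ := card_ins2 hω hω' hne
  rw [hΓ] at c1 c2
  have h1 := hN1 _ c1
  have h2 := hN2 _ c2
  simp only [Nat.factorial] at h1 h2
  have hStar := star_of_trivial htriv
  rcases enum3 h1 h2 hrm hr2 (by omega) with ⟨hr, hm⟩ | ⟨hr, hm⟩ | ⟨hr, hm⟩ | ⟨hr, hm⟩ |
    ⟨hr, hm⟩ | ⟨hr, hm⟩ | ⟨hr, hm⟩ | ⟨hr, hm⟩ | ⟨hr, hm⟩ | ⟨hr, hm⟩ | ⟨hr, hm⟩ | ⟨hr, hm⟩
  · -- (2,2)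
    left
    have hn5 : Fintype.card α = 5 := by omega
    subst hr
    rw [hn5] at hrm hG ⊢
    have h0 : Nat.card (fixG G Γ) = 1 := by omega
    rw [h0] at hG
    simp only [Nat.descFactorial] at hG
    refine ⟨rfl, ?_⟩
    rw [hG]; rfl
  · -- (2,4)
    exfalso
    subst hr
    have hNT : NoTr G (3 + 1) := noTr_of_r2 htriv hN1
    have hodd := odd_fix_of_noTr (by omega) hNT hΓ
    have h0 : Nat.card (fixG G Γ) = 2 := by omega
    rw [h0] at hodd
    exact absurd hodd (by decide)
  · -- (2,6)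
    right; right
    have hn9 : Fintype.card α = 9 := by omega
    subst hr
    rw [hn9] at hrm hG
    have h0 : Nat.card (fixG G Γ) = 3 := by omega
    rw [h0] at hG
    simp only [Nat.descFactorial] at hG
    exact ⟨hn9, Or.inr (by rw [hG])⟩
  · -- (2,16)
    exfalso
    subst hr
    have hNT : NoTr G (3 + 1) := noTr_of_r2 htriv hN1
    have hodd := odd_fix_of_noTr (by omega) hNT hΓ
    have h0 : Nat.card (fixG G Γ) = 8 := by omega
    rw [h0] at hodd
    exact absurd hodd (by decide)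
  · -- (3,3)
    right; left
    have hn6 : Fintype.card α = 6 := by omega
    subst hr
    rw [hn6] at hrm hG
    have h0 : Nat.card (fixG G Γ) = 1 := by omega
    rw [h0] at hG
    simp only [Nat.descFactorial] at hG
    exact ⟨hn6, by rw [hG]⟩
  · -- (3,6)
    exfalso
    have hn9 : Fintype.card α = 9 := by omega
    subst hr
    rw [hn9] at hrm hN2
    have h0 : Nat.card (fixG G Γ) = 2 := by omega
    refine excl_nine hΓ h0 htriv (fun S hS => ?_) (fun D hD => ?_) hn9
    · have := hN1 S hS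
      simp only [Nat.factorial] at this
      omega
    · have := hN2 D hD
      simp only [Nat.factorial] at this
      omega
  · -- (3,9)
    exfalso
    have hn12 : Fintype.card α = 12 := by omega
    subst hr
    rw [hn12] at hrm hN2
    have h0 : Nat.card (fixG G Γ) = 3 := by omega
    refine excl_five hE hStar hΓ (by rw [h0]; decide) (by rw [hn12]; decide) (by omega)
      (fun D hD => ?_)
    have := hN2 D hD
    simp only [Nat.factorial] at this
    have h5 : Nat.card (setStab G D) = 5 := by omega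
    rw [h5]; decide
  · -- (3,21)
    exfalso
    have hn24 : Fintype.card α = 24 := by omega
    subst hr
    rw [hn24] at hrm hG
    have h0 : Nat.card (fixG G Γ) = 7 := by omega
    rw [h0] at hG
    simp only [Nat.descFactorial] at hG
    exact excl_24 hE hStar hn24 (by rw [hG])
  · -- (4,4)
    exfalso
    have hn7 : Fintype.card α = 7 := by omega
    subst hr
    rw [hn7] at hrm
    have h0 : Nat.card (fixG G Γ) = 1 := by omega
    have htriv3 : ∀ S : Finset α, S.card = 2 + 1 → ∀ g ∈ fixG G S, g = 1 := by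
      intro S hS g hg
      have e1 : Nat.card (fixG G S) = 1 := by
        rw [card_fixG_hom (hom_of_ext hE) hS hΓ, h0]
      have e2 := Subgroup.eq_bot_of_card_eq _ e1
      rw [e2] at hg
      exact Subgroup.mem_bot.mp hg
    have h6 : Nat.card (setStab G (insert ω Γ)) = 6 := by
      have := hN1 _ c1
      simp only [Nat.factorial] at this
      omega
    exact excl_seven (star_of_trivial htriv3) hn7 c1 h6
  · -- (4,16)
    exfalso
    have hn19 : Fintype.card α = 19 := by omega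
    subst hr
    rw [hn19] at hrm hN2
    have h0 : Nat.card (fixG G Γ) = 4 := by omega
    obtain ⟨Γ', hΓ'sub, hΓ'⟩ := Finset.exists_subset_card_eq (s := Γ) (n := 1) (by omega)
    have hcard := card_orbit_union hΓ'sub hω (htriv _ c1)
    rw [h0, hΓ'] at hcard
    have := hN2 _ hcard
    simp only [Nat.factorial] at this
    have h5 : Nat.card (setStab G (orbF (fixG G Γ) ω ∪ Γ')) = 2 := by omega
    have hdvd := Subgroup.card_dvd_of_le (fixG_le_setStab_orbit G hΓ'sub ω)
    rw [h0, h5] at hdvd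
    exact absurd hdvd (by decide)
  · -- (6,6)
    right; right
    have hn9 : Fintype.card α = 9 := by omega
    subst hr
    rw [hn9] at hrm hG
    have h0 : Nat.card (fixG G Γ) = 1 := by omega
    rw [h0] at hG
    simp only [Nat.descFactorial] at hG
    exact ⟨hn9, Or.inl (by rw [hG])⟩
  · -- (8,16)
    exfalso
    have hn19 : Fintype.card α = 19 := by omega
    subst hr
    rw [hn19] at hrm hN2
    have h0 : Nat.card (fixG G Γ) = 2 := by omega
    have hcard := card_orbit_union (Finset.Subset.refl Γ) hω (htriv _ c1)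
    rw [h0, hΓ] at hcard
    have := hN2 _ hcard
    simp only [Nat.factorial] at this
    have h5 : Nat.card (setStab G (orbF (fixG G Γ) ω ∪ Γ)) = 1 := by omega
    have hdvd := Subgroup.card_dvd_of_le (fixG_le_setStab_orbit G (Finset.Subset.refl Γ) ω)
    rw [h0, h5] at hdvd
    exact absurd hdvd (by decide)

theorem alt_of_card {G : Subgroup (Perm α)}
    (h : Nat.card G * 2 = (Fintype.card α).factorial) : G = alternatingGroup α := by
  apply Equiv.Perm.eq_alternatingGroup_of_index_eq_two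
  have h1 := Subgroup.card_mul_index G
  rw [Nat.card_perm, Nat.card_eq_fintype_card (α := α), ← h] at h1
  exact Nat.eq_of_mul_eq_mul_left Nat.card_pos h1

/-- the full Livingstone-Wagner lemma -/
theorem lw_full {G : Subgroup (Perm α)} {t : ℕ} (ht : 1 ≤ t) (hE : Ext G t)
    (hnE : ¬ Ext G (t + 1)) (hH1 : Hom G (t + 1)) (hH2 : Hom G (t + 2))
    (hn : t + 2 ≤ Fintype.card α) :
    (Fintype.card α = t + 2 ∧ G = alternatingGroup α) ∨
    (t = 2 ∧ Fintype.card α = 5 ∧ Nat.card G = 20) ∨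
    (t = 3 ∧ Fintype.card α = 6 ∧ Nat.card G = 120) ∨
    (t = 3 ∧ Fintype.card α = 9 ∧ (Nat.card G = 504 ∨ Nat.card G = 1512)) := by
  by_cases ht4 : 4 ≤ t
  · obtain ⟨h1, h2⟩ := big_case ht4 hE hnE hH1 hH2 hn
    exact Or.inl ⟨h1, alt_of_card h2⟩
  · obtain rfl | rfl | rfl : t = 1 ∨ t = 2 ∨ t = 3 := by omega
    · obtain ⟨h1, h2⟩ := lwf_t1 hE hnE hH1 hH2 hn
      exact Or.inl ⟨h1, alt_of_card h2⟩
    · rcases lwf_t2 hE hnE hH1 hH2 hn with ⟨h1, h2⟩ | ⟨h1, h2⟩
      · exact Or.inl ⟨h1, alt_of_card h2⟩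
      · exact Or.inr (Or.inl ⟨rfl, h1, h2⟩)
    · rcases lwf_t3 hE hnE hH1 hH2 hn with ⟨h1, h2⟩ | ⟨h1, h2⟩ | ⟨h1, h2⟩
      · exact Or.inl ⟨h1, alt_of_card h2⟩
      · exact Or.inr (Or.inr (Or.inl ⟨rfl, h1, h2⟩))
      · exact Or.inr (Or.inr (Or.inr ⟨rfl, h1, h2⟩))

end Cfsg.Agent.Lib.Helper61.LW
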