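import Mathlib
import Cfsg.Agent.Lib.Helper61.LW13
import Cfsg.Agent.Lib.Helper61.HC4

namespace Cfsg.Agent.Lib.Helper61.HC

open Equiv Equiv.Perm Cfsg.Agent.Lib.Helper61.Miller Cfsg.Agent.Lib.Helper61.KAlt
  Cfsg.Agent.Lib.Helper61.LW

set_option linter.unusedSectionVars false
set_option linter.unusedVariables false
variable {α : Type*} [Fintype α] [DecidableEq α]

/-- restriction homomorphism of the setwise stabilizer -/
def resHom (G : Subgroup (Perm α)) (D : Finset α) : ↥(setStab G D) →* Perm ↥D where
  toFun g :=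
    { toFun := fun b => ⟨(g : Perm α) b, g.2.2 b b.2⟩
      invFun := fun b => ⟨(g : Perm α)⁻¹ b, pres_inv g.2.2 b b.2⟩
      left_inv := fun b => Subtype.ext (by simp)
      right_inv := fun b => Subtype.ext (by simp) }
  map_one' := by
    ext b
    rfl
  map_mul' := by
    intro g h
    ext b
    rfl

theorem resHom_apply (G : Subgroup (Perm α)) (D : Finset α) (g : ↥(setStab G D)) (b : ↥D) :
    ((resHom G D g) b : α) = (g : Perm α) (b : α) := rfl

theorem range_resHom (G : Subgroup (Perm α)) (D : Finset α) :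
    (resHom G D).range = indGroup G D := by
  ext σ
  rw [MonoidHom.mem_range, mem_indGroup]
  constructor
  · rintro ⟨g, rfl⟩
    exact ⟨g, g.2.1, fun b => rfl⟩
  · rintro ⟨x, hx, hxσ⟩
    have hxS : x ∈ setStab G D := by
      refine ⟨hx, fun a ha => ?_⟩
      have := hxσ ⟨a, ha⟩
      simp only at this
      rw [this]; exact (σ ⟨a, ha⟩).2
    refine ⟨⟨x, hxS⟩, ?_⟩
    ext b
    rw [resHom_apply]
    exact hxσ b

theorem ker_resHom (G : Subgroup (Perm α)) (D : Finset α) :
    ((resHom G D).ker).map (setStab G D).subtype = fixG G D := by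
  ext x
  rw [Subgroup.mem_map]
  constructor
  · rintro ⟨g, hg, rfl⟩
    rw [MonoidHom.mem_ker] at hg
    refine ⟨g.2.1, fun a ha => ?_⟩
    have := congrArg (fun σ : Perm ↥D => ((σ ⟨a, ha⟩ : ↥D) : α)) hg
    simpa [resHom_apply] using this
  · intro hx
    have hxS : x ∈ setStab G D := ⟨hx.1, fun a ha => by rw [hx.2 a ha]; exact ha⟩
    refine ⟨⟨x, hxS⟩, ?_, rfl⟩
    rw [MonoidHom.mem_ker]
    ext b
    rw [resHom_apply]
    exact hx.2 b b.2

theorem card_setStab_eq (G : Subgroup (Perm α)) (D : Finset α) :
    Nat.card (setStab G D) = Nat.card (fixG G D) * Nat.card (indGroup G D) := by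
  have h1 := Subgroup.card_mul_index (resHom G D).ker
  rw [Subgroup.index_ker, range_resHom] at h1
  rw [← h1, ← ker_resHom, Subgroup.card_map_of_injective (setStab G D).subtype_injective]

theorem choose_desc_arith {n t x y : ℕ} (hn : t + 1 ≤ n)
    (h : x * n.choose (t + 1) = y * n.descFactorial t) :
    x * (n - t) = y * (t + 1).factorial := by
  obtain ⟨m, hm⟩ : ∃ m, n - t = m + 1 := ⟨n - t - 1, by omega⟩
  have F1 := Nat.choose_mul_factorial_mul_factorial (n := n) (k := t + 1) (by omega)
  have F2 := Nat.factorial_mul_descFactorial (n := n) (k := t) (by omega)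
  have e1 : n - (t + 1) = m := by omega
  rw [e1] at F1
  rw [hm, Nat.factorial_succ] at F2
  rw [hm]
  have key : x * (m + 1) * n.factorial = y * (t + 1).factorial * n.factorial := by
    calc x * (m + 1) * n.factorial
        = x * (m + 1) * (n.choose (t + 1) * (t + 1).factorial * m.factorial) := by rw [F1]
      _ = (x * n.choose (t + 1)) * ((t + 1).factorial * ((m + 1) * m.factorial)) := by ring
      _ = (y * n.descFactorial t) * ((t + 1).factorial * ((m + 1) * m.factorial)) := by rw [h]
      _ = y * (t + 1).factorial * ((m + 1) * m.factorial * n.descFactorial t) := by ring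
      _ = y * (t + 1).factorial * n.factorial := by rw [F2]
  exact Nat.eq_of_mul_eq_mul_right (Nat.factorial_pos _) key

end Cfsg.Agent.Lib.Helper61.HC
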