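import Mathlib
import Cfsg.Agent.Lib.Helper61.HC5

namespace Cfsg.Agent.Lib.Helper61.HC

open Equiv Equiv.Perm Cfsg.Agent.Lib.Helper61.Miller Cfsg.Agent.Lib.Helper61.KAlt
  Cfsg.Agent.Lib.Helper61.LW

set_option linter.unusedSectionVars false
set_option linter.unusedVariables false
variable {α : Type*} [Fintype α] [DecidableEq α]

theorem orbit_mul {G : Subgroup (Perm α)} {Γ : Finset α} {ω : α} (hω : ω ∉ Γ) :
    Nat.card (fixG G (insert ω Γ)) * (orbF (fixG G Γ) ω).card = Nat.card (fixG G Γ) := by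
  have e1 := card_fixG_singleton (fixG G Γ) ω
  rw [← fixG_insert, ← card_orbF] at e1
  exact e1

theorem noTr_of_index_two {G : Subgroup (Perm α)} {j : ℕ}
    (h : ∀ S : Finset α, S.card = j → Nat.card (indGroup G S) * 2 = j.factorial) :
    NoTr G j := by
  intro S hS s hs a ha b hb hab htr
  have h1 : Nat.card (indGroup G S) * 2 = S.card.factorial := by rw [hS, h S hS]
  have h2 := no_odd_of_index_two h1 _ (swap_mem_ind hs ⟨a, ha⟩ ⟨b, hb⟩ htr)
  rw [Equiv.Perm.sign_swap (fun h => hab (congrArg Subtype.val h))] at h2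
  exact absurd h2 (by decide)

/-- the configuration of a `t`-transitive, `(t+1)`-homogeneous, not `(t+1)`-transitive group -/
theorem hallconf {G : Subgroup (Perm α)} {t : ℕ} (ht : 4 ≤ t) (hE : Ext G t)
    (hnE : ¬ Ext G (t + 1)) (hH1 : Hom G (t + 1)) (hn : t + 1 ≤ Fintype.card α) :
    NoTr G (t + 1) ∧ ∃ q : ℕ, 2 * q = Fintype.card α - t ∧ Odd q ∧
      ∀ Γ : Finset α, Γ.card = t → ∀ ω, ω ∉ Γ → (orbF (fixG G Γ) ω).card = q := by
  classical
  obtain ⟨Γ₁, hΓ₁, ω₁, ω₁', hω₁, hω₁', hno⟩ := exists_nonorb hE hnE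
  have hΔ₁ : (insert ω₁ Γ₁).card = t + 1 := by rw [Finset.card_insert_of_notMem hω₁, hΓ₁]
  have hCpos : 0 < (Fintype.card α).choose (t + 1) := Nat.choose_pos hn
  -- constancy
  have hfix_const : ∀ S : Finset α, S.card = t + 1 →
      Nat.card (fixG G S) = Nat.card (fixG G (insert ω₁ Γ₁)) :=
    fun S hS => card_fixG_hom hH1 hS hΔ₁
  have hfixt_const : ∀ Γ : Finset α, Γ.card = t → Nat.card (fixG G Γ) = Nat.card (fixG G Γ₁) :=
    fun Γ hΓ => card_fixG_hom (hom_of_ext hE) hΓ hΓ₁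
  have hstab_const : ∀ S : Finset α, S.card = t + 1 →
      Nat.card (setStab G S) = Nat.card (setStab G (insert ω₁ Γ₁)) := by
    intro S hS
    have e1 := card_setStab hH1 hS
    have e2 := card_setStab hH1 hΔ₁
    rw [← e2] at e1
    exact Nat.eq_of_mul_eq_mul_right hCpos e1
  have hfpos : 0 < Nat.card (fixG G (insert ω₁ Γ₁)) := Nat.card_pos
  have hind_const : ∀ S : Finset α, S.card = t + 1 →
      Nat.card (indGroup G S) = Nat.card (indGroup G (insert ω₁ Γ₁)) := by
    intro S hS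
    have e1 := card_setStab_eq G S
    have e2 := card_setStab_eq G (insert ω₁ Γ₁)
    rw [hstab_const S hS, hfix_const S hS, e2] at e1
    exact (Nat.eq_of_mul_eq_mul_left hfpos e1).symm
  -- orbit sizes
  have horb_const : ∀ Γ : Finset α, Γ.card = t → ∀ ω, ω ∉ Γ →
      (orbF (fixG G Γ) ω).card = (orbF (fixG G Γ₁) ω₁).card := by
    intro Γ hΓ ω hω
    have e1 := orbit_mul (G := G) hω
    have e2 := orbit_mul (G := G) hω₁
    rw [hfix_const _ (by rw [Finset.card_insert_of_notMem hω, hΓ]), hfixt_const Γ hΓ, ← e2] at e1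
    exact Nat.eq_of_mul_eq_mul_left hfpos e1
  -- two disjoint orbits
  have h2μ : 2 * (orbF (fixG G Γ₁) ω₁).card ≤ Fintype.card α - t := by
    have hdisj : Disjoint (orbF (fixG G Γ₁) ω₁) (orbF (fixG G Γ₁) ω₁') := by
      rw [Finset.disjoint_left]
      intro a ha hb
      rw [mem_orbF, mem_orbit_sub] at ha hb
      exact hno (SameOrb.trans ha (SameOrb.symm hb))
    have hsub : orbF (fixG G Γ₁) ω₁ ∪ orbF (fixG G Γ₁) ω₁' ⊆ Γ₁ᶜ := by
      intro a ha
      rw [Finset.mem_compl]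
      rcases Finset.mem_union.mp ha with h | h
      · rw [mem_orbF, mem_orbit_sub] at h
        obtain ⟨κ, hκ, rfl⟩ := h
        exact fixG_notin hκ hω₁
      · rw [mem_orbF, mem_orbit_sub] at h
        obtain ⟨κ, hκ, rfl⟩ := h
        exact fixG_notin hκ hω₁'
    have := Finset.card_le_card hsub
    rw [Finset.card_union_of_disjoint hdisj, horb_const Γ₁ hΓ₁ ω₁' hω₁', Finset.card_compl, hΓ₁]
      at this
    omega
  -- arithmetic
  have harith : Nat.card (indGroup G (insert ω₁ Γ₁)) * (Fintype.card α - t)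
      = (orbF (fixG G Γ₁) ω₁).card * (t + 1).factorial := by
    apply choose_desc_arith hn
    have e1 := card_setStab hH1 hΔ₁
    have e2 := card_fixG_desc G t hE Γ₁ hΓ₁.le
    rw [hΓ₁] at e2
    rw [card_setStab_eq, ← e2, ← orbit_mul (G := G) hω₁] at e1
    have e3 : Nat.card (fixG G (insert ω₁ Γ₁)) * (Nat.card (indGroup G (insert ω₁ Γ₁))
        * (Fintype.card α).choose (t + 1))
        = Nat.card (fixG G (insert ω₁ Γ₁)) * ((orbF (fixG G Γ₁) ω₁).card
        * (Fintype.card α).descFactorial t) := by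
      rw [← mul_assoc, e1, mul_assoc]
    exact Nat.eq_of_mul_eq_mul_left hfpos e3
  -- the alternating group
  obtain ⟨Δ₀, hΔ₀, hAlt⟩ := main_all t ht (Fintype.card α) α G rfl hE (by omega)
  have hge : (t + 1).factorial ≤ 2 * Nat.card (indGroup G (insert ω₁ Γ₁)) := by
    have h2 : Nat.card (alternatingGroup ↥Δ₀) ≤ Nat.card (indGroup G Δ₀) :=
      Subgroup.card_le_of_le hAlt
    have h3 : 2 * Nat.card (alternatingGroup ↥Δ₀) = (t + 1).factorial := by
      have hnt : Nontrivial ↥Δ₀ := by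
        rw [← Fintype.one_lt_card_iff_nontrivial, Fintype.card_coe, hΔ₀]; omega
      have := two_mul_card_alternatingGroup (α := ↥Δ₀)
      rw [Fintype.card_perm, Fintype.card_coe, hΔ₀] at this
      rw [Nat.card_eq_fintype_card]; exact this
    rw [hind_const Δ₀ hΔ₀] at h2
    omega
  have hipos : 0 < Nat.card (indGroup G (insert ω₁ Γ₁)) := Nat.card_pos
  have hμpos : 0 < (orbF (fixG G Γ₁) ω₁).card := Finset.card_pos.mpr ⟨ω₁, self_mem_orbF _ _⟩
  have hle : Fintype.card α - t ≤ 2 * (orbF (fixG G Γ₁) ω₁).card := by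
    have h1 : Nat.card (indGroup G (insert ω₁ Γ₁)) * (Fintype.card α - t)
        ≤ Nat.card (indGroup G (insert ω₁ Γ₁)) * (2 * (orbF (fixG G Γ₁) ω₁).card) := by
      rw [harith]
      calc (orbF (fixG G Γ₁) ω₁).card * (t + 1).factorial
          ≤ (orbF (fixG G Γ₁) ω₁).card * (2 * Nat.card (indGroup G (insert ω₁ Γ₁))) :=
            Nat.mul_le_mul_left _ hge
        _ = _ := by ring
    exact Nat.le_of_mul_le_mul_left h1 hipos
  have heq : 2 * (orbF (fixG G Γ₁) ω₁).card = Fintype.card α - t := le_antisymm h2μ hle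
  have hi2 : Nat.card (indGroup G (insert ω₁ Γ₁)) * 2 = (t + 1).factorial := by
    rw [← heq] at harith
    have e : (Nat.card (indGroup G (insert ω₁ Γ₁)) * 2) * (orbF (fixG G Γ₁) ω₁).card
        = (t + 1).factorial * (orbF (fixG G Γ₁) ω₁).card := by
      rw [mul_comm (t + 1).factorial, ← harith]; ring
    exact Nat.eq_of_mul_eq_mul_right hμpos e
  have hNT : NoTr G (t + 1) :=
    noTr_of_index_two (fun S hS => by rw [hind_const S hS, hi2])
  refine ⟨hNT, (orbF (fixG G Γ₁) ω₁).card, heq, ?_, horb_const⟩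
  have hodd := odd_fix_of_noTr (by omega) hNT hΓ₁
  rw [← orbit_mul (G := G) hω₁] at hodd
  exact (Nat.odd_mul.mp hodd).2

end Cfsg.Agent.Lib.Helper61.HC
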