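import Mathlib
import Cfsg.Agent.Lib.Helper61.HC6

namespace Cfsg.Agent.Lib.Helper61.HC

open Equiv Equiv.Perm Cfsg.Agent.Lib.Helper61.Miller Cfsg.Agent.Lib.Helper61.KAlt
  Cfsg.Agent.Lib.Helper61.LW

set_option linter.unusedSectionVars false
set_option linter.unusedVariables false
variable {α : Type*} [Fintype α] [DecidableEq α]

/-- the standing hypotheses of the even Hall core -/
structure Setting (G : Subgroup (Perm α)) (t q : ℕ) : Prop where
  ht : 4 ≤ t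
  hE : Ext G t
  hNT : NoTr G (t + 1)
  hq : 2 * q = Fintype.card α - t
  hqodd : Odd q
  horb : ∀ Γ : Finset α, Γ.card = t → ∀ ω, ω ∉ Γ → (orbF (fixG G Γ) ω).card = q

variable {G : Subgroup (Perm α)} {t q : ℕ}

theorem Setting.odd_fix (S : Setting G t q) {Γ : Finset α} (hΓ : Γ.card = t) :
    Odd (Nat.card (fixG G Γ)) := odd_fix_of_noTr (by have := S.ht; omega) S.hNT hΓ

theorem mem_orbF_iff {U : Subgroup (Perm α)} {a b : α} : b ∈ orbF U a ↔ SameOrb U a b := by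
  rw [mem_orbF, mem_orbit_sub]
  rfl

/-- at most two orbits -/
theorem Setting.two_orb (S : Setting G t q) {Γ : Finset α} (hΓ : Γ.card = t) {w1 w2 w3 : α}
    (h1 : w1 ∉ Γ) (h2 : w2 ∉ Γ) (h3 : w3 ∉ Γ) (h12 : ¬ SameOrb (fixG G Γ) w1 w2) :
    SameOrb (fixG G Γ) w1 w3 ∨ SameOrb (fixG G Γ) w2 w3 := by
  classical
  by_contra hcon
  push Not at hcon
  obtain ⟨h13, h23⟩ := hcon
  have d12 : Disjoint (orbF (fixG G Γ) w1) (orbF (fixG G Γ) w2) := by
    rw [Finset.disjoint_left]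
    intro a ha hb
    rw [mem_orbF_iff] at ha hb
    exact h12 (ha.trans hb.symm)
  have d13 : Disjoint (orbF (fixG G Γ) w1 ∪ orbF (fixG G Γ) w2) (orbF (fixG G Γ) w3) := by
    rw [Finset.disjoint_left]
    intro a ha hb
    rw [mem_orbF_iff] at hb
    rcases Finset.mem_union.mp ha with h | h
    · rw [mem_orbF_iff] at h
      exact h13 (h.trans hb.symm)
    · rw [mem_orbF_iff] at h
      exact h23 (h.trans hb.symm)
  have hsub : orbF (fixG G Γ) w1 ∪ orbF (fixG G Γ) w2 ∪ orbF (fixG G Γ) w3 ⊆ Γᶜ := by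
    intro a ha
    rw [Finset.mem_compl]
    have key : ∀ w, w ∉ Γ → a ∈ orbF (fixG G Γ) w → a ∉ Γ := by
      intro w hw hmem
      rw [mem_orbF_iff] at hmem
      obtain ⟨κ, hκ, rfl⟩ := hmem
      exact fixG_notin hκ hw
    rcases Finset.mem_union.mp ha with h | h
    · rcases Finset.mem_union.mp h with h | h
      · exact key w1 h1 h
      · exact key w2 h2 h
    · exact key w3 h3 h
  have := Finset.card_le_card hsub
  rw [Finset.card_union_of_disjoint d13, Finset.card_union_of_disjoint d12, S.horb Γ hΓ w1 h1,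
    S.horb Γ hΓ w2 h2, S.horb Γ hΓ w3 h3, Finset.card_compl, hΓ, ← S.hq] at this
  obtain ⟨e, he⟩ := S.hqodd
  omega

/-- an element acting as a transposition on a `t`-set has no fixed point outside it -/
theorem Setting.no_fix (S : Setting G t q) {Γ : Finset α} (hΓ : Γ.card = t) {s : Perm α}
    (hs : s ∈ G) {a b : α} (ha : a ∈ Γ) (hb : b ∈ Γ) (hab : a ≠ b) (htr : IsTr Γ s a b)
    {ω : α} (hω : ω ∉ Γ) : s ω ≠ ω := by
  intro hfix
  refine S.hNT (insert ω Γ) (by rw [Finset.card_insert_of_notMem hω, hΓ]) s hs a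
    (Finset.mem_insert_of_mem ha) b (Finset.mem_insert_of_mem hb) hab ⟨htr.1, htr.2.1, ?_⟩
  intro w hw h1 h2
  rcases Finset.mem_insert.mp hw with h | h
  · rw [h]; exact hfix
  · exact htr.2.2 w h h1 h2

theorem isTr_of_swap {Γ : Finset α} {s : Perm α} {a b : α} (ha : a ∈ Γ) (hb : b ∈ Γ)
    (h : ∀ w ∈ Γ, s w = swap a b w) : IsTr Γ s a b := by
  refine ⟨?_, ?_, ?_⟩
  · rw [h a ha, swap_apply_left]
  · rw [h b hb, swap_apply_right]
  · intro w hw h1 h2
    rw [h w hw, swap_apply_of_ne_of_ne h1 h2]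

/-- existence of an involution acting as a given transposition on a `t`-set -/
theorem Setting.exists_invol (S : Setting G t q) {Γ : Finset α} (hΓ : Γ.card = t) {a b : α}
    (ha : a ∈ Γ) (hb : b ∈ Γ) :
    ∃ y ∈ G, y * y = 1 ∧ ∀ w ∈ Γ, y w = swap a b w := by
  obtain ⟨s₀, hs₀, hs₀f⟩ := S.hE Γ hΓ.le (swap a b) (swap a b).injective.injOn
  have hfΓ : ∀ w ∈ Γ, swap a b w ∈ Γ := by
    intro w hw
    by_cases e1 : w = a
    · rw [e1, swap_apply_left]; exact hb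
    · by_cases e2 : w = b
      · rw [e2, swap_apply_right]; exact ha
      · rw [swap_apply_of_ne_of_ne e1 e2]; exact hw
  obtain ⟨x, hx, hxf, hxx⟩ := exists_inv_lift G Γ (swap a b) hfΓ
    (fun w _ => swap_apply_self a b w) (S.odd_fix hΓ) s₀ hs₀ hs₀f
  exact ⟨x, hx, hxx, hxf⟩

theorem pres_of_swap {Γ : Finset α} {s : Perm α} {a b : α} (ha : a ∈ Γ) (hb : b ∈ Γ)
    (h : ∀ w ∈ Γ, s w = swap a b w) : ∀ w ∈ Γ, s w ∈ Γ :=
  (isTr_of_swap ha hb h).pres ha hb

/-- an involution acting as a transposition on `Γ` swaps the two orbits -/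
theorem Setting.swap_orb (S : Setting G t q) {Γ : Finset α} (hΓ : Γ.card = t) {y : Perm α}
    (hy : y ∈ G) (hyy : y * y = 1) {a b : α} (ha : a ∈ Γ) (hb : b ∈ Γ) (hab : a ≠ b)
    (hyΓ : ∀ w ∈ Γ, y w = swap a b w) {ω : α} (hω : ω ∉ Γ) :
    ¬ SameOrb (fixG G Γ) ω (y ω) := by
  classical
  intro hso
  have hpres := pres_of_swap ha hb hyΓ
  have hyinv : y⁻¹ = y := inv_eq_of_invol hyy
  have hmaps : ∀ c ∈ orbF (fixG G Γ) ω, y c ∈ orbF (fixG G Γ) ω := by
    intro c hc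
    rw [mem_orbF_iff] at hc ⊢
    obtain ⟨h, hh, rfl⟩ := hc
    have h1 := conj_fixG' hy hpres hh
    refine hso.trans ⟨y * h * y⁻¹, h1, ?_⟩
    simp only [Perm.mul_apply]
    rw [hyinv, invol_apply hyy]
  obtain ⟨c, hc, hfix⟩ := exists_fixed_of_odd (orbF (fixG G Γ) ω) y hmaps
    (fun x _ => invol_apply hyy x) (by rw [S.horb Γ hΓ ω hω]; exact S.hqodd)
  have hcΓ : c ∉ Γ := by
    rw [mem_orbF_iff] at hc
    obtain ⟨κ, hκ, rfl⟩ := hc
    exact fixG_notin hκ hω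
  exact S.no_fix hΓ hy ha hb hab (isTr_of_swap ha hb hyΓ) hcΓ hfix

end Cfsg.Agent.Lib.Helper61.HC
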