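import Mathlib
import Cfsg.Agent.Lib.Helper61.HC7

namespace Cfsg.Agent.Lib.Helper61.HC

open Equiv Equiv.Perm Cfsg.Agent.Lib.Helper61.Miller Cfsg.Agent.Lib.Helper61.KAlt
  Cfsg.Agent.Lib.Helper61.LW

set_option linter.unusedSectionVars false
set_option linter.unusedVariables false
variable {α : Type*} [Fintype α] [DecidableEq α]

theorem swap_conj_disjoint {a0 a1 a2 a3 : α} (h02 : a0 ≠ a2) (h03 : a0 ≠ a3) (h12 : a1 ≠ a2)
    (h13 : a1 ≠ a3) (w : α) : swap a0 a1 (swap a2 a3 (swap a0 a1 w)) = swap a2 a3 w := by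
  have h := Equiv.swap_apply_apply (swap a0 a1) a2 a3
  rw [swap_apply_of_ne_of_ne h02.symm h12.symm, swap_apply_of_ne_of_ne h03.symm h13.symm,
    swap_inv] at h
  have := congrArg (fun f : Perm α => f w) h
  simp only [Perm.mul_apply] at this
  exact this.symm

variable {G : Subgroup (Perm α)} {t q : ℕ}

theorem Setting.exists_outside (S : Setting G t q) {Γ : Finset α} (hΓ : Γ.card = t) :
    ∃ ω, ω ∉ Γ := by
  obtain ⟨e, he⟩ := S.hqodd
  have hn : t < Fintype.card α := by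
    have := S.hq
    omega
  obtain ⟨ω, -, hω⟩ := exists_notin (Γ := (Finset.univ : Finset α)) Γ (by
    rw [Finset.card_univ, hΓ]; exact hn)
  exact ⟨ω, hω⟩

/-- construction of the four-group -/
theorem Setting.exists_four (S : Setting G t q) {Γ : Finset α} (hΓ : Γ.card = t)
    {a0 a1 a2 a3 : α} (h0 : a0 ∈ Γ) (h1 : a1 ∈ Γ) (h2 : a2 ∈ Γ) (h3 : a3 ∈ Γ)
    (h01 : a0 ≠ a1) (h02 : a0 ≠ a2) (h03 : a0 ≠ a3) (h12 : a1 ≠ a2) (h13 : a1 ≠ a3)
    (h23 : a2 ≠ a3) :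
    ∃ y j : Perm α, y ∈ G ∧ j ∈ G ∧ y * y = 1 ∧ j * j = 1 ∧ y * j = j * y ∧
      (∀ w ∈ Γ, y w = swap a0 a1 w) ∧ (∀ w ∈ Γ, j w = swap a2 a3 w) ∧
      ∃ a : α, a ∉ Γ ∧ (y * j) a = a := by
  classical
  obtain ⟨y, hy, hyy, hyΓ⟩ := S.exists_invol hΓ h0 h1
  obtain ⟨j₀, hj₀, hjj₀, hj₀Γ⟩ := S.exists_invol hΓ h2 h3
  have hypres := pres_of_swap h0 h1 hyΓ
  have hjpres := pres_of_swap h2 h3 hj₀Γ
  have hρ : j₀ * (y * j₀ * y) ∈ fixG G Γ := by
    refine ⟨G.mul_mem hj₀ (G.mul_mem (G.mul_mem hy hj₀) hy), fun w hw => ?_⟩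
    simp only [Perm.mul_apply]
    have e1 : y w = swap a0 a1 w := hyΓ w hw
    have m1 : y w ∈ Γ := hypres w hw
    have e2 : j₀ (y w) = swap a2 a3 (swap a0 a1 w) := by rw [hj₀Γ _ m1, e1]
    have m2 : j₀ (y w) ∈ Γ := hjpres _ m1
    have e3 : y (j₀ (y w)) = swap a2 a3 w := by
      rw [hyΓ _ m2, e2, swap_conj_disjoint h02 h03 h12 h13]
    have m3 : y (j₀ (y w)) ∈ Γ := hypres _ m2
    rw [hj₀Γ _ m3, e3, swap_apply_self]
  obtain ⟨a, ha⟩ := exists_odd_pow (S.odd_fix hΓ) hρ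
  obtain ⟨hjj, hyj⟩ := dihedral_commute hyy hjj₀ ha
  have hρa : (j₀ * (y * j₀ * y)) ^ a ∈ fixG G Γ := (fixG G Γ).pow_mem hρ a
  have hjG : (j₀ * (y * j₀ * y)) ^ a * j₀ ∈ G := G.mul_mem hρa.1 hj₀
  have hjΓ : ∀ w ∈ Γ, ((j₀ * (y * j₀ * y)) ^ a * j₀) w = swap a2 a3 w := by
    intro w hw
    rw [Perm.mul_apply, hj₀Γ w hw]
    apply hρa.2
    rw [← hj₀Γ w hw]
    exact hjpres w hw
  refine ⟨y, (j₀ * (y * j₀ * y)) ^ a * j₀, hy, hjG, hyy, hjj, hyj, hyΓ, hjΓ, ?_⟩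
  set j := (j₀ * (y * j₀ * y)) ^ a * j₀ with hjdef
  have hjpres' := pres_of_swap h2 h3 hjΓ
  obtain ⟨ω₀, hω₀⟩ := S.exists_outside hΓ
  have hzz : (y * j) * (y * j) = 1 := invol_mul hyy hjj hyj
  have hmaps : ∀ c ∈ orbF (fixG G Γ) ω₀, (y * j) c ∈ orbF (fixG G Γ) ω₀ := by
    intro c hc
    rw [mem_orbF_iff] at hc ⊢
    have hcΓ : c ∉ Γ := by
      obtain ⟨κ, hκ, rfl⟩ := hc
      exact fixG_notin hκ hω₀
    have hjc : j c ∉ Γ := pres_notin hjpres' hcΓ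
    have hyjc : y (j c) ∉ Γ := pres_notin hypres hjc
    have n1 := S.swap_orb hΓ hjG hjj h2 h3 h23 hjΓ hcΓ
    have n2 := S.swap_orb hΓ hy hyy h0 h1 h01 hyΓ hjc
    rcases S.two_orb hΓ hcΓ hjc hyjc n1 with h | h
    · exact hc.trans h
    · exact absurd h n2
  obtain ⟨a', ha', hfix⟩ := exists_fixed_of_odd (orbF (fixG G Γ) ω₀) (y * j) hmaps
    (fun x _ => invol_apply hzz x) (by rw [S.horb Γ hΓ ω₀ hω₀]; exact S.hqodd)
  refine ⟨a', ?_, hfix⟩
  rw [mem_orbF_iff] at ha'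
  obtain ⟨κ, hκ, rfl⟩ := ha'
  exact fixG_notin hκ hω₀

/-- the fixed points of `z = y j` outside `Γ` -/
theorem Setting.z_fix (S : Setting G t q) {Γ : Finset α} (hΓ : Γ.card = t)
    {a0 a1 a2 a3 : α} (h0 : a0 ∈ Γ) (h1 : a1 ∈ Γ) (h2 : a2 ∈ Γ) (h3 : a3 ∈ Γ)
    (h01 : a0 ≠ a1) (h02 : a0 ≠ a2) (h03 : a0 ≠ a3) (h12 : a1 ≠ a2) (h13 : a1 ≠ a3)
    (h23 : a2 ≠ a3) {y j : Perm α} (hy : y ∈ G) (hj : j ∈ G) (hyy : y * y = 1) (hjj : j * j = 1)
    (hyj : y * j = j * y) (hyΓ : ∀ w ∈ Γ, y w = swap a0 a1 w)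
    (hjΓ : ∀ w ∈ Γ, j w = swap a2 a3 w) {a : α} (ha : a ∉ Γ) (hza : (y * j) a = a) :
    j a = y a ∧ y (y a) = a ∧ j (y a) = a ∧ y a ∉ Γ ∧ a ≠ y a ∧
      ¬ SameOrb (fixG G Γ) a (y a) ∧ ∀ ω, ω ∉ Γ → (y * j) ω = ω → ω = a ∨ ω = y a := by
  classical
  have hypres := pres_of_swap h0 h1 hyΓ
  have hjpres := pres_of_swap h2 h3 hjΓ
  have hja : j a = y a := by
    have := congrArg (fun x => y x) hza
    simp only [Perm.mul_apply] at this
    rw [invol_apply hyy] at this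
    exact this
  have hyya : y (y a) = a := invol_apply hyy a
  have hjya : j (y a) = a := by rw [← hja]; exact invol_apply hjj a
  have hbΓ : y a ∉ Γ := pres_notin hypres ha
  have hno := S.swap_orb hΓ hy hyy h0 h1 h01 hyΓ ha
  have hab : a ≠ y a := fun h => hno (h ▸ SameOrb.refl _ _)
  refine ⟨hja, hyya, hjya, hbΓ, hab, hno, ?_⟩
  -- the t-set on which z acts as a transposition
  have hzG : y * j ∈ G := G.mul_mem hy hj
  have hsub : (Γ.erase a2).erase a3 ⊆ Γ := fun w hw =>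
    Finset.mem_of_mem_erase (Finset.mem_of_mem_erase hw)
  have hb1 : y a ∉ (Γ.erase a2).erase a3 := fun h => hbΓ (hsub h)
  have ha1 : a ∉ insert (y a) ((Γ.erase a2).erase a3) := by
    intro h
    rcases Finset.mem_insert.mp h with h | h
    · exact hab h
    · exact ha (hsub h)
  have hcard : (insert a (insert (y a) ((Γ.erase a2).erase a3))).card = t := by
    rw [Finset.card_insert_of_notMem ha1, Finset.card_insert_of_notMem hb1,
      Finset.card_erase_of_mem (Finset.mem_erase.mpr ⟨h23.symm, h3⟩),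
      Finset.card_erase_of_mem h2, hΓ]
    have := S.ht
    omega
  have hm0 : a0 ∈ insert a (insert (y a) ((Γ.erase a2).erase a3)) :=
    Finset.mem_insert_of_mem (Finset.mem_insert_of_mem
      (Finset.mem_erase.mpr ⟨h03, Finset.mem_erase.mpr ⟨h02, h0⟩⟩))
  have hm1 : a1 ∈ insert a (insert (y a) ((Γ.erase a2).erase a3)) :=
    Finset.mem_insert_of_mem (Finset.mem_insert_of_mem
      (Finset.mem_erase.mpr ⟨h13, Finset.mem_erase.mpr ⟨h12, h1⟩⟩))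
  have htr : IsTr (insert a (insert (y a) ((Γ.erase a2).erase a3))) (y * j) a0 a1 := by
    refine ⟨?_, ?_, ?_⟩
    · rw [Perm.mul_apply, hjΓ a0 h0, swap_apply_of_ne_of_ne h02 h03, hyΓ a0 h0, swap_apply_left]
    · rw [Perm.mul_apply, hjΓ a1 h1, swap_apply_of_ne_of_ne h12 h13, hyΓ a1 h1, swap_apply_right]
    · intro w hw e0 e1
      rcases Finset.mem_insert.mp hw with h | h
      · rw [h]; exact hza
      rcases Finset.mem_insert.mp h with h | h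
      · rw [h, Perm.mul_apply, hjya]
      · have hwΓ : w ∈ Γ := hsub h
        have e3 : w ≠ a3 := (Finset.mem_erase.mp h).1
        have e2 : w ≠ a2 := (Finset.mem_erase.mp (Finset.mem_erase.mp h).2).1
        rw [Perm.mul_apply, hjΓ w hwΓ, swap_apply_of_ne_of_ne e2 e3, hyΓ w hwΓ,
          swap_apply_of_ne_of_ne e0 e1]
  intro ω hω hzω
  by_contra hcon
  push Not at hcon
  have hωn : ω ∉ insert a (insert (y a) ((Γ.erase a2).erase a3)) := by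
    intro h
    rcases Finset.mem_insert.mp h with h | h
    · exact hcon.1 h
    rcases Finset.mem_insert.mp h with h | h
    · exact hcon.2 h
    · exact hω (hsub h)
  exact S.no_fix hcard hzG hm0 hm1 h01 htr hωn hzω

end Cfsg.Agent.Lib.Helper61.HC
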