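import Mathlib
import Cfsg.Agent.Lib.Helper61.HC8

namespace Cfsg.Agent.Lib.Helper61.HC

open Equiv Equiv.Perm Cfsg.Agent.Lib.Helper61.Miller Cfsg.Agent.Lib.Helper61.KAlt
  Cfsg.Agent.Lib.Helper61.LW

set_option linter.unusedSectionVars false
set_option linter.unusedVariables false
variable {α : Type*} [Fintype α] [DecidableEq α]
variable {G : Subgroup (Perm α)} {t q : ℕ}

/-- for each point `c` outside `Γ`, an involution commuting with `y`, acting on `Γ` as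
`(a0 a1)(a2 a3)`, whose fixed points outside `Γ` are `c` and `y c` -/
theorem Setting.exists_zc (S : Setting G t q) {Γ : Finset α} (hΓ : Γ.card = t)
    {a0 a1 a2 a3 : α} (h0 : a0 ∈ Γ) (h1 : a1 ∈ Γ) (h2 : a2 ∈ Γ) (h3 : a3 ∈ Γ)
    (h01 : a0 ≠ a1) (h02 : a0 ≠ a2) (h03 : a0 ≠ a3) (h12 : a1 ≠ a2) (h13 : a1 ≠ a3)
    (h23 : a2 ≠ a3) {y : Perm α} (hy : y ∈ G) (hyy : y * y = 1)
    (hyΓ : ∀ w ∈ Γ, y w = swap a0 a1 w) {c : α} (hc : c ∉ Γ) :
    ∃ z ∈ G, z * z = 1 ∧ y * z = z * y ∧ z c = c ∧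
      (∀ w ∈ Γ, z w = swap a0 a1 (swap a2 a3 w)) ∧
      ∀ ω, ω ∉ Γ → z ω = ω → ω = c ∨ ω = y c := by
  classical
  have hypres := pres_of_swap h0 h1 hyΓ
  have hycΓ : y c ∉ Γ := pres_notin hypres hc
  have hcyc : c ≠ y c := fun h =>
    S.no_fix hΓ hy h0 h1 h01 (isTr_of_swap h0 h1 hyΓ) hc h.symm
  have hyyc : y (y c) = c := invol_apply hyy c
  have hsub : (Γ.erase a2).erase a3 ⊆ Γ := fun w hw =>
    Finset.mem_of_mem_erase (Finset.mem_of_mem_erase hw)
  have hb1 : y c ∉ (Γ.erase a2).erase a3 := fun h => hycΓ (hsub h)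
  have ha1 : c ∉ insert (y c) ((Γ.erase a2).erase a3) := by
    intro h
    rcases Finset.mem_insert.mp h with h | h
    · exact hcyc h
    · exact hc (hsub h)
  have hcard : (insert c (insert (y c) ((Γ.erase a2).erase a3))).card = t := by
    rw [Finset.card_insert_of_notMem ha1, Finset.card_insert_of_notMem hb1,
      Finset.card_erase_of_mem (Finset.mem_erase.mpr ⟨h23.symm, h3⟩),
      Finset.card_erase_of_mem h2, hΓ]
    have := S.ht
    omega
  have hm0' : a0 ∈ (Γ.erase a2).erase a3 :=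
    Finset.mem_erase.mpr ⟨h03, Finset.mem_erase.mpr ⟨h02, h0⟩⟩
  have hm1' : a1 ∈ (Γ.erase a2).erase a3 :=
    Finset.mem_erase.mpr ⟨h13, Finset.mem_erase.mpr ⟨h12, h1⟩⟩
  have hm0 : a0 ∈ insert c (insert (y c) ((Γ.erase a2).erase a3)) :=
    Finset.mem_insert_of_mem (Finset.mem_insert_of_mem hm0')
  have hm1 : a1 ∈ insert c (insert (y c) ((Γ.erase a2).erase a3)) :=
    Finset.mem_insert_of_mem (Finset.mem_insert_of_mem hm1')
  have hca0 : c ≠ a0 := fun h => hc (h ▸ h0)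
  have hca1 : c ≠ a1 := fun h => hc (h ▸ h1)
  have hyca0 : y c ≠ a0 := fun h => hycΓ (h ▸ h0)
  have hyca1 : y c ≠ a1 := fun h => hycΓ (h ▸ h1)
  obtain ⟨z₀, hz₀, hzz₀, hz₀Λ⟩ := S.exists_invol hcard hm0 hm1
  have hmc : c ∈ insert c (insert (y c) ((Γ.erase a2).erase a3)) := Finset.mem_insert_self _ _
  have hmyc : y c ∈ insert c (insert (y c) ((Γ.erase a2).erase a3)) :=
    Finset.mem_insert_of_mem (Finset.mem_insert_self _ _)
  have hz₀c : z₀ c = c := by rw [hz₀Λ c hmc, swap_apply_of_ne_of_ne hca0 hca1]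
  have hz₀yc : z₀ (y c) = y c := by rw [hz₀Λ _ hmyc, swap_apply_of_ne_of_ne hyca0 hyca1]
  -- the swap preserves the middle part
  have hswmid : ∀ w ∈ (Γ.erase a2).erase a3, swap a0 a1 w ∈ (Γ.erase a2).erase a3 := by
    intro w hw
    by_cases e0 : w = a0
    · rw [e0, swap_apply_left]; exact hm1'
    · by_cases e1 : w = a1
      · rw [e1, swap_apply_right]; exact hm0'
      · rw [swap_apply_of_ne_of_ne e0 e1]; exact hw
  have hρ : z₀ * (y * z₀ * y) ∈ fixG G (insert c (insert (y c) ((Γ.erase a2).erase a3))) := by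
    refine ⟨G.mul_mem hz₀ (G.mul_mem (G.mul_mem hy hz₀) hy), fun w hw => ?_⟩
    simp only [Perm.mul_apply]
    rcases Finset.mem_insert.mp hw with h | h
    · rw [h, hz₀yc, hyyc, hz₀c]
    rcases Finset.mem_insert.mp h with h | h
    · rw [h, hyyc, hz₀c, hz₀yc]
    · have hwΓ : w ∈ Γ := hsub h
      have e1 : y w = swap a0 a1 w := hyΓ w hwΓ
      have m1 : swap a0 a1 w ∈ insert c (insert (y c) ((Γ.erase a2).erase a3)) :=
        Finset.mem_insert_of_mem (Finset.mem_insert_of_mem (hswmid w h))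
      have e2 : z₀ (y w) = w := by rw [e1, hz₀Λ _ m1, swap_apply_self]
      rw [e2, e1, hz₀Λ _ m1, swap_apply_self]
  obtain ⟨a, ha⟩ := exists_odd_pow (S.odd_fix hcard) hρ
  obtain ⟨hzz, hyz⟩ := dihedral_commute hyy hzz₀ ha
  have hρa := (fixG G _).pow_mem hρ a
  have hzG : (z₀ * (y * z₀ * y)) ^ a * z₀ ∈ G := G.mul_mem hρa.1 hz₀
  have hzΛ : ∀ w ∈ insert c (insert (y c) ((Γ.erase a2).erase a3)),
      ((z₀ * (y * z₀ * y)) ^ a * z₀) w = swap a0 a1 w := by
    intro w hw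
    rw [Perm.mul_apply, hz₀Λ w hw]
    apply hρa.2
    rw [← hz₀Λ w hw]
    exact pres_of_swap hm0 hm1 hz₀Λ w hw
  set z := (z₀ * (y * z₀ * y)) ^ a * z₀ with hzdef
  have hzc : z c = c := by rw [hzΛ c hmc, swap_apply_of_ne_of_ne hca0 hca1]
  have hnofix : ∀ ω, ω ∉ insert c (insert (y c) ((Γ.erase a2).erase a3)) → z ω ≠ ω :=
    fun ω hω => S.no_fix hcard hzG hm0 hm1 h01 (isTr_of_swap hm0 hm1 hzΛ) hω
  have hyfix : ∀ ω, y ω = ω → ω ∈ Γ := by
    intro ω hω
    by_contra hn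
    exact S.no_fix hΓ hy h0 h1 h01 (isTr_of_swap h0 h1 hyΓ) hn hω
  have ha2Λ : a2 ∉ insert c (insert (y c) ((Γ.erase a2).erase a3)) := by
    intro h
    rcases Finset.mem_insert.mp h with h | h
    · exact hc (h ▸ h2)
    rcases Finset.mem_insert.mp h with h | h
    · exact hycΓ (h ▸ h2)
    · exact (Finset.mem_erase.mp (Finset.mem_erase.mp h).2).1 rfl
  have hzz' : ∀ x, z (z x) = x := invol_apply hzz
  have hza2 : z a2 = a3 := by
    have hya2 : y a2 = a2 := by rw [hyΓ a2 h2, swap_apply_of_ne_of_ne h02.symm h12.symm]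
    have hcomm : y (z a2) = z a2 := by
      have := congrArg (fun f : Perm α => f a2) hyz
      simp only [Perm.mul_apply] at this
      rw [this, hya2]
    have hmemΓ : z a2 ∈ Γ := hyfix _ hcomm
    have hne0 : z a2 ≠ a0 := by
      intro h
      rw [h, hyΓ a0 h0, swap_apply_left] at hcomm
      exact h01 hcomm.symm
    have hne1 : z a2 ≠ a1 := by
      intro h
      rw [h, hyΓ a1 h1, swap_apply_right] at hcomm
      exact h01 hcomm
    have hne2 : z a2 ≠ a2 := hnofix a2 ha2Λ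
    by_contra hne3
    have hmid : z a2 ∈ (Γ.erase a2).erase a3 :=
      Finset.mem_erase.mpr ⟨hne3, Finset.mem_erase.mpr ⟨hne2, hmemΓ⟩⟩
    have hfix : z (z a2) = z a2 := by
      rw [hzΛ _ (Finset.mem_insert_of_mem (Finset.mem_insert_of_mem hmid)),
        swap_apply_of_ne_of_ne hne0 hne1]
    rw [hzz'] at hfix
    exact hne2 hfix.symm
  have hza3 : z a3 = a2 := by rw [← hza2, hzz']
  refine ⟨z, hzG, hzz, hyz, hzc, ?_, ?_⟩
  · intro w hw
    by_cases e2 : w = a2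
    · rw [e2, hza2, swap_apply_left, swap_apply_of_ne_of_ne h03.symm h13.symm]
    · by_cases e3 : w = a3
      · rw [e3, hza3, swap_apply_right, swap_apply_of_ne_of_ne h02.symm h12.symm]
      · rw [swap_apply_of_ne_of_ne e2 e3]
        exact hzΛ w (Finset.mem_insert_of_mem (Finset.mem_insert_of_mem
          (Finset.mem_erase.mpr ⟨e3, Finset.mem_erase.mpr ⟨e2, hw⟩⟩)))
  · intro ω hω hzω
    by_contra hcon
    push Not at hcon
    apply hnofix ω _ hzω
    intro h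
    rcases Finset.mem_insert.mp h with h | h
    · exact hcon.1 h
    rcases Finset.mem_insert.mp h with h | h
    · exact hcon.2 h
    · exact hω (hsub h)

/-- the centralizer of `y` in `H` is transitive on each `H`-orbit -/
theorem Setting.cent_trans (S : Setting G t q) {Γ : Finset α} (hΓ : Γ.card = t)
    {a0 a1 a2 a3 : α} (h0 : a0 ∈ Γ) (h1 : a1 ∈ Γ) (h2 : a2 ∈ Γ) (h3 : a3 ∈ Γ)
    (h01 : a0 ≠ a1) (h02 : a0 ≠ a2) (h03 : a0 ≠ a3) (h12 : a1 ≠ a2) (h13 : a1 ≠ a3)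
    (h23 : a2 ≠ a3) {y : Perm α} (hy : y ∈ G) (hyy : y * y = 1)
    (hyΓ : ∀ w ∈ Γ, y w = swap a0 a1 w) {c c' : α} (hc : c ∉ Γ)
    (hcc' : SameOrb (fixG G Γ) c c') :
    ∃ h ∈ fixG G Γ, h * y = y * h ∧ h c = c' := by
  classical
  have hc' : c' ∉ Γ := by
    obtain ⟨κ, hκ, rfl⟩ := hcc'
    exact fixG_notin hκ hc
  obtain ⟨z, hz, hzz, hyz, hzc, hzΓ, hzfix⟩ :=
    S.exists_zc hΓ h0 h1 h2 h3 h01 h02 h03 h12 h13 h23 hy hyy hyΓ hc
  obtain ⟨z', hz', hzz', hyz', hzc', hzΓ', hzfix'⟩ :=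
    S.exists_zc hΓ h0 h1 h2 h3 h01 h02 h03 h12 h13 h23 hy hyy hyΓ hc'
  have hpres01 : ∀ w ∈ Γ, swap a0 a1 w ∈ Γ := by
    intro w hw
    rw [← hyΓ w hw]; exact pres_of_swap h0 h1 hyΓ w hw
  have hpres23 : ∀ w ∈ Γ, swap a2 a3 w ∈ Γ := by
    intro w hw
    by_cases e2 : w = a2
    · rw [e2, swap_apply_left]; exact h3
    · by_cases e3 : w = a3
      · rw [e3, swap_apply_right]; exact h2
      · rw [swap_apply_of_ne_of_ne e2 e3]; exact hw
  have hρ : z * z' ∈ fixG G Γ := by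
    refine ⟨G.mul_mem hz hz', fun w hw => ?_⟩
    rw [Perm.mul_apply, hzΓ' w hw, hzΓ _ (hpres01 _ (hpres23 w hw)),
      swap_conj_disjoint h02 h03 h12 h13, swap_apply_self]
  obtain ⟨a, ha⟩ := exists_odd_pow (S.odd_fix hΓ) hρ
  have hconj := dihedral_conj hzz hzz' ha
  have hcomm : Commute y (z * z') := by
    show y * (z * z') = z * z' * y
    calc y * (z * z') = (y * z) * z' := by group
      _ = (z * y) * z' := by rw [hyz]
      _ = z * (y * z') := by group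
      _ = z * (z' * y) := by rw [hyz']
      _ = z * z' * y := by group
  refine ⟨(z * z') ^ a, (fixG G Γ).pow_mem hρ a, (hcomm.pow_right a).eq.symm, ?_⟩
  have hfix : z' (((z * z') ^ a) c) = ((z * z') ^ a) c := by
    have := congrArg (fun f : Perm α => f c) hconj
    simp only [Perm.mul_apply] at this
    rw [hzc] at this
    exact this.symm
  have hnΓ : ((z * z') ^ a) c ∉ Γ := fixG_notin ((fixG G Γ).pow_mem hρ a) hc
  rcases hzfix' _ hnΓ hfix with h | h
  · exact h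
  · exfalso
    have hso : SameOrb (fixG G Γ) c (y c') := ⟨(z * z') ^ a, (fixG G Γ).pow_mem hρ a, h⟩
    exact S.swap_orb hΓ hy hyy h0 h1 h01 hyΓ hc' (hcc'.symm.trans hso)

end Cfsg.Agent.Lib.Helper61.HC
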