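import Mathlib
import Cfsg.Agent.Lib.Helper61.HC9

namespace Cfsg.Agent.Lib.Helper61.HC

open Equiv Equiv.Perm Cfsg.Agent.Lib.Helper61.Miller Cfsg.Agent.Lib.Helper61.KAlt
  Cfsg.Agent.Lib.Helper61.LW

set_option linter.unusedSectionVars false
set_option linter.unusedVariables false
variable {α : Type*} [Fintype α] [DecidableEq α]
variable {G : Subgroup (Perm α)} {t q : ℕ}

theorem nrm_fixG {v : Perm α} (hv : v ∈ G) (hvv : v * v = 1) {Λ : Finset α}
    (hpres : ∀ w ∈ Λ, v w ∈ Λ) : Nrm (fixG G Λ) v := by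
  intro h hh
  have := conj_fixG' hv hpres hh
  rwa [inv_eq_of_invol hvv] at this

/-- the index computation `|H| = q² |K|` -/
theorem Setting.index_sq (S : Setting G t q) {Γ : Finset α} (hΓ : Γ.card = t)
    {a0 a1 a2 a3 : α} (h0 : a0 ∈ Γ) (h1 : a1 ∈ Γ) (h2 : a2 ∈ Γ) (h3 : a3 ∈ Γ)
    (h01 : a0 ≠ a1) (h02 : a0 ≠ a2) (h03 : a0 ≠ a3) (h12 : a1 ≠ a2) (h13 : a1 ≠ a3)
    (h23 : a2 ≠ a3) {y j : Perm α} (hy : y ∈ G) (hj : j ∈ G) (hyy : y * y = 1) (hjj : j * j = 1)
    (hyj : y * j = j * y) (hyΓ : ∀ w ∈ Γ, y w = swap a0 a1 w)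
    (hjΓ : ∀ w ∈ Γ, j w = swap a2 a3 w) {a : α} (ha : a ∉ Γ) (hza : (y * j) a = a) :
    Nat.card (fixG G Γ) = q ^ 2 * Nat.card (fixG G (insert a (insert (y a) Γ))) := by
  classical
  obtain ⟨hja, hyya, hjya, hbΓ, hab, hno, hzfix⟩ :=
    S.z_fix hΓ h0 h1 h2 h3 h01 h02 h03 h12 h13 h23 hy hj hyy hjj hyj hyΓ hjΓ ha hza
  have hypres := pres_of_swap h0 h1 hyΓ
  have hjpres := pres_of_swap h2 h3 hjΓ
  have hzb : (y * j) (y a) = y a := by rw [Perm.mul_apply, hjya]
  -- normalizing
  have hypres' : ∀ w ∈ insert a (insert (y a) Γ), y w ∈ insert a (insert (y a) Γ) := by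
    intro w hw
    rcases Finset.mem_insert.mp hw with h | h
    · rw [h]; exact Finset.mem_insert_of_mem (Finset.mem_insert_self _ _)
    rcases Finset.mem_insert.mp h with h | h
    · rw [h, hyya]; exact Finset.mem_insert_self _ _
    · exact Finset.mem_insert_of_mem (Finset.mem_insert_of_mem (hypres w h))
  have hjpres' : ∀ w ∈ insert a (insert (y a) Γ), j w ∈ insert a (insert (y a) Γ) := by
    intro w hw
    rcases Finset.mem_insert.mp hw with h | h
    · rw [h, hja]; exact Finset.mem_insert_of_mem (Finset.mem_insert_self _ _)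
    rcases Finset.mem_insert.mp h with h | h
    · rw [h, hjya]; exact Finset.mem_insert_self _ _
    · exact Finset.mem_insert_of_mem (Finset.mem_insert_of_mem (hjpres w h))
  have hKH : fixG G (insert a (insert (y a) Γ)) ≤ fixG G Γ :=
    fixG_mono G (fun w hw => Finset.mem_insert_of_mem (Finset.mem_insert_of_mem hw))
  have hHodd := S.odd_fix hΓ
  have hKodd : Odd (Nat.card (fixG G (insert a (insert (y a) Γ)))) := odd_card_of_le hHodd hKH
  have bwH := bw hHodd hyy hjj hyj (nrm_fixG hy hyy hypres) (nrm_fixG hj hjj hjpres)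
  have bwK := bw hKodd hyy hjj hyj (nrm_fixG hy hyy hypres') (nrm_fixG hj hjj hjpres')
  -- centralizers of z
  have hcz : centIn (fixG G Γ) (y * j) = centIn (fixG G (insert a (insert (y a) Γ))) (y * j) := by
    ext h
    rw [mem_centIn, mem_centIn]
    constructor
    · rintro ⟨hH, hcomm⟩
      refine ⟨⟨hH.1, ?_⟩, hcomm⟩
      have key : ∀ x, x ∉ Γ → (y * j) x = x → (y * j) (h x) = h x := by
        intro x _ hx
        have := congrArg (fun f : Perm α => f x) hcomm
        simp only [Perm.mul_apply] at this hx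
        rw [hx] at this
        exact this.symm
      have hha : h a = a := by
        rcases hzfix _ (fixG_notin hH ha) (key a ha hza) with e | e
        · exact e
        · exact absurd ⟨h, hH, e⟩ hno
      have hhb : h (y a) = y a := by
        rcases hzfix _ (fixG_notin hH hbΓ) (key (y a) hbΓ hzb) with e | e
        · exact absurd (SameOrb.symm ⟨h, hH, e⟩) hno
        · exact e
      intro w hw
      rcases Finset.mem_insert.mp hw with e | e
      · rw [e]; exact hha
      rcases Finset.mem_insert.mp e with e | e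
      · rw [e]; exact hhb
      · exact hH.2 w e
    · rintro ⟨hK, hcomm⟩
      exact ⟨hKH hK, hcomm⟩
  -- centralizers of y and j
  have hcent : ∀ (v : Perm α), v ∈ G → v * v = 1 → v a = y a →
      (∀ c', SameOrb (fixG G Γ) a c' → ∃ h ∈ fixG G Γ, h * v = v * h ∧ h a = c') →
      Nat.card (centIn (fixG G Γ) v)
        = Nat.card (centIn (fixG G (insert a (insert (y a) Γ))) v) * q := by
    intro v hv hvv hva htrans
    have e1 := card_fixG_singleton (centIn (fixG G Γ) v) a
    have e2 : fixG (centIn (fixG G Γ) v) {a} = centIn (fixG G (insert a (insert (y a) Γ))) v := by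
      ext h
      rw [mem_fixG, mem_centIn, mem_centIn]
      constructor
      · rintro ⟨⟨hH, hcomm⟩, hfix⟩
        have hha : h a = a := hfix a (Finset.mem_singleton_self a)
        refine ⟨⟨hH.1, ?_⟩, hcomm⟩
        intro w hw
        rcases Finset.mem_insert.mp hw with e | e
        · rw [e]; exact hha
        rcases Finset.mem_insert.mp e with e | e
        · rw [e, ← hva]
          have := congrArg (fun f : Perm α => f a) hcomm
          simp only [Perm.mul_apply] at this
          rw [this, hha]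
        · exact hH.2 w e
      · rintro ⟨hK, hcomm⟩
        refine ⟨⟨hKH hK, hcomm⟩, fun x hx => ?_⟩
        rw [Finset.mem_singleton] at hx
        rw [hx]
        exact hK.2 a (Finset.mem_insert_self _ _)
    have e3 : orbF (centIn (fixG G Γ) v) a = orbF (fixG G Γ) a := by
      ext c'
      rw [mem_orbF_iff, mem_orbF_iff]
      constructor
      · rintro ⟨h, hh, rfl⟩
        exact ⟨h, hh.1, rfl⟩
      · intro hc'
        obtain ⟨h, hH, hcomm, hha⟩ := htrans c' hc'
        exact ⟨h, ⟨hH, hcomm⟩, hha⟩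
    rw [e2, ← card_orbF, e3, S.horb Γ hΓ a ha] at e1
    exact e1.symm
  have hcy := hcent y hy hyy rfl (fun c' hc' =>
    S.cent_trans hΓ h0 h1 h2 h3 h01 h02 h03 h12 h13 h23 hy hyy hyΓ ha hc')
  have hcj := hcent j hj hjj hja (fun c' hc' =>
    S.cent_trans hΓ h2 h3 h0 h1 h23 h02.symm h12.symm h03.symm h13.symm h01 hj hjj hjΓ ha hc')
  rw [hcz, hcy, hcj] at bwH
  have hVpos : 0 < (Nat.card (centIn (centIn (fixG G (insert a (insert (y a) Γ))) (y * j)) y)) ^ 2 :=
    pow_pos Nat.card_pos 2
  have key : Nat.card (fixG G Γ)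
        * (Nat.card (centIn (centIn (fixG G (insert a (insert (y a) Γ))) (y * j)) y)) ^ 2
      = (q ^ 2 * Nat.card (fixG G (insert a (insert (y a) Γ))))
        * (Nat.card (centIn (centIn (fixG G (insert a (insert (y a) Γ))) (y * j)) y)) ^ 2 := by
    rw [bwH, mul_assoc (q ^ 2), bwK]; ring
  exact Nat.eq_of_mul_eq_mul_right hVpos key

end Cfsg.Agent.Lib.Helper61.HC
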