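import Mathlib
import Cfsg.Agent.Lib.Helper61.HC10

namespace Cfsg.Agent.Lib.Helper61.HC

open Equiv Equiv.Perm Cfsg.Agent.Lib.Helper61.Miller Cfsg.Agent.Lib.Helper61.KAlt
  Cfsg.Agent.Lib.Helper61.LW

set_option linter.unusedSectionVars false
set_option linter.unusedVariables false
variable {α : Type*} [Fintype α] [DecidableEq α]
variable {G : Subgroup (Perm α)} {t q : ℕ}

theorem hc_inv_app {β : Type*} (f : Perm β) (x : β) : f⁻¹ (f x) = x := by simp

theorem hc_app_inv {β : Type*} (f : Perm β) (x : β) : f (f⁻¹ x) = x := by simp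

theorem Setting.q_pos (S : Setting G t q) : 0 < q := by
  obtain ⟨e, he⟩ := S.hqodd
  omega

theorem Setting.trans_of_index (S : Setting G t q) {Γ : Finset α} (hΓ : Γ.card = t) {p p' : α}
    (hp : p ∉ Γ) (hp' : p' ∉ insert p Γ)
    (hidx : Nat.card (fixG G Γ) = q ^ 2 * Nat.card (fixG G (insert p' (insert p Γ)))) :
    ∀ p'', SameOrb (fixG G Γ) p' p'' → ∃ k ∈ fixG G (insert p Γ), k p' = p'' := by
  classical
  have hp'Γ : p' ∉ Γ := fun h => hp' (Finset.mem_insert_of_mem h)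
  have m1 := orbit_mul (G := G) hp
  rw [S.horb Γ hΓ p hp] at m1
  have m2 := orbit_mul (G := G) hp'
  have hq := S.q_pos
  have hKpos : 0 < Nat.card (fixG G (insert p' (insert p Γ))) := Nat.card_pos
  have hc : (orbF (fixG G (insert p Γ)) p').card = q := by
    rw [← m1, ← m2] at hidx
    have e : (Nat.card (fixG G (insert p' (insert p Γ))) * q)
          * (orbF (fixG G (insert p Γ)) p').card
        = (Nat.card (fixG G (insert p' (insert p Γ))) * q) * q := by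
      calc (Nat.card (fixG G (insert p' (insert p Γ))) * q) * (orbF (fixG G (insert p Γ)) p').card
          = Nat.card (fixG G (insert p' (insert p Γ))) * (orbF (fixG G (insert p Γ)) p').card
            * q := by ring
        _ = q ^ 2 * Nat.card (fixG G (insert p' (insert p Γ))) := hidx
        _ = _ := by ring
    exact Nat.eq_of_mul_eq_mul_left (Nat.mul_pos hKpos hq) e
  have hsub : orbF (fixG G (insert p Γ)) p' ⊆ orbF (fixG G Γ) p' := by
    intro c hc'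
    rw [mem_orbF_iff] at hc' ⊢
    obtain ⟨k, hk, rfl⟩ := hc'
    exact ⟨k, fixG_mono G (Finset.subset_insert _ _) hk, rfl⟩
  have heq := Finset.eq_of_subset_of_card_le hsub (by rw [hc, S.horb Γ hΓ p' hp'Γ])
  intro p'' hp''
  have : p'' ∈ orbF (fixG G (insert p Γ)) p' := by
    rw [heq, mem_orbF_iff]; exact hp''
  rw [mem_orbF_iff] at this
  exact this

theorem e5_aux {Γ : Finset α} {p p' ω x x' : α}
    (htrans : ∀ p'', SameOrb (fixG G Γ) p' p'' → ∃ k ∈ fixG G (insert p Γ), k p' = p'')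
    (hω : SameOrb (fixG G Γ) p ω) (hx : SameOrb (fixG G Γ) p' x)
    (hx' : SameOrb (fixG G Γ) p' x') : ∃ k ∈ fixG G (insert ω Γ), k x = x' := by
  obtain ⟨h₁, hh₁, rfl⟩ := hω
  have hh₁i := (fixG G Γ).inv_mem hh₁
  have s1 : SameOrb (fixG G Γ) p' (h₁⁻¹ x) := hx.trans ⟨h₁⁻¹, hh₁i, rfl⟩
  have s2 : SameOrb (fixG G Γ) p' (h₁⁻¹ x') := hx'.trans ⟨h₁⁻¹, hh₁i, rfl⟩
  obtain ⟨k₁, hk₁, hk₁p⟩ := htrans _ s1
  obtain ⟨k₂, hk₂, hk₂p⟩ := htrans _ s2
  have hk₁H : k₁ ∈ fixG G Γ := fixG_mono G (Finset.subset_insert _ _) hk₁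
  have hk₂H : k₂ ∈ fixG G Γ := fixG_mono G (Finset.subset_insert _ _) hk₂
  have hmem : h₁ * k₂ * k₁⁻¹ * h₁⁻¹ ∈ fixG G Γ :=
    (fixG G Γ).mul_mem ((fixG G Γ).mul_mem ((fixG G Γ).mul_mem hh₁ hk₂H)
      ((fixG G Γ).inv_mem hk₁H)) hh₁i
  have hk₁a : k₁⁻¹ p = p := inv_apply_of (hk₁.2 p (Finset.mem_insert_self _ _))
  have hk₂a : k₂ p = p := hk₂.2 p (Finset.mem_insert_self _ _)
  refine ⟨h₁ * k₂ * k₁⁻¹ * h₁⁻¹, ⟨hmem.1, ?_⟩, ?_⟩
  · intro w hw
    rcases Finset.mem_insert.mp hw with e | e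
    · rw [e]
      simp only [Perm.mul_apply]
      rw [hc_inv_app, hk₁a, hk₂a]
    · exact hmem.2 w e
  · simp only [Perm.mul_apply]
    rw [← hk₁p, hc_inv_app, hk₂p, hc_app_inv]

/-- E5: the stabilizer of a point is transitive on the other orbit -/
theorem Setting.e5 (S : Setting G t q) {Γ : Finset α} (hΓ : Γ.card = t) {ω x x' : α}
    (hω : ω ∉ Γ) (hx : x ∉ Γ) (hno : ¬ SameOrb (fixG G Γ) ω x)
    (hxx' : SameOrb (fixG G Γ) x x') : ∃ k ∈ fixG G (insert ω Γ), k x = x' := by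
  classical
  obtain ⟨Λ, hΛsub, hΛ⟩ := Finset.exists_subset_card_eq (s := Γ) (n := 4)
    (by rw [hΓ]; exact S.ht)
  obtain ⟨a0, a1, a2, a3, h01, h02, h03, h12, h13, h23, rfl⟩ := Finset.card_eq_four.mp hΛ
  have h0 : a0 ∈ Γ := hΛsub (by simp)
  have h1 : a1 ∈ Γ := hΛsub (by simp)
  have h2 : a2 ∈ Γ := hΛsub (by simp)
  have h3 : a3 ∈ Γ := hΛsub (by simp)
  obtain ⟨y, j, hy, hj, hyy, hjj, hyj, hyΓ, hjΓ, a, ha, hza⟩ :=
    S.exists_four hΓ h0 h1 h2 h3 h01 h02 h03 h12 h13 h23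
  obtain ⟨hja, hyya, hjya, hbΓ, hab, hnoab, hzfix⟩ :=
    S.z_fix hΓ h0 h1 h2 h3 h01 h02 h03 h12 h13 h23 hy hj hyy hjj hyj hyΓ hjΓ ha hza
  have hidx := S.index_sq hΓ h0 h1 h2 h3 h01 h02 h03 h12 h13 h23 hy hj hyy hjj hyj hyΓ hjΓ ha hza
  have hb' : y a ∉ insert a Γ := by
    intro h
    rcases Finset.mem_insert.mp h with e | e
    · exact hab e.symm
    · exact hbΓ e
  have ha' : a ∉ insert (y a) Γ := by
    intro h
    rcases Finset.mem_insert.mp h with e | e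
    · exact hab e
    · exact ha e
  have star1 := S.trans_of_index hΓ ha hb' (by rw [Finset.insert_comm]; exact hidx)
  have star2 := S.trans_of_index hΓ hbΓ ha' hidx
  have hx'Γ : x' ∉ Γ := by
    obtain ⟨κ, hκ, rfl⟩ := hxx'
    exact fixG_notin hκ hx
  rcases S.two_orb hΓ ha hbΓ hω hnoab with hcase | hcase
  · -- ω in the orbit of a, x in the orbit of b
    have hbx : SameOrb (fixG G Γ) (y a) x := by
      rcases S.two_orb hΓ ha hbΓ hx hnoab with h | h
      · exact absurd (hcase.symm.trans h) hno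
      · exact h
    exact e5_aux star1 hcase hbx (hbx.trans hxx')
  · have hax : SameOrb (fixG G Γ) a x := by
      rcases S.two_orb hΓ ha hbΓ hx hnoab with h | h
      · exact h
      · exact absurd (hcase.symm.trans h) hno
    exact e5_aux star2 hcase hax (hax.trans hxx')

end Cfsg.Agent.Lib.Helper61.HC
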