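import Mathlib
import Cfsg.Agent.Lib.Helper61.HC11

namespace Cfsg.Agent.Lib.Helper61.HC

open Equiv Equiv.Perm Cfsg.Agent.Lib.Helper61.Miller Cfsg.Agent.Lib.Helper61.KAlt
  Cfsg.Agent.Lib.Helper61.LW

set_option linter.unusedSectionVars false
set_option linter.unusedVariables false
variable {α : Type*} [Fintype α] [DecidableEq α]
variable {G : Subgroup (Perm α)} {t q : ℕ}

theorem orb_notin {Γ : Finset α} {a c : α} (ha : a ∉ Γ) (h : SameOrb (fixG G Γ) a c) :
    c ∉ Γ := by
  obtain ⟨κ, hκ, rfl⟩ := h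
  exact fixG_notin hκ ha

theorem Setting.tour_step (S : Setting G t q) {Δ : Finset α} (hΔ : Δ.card + 1 = t)
    {a0 a a' b : α}
    (ha0 : a0 ∉ Δ) (ha : a ∉ insert a0 Δ) (ha' : a' ∉ insert a0 Δ) (hb : b ∉ insert a0 Δ)
    (haa' : a ≠ a') (hsame : SameOrb (fixG G (insert a0 Δ)) a a')
    (hnab : ¬ SameOrb (fixG G (insert a0 Δ)) a b) :
    ∃ g ∈ fixG G (insert a Δ), g a0 = a' := by
  classical
  have hΓ : (insert a0 Δ).card = t := by rw [Finset.card_insert_of_notMem ha0]; exact hΔ
  have haΔ : a ∉ Δ := fun h => ha (Finset.mem_insert_of_mem h)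
  have ha'Δ : a' ∉ Δ := fun h => ha' (Finset.mem_insert_of_mem h)
  have haa0 : a ≠ a0 := fun h => ha (h ▸ Finset.mem_insert_self _ _)
  have ha'a0 : a' ≠ a0 := fun h => ha' (h ▸ Finset.mem_insert_self _ _)
  have hΓa : (insert a Δ).card = t := by rw [Finset.card_insert_of_notMem haΔ]; exact hΔ
  have ha0Γa : a0 ∉ insert a Δ := by
    intro h
    rcases Finset.mem_insert.mp h with e | e
    · exact haa0 e.symm
    · exact ha0 e
  have ha'Γa : a' ∉ insert a Δ := by
    intro h
    rcases Finset.mem_insert.mp h with e | e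
    · exact haa' e.symm
    · exact ha'Δ e
  -- counting
  have hex : ∃ x ∈ orbF (fixG G (insert a0 Δ)) b, ¬ SameOrb (fixG G (insert a Δ)) a0 x := by
    by_contra hcon
    push Not at hcon
    have hsub : insert a0 (orbF (fixG G (insert a0 Δ)) b) ⊆ orbF (fixG G (insert a Δ)) a0 := by
      intro c hc
      rcases Finset.mem_insert.mp hc with e | e
      · rw [e]; exact self_mem_orbF _ _
      · rw [mem_orbF_iff]; exact hcon c e
    have hnot : a0 ∉ orbF (fixG G (insert a0 Δ)) b := by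
      intro h
      rw [mem_orbF_iff] at h
      exact orb_notin hb h (Finset.mem_insert_self _ _)
    have := Finset.card_le_card hsub
    rw [Finset.card_insert_of_notMem hnot, S.horb _ hΓ b hb, S.horb _ hΓa a0 ha0Γa] at this
    omega
  obtain ⟨x, hxb, hnx⟩ := hex
  rw [mem_orbF_iff] at hxb
  have hxΓ : x ∉ insert a0 Δ := orb_notin hb hxb
  have hxa : x ≠ a := by
    rintro rfl
    exact hnab hxb.symm
  have hxΓa : x ∉ insert a Δ := by
    intro h
    rcases Finset.mem_insert.mp h with e | e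
    · exact hxa e
    · exact hxΓ (Finset.mem_insert_of_mem e)
  rcases S.two_orb hΓa ha0Γa hxΓa ha'Γa hnx with h | h
  · exact h
  · exfalso
    obtain ⟨k, hk, hkx⟩ := S.e5 hΓa ha0Γa hxΓa hnx h
    have hkH : k ∈ fixG G (insert a0 Δ) := by
      refine fixG_mono G ?_ hk
      intro c hc
      rcases Finset.mem_insert.mp hc with e | e
      · rw [e]; exact Finset.mem_insert_self _ _
      · exact Finset.mem_insert_of_mem (Finset.mem_insert_of_mem e)
    have : SameOrb (fixG G (insert a0 Δ)) x a' := ⟨k, hkH, hkx⟩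
    exact hnab (hsame.trans (this.symm.trans hxb.symm))

theorem swap_pow_odd {x : Perm α} {a a' : α} (h1 : x a = a') (h2 : x a' = a) (e : ℕ) :
    (x ^ (2 * e + 1)) a = a' := by
  induction e with
  | zero => simpa using h1
  | succ e ih =>
    have : 2 * (e + 1) + 1 = (2 * e + 1) + 2 := by ring
    rw [this, pow_add, Perm.mul_apply, pow_two, Perm.mul_apply, h1, h2, ih]

theorem Setting.hall_core (S : Setting G t q) (hq2 : 2 ≤ q) : False := by
  classical
  have ht := S.ht
  have hn : t + 4 ≤ Fintype.card α := by have := S.hq; omega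
  obtain ⟨Δ, -, hΔ⟩ := Finset.exists_subset_card_eq (s := (Finset.univ : Finset α))
    (n := t - 1) (by rw [Finset.card_univ]; omega)
  have hΔ1 : Δ.card + 1 = t := by omega
  obtain ⟨a0, ha0⟩ : ∃ a0, a0 ∉ Δ := by
    by_contra h
    push Not at h
    have : Δ = Finset.univ := Finset.eq_univ_iff_forall.mpr h
    rw [this, Finset.card_univ] at hΔ
    omega
  have hΓ : (insert a0 Δ).card = t := by rw [Finset.card_insert_of_notMem ha0]; exact hΔ1
  obtain ⟨a, ha⟩ : ∃ a, a ∉ insert a0 Δ := by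
    by_contra h
    push Not at h
    have : insert a0 Δ = Finset.univ := Finset.eq_univ_iff_forall.mpr h
    rw [this, Finset.card_univ] at hΓ
    omega
  have hOa := S.horb _ hΓ a ha
  -- a second point in the orbit of a
  obtain ⟨a', ha'O, haa'⟩ : ∃ a' ∈ orbF (fixG G (insert a0 Δ)) a, a ≠ a' := by
    have : 1 < (orbF (fixG G (insert a0 Δ)) a).card := by rw [hOa]; omega
    obtain ⟨a', ha'O, hne⟩ := Finset.exists_mem_ne this a
    exact ⟨a', ha'O, fun h => hne h.symm⟩
  rw [mem_orbF_iff] at ha'O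
  have ha' : a' ∉ insert a0 Δ := orb_notin ha ha'O
  -- a point in the other orbit
  obtain ⟨b, hb, hnab⟩ : ∃ b, b ∉ insert a0 Δ ∧ ¬ SameOrb (fixG G (insert a0 Δ)) a b := by
    by_contra hcon
    push Not at hcon
    have hsub : (insert a0 Δ)ᶜ ⊆ orbF (fixG G (insert a0 Δ)) a := by
      intro c hc
      rw [Finset.mem_compl] at hc
      rw [mem_orbF_iff]
      exact hcon c hc
    have := Finset.card_le_card hsub
    rw [Finset.card_compl, hΓ, hOa, ← S.hq] at this
    omega
  obtain ⟨g, hg, hga0⟩ := S.tour_step hΔ1 ha0 ha ha' hb haa' ha'O hnab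
  have hna'b : ¬ SameOrb (fixG G (insert a0 Δ)) a' b := fun h => hnab (ha'O.trans h)
  obtain ⟨g', hg', hg'a0⟩ := S.tour_step hΔ1 ha0 ha' ha hb (fun h => haa' h.symm) ha'O.symm hna'b
  obtain ⟨h, hh, hha⟩ := ha'O
  -- all three lie in T' = fixG G Δ
  have hgT : g ∈ fixG G Δ := fixG_mono G (Finset.subset_insert _ _) hg
  have hg'T : g' ∈ fixG G Δ := fixG_mono G (Finset.subset_insert _ _) hg'
  have hhT : h ∈ fixG G Δ := fixG_mono G (Finset.subset_insert _ _) hh
  have hx0T : g' * h * g⁻¹ ∈ fixG G Δ :=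
    (fixG G Δ).mul_mem ((fixG G Δ).mul_mem hg'T hhT) ((fixG G Δ).inv_mem hgT)
  have hga : g a = a := hg.2 a (Finset.mem_insert_self _ _)
  have hg'a' : g' a' = a' := hg'.2 a' (Finset.mem_insert_self _ _)
  have hha0 : h a0 = a0 := hh.2 a0 (Finset.mem_insert_self _ _)
  have hgia : g⁻¹ a = a := inv_apply_of hga
  have hgia' : g⁻¹ a' = a0 := by rw [← hga0, hc_inv_app]
  have e1 : (g' * h * g⁻¹) a = a' := by
    simp only [Perm.mul_apply]
    rw [hgia, hha, hg'a']
  have e2 : (g' * h * g⁻¹) a' = a := by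
    simp only [Perm.mul_apply]
    rw [hgia', hha0, hg'a0]
  -- T' has odd order
  have hodd : Odd (Nat.card (fixG G Δ)) := by
    have m := orbit_mul (G := G) ha0
    have hE : Ext G ((t - 1) + 1) := by
      have : t - 1 + 1 = t := by omega
      rw [this]; exact S.hE
    have hc := card_orbit_fixG G Δ (t - 1) hΔ hE ha0
    rw [card_orbF, hc] at m
    rw [← m]
    apply Nat.odd_mul.mpr
    refine ⟨S.odd_fix hΓ, ?_⟩
    have := S.hq
    exact ⟨q, by omega⟩
  obtain ⟨e, he⟩ := exists_odd_pow hodd hx0T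
  have := swap_pow_odd e1 e2 e
  rw [he] at this
  exact haa' this

end Cfsg.Agent.Lib.Helper61.HC
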