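import Mathlib
import Cfsg.Agent.Lib.Helper61.HC12

namespace Cfsg.Agent.Lib.Helper61.HM

open Equiv Equiv.Perm Cfsg.Agent.Lib.Helper61.Miller Cfsg.Agent.Lib.Helper61.KAlt
  Cfsg.Agent.Lib.Helper61.LW Cfsg.Agent.Lib.Helper61.HC

set_option linter.unusedSectionVars false
set_option linter.unusedVariables false
variable {α : Type*} [Fintype α] [DecidableEq α]

/-- standing hypothesis of M. Hall's theorem -/
structure Hyp (G : Subgroup (Perm α)) : Prop where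
  hE : Ext G 4
  hodd : ∀ Δ : Finset α, Δ.card = 4 → Odd (Nat.card (fixG G Δ))

variable {G : Subgroup (Perm α)}

theorem Hyp.odd_of_le (hyp : Hyp G) {Δ : Finset α} (hΔ : 4 ≤ Δ.card) :
    Odd (Nat.card (fixG G Δ)) := by
  obtain ⟨Δ₀, hsub, hcard⟩ := Finset.exists_subset_card_eq hΔ
  exact odd_card_of_le (hyp.hodd Δ₀ hcard) (fixG_mono G hsub)

/-- dihedral conjugation: two involutions agreeing on four points are conjugate under the
pointwise stabilizer -/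
theorem Hyp.dih (hyp : Hyp G) {s s' : Perm α} (hs : s ∈ G) (hs' : s' ∈ G) (hss : s * s = 1)
    (hss' : s' * s' = 1) {Δ : Finset α} (hΔ : 4 ≤ Δ.card) (hag : ∀ c ∈ Δ, s c = s' c) :
    ∃ h ∈ fixG G Δ, h * s = s' * h ∧
      ∀ z : Perm α, z * s = s * z → z * s' = s' * z → h * z = z * h := by
  have hρ : s * s' ∈ fixG G Δ := ⟨G.mul_mem hs hs', fun c hc => by
    rw [Perm.mul_apply, ← hag c hc]; exact invol_apply hss c⟩
  obtain ⟨a, ha⟩ := exists_odd_pow (hyp.odd_of_le hΔ) hρ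
  refine ⟨(s * s') ^ a, (fixG G Δ).pow_mem hρ a, dihedral_conj hss hss' ha, ?_⟩
  intro z hz hz'
  have h1 : Commute z s := hz
  have h2 : Commute z s' := hz'
  exact ((h1.mul_right h2).pow_right a).symm.eq

/-- an involution of `G` fixes at most three points -/
theorem Hyp.fix_le_three (hyp : Hyp G) {s : Perm α} (hs : s ∈ G) (hss : s * s = 1) (hne : s ≠ 1) :
    (fixS s).card ≤ 3 := by
  by_contra hcon
  push Not at hcon
  obtain ⟨Δ₀, hsub, hcard⟩ := Finset.exists_subset_card_eq (show 4 ≤ (fixS s).card by omega)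
  have hmem : s ∈ fixG G Δ₀ := ⟨hs, fun c hc => mem_fixS.mp (hsub hc)⟩
  exact hne (no_invol_of_odd _ (hyp.hodd Δ₀ hcard) s hmem hss)

/-- transport of an involution along an element of `G` -/
theorem Hyp.transport (hyp : Hyp G) {s s' : Perm α} (hs : s ∈ G) (hs' : s' ∈ G) (hss : s * s = 1)
    (hss' : s' * s' = 1) {Δ : Finset α} (hΔ : 4 ≤ Δ.card) {g₀ : Perm α} (hg₀ : g₀ ∈ G)
    (hag : ∀ c ∈ Δ, g₀ (s c) = s' (g₀ c)) :
    ∃ g ∈ G, (∀ c ∈ Δ, g c = g₀ c) ∧ g * s = s' * g ∧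
      ∀ z z' : Perm α, z * s = s * z → z' * s' = s' * z' → g₀ * z = z' * g₀ → g * z = z' * g := by
  have hs''G : g₀ * s * g₀⁻¹ ∈ G := G.mul_mem (G.mul_mem hg₀ hs) (G.inv_mem hg₀)
  have hs''2 : (g₀ * s * g₀⁻¹) * (g₀ * s * g₀⁻¹) = 1 := by
    calc (g₀ * s * g₀⁻¹) * (g₀ * s * g₀⁻¹) = g₀ * (s * s) * g₀⁻¹ := by group
      _ = 1 := by rw [hss]; group
  have hcard : 4 ≤ (Δ.image g₀).card := by
    rw [Finset.card_image_of_injective _ g₀.injective]; exact hΔ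
  have hag' : ∀ c' ∈ Δ.image g₀, (g₀ * s * g₀⁻¹) c' = s' c' := by
    intro c' hc'
    obtain ⟨c, hc, rfl⟩ := Finset.mem_image.mp hc'
    simp only [Perm.mul_apply]
    rw [hc_inv_app]
    exact hag c hc
  obtain ⟨h, hh, hconj, hcomm⟩ := hyp.dih hs''G hs' hs''2 hss' hcard hag'
  refine ⟨h * g₀, G.mul_mem hh.1 hg₀, ?_, ?_, ?_⟩
  · intro c hc
    rw [Perm.mul_apply]
    exact hh.2 _ (Finset.mem_image_of_mem _ hc)
  · calc h * g₀ * s = h * (g₀ * s * g₀⁻¹) * g₀ := by group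
      _ = s' * h * g₀ := by rw [hconj]
      _ = s' * (h * g₀) := by group
  · intro z z' hz hz' hzz'
    have e1 : z' = g₀ * z * g₀⁻¹ := by
      calc z' = z' * g₀ * g₀⁻¹ := by group
        _ = g₀ * z * g₀⁻¹ := by rw [hzz']
    have e2 : z' * (g₀ * s * g₀⁻¹) = (g₀ * s * g₀⁻¹) * z' := by
      rw [e1]
      calc g₀ * z * g₀⁻¹ * (g₀ * s * g₀⁻¹) = g₀ * (z * s) * g₀⁻¹ := by group
        _ = g₀ * (s * z) * g₀⁻¹ := by rw [hz]
        _ = g₀ * s * g₀⁻¹ * (g₀ * z * g₀⁻¹) := by group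
    have e3 := hcomm z' e2 hz'
    calc h * g₀ * z = h * (g₀ * z) := by group
      _ = h * (z' * g₀) := by rw [hzz']
      _ = (h * z') * g₀ := by group
      _ = (z' * h) * g₀ := by rw [e3]
      _ = z' * (h * g₀) := by group

/-- transport of a pair of commuting involutions -/
theorem Hyp.transport2 (hyp : Hyp G) {x y x' y' : Perm α} (hx : x ∈ G) (hy : y ∈ G)
    (hx' : x' ∈ G) (hy' : y' ∈ G) (hxx : x * x = 1) (hyy : y * y = 1) (hxx' : x' * x' = 1)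
    (hyy' : y' * y' = 1) (hxy : x * y = y * x) (hxy' : x' * y' = y' * x')
    {Δ : Finset α} (hΔ : 4 ≤ Δ.card) (hyΔ : ∀ c ∈ Δ, y c ∈ Δ) {g₀ : Perm α} (hg₀ : g₀ ∈ G)
    (hagx : ∀ c ∈ Δ, g₀ (x c) = x' (g₀ c)) (hagy : ∀ c ∈ Δ, g₀ (y c) = y' (g₀ c)) :
    ∃ g ∈ G, (∀ c ∈ Δ, g c = g₀ c) ∧ g * x = x' * g ∧ g * y = y' * g := by
  obtain ⟨g₁, hg₁, hg₁Δ, hg₁x, -⟩ := hyp.transport hx hx' hxx hxx' hΔ hg₀ hagx
  have hagy' : ∀ c ∈ Δ, g₁ (y c) = y' (g₁ c) := by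
    intro c hc
    rw [hg₁Δ c hc, hg₁Δ _ (hyΔ c hc)]
    exact hagy c hc
  obtain ⟨g₂, hg₂, hg₂Δ, hg₂y, hcl⟩ := hyp.transport hy hy' hyy hyy' hΔ hg₁ hagy'
  refine ⟨g₂, hg₂, ?_, ?_, hg₂y⟩
  · intro c hc
    rw [hg₂Δ c hc, hg₁Δ c hc]
  · exact hcl x x' hxy hxy' hg₁x

end Cfsg.Agent.Lib.Helper61.HM
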