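import Mathlib
import Cfsg.Agent.Lib.Helper61.HM1

namespace Cfsg.Agent.Lib.Helper61.HM

open Equiv Equiv.Perm Cfsg.Agent.Lib.Helper61.Miller Cfsg.Agent.Lib.Helper61.KAlt
  Cfsg.Agent.Lib.Helper61.LW Cfsg.Agent.Lib.Helper61.HC

set_option linter.unusedSectionVars false
set_option linter.unusedVariables false
variable {α : Type*} [Fintype α] [DecidableEq α]
variable {G : Subgroup (Perm α)}

/-- four-fold transitivity on explicit points -/
theorem ext4 (hE : Ext G 4) {c1 c2 c3 c4 d1 d2 d3 d4 : α}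
    (c12 : c1 ≠ c2) (c13 : c1 ≠ c3) (c14 : c1 ≠ c4) (c23 : c2 ≠ c3) (c24 : c2 ≠ c4) (c34 : c3 ≠ c4)
    (d12 : d1 ≠ d2) (d13 : d1 ≠ d3) (d14 : d1 ≠ d4) (d23 : d2 ≠ d3) (d24 : d2 ≠ d4) (d34 : d3 ≠ d4) :
    ∃ g ∈ G, g c1 = d1 ∧ g c2 = d2 ∧ g c3 = d3 ∧ g c4 = d4 := by
  classical
  let f : α → α := fun a => if a = c1 then d1 else if a = c2 then d2 else if a = c3 then d3 else d4
  have f1 : f c1 = d1 := by simp [f]
  have f2 : f c2 = d2 := by simp [f, c12.symm]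
  have f3 : f c3 = d3 := by simp [f, c13.symm, c23.symm]
  have f4 : f c4 = d4 := by simp [f, c14.symm, c24.symm, c34.symm]
  have hcard : ({c1, c2, c3, c4} : Finset α).card ≤ 4 := Finset.card_le_four
  have hinj : Set.InjOn f (({c1, c2, c3, c4} : Finset α) : Set α) := by
    intro a ha b hb hab
    simp only [Finset.coe_insert, Finset.coe_singleton, Set.mem_insert_iff,
      Set.mem_singleton_iff] at ha hb
    rcases ha with rfl | rfl | rfl | rfl <;> rcases hb with rfl | rfl | rfl | rfl <;>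
      first
      | rfl
      | (exfalso; simp only [f1, f2, f3, f4] at hab; first
          | exact d12 hab | exact d13 hab | exact d14 hab | exact d23 hab | exact d24 hab
          | exact d34 hab | exact d12 hab.symm | exact d13 hab.symm | exact d14 hab.symm
          | exact d23 hab.symm | exact d24 hab.symm | exact d34 hab.symm)
  obtain ⟨g, hg, hgf⟩ := hE _ hcard f hinj
  refine ⟨g, hg, ?_, ?_, ?_, ?_⟩
  · rw [hgf c1 (by simp), f1]
  · rw [hgf c2 (by simp), f2]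
  · rw [hgf c3 (by simp), f3]
  · rw [hgf c4 (by simp), f4]

theorem Hyp.exists_invol (hyp : Hyp G) {Γ : Finset α} (hΓ : Γ.card = 4) {a b : α}
    (ha : a ∈ Γ) (hb : b ∈ Γ) :
    ∃ y ∈ G, y * y = 1 ∧ ∀ w ∈ Γ, y w = swap a b w := by
  obtain ⟨s₀, hs₀, hs₀f⟩ := hyp.hE Γ hΓ.le (swap a b) (swap a b).injective.injOn
  have hfΓ : ∀ w ∈ Γ, swap a b w ∈ Γ := by
    intro w hw
    by_cases e1 : w = a
    · rw [e1, swap_apply_left]; exact hb
    · by_cases e2 : w = b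
      · rw [e2, swap_apply_right]; exact ha
      · rw [swap_apply_of_ne_of_ne e1 e2]; exact hw
  obtain ⟨x, hx, hxf, hxx⟩ := exists_inv_lift G Γ (swap a b) hfΓ
    (fun w _ => swap_apply_self a b w) (hyp.hodd Γ hΓ) s₀ hs₀ hs₀f
  exact ⟨x, hx, hxx, hxf⟩

/-- the four-group `⟨x, y⟩` with `x = (p3 p4)`, `y = (p1 p2)` on the four points -/
theorem Hyp.exists_four (hyp : Hyp G) {p1 p2 p3 p4 : α}
    (h12 : p1 ≠ p2) (h13 : p1 ≠ p3) (h14 : p1 ≠ p4) (h23 : p2 ≠ p3) (h24 : p2 ≠ p4)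
    (h34 : p3 ≠ p4) :
    ∃ x y : Perm α, x ∈ G ∧ y ∈ G ∧ x * x = 1 ∧ y * y = 1 ∧ x * y = y * x ∧
      x p1 = p1 ∧ x p2 = p2 ∧ x p3 = p4 ∧ x p4 = p3 ∧
      y p1 = p2 ∧ y p2 = p1 ∧ y p3 = p3 ∧ y p4 = p4 := by
  classical
  have hΓ : ({p1, p2, p3, p4} : Finset α).card = 4 := by
    rw [Finset.card_insert_of_notMem, Finset.card_insert_of_notMem, Finset.card_pair h34]
    · simp [h23, h24]
    · simp [h12, h13, h14]
  have m1 : p1 ∈ ({p1, p2, p3, p4} : Finset α) := by simp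
  have m2 : p2 ∈ ({p1, p2, p3, p4} : Finset α) := by simp
  have m3 : p3 ∈ ({p1, p2, p3, p4} : Finset α) := by simp
  have m4 : p4 ∈ ({p1, p2, p3, p4} : Finset α) := by simp
  obtain ⟨x, hx, hxx, hxΓ⟩ := hyp.exists_invol hΓ m3 m4
  obtain ⟨y₀, hy₀, hyy₀, hy₀Γ⟩ := hyp.exists_invol hΓ m1 m2
  have hxpres := pres_of_swap m3 m4 hxΓ
  have hypres := pres_of_swap m1 m2 hy₀Γ
  have hρ : y₀ * (x * y₀ * x) ∈ fixG G {p1, p2, p3, p4} := by
    refine ⟨G.mul_mem hy₀ (G.mul_mem (G.mul_mem hx hy₀) hx), fun w hw => ?_⟩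
    simp only [Perm.mul_apply]
    have e1 : x w = swap p3 p4 w := hxΓ w hw
    have k1 : x w ∈ ({p1, p2, p3, p4} : Finset α) := hxpres w hw
    have e2 : y₀ (x w) = swap p1 p2 (swap p3 p4 w) := by rw [hy₀Γ _ k1, e1]
    have k2 : y₀ (x w) ∈ ({p1, p2, p3, p4} : Finset α) := hypres _ k1
    have e3 : x (y₀ (x w)) = swap p1 p2 w := by
      rw [hxΓ _ k2, e2, swap_conj_disjoint h13.symm h23.symm h14.symm h24.symm]
    have k3 : x (y₀ (x w)) ∈ ({p1, p2, p3, p4} : Finset α) := hxpres _ k2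
    rw [hy₀Γ _ k3, e3, swap_apply_self]
  obtain ⟨a, ha⟩ := exists_odd_pow (hyp.hodd _ hΓ) hρ
  obtain ⟨hyy, hxy⟩ := dihedral_commute hxx hyy₀ ha
  have hρa : (y₀ * (x * y₀ * x)) ^ a ∈ fixG G {p1, p2, p3, p4} := (fixG G _).pow_mem hρ a
  have hyG : (y₀ * (x * y₀ * x)) ^ a * y₀ ∈ G := G.mul_mem hρa.1 hy₀
  have hyΓ : ∀ w ∈ ({p1, p2, p3, p4} : Finset α),
      ((y₀ * (x * y₀ * x)) ^ a * y₀) w = swap p1 p2 w := by
    intro w hw
    rw [Perm.mul_apply, hy₀Γ w hw]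
    apply hρa.2
    rw [← hy₀Γ w hw]
    exact hypres w hw
  refine ⟨x, (y₀ * (x * y₀ * x)) ^ a * y₀, hx, hyG, hxx, hyy, hxy, ?_, ?_, ?_, ?_, ?_, ?_, ?_, ?_⟩
  · rw [hxΓ p1 m1, swap_apply_of_ne_of_ne h13 h14]
  · rw [hxΓ p2 m2, swap_apply_of_ne_of_ne h23 h24]
  · rw [hxΓ p3 m3, swap_apply_left]
  · rw [hxΓ p4 m4, swap_apply_right]
  · rw [hyΓ p1 m1, swap_apply_left]
  · rw [hyΓ p2 m2, swap_apply_right]
  · rw [hyΓ p3 m3, swap_apply_of_ne_of_ne h13.symm h23.symm]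
  · rw [hyΓ p4 m4, swap_apply_of_ne_of_ne h14.symm h24.symm]

theorem card_le_of_conj {K K' : Subgroup (Perm α)} (g : Perm α)
    (h : ∀ k ∈ K, g * k * g⁻¹ ∈ K') : Nat.card K ≤ Nat.card K' := by
  apply Nat.card_le_card_of_injective (fun k : ↥K => (⟨g * k * g⁻¹, h k k.2⟩ : ↥K'))
  intro a b hab
  have := congrArg Subtype.val hab
  simp only [mul_left_inj, mul_right_inj] at this
  exact Subtype.ext this

theorem fixG_centIn (G : Subgroup (Perm α)) (s : Perm α) (S : Finset α) :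
    fixG (centIn G s) S = centIn (fixG G S) s := by
  ext k
  simp only [mem_fixG, mem_centIn]
  tauto

theorem card_fixG_centIn_le {g s s' : Perm α} {S S' : Finset α} (hg : g ∈ G)
    (hconj : g * s = s' * g) (hS : ∀ a ∈ S, g a ∈ S') (hcard : S'.card ≤ S.card) :
    Nat.card (fixG (centIn G s) S) ≤ Nat.card (fixG (centIn G s') S') := by
  have himg : S.image g = S' := image_eq_of_maps hS hcard
  apply card_le_of_conj g
  intro k hk
  obtain ⟨⟨hkG, hks⟩, hkS⟩ := hk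
  refine ⟨⟨G.mul_mem (G.mul_mem hg hkG) (G.inv_mem hg), ?_⟩, ?_⟩
  · have e1 : g⁻¹ * s' = s * g⁻¹ := by
      calc g⁻¹ * s' = g⁻¹ * (s' * g) * g⁻¹ := by group
        _ = g⁻¹ * (g * s) * g⁻¹ := by rw [hconj]
        _ = s * g⁻¹ := by group
    calc g * k * g⁻¹ * s' = g * k * (g⁻¹ * s') := by group
      _ = g * k * (s * g⁻¹) := by rw [e1]
      _ = g * (k * s) * g⁻¹ := by group
      _ = g * (s * k) * g⁻¹ := by rw [hks]
      _ = (g * s) * k * g⁻¹ := by group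
      _ = (s' * g) * k * g⁻¹ := by rw [hconj]
      _ = s' * (g * k * g⁻¹) := by group
  · intro a' ha'
    rw [← himg] at ha'
    obtain ⟨a, ha, rfl⟩ := Finset.mem_image.mp ha'
    simp only [Perm.mul_apply]
    rw [hc_inv_app, hkS a ha]

theorem card_fixG_centIn_conj {g s s' : Perm α} {S S' : Finset α} (hg : g ∈ G)
    (hconj : g * s = s' * g) (hS : ∀ a ∈ S, g a ∈ S') (hcard : S'.card = S.card) :
    Nat.card (fixG (centIn G s) S) = Nat.card (fixG (centIn G s') S') := by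
  apply le_antisymm (card_fixG_centIn_le hg hconj hS hcard.le)
  have himg : S.image g = S' := image_eq_of_maps hS hcard.le
  refine card_fixG_centIn_le (G.inv_mem hg) ?_ ?_ hcard.symm.le
  · calc g⁻¹ * s' = g⁻¹ * (s' * g) * g⁻¹ := by group
      _ = g⁻¹ * (g * s) * g⁻¹ := by rw [hconj]
      _ = s * g⁻¹ := by group
  · intro a' ha'
    rw [← himg] at ha'
    obtain ⟨a, ha, rfl⟩ := Finset.mem_image.mp ha'
    rw [hc_inv_app]
    exact ha

/-- double-transposition configuration -/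
structure DT (G : Subgroup (Perm α)) (s : Perm α) (c1 c2 c3 c4 : α) : Prop where
  hs : s ∈ G
  hss : s * s = 1
  c12 : c1 ≠ c2
  c13 : c1 ≠ c3
  c14 : c1 ≠ c4
  c23 : c2 ≠ c3
  c24 : c2 ≠ c4
  c34 : c3 ≠ c4
  s1 : s c1 = c2
  s3 : s c3 = c4

theorem DT.s2 {s : Perm α} {c1 c2 c3 c4 : α} (h : DT G s c1 c2 c3 c4) : s c2 = c1 := by
  rw [← h.s1]; exact invol_apply h.hss c1

theorem DT.s4 {s : Perm α} {c1 c2 c3 c4 : α} (h : DT G s c1 c2 c3 c4) : s c4 = c3 := by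
  rw [← h.s3]; exact invol_apply h.hss c3

theorem DT.card {s : Perm α} {c1 c2 c3 c4 : α} (h : DT G s c1 c2 c3 c4) :
    ({c1, c2, c3, c4} : Finset α).card = 4 := by
  rw [Finset.card_insert_of_notMem, Finset.card_insert_of_notMem, Finset.card_pair h.c34]
  · simp [h.c23, h.c24]
  · simp [h.c12, h.c13, h.c14]

/-- the centralizer order `α` does not depend on the double-transposition configuration -/
theorem Hyp.alpha_eq (hyp : Hyp G) {s s' : Perm α} {c1 c2 c3 c4 d1 d2 d3 d4 : α}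
    (h : DT G s c1 c2 c3 c4) (h' : DT G s' d1 d2 d3 d4) :
    Nat.card (fixG (centIn G s) {c1, c2, c3, c4}) = Nat.card (fixG (centIn G s') {d1, d2, d3, d4}) := by
  obtain ⟨g₀, hg₀, g1, g2, g3, g4⟩ := ext4 hyp.hE h.c12 h.c13 h.c14 h.c23 h.c24 h.c34
    h'.c12 h'.c13 h'.c14 h'.c23 h'.c24 h'.c34
  have hag : ∀ c ∈ ({c1, c2, c3, c4} : Finset α), g₀ (s c) = s' (g₀ c) := by
    intro c hc
    simp only [Finset.mem_insert, Finset.mem_singleton] at hc
    rcases hc with rfl | rfl | rfl | rfl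
    · rw [h.s1, g2, g1, h'.s1]
    · rw [h.s2, g1, g2, h'.s2]
    · rw [h.s3, g4, g3, h'.s3]
    · rw [h.s4, g3, g4, h'.s4]
  obtain ⟨g, hg, hgΔ, hgs, -⟩ := hyp.transport h.hs h'.hs h.hss h'.hss (by rw [h.card]) hg₀ hag
  apply card_fixG_centIn_conj hg hgs
  · intro a ha
    rw [hgΔ a ha]
    simp only [Finset.mem_insert, Finset.mem_singleton] at ha
    rcases ha with rfl | rfl | rfl | rfl
    · rw [g1]; simp
    · rw [g2]; simp
    · rw [g3]; simp
    · rw [g4]; simp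
  · rw [h.card, h'.card]

end Cfsg.Agent.Lib.Helper61.HM
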