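import Mathlib
import Cfsg.Agent.Lib.Helper61.HM2

namespace Cfsg.Agent.Lib.Helper61.HM

open Equiv Equiv.Perm Cfsg.Agent.Lib.Helper61.Miller Cfsg.Agent.Lib.Helper61.KAlt
  Cfsg.Agent.Lib.Helper61.LW Cfsg.Agent.Lib.Helper61.HC

set_option linter.unusedSectionVars false
set_option linter.unusedVariables false
variable {α : Type*} [Fintype α] [DecidableEq α]
variable {G : Subgroup (Perm α)}

/-- conjugacy of double-transposition configurations -/
theorem Hyp.dt_conj (hyp : Hyp G) {s s' : Perm α} {c1 c2 c3 c4 d1 d2 d3 d4 : α}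
    (h : DT G s c1 c2 c3 c4) (h' : DT G s' d1 d2 d3 d4) :
    ∃ g ∈ G, g * s = s' * g ∧ g c1 = d1 ∧ g c2 = d2 ∧ g c3 = d3 ∧ g c4 = d4 := by
  obtain ⟨g₀, hg₀, g1, g2, g3, g4⟩ := ext4 hyp.hE h.c12 h.c13 h.c14 h.c23 h.c24 h.c34
    h'.c12 h'.c13 h'.c14 h'.c23 h'.c24 h'.c34
  have hag : ∀ c ∈ ({c1, c2, c3, c4} : Finset α), g₀ (s c) = s' (g₀ c) := by
    intro c hc
    simp only [Finset.mem_insert, Finset.mem_singleton] at hc
    rcases hc with rfl | rfl | rfl | rfl
    · rw [h.s1, g2, g1, h'.s1]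
    · rw [h.s2, g1, g2, h'.s2]
    · rw [h.s3, g4, g3, h'.s3]
    · rw [h.s4, g3, g4, h'.s4]
  obtain ⟨g, hg, hgΔ, hgs, -⟩ := hyp.transport h.hs h'.hs h.hss h'.hss (by rw [h.card]) hg₀ hag
  refine ⟨g, hg, hgs, ?_, ?_, ?_, ?_⟩
  · rw [hgΔ c1 (by simp), g1]
  · rw [hgΔ c2 (by simp), g2]
  · rw [hgΔ c3 (by simp), g3]
  · rw [hgΔ c4 (by simp), g4]

theorem card_fixS_conj {g s s' : Perm α} (h : g * s = s' * g) :
    (fixS s').card = (fixS s).card := by
  have : (fixS s).image g = fixS s' := by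
    ext c
    rw [Finset.mem_image, mem_fixS]
    constructor
    · rintro ⟨b, hb, rfl⟩
      rw [mem_fixS] at hb
      have := congrArg (fun f : Perm α => f b) h
      simp only [Perm.mul_apply] at this
      rw [← this, hb]
    · intro hc
      refine ⟨g⁻¹ c, ?_, hc_app_inv g c⟩
      rw [mem_fixS]
      have := congrArg (fun f : Perm α => f (g⁻¹ c)) h
      simp only [Perm.mul_apply] at this
      rw [hc_app_inv, hc] at this
      apply g.injective
      rw [this, hc_app_inv]
  rw [← this, Finset.card_image_of_injective _ g.injective]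

/-- the basic configuration: a four-group `⟨x, y⟩` acting on four points -/
structure Conf (G : Subgroup (Perm α)) (x y : Perm α) (p1 p2 p3 p4 : α) : Prop where
  h12 : p1 ≠ p2
  h13 : p1 ≠ p3
  h14 : p1 ≠ p4
  h23 : p2 ≠ p3
  h24 : p2 ≠ p4
  h34 : p3 ≠ p4
  hx : x ∈ G
  hy : y ∈ G
  hxx : x * x = 1
  hyy : y * y = 1
  hxy : x * y = y * x
  x1 : x p1 = p1
  x2 : x p2 = p2
  x3 : x p3 = p4
  x4 : x p4 = p3
  y1 : y p1 = p2
  y2 : y p2 = p1
  y3 : y p3 = p3
  y4 : y p4 = p4

variable {x y : Perm α} {p1 p2 p3 p4 : α}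

theorem Conf.xy_app (C : Conf G x y p1 p2 p3 p4) (c : α) : x (y c) = y (x c) := by
  have := congrArg (fun f : Perm α => f c) C.hxy
  simpa [Perm.mul_apply] using this

theorem Conf.ha (C : Conf G x y p1 p2 p3 p4) : x * y ∈ G := G.mul_mem C.hx C.hy

theorem Conf.haa (C : Conf G x y p1 p2 p3 p4) : (x * y) * (x * y) = 1 :=
  invol_mul C.hxx C.hyy C.hxy

theorem Conf.a_app (C : Conf G x y p1 p2 p3 p4) (c : α) : (x * y) c = x (y c) := rfl

theorem Conf.x_ne_one (C : Conf G x y p1 p2 p3 p4) : x ≠ 1 := by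
  intro h
  have := C.x3
  rw [h] at this
  exact C.h34 this

theorem Conf.y_ne_one (C : Conf G x y p1 p2 p3 p4) : y ≠ 1 := by
  intro h
  have := C.y1
  rw [h] at this
  exact C.h12 this

theorem Conf.a_ne_one (C : Conf G x y p1 p2 p3 p4) : x * y ≠ 1 := by
  intro h
  have : (x * y) p1 = p2 := by rw [C.a_app, C.y1, C.x2]
  rw [h] at this
  exact C.h12 this

theorem Conf.dt_a (C : Conf G x y p1 p2 p3 p4) : DT G (x * y) p1 p2 p3 p4 :=
  ⟨C.ha, C.haa, C.h12, C.h13, C.h14, C.h23, C.h24, C.h34,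
    by rw [C.a_app, C.y1, C.x2], by rw [C.a_app, C.y3, C.x3]⟩

/-- a fixed point of `x` is `p1`, `p2` or a fixed point of `y` -/
theorem Conf.fx_cases (C : Conf G x y p1 p2 p3 p4) (hyp : Hyp G) {p : α} (hp : x p = p) :
    p = p1 ∨ p = p2 ∨ y p = p := by
  by_contra hcon
  push Not at hcon
  obtain ⟨n1, n2, n3⟩ := hcon
  have hyp' : x (y p) = y p := by rw [C.xy_app, hp]
  have k1 : y p ≠ p1 := by
    intro h
    have := congrArg y h
    rw [invol_apply C.hyy, C.y1] at this
    exact n2 this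
  have k2 : y p ≠ p2 := by
    intro h
    have := congrArg y h
    rw [invol_apply C.hyy, C.y2] at this
    exact n1 this
  have hsub : ({p1, p2, p, y p} : Finset α) ⊆ fixS x := by
    intro c hc
    simp only [Finset.mem_insert, Finset.mem_singleton] at hc
    rw [mem_fixS]
    rcases hc with rfl | rfl | rfl | rfl
    · exact C.x1
    · exact C.x2
    · exact hp
    · exact hyp'
  have hcard : ({p1, p2, p, y p} : Finset α).card = 4 := by
    rw [Finset.card_insert_of_notMem, Finset.card_insert_of_notMem, Finset.card_pair n3.symm]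
    · simp [Ne.symm n2, Ne.symm k2]
    · simp [C.h12, Ne.symm n1, Ne.symm k1]
  have := Finset.card_le_card hsub
  have := hyp.fix_le_three C.hx C.hxx C.x_ne_one
  omega

/-- a fixed point of `y` is `p3`, `p4` or a fixed point of `x` -/
theorem Conf.fy_cases (C : Conf G x y p1 p2 p3 p4) (hyp : Hyp G) {p : α} (hp : y p = p) :
    p = p3 ∨ p = p4 ∨ x p = p := by
  by_contra hcon
  push Not at hcon
  obtain ⟨n1, n2, n3⟩ := hcon
  have hyp' : y (x p) = x p := by rw [← C.xy_app, hp]
  have k1 : x p ≠ p3 := by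
    intro h
    have := congrArg x h
    rw [invol_apply C.hxx, C.x3] at this
    exact n2 this
  have k2 : x p ≠ p4 := by
    intro h
    have := congrArg x h
    rw [invol_apply C.hxx, C.x4] at this
    exact n1 this
  have hsub : ({p3, p4, p, x p} : Finset α) ⊆ fixS y := by
    intro c hc
    simp only [Finset.mem_insert, Finset.mem_singleton] at hc
    rw [mem_fixS]
    rcases hc with rfl | rfl | rfl | rfl
    · exact C.y3
    · exact C.y4
    · exact hp
    · exact hyp'
  have hcard : ({p3, p4, p, x p} : Finset α).card = 4 := by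
    rw [Finset.card_insert_of_notMem, Finset.card_insert_of_notMem, Finset.card_pair n3.symm]
    · simp [Ne.symm n2, Ne.symm k2]
    · simp [C.h34, Ne.symm n1, Ne.symm k1]
  have := Finset.card_le_card hsub
  have := hyp.fix_le_three C.hy C.hyy C.y_ne_one
  omega

theorem Conf.fx_eq (C : Conf G x y p1 p2 p3 p4) (hyp : Hyp G) :
    fixS x = insert p1 (insert p2 (fixS x ∩ fixS y)) := by
  ext p
  simp only [Finset.mem_insert, Finset.mem_inter, mem_fixS]
  constructor
  · intro hp
    rcases C.fx_cases hyp hp with h | h | h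
    · exact Or.inl h
    · exact Or.inr (Or.inl h)
    · exact Or.inr (Or.inr ⟨hp, h⟩)
  · rintro (rfl | rfl | ⟨h, -⟩)
    · exact C.x1
    · exact C.x2
    · exact h

theorem Conf.fy_eq (C : Conf G x y p1 p2 p3 p4) (hyp : Hyp G) :
    fixS y = insert p3 (insert p4 (fixS x ∩ fixS y)) := by
  ext p
  simp only [Finset.mem_insert, Finset.mem_inter, mem_fixS]
  constructor
  · intro hp
    rcases C.fy_cases hyp hp with h | h | h
    · exact Or.inl h
    · exact Or.inr (Or.inl h)
    · exact Or.inr (Or.inr ⟨h, hp⟩)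
  · rintro (rfl | rfl | ⟨-, h⟩)
    · exact C.y3
    · exact C.y4
    · exact h

theorem Conf.card_fx (C : Conf G x y p1 p2 p3 p4) (hyp : Hyp G) :
    (fixS x).card = (fixS x ∩ fixS y).card + 2 := by
  have h1 : p2 ∉ fixS x ∩ fixS y := by
    simp only [Finset.mem_inter, mem_fixS, not_and]
    intro _ h
    rw [C.y2] at h
    exact C.h12 h
  have h2 : p1 ∉ insert p2 (fixS x ∩ fixS y) := by
    simp only [Finset.mem_insert, Finset.mem_inter, mem_fixS, not_or, not_and]
    refine ⟨C.h12, fun _ h => ?_⟩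
    rw [C.y1] at h
    exact C.h12 h.symm
  conv_lhs => rw [C.fx_eq hyp]
  rw [Finset.card_insert_of_notMem h2, Finset.card_insert_of_notMem h1]

theorem Conf.card_fy (C : Conf G x y p1 p2 p3 p4) (hyp : Hyp G) :
    (fixS y).card = (fixS x ∩ fixS y).card + 2 := by
  have h1 : p4 ∉ fixS x ∩ fixS y := by
    simp only [Finset.mem_inter, mem_fixS, not_and]
    intro h _
    rw [C.x4] at h
    exact C.h34 h
  have h2 : p3 ∉ insert p4 (fixS x ∩ fixS y) := by
    simp only [Finset.mem_insert, Finset.mem_inter, mem_fixS, not_or, not_and]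
    refine ⟨C.h34, fun h _ => ?_⟩
    rw [C.x3] at h
    exact C.h34 h.symm
  conv_lhs => rw [C.fy_eq hyp]
  rw [Finset.card_insert_of_notMem h2, Finset.card_insert_of_notMem h1]

/-- `x y` has as many fixed points as `x` -/
theorem Conf.card_fa (C : Conf G x y p1 p2 p3 p4) (hyp : Hyp G) (hn : 6 ≤ Fintype.card α) :
    (fixS (x * y)).card = (fixS x).card := by
  classical
  have h3 := hyp.fix_le_three C.hx C.hxx C.x_ne_one
  have hlt : (fixS x ∪ {p3, p4}).card < (Finset.univ : Finset α).card := by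
    have h1 := Finset.card_union_le (fixS x) {p3, p4}
    have h2 : ({p3, p4} : Finset α).card ≤ 2 := Finset.card_le_two
    rw [Finset.card_univ]
    omega
  obtain ⟨e, -, he⟩ := Finset.exists_mem_notMem_of_card_lt_card hlt
  simp only [Finset.mem_union, mem_fixS, Finset.mem_insert, Finset.mem_singleton, not_or] at he
  obtain ⟨he1, he3, he4⟩ := he
  have k3 : x e ≠ p3 := by
    intro h
    have := congrArg x h
    rw [invol_apply C.hxx, C.x3] at this
    exact he4 this
  have k4 : x e ≠ p4 := by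
    intro h
    have := congrArg x h
    rw [invol_apply C.hxx, C.x4] at this
    exact he3 this
  have hdt : DT G x p3 p4 e (x e) :=
    ⟨C.hx, C.hxx, C.h34, Ne.symm he3, Ne.symm k3, Ne.symm he4, Ne.symm k4, Ne.symm he1, C.x3, rfl⟩
  obtain ⟨g, hg, hgs, -⟩ := hyp.dt_conj hdt C.dt_a
  exact card_fixS_conj hgs

theorem Conf.fa_inter (C : Conf G x y p1 p2 p3 p4) :
    (fixS x ∪ fixS y) ∩ fixS (x * y) = fixS x ∩ fixS y := by
  ext p
  simp only [Finset.mem_inter, Finset.mem_union, mem_fixS, C.a_app]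
  constructor
  · rintro ⟨h | h, ha⟩
    · refine ⟨h, ?_⟩
      rw [C.xy_app, h] at ha
      exact ha
    · refine ⟨?_, h⟩
      rw [h] at ha
      exact ha
  · rintro ⟨h1, h2⟩
    exact ⟨Or.inl h1, by rw [h2, h1]⟩

/-- the points in regular orbits of the four-group -/
def regE (x y : Perm α) : Finset α :=
  Finset.univ.filter (fun e => x e ≠ e ∧ y e ≠ e ∧ (x * y) e ≠ e)

theorem mem_regE {x y : Perm α} {e : α} :
    e ∈ regE x y ↔ x e ≠ e ∧ y e ≠ e ∧ (x * y) e ≠ e := by
  simp only [regE, Finset.mem_filter, Finset.mem_univ, true_and]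

theorem Conf.card_regE (C : Conf G x y p1 p2 p3 p4) (hyp : Hyp G) (hn : 6 ≤ Fintype.card α) :
    (regE x y).card + (fixS x).card + 4 = Fintype.card α := by
  have hE : regE x y = (fixS x ∪ fixS y ∪ fixS (x * y))ᶜ := by
    ext e
    simp only [mem_regE, Finset.mem_compl, Finset.mem_union, mem_fixS, not_or]
    tauto
  have h1 := Finset.card_union_add_card_inter (fixS x) (fixS y)
  have h2 := Finset.card_union_add_card_inter (fixS x ∪ fixS y) (fixS (x * y))
  rw [C.fa_inter] at h2
  have h3 := C.card_fx hyp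
  have h4 := C.card_fy hyp
  have h5 := C.card_fa hyp hn
  have h6 : (fixS x ∪ fixS y ∪ fixS (x * y)).card ≤ Fintype.card α := Finset.card_le_univ _
  rw [hE, Finset.card_compl]
  omega

end Cfsg.Agent.Lib.Helper61.HM
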