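import Mathlib
import Cfsg.Agent.Lib.Helper61.HM3

namespace Cfsg.Agent.Lib.Helper61.HM

open Equiv Equiv.Perm Cfsg.Agent.Lib.Helper61.Miller Cfsg.Agent.Lib.Helper61.KAlt
  Cfsg.Agent.Lib.Helper61.LW Cfsg.Agent.Lib.Helper61.HC

set_option linter.unusedSectionVars false
set_option linter.unusedVariables false
variable {α : Type*} [Fintype α] [DecidableEq α]
variable {G : Subgroup (Perm α)}

theorem comm_app {k s : Perm α} (h : k * s = s * k) (c : α) : k (s c) = s (k c) := by
  have := congrArg (fun f : Perm α => f c) h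
  simpa [Perm.mul_apply] using this

theorem card_moved (s : Perm α) :
    (Finset.univ.filter (fun c => s c ≠ c)).card = Fintype.card α - (fixS s).card := by
  have h := Finset.card_filter_add_card_filter_not (s := (Finset.univ : Finset α))
    (fun c => s c = c)
  rw [Finset.card_univ] at h
  have h2 : (fixS s).card = (Finset.univ.filter (fun c => s c = c)).card := rfl
  show (Finset.univ.filter (fun c => ¬ s c = c)).card = _
  omega

/-- first orbit count: the centralizer of `s` in the stabilizer of a `2`-cycle -/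
theorem Hyp.count1 (hyp : Hyp G) {s : Perm α} (hs : s ∈ G) (hss : s * s = 1) {c1 c2 e : α}
    (hc : s c1 = c2) (hc12 : c1 ≠ c2) (he : s e ≠ e) (he1 : e ≠ c1) (he2 : e ≠ c2) :
    Nat.card (fixG (centIn G s) {c1, c2}) =
      (Fintype.card α - (fixS s).card - 2) * Nat.card (fixG (centIn G s) {c1, c2, e, s e}) := by
  classical
  have hc2 : s c2 = c1 := by rw [← hc]; exact invol_apply hss c1
  have heΓ : e ∉ ({c1, c2} : Finset α) := by simp [he1, he2]
  have hm := orbit_mul (G := centIn G s) heΓ
  have hA : fixG (centIn G s) (insert e {c1, c2}) = fixG (centIn G s) {c1, c2, e, s e} := by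
    ext k
    simp only [mem_fixG, Finset.mem_insert, Finset.mem_singleton]
    constructor
    · rintro ⟨hk, hfix⟩
      refine ⟨hk, fun a ha => ?_⟩
      rcases ha with rfl | rfl | rfl | rfl
      · exact hfix _ (Or.inr (Or.inl rfl))
      · exact hfix _ (Or.inr (Or.inr rfl))
      · exact hfix _ (Or.inl rfl)
      · rw [comm_app hk.2, hfix _ (Or.inl rfl)]
    · rintro ⟨hk, hfix⟩
      refine ⟨hk, fun a ha => ?_⟩
      rcases ha with rfl | rfl | rfl
      · exact hfix _ (Or.inr (Or.inr (Or.inl rfl)))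
      · exact hfix _ (Or.inl rfl)
      · exact hfix _ (Or.inr (Or.inl rfl))
  have hse1 : s e ≠ c1 := by
    intro h
    have := congrArg s h
    rw [invol_apply hss, hc] at this
    exact he2 this
  have hse2 : s e ≠ c2 := by
    intro h
    have := congrArg s h
    rw [invol_apply hss, hc2] at this
    exact he1 this
  have hdt : DT G s c1 c2 e (s e) :=
    ⟨hs, hss, hc12, Ne.symm he1, Ne.symm hse1, Ne.symm he2, Ne.symm hse2, Ne.symm he, hc, rfl⟩
  have hB : orbF (fixG (centIn G s) {c1, c2}) e
      = (Finset.univ.filter (fun c => s c ≠ c)) \ {c1, c2} := by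
    ext c
    rw [mem_orbF_iff, Finset.mem_sdiff, Finset.mem_filter]
    constructor
    · rintro ⟨k, hk, rfl⟩
      refine ⟨⟨Finset.mem_univ _, ?_⟩, fixG_notin hk heΓ⟩
      rw [← comm_app hk.1.2]
      exact fun h => he (k.injective h)
    · rintro ⟨⟨-, hcm⟩, hcΓ⟩
      simp only [Finset.mem_insert, Finset.mem_singleton, not_or] at hcΓ
      obtain ⟨hcc1, hcc2⟩ := hcΓ
      have hsc1 : s c ≠ c1 := by
        intro h
        have := congrArg s h
        rw [invol_apply hss, hc] at this
        exact hcc2 this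
      have hsc2 : s c ≠ c2 := by
        intro h
        have := congrArg s h
        rw [invol_apply hss, hc2] at this
        exact hcc1 this
      have hdt' : DT G s c1 c2 c (s c) :=
        ⟨hs, hss, hc12, Ne.symm hcc1, Ne.symm hsc1, Ne.symm hcc2, Ne.symm hsc2, Ne.symm hcm, hc, rfl⟩
      obtain ⟨g, hg, hgs, g1, g2, g3, -⟩ := hyp.dt_conj hdt hdt'
      refine ⟨g, ⟨⟨hg, hgs⟩, fun a ha => ?_⟩, g3⟩
      simp only [Finset.mem_insert, Finset.mem_singleton] at ha
      rcases ha with rfl | rfl
      · exact g1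
      · exact g2
  have hsub : ({c1, c2} : Finset α) ⊆ Finset.univ.filter (fun c => s c ≠ c) := by
    intro a ha
    simp only [Finset.mem_insert, Finset.mem_singleton] at ha
    rw [Finset.mem_filter]
    refine ⟨Finset.mem_univ _, ?_⟩
    rcases ha with rfl | rfl
    · rw [hc]; exact hc12.symm
    · rw [hc2]; exact hc12
  have hcardB : (orbF (fixG (centIn G s) {c1, c2}) e).card
      = Fintype.card α - (fixS s).card - 2 := by
    rw [hB, Finset.card_sdiff_of_subset hsub, card_moved, Finset.card_pair hc12]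
  rw [hA, hcardB] at hm
  rw [← hm, mul_comm]

/-- second orbit count: the action on the fixed points of `s` -/
theorem count2 {s : Perm α} {S : Finset α} {d1 d2 : α} (hd1 : s d1 = d1) (hd2 : s d2 = d2)
    (hd12 : d1 ≠ d2) (hd1S : d1 ∉ S) (hd2S : d2 ∉ S) :
    ∃ o₁ o₂ : ℕ, o₁ ≤ (fixS s).card ∧ o₂ + 1 ≤ (fixS s).card ∧
      Nat.card (fixG (centIn G s) S)
        = o₁ * o₂ * Nat.card (fixG (centIn G s) (insert d2 (insert d1 S))) := by
  classical
  have hm1 := orbit_mul (G := centIn G s) hd1S
  have hd2S' : d2 ∉ insert d1 S := by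
    simp only [Finset.mem_insert, not_or]
    exact ⟨hd12.symm, hd2S⟩
  have hm2 := orbit_mul (G := centIn G s) hd2S'
  have hsub1 : orbF (fixG (centIn G s) S) d1 ⊆ fixS s := by
    intro c hc
    rw [mem_orbF_iff] at hc
    obtain ⟨k, hk, rfl⟩ := hc
    rw [mem_fixS, ← comm_app hk.1.2, hd1]
  have hsub2 : orbF (fixG (centIn G s) (insert d1 S)) d2 ⊆ (fixS s).erase d1 := by
    intro c hc
    rw [mem_orbF_iff] at hc
    obtain ⟨k, hk, rfl⟩ := hc
    rw [Finset.mem_erase, mem_fixS, ← comm_app hk.1.2, hd2]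
    refine ⟨?_, rfl⟩
    intro h
    have h1 : k d1 = d1 := hk.2 d1 (Finset.mem_insert_self _ _)
    rw [← h1] at h
    exact hd12 (k.injective h).symm
  have hc1 := Finset.card_le_card hsub1
  have hc2 := Finset.card_le_card hsub2
  rw [Finset.card_erase_of_mem (mem_fixS.mpr hd1)] at hc2
  have hpos : 0 < (fixS s).card := Finset.card_pos.mpr ⟨d1, mem_fixS.mpr hd1⟩
  refine ⟨(orbF (fixG (centIn G s) S) d1).card,
    (orbF (fixG (centIn G s) (insert d1 S)) d2).card, hc1, by omega, ?_⟩
  rw [← hm1, ← hm2]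
  ring

end Cfsg.Agent.Lib.Helper61.HM
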