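import Mathlib
import Cfsg.Agent.Lib.Helper61.HM4

namespace Cfsg.Agent.Lib.Helper61.HM

open Equiv Equiv.Perm Cfsg.Agent.Lib.Helper61.Miller Cfsg.Agent.Lib.Helper61.KAlt
  Cfsg.Agent.Lib.Helper61.LW Cfsg.Agent.Lib.Helper61.HC

set_option linter.unusedSectionVars false
set_option linter.unusedVariables false
variable {α : Type*} [Fintype α] [DecidableEq α]
variable {G : Subgroup (Perm α)} {x y : Perm α} {p1 p2 p3 p4 : α}

theorem Conf.x_mem_cv (C : Conf G x y p1 p2 p3 p4) : x ∈ centIn (centIn G x) y :=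
  ⟨⟨C.hx, rfl⟩, C.hxy⟩

theorem Conf.y_mem_cv (C : Conf G x y p1 p2 p3 p4) : y ∈ centIn (centIn G x) y :=
  ⟨⟨C.hy, C.hxy.symm⟩, rfl⟩

/-- third count: the centralizer of the four-group acting on `p1, …, p4` -/
theorem Conf.count3 (C : Conf G x y p1 p2 p3 p4) (hyp : Hyp G) :
    Nat.card (centIn (centIn G x) y)
      = 4 * Nat.card (fixG (centIn (centIn G x) y) {p1, p2, p3, p4}) := by
  classical
  have hm1 := orbit_mul (G := centIn (centIn G x) y) (Γ := ∅) (ω := p1) (by simp)
  have hm2 := orbit_mul (G := centIn (centIn G x) y) (Γ := {p1}) (ω := p3)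
    (by simp [C.h13.symm])
  rw [fixG_empty] at hm1
  have hins : (insert p1 ∅ : Finset α) = {p1} := rfl
  rw [hins] at hm1
  have hO1 : orbF (fixG (centIn (centIn G x) y) ∅) p1 = {p1, p2} := by
    ext c
    rw [mem_orbF_iff, Finset.mem_insert, Finset.mem_singleton]
    constructor
    · rintro ⟨k, hk, rfl⟩
      have hkx : k * x = x * k := hk.1.1.2
      have hky : k * y = y * k := hk.1.2
      have h1 : x (k p1) = k p1 := by rw [← comm_app hkx, C.x1]
      rcases C.fx_cases hyp h1 with h | h | h
      · exact Or.inl h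
      · exact Or.inr h
      · exfalso
        rw [← comm_app hky, C.y1] at h
        exact C.h12 (k.injective h).symm
    · rintro (rfl | rfl)
      · exact ⟨1, (fixG _ _).one_mem, rfl⟩
      · exact ⟨y, ⟨C.y_mem_cv, fun a ha => by simp at ha⟩, C.y1⟩
  have hO2 : orbF (fixG (centIn (centIn G x) y) {p1}) p3 = {p3, p4} := by
    ext c
    rw [mem_orbF_iff, Finset.mem_insert, Finset.mem_singleton]
    constructor
    · rintro ⟨k, hk, rfl⟩
      have hkx : k * x = x * k := hk.1.1.2
      have hky : k * y = y * k := hk.1.2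
      have h1 : y (k p3) = k p3 := by rw [← comm_app hky, C.y3]
      rcases C.fy_cases hyp h1 with h | h | h
      · exact Or.inl h
      · exact Or.inr h
      · exfalso
        rw [← comm_app hkx, C.x3] at h
        exact C.h34 (k.injective h).symm
    · rintro (rfl | rfl)
      · exact ⟨1, (fixG _ _).one_mem, rfl⟩
      · refine ⟨x, ⟨C.x_mem_cv, fun a ha => ?_⟩, C.x3⟩
        rw [Finset.mem_singleton] at ha
        rw [ha, C.x1]
  have hA : fixG (centIn (centIn G x) y) (insert p3 {p1})
      = fixG (centIn (centIn G x) y) {p1, p2, p3, p4} := by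
    ext k
    simp only [mem_fixG, Finset.mem_insert, Finset.mem_singleton]
    constructor
    · rintro ⟨hk, hfix⟩
      have hkx : k * x = x * k := hk.1.2
      have hky : k * y = y * k := hk.2
      refine ⟨hk, fun a ha => ?_⟩
      rcases ha with rfl | rfl | rfl | rfl
      · exact hfix _ (Or.inr rfl)
      · rw [← C.y1, comm_app hky, hfix _ (Or.inr rfl)]
      · exact hfix _ (Or.inl rfl)
      · rw [← C.x3, comm_app hkx, hfix _ (Or.inl rfl)]
    · rintro ⟨hk, hfix⟩
      refine ⟨hk, fun a ha => ?_⟩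
      rcases ha with rfl | rfl
      · exact hfix _ (Or.inr (Or.inr (Or.inl rfl)))
      · exact hfix _ (Or.inl rfl)
  rw [fixG_empty] at hO1
  rw [hO1, Finset.card_pair C.h12] at hm1
  rw [hO2, Finset.card_pair C.h34, hA] at hm2
  rw [← hm1, ← hm2]
  ring

theorem Conf.regE_distinct (C : Conf G x y p1 p2 p3 p4) {e : α} (he : e ∈ regE x y) :
    e ≠ x e ∧ e ≠ y e ∧ e ≠ x (y e) ∧ x e ≠ y e ∧ x e ≠ x (y e) ∧ y e ≠ x (y e) := by
  rw [mem_regE] at he
  obtain ⟨h1, h2, h3⟩ := he
  refine ⟨Ne.symm h1, Ne.symm h2, Ne.symm h3, ?_, ?_, ?_⟩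
  · intro h
    apply h3
    rw [C.a_app, ← h, invol_apply C.hxx]
  · intro h
    exact h2 (x.injective h).symm
  · intro h
    rw [C.xy_app] at h
    exact h1 (y.injective h).symm

/-- fourth count: the centralizer of the four-group is transitive on the regular points -/
theorem Conf.count4 (C : Conf G x y p1 p2 p3 p4) (hyp : Hyp G) {e : α} (he : e ∈ regE x y) :
    Nat.card (centIn (centIn G x) y)
      = (regE x y).card * Nat.card (fixG (centIn (centIn G x) y) {e, x e, y e, x (y e)}) := by
  classical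
  have hm := orbit_mul (G := centIn (centIn G x) y) (Γ := ∅) (ω := e) (by simp)
  rw [fixG_empty] at hm
  have hA : fixG (centIn (centIn G x) y) (insert e ∅)
      = fixG (centIn (centIn G x) y) {e, x e, y e, x (y e)} := by
    ext k
    simp only [mem_fixG, Finset.mem_insert, Finset.mem_singleton, Finset.notMem_empty, or_false]
    constructor
    · rintro ⟨hk, hfix⟩
      have hkx : k * x = x * k := hk.1.2
      have hky : k * y = y * k := hk.2
      have hke : k e = e := hfix e rfl
      refine ⟨hk, fun a ha => ?_⟩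
      rcases ha with rfl | rfl | rfl | rfl
      · exact hke
      · rw [comm_app hkx, hke]
      · rw [comm_app hky, hke]
      · rw [comm_app hkx, comm_app hky, hke]
    · rintro ⟨hk, hfix⟩
      refine ⟨hk, fun a ha => ?_⟩
      rw [ha]
      exact hfix _ (Or.inl rfl)
  have hO : orbF (fixG (centIn (centIn G x) y) ∅) e = regE x y := by
    ext c
    rw [mem_orbF_iff]
    constructor
    · rintro ⟨k, hk, rfl⟩
      have hkx : k * x = x * k := hk.1.1.2
      have hky : k * y = y * k := hk.1.2
      rw [mem_regE] at he ⊢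
      obtain ⟨h1, h2, h3⟩ := he
      refine ⟨?_, ?_, ?_⟩
      · rw [← comm_app hkx]
        exact fun h => h1 (k.injective h)
      · rw [← comm_app hky]
        exact fun h => h2 (k.injective h)
      · rw [C.a_app, ← comm_app hky, ← comm_app hkx]
        exact fun h => h3 (k.injective h)
    · intro hc
      obtain ⟨e1, e2, e3, e4, e5, e6⟩ := C.regE_distinct he
      obtain ⟨c1, c2, c3, c4, c5, c6⟩ := C.regE_distinct hc
      obtain ⟨g₀, hg₀, g1, g2, g3, g4⟩ := ext4 hyp.hE e1 e2 e3 e4 e5 e6 c1 c2 c3 c4 c5 c6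
      have hcard : 4 ≤ ({e, x e, y e, x (y e)} : Finset α).card := by
        rw [Finset.card_insert_of_notMem, Finset.card_insert_of_notMem, Finset.card_pair e6]
        · simp [e4, e5]
        · simp [e1, e2, e3]
      have hyΔ : ∀ c' ∈ ({e, x e, y e, x (y e)} : Finset α),
          y c' ∈ ({e, x e, y e, x (y e)} : Finset α) := by
        intro c' hc'
        simp only [Finset.mem_insert, Finset.mem_singleton] at hc' ⊢
        rcases hc' with rfl | rfl | rfl | rfl
        · exact Or.inr (Or.inr (Or.inl rfl))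
        · exact Or.inr (Or.inr (Or.inr (C.xy_app _).symm))
        · exact Or.inl (invol_apply C.hyy _)
        · refine Or.inr (Or.inl ?_)
          rw [← C.xy_app, invol_apply C.hyy]
      have hagx : ∀ c' ∈ ({e, x e, y e, x (y e)} : Finset α), g₀ (x c') = x (g₀ c') := by
        intro c' hc'
        simp only [Finset.mem_insert, Finset.mem_singleton] at hc'
        rcases hc' with rfl | rfl | rfl | rfl
        · rw [g2, g1]
        · rw [invol_apply C.hxx, g1, g2, invol_apply C.hxx]
        · rw [g4, g3]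
        · rw [invol_apply C.hxx, g3, g4, invol_apply C.hxx]
      have hagy : ∀ c' ∈ ({e, x e, y e, x (y e)} : Finset α), g₀ (y c') = y (g₀ c') := by
        intro c' hc'
        simp only [Finset.mem_insert, Finset.mem_singleton] at hc'
        rcases hc' with rfl | rfl | rfl | rfl
        · rw [g3, g1]
        · rw [← C.xy_app, g4, g2, C.xy_app]
        · rw [invol_apply C.hyy, g1, g3, invol_apply C.hyy]
        · rw [← C.xy_app, invol_apply C.hyy, g2, g4, ← C.xy_app, invol_apply C.hyy]
      obtain ⟨g, hg, hgΔ, hgx, hgy⟩ := hyp.transport2 C.hx C.hy C.hx C.hy C.hxx C.hyy C.hxx C.hyy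
        C.hxy C.hxy hcard hyΔ hg₀ hagx hagy
      refine ⟨g, ⟨⟨⟨hg, hgx⟩, hgy⟩, fun a ha => by simp at ha⟩, ?_⟩
      rw [hgΔ e (by simp), g1]
  rw [fixG_empty] at hO
  rw [hA, hO] at hm
  rw [← hm, mul_comm]

end Cfsg.Agent.Lib.Helper61.HM
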