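import Mathlib
import Cfsg.Agent.Lib.Helper61.HM5

namespace Cfsg.Agent.Lib.Helper61.HM

open Equiv Equiv.Perm Cfsg.Agent.Lib.Helper61.Miller Cfsg.Agent.Lib.Helper61.KAlt
  Cfsg.Agent.Lib.Helper61.LW Cfsg.Agent.Lib.Helper61.HC

set_option linter.unusedSectionVars false
set_option linter.unusedVariables false

theorem arith_core {ε J : ℕ} (hε : 0 < ε) (h : 16 * (ε + 2) ^ 2 = J * ε ^ 2) (hJ : J ≤ 36) :
    (ε = 4 ∧ J = 36) ∨ (ε = 8 ∧ J = 25) := by
  have e : (ε + 2) ^ 2 = ε ^ 2 + 4 * ε + 4 := by ring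
  rw [e] at h
  have hJ17 : 17 ≤ J := by
    by_contra hcon
    push Not at hcon
    have : J * ε ^ 2 ≤ 16 * ε ^ 2 := Nat.mul_le_mul_right _ (by omega)
    omega
  have hε64 : ε ≤ 64 := by
    by_contra hcon
    push Not at hcon
    have h1 : 17 * ε ^ 2 ≤ J * ε ^ 2 := Nat.mul_le_mul_right _ hJ17
    have h2 : 65 * ε ≤ ε * ε := Nat.mul_le_mul_right ε (by omega)
    have h3 : ε ^ 2 = ε * ε := by ring
    omega
  interval_cases ε <;> omega

theorem arith_main {Hc α βx βy w v N ε f o1 o2 o3 o4 : ℕ} (hα : 0 < α)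
    (hv : 0 < v) (hε : 0 < ε)
    (e1 : Hc * w ^ 2 = βx * βy * α) (e2 : Hc * v ^ 2 = α * α * α) (e3 : 4 * w = ε * v)
    (e4 : N * α = (o1 * o2) * βx) (e5 : N * α = (o3 * o4) * βy) (e6 : N = ε + 2)
    (hf : f ≤ 3) (h1 : o1 ≤ f) (h2 : o2 + 1 ≤ f) (h3 : o3 ≤ f) (h4 : o4 + 1 ≤ f) :
    ε = 4 ∧ f = 3 := by
  have k1 : (βx * βy * v ^ 2) * α = (α ^ 2 * w ^ 2) * α := by
    calc (βx * βy * v ^ 2) * α = (βx * βy * α) * v ^ 2 := by ring
      _ = (Hc * w ^ 2) * v ^ 2 := by rw [e1]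
      _ = (Hc * v ^ 2) * w ^ 2 := by ring
      _ = (α * α * α) * w ^ 2 := by rw [e2]
      _ = (α ^ 2 * w ^ 2) * α := by ring
  have k1' := Nat.eq_of_mul_eq_mul_right hα k1
  have k2 : (16 * βx * βy) * v ^ 2 = (α ^ 2 * ε ^ 2) * v ^ 2 := by
    calc (16 * βx * βy) * v ^ 2 = 16 * (βx * βy * v ^ 2) := by ring
      _ = 16 * (α ^ 2 * w ^ 2) := by rw [k1']
      _ = α ^ 2 * (4 * w) ^ 2 := by ring
      _ = α ^ 2 * (ε * v) ^ 2 := by rw [e3]
      _ = (α ^ 2 * ε ^ 2) * v ^ 2 := by ring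
  have k2' := Nat.eq_of_mul_eq_mul_right (pow_pos hv 2) k2
  have k3 : (16 * N ^ 2) * α ^ 2 = ((o1 * o2) * (o3 * o4) * ε ^ 2) * α ^ 2 := by
    calc (16 * N ^ 2) * α ^ 2 = 16 * ((N * α) * (N * α)) := by ring
      _ = 16 * (((o1 * o2) * βx) * ((o3 * o4) * βy)) := by rw [← e4, ← e5]
      _ = (o1 * o2) * (o3 * o4) * (16 * βx * βy) := by ring
      _ = (o1 * o2) * (o3 * o4) * (α ^ 2 * ε ^ 2) := by rw [k2']
      _ = ((o1 * o2) * (o3 * o4) * ε ^ 2) * α ^ 2 := by ring
  have k3' := Nat.eq_of_mul_eq_mul_right (pow_pos hα 2) k3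
  rw [e6] at k3'
  have b1 : o1 ≤ 3 := by omega
  have b2 : o2 ≤ 2 := by omega
  have b3 : o3 ≤ 3 := by omega
  have b4 : o4 ≤ 2 := by omega
  have hJ : (o1 * o2) * (o3 * o4) ≤ 36 :=
    Nat.mul_le_mul (Nat.mul_le_mul b1 b2) (Nat.mul_le_mul b3 b4)
  rcases arith_core hε k3' hJ with ⟨h4', hJ'⟩ | ⟨h8, hJ'⟩
  · refine ⟨h4', ?_⟩
    clear k1 k1' k2 k2' k3 k3' e1 e2 e3 e4 e5
    interval_cases o1 <;> interval_cases o2 <;> interval_cases o3 <;> interval_cases o4 <;> omega
  · exfalso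
    clear k1 k1' k2 k2' k3 k3' e1 e2 e3 e4 e5
    interval_cases o1 <;> interval_cases o2 <;> interval_cases o3 <;> interval_cases o4 <;> omega

variable {α : Type*} [Fintype α] [DecidableEq α]
variable {G : Subgroup (Perm α)} {x y : Perm α} {p1 p2 p3 p4 : α}

theorem cv_eq (G : Subgroup (Perm α)) {x : Perm α} (y : Perm α) (S : Finset α) (hxx : x * x = 1) :
    centIn (centIn (fixG G S) (x * y)) x = fixG (centIn (centIn G x) y) S := by
  ext k
  simp only [mem_centIn, mem_fixG]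
  constructor
  · rintro ⟨⟨⟨hkG, hfix⟩, hka⟩, hkx⟩
    refine ⟨⟨⟨hkG, hkx⟩, ?_⟩, hfix⟩
    have : x * (k * y) = x * (y * k) := by
      calc x * (k * y) = (x * k) * y := by group
        _ = (k * x) * y := by rw [hkx]
        _ = k * (x * y) := by group
        _ = (x * y) * k := hka
        _ = x * (y * k) := by group
    exact mul_left_cancel this
  · rintro ⟨⟨⟨hkG, hkx⟩, hky⟩, hfix⟩
    refine ⟨⟨⟨hkG, hfix⟩, ?_⟩, hkx⟩
    calc k * (x * y) = (k * x) * y := by group
      _ = (x * k) * y := by rw [hkx]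
      _ = x * (k * y) := by group
      _ = x * (y * k) := by rw [hky]
      _ = (x * y) * k := by group

theorem Conf.x_pres (C : Conf G x y p1 p2 p3 p4) :
    ∀ w ∈ ({p1, p2, p3, p4} : Finset α), x w ∈ ({p1, p2, p3, p4} : Finset α) := by
  intro w hw
  simp only [Finset.mem_insert, Finset.mem_singleton] at hw ⊢
  rcases hw with rfl | rfl | rfl | rfl
  · exact Or.inl C.x1
  · exact Or.inr (Or.inl C.x2)
  · exact Or.inr (Or.inr (Or.inr C.x3))
  · exact Or.inr (Or.inr (Or.inl C.x4))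

theorem Conf.y_pres (C : Conf G x y p1 p2 p3 p4) :
    ∀ w ∈ ({p1, p2, p3, p4} : Finset α), y w ∈ ({p1, p2, p3, p4} : Finset α) := by
  intro w hw
  simp only [Finset.mem_insert, Finset.mem_singleton] at hw ⊢
  rcases hw with rfl | rfl | rfl | rfl
  · exact Or.inr (Or.inl C.y1)
  · exact Or.inl C.y2
  · exact Or.inr (Or.inr (Or.inl C.y3))
  · exact Or.inr (Or.inr (Or.inr C.y4))

theorem Conf.x_pres' (C : Conf G x y p1 p2 p3 p4) (e : α) :
    ∀ w ∈ ({e, x e, y e, x (y e)} : Finset α), x w ∈ ({e, x e, y e, x (y e)} : Finset α) := by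
  intro w hw
  simp only [Finset.mem_insert, Finset.mem_singleton] at hw ⊢
  rcases hw with rfl | rfl | rfl | rfl
  · exact Or.inr (Or.inl rfl)
  · exact Or.inl (invol_apply C.hxx _)
  · exact Or.inr (Or.inr (Or.inr rfl))
  · exact Or.inr (Or.inr (Or.inl (invol_apply C.hxx _)))

theorem Conf.y_pres' (C : Conf G x y p1 p2 p3 p4) (e : α) :
    ∀ w ∈ ({e, x e, y e, x (y e)} : Finset α), y w ∈ ({e, x e, y e, x (y e)} : Finset α) := by
  intro w hw
  simp only [Finset.mem_insert, Finset.mem_singleton] at hw ⊢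
  rcases hw with rfl | rfl | rfl | rfl
  · exact Or.inr (Or.inr (Or.inl rfl))
  · exact Or.inr (Or.inr (Or.inr (C.xy_app _).symm))
  · exact Or.inl (invol_apply C.hyy _)
  · refine Or.inr (Or.inl ?_)
    rw [← C.xy_app, invol_apply C.hyy]

theorem Conf.card_delta (C : Conf G x y p1 p2 p3 p4) : ({p1, p2, p3, p4} : Finset α).card = 4 :=
  C.dt_a.card

theorem Conf.card_delta' (C : Conf G x y p1 p2 p3 p4) {e : α} (he : e ∈ regE x y) :
    ({e, x e, y e, x (y e)} : Finset α).card = 4 := by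
  obtain ⟨e1, e2, e3, e4, e5, e6⟩ := C.regE_distinct he
  rw [Finset.card_insert_of_notMem, Finset.card_insert_of_notMem, Finset.card_pair e6]
  · simp [e4, e5]
  · simp [e1, e2, e3]

/-- The Brauer–Wielandt relations and the orbit counts together force degree `11`. -/
theorem Conf.degree (C : Conf G x y p1 p2 p3 p4) (hyp : Hyp G) (hn : 8 ≤ Fintype.card α) :
    (regE x y).card = 4 ∧ (fixS x).card = 3 ∧ Fintype.card α = 11 := by
  classical
  have hf3 := hyp.fix_le_three C.hx C.hxx C.x_ne_one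
  have hcE := C.card_regE hyp (by omega)
  have hEpos : 0 < (regE x y).card := by omega
  obtain ⟨e, he⟩ := Finset.card_pos.mp hEpos
  have he' := mem_regE.mp he
  obtain ⟨e1, e2, e3, e4, e5, e6⟩ := C.regE_distinct he
  have hΔ := C.card_delta
  have hΔ' := C.card_delta' he
  -- Brauer–Wielandt on both four-sets
  have bw1 := bw (H := fixG G {p1, p2, p3, p4}) (hyp.hodd _ hΔ) C.hxx C.hyy C.hxy
    (nrm_fixG C.hx C.hxx C.x_pres) (nrm_fixG C.hy C.hyy C.y_pres)
  have bw2 := bw (H := fixG G {e, x e, y e, x (y e)}) (hyp.hodd _ hΔ') C.hxx C.hyy C.hxy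
    (nrm_fixG C.hx C.hxx (C.x_pres' e)) (nrm_fixG C.hy C.hyy (C.y_pres' e))
  rw [cv_eq G y _ C.hxx, ← fixG_centIn G x, ← fixG_centIn G y, ← fixG_centIn G (x * y)] at bw1 bw2
  rw [card_fixG_hom (hom_of_ext hyp.hE) hΔ' hΔ] at bw2
  -- alpha invariance
  have dtx : DT G x e (x e) (y e) (x (y e)) :=
    ⟨C.hx, C.hxx, e1, e2, e3, e4, e5, e6, rfl, rfl⟩
  have dty : DT G y e (y e) (x e) (x (y e)) :=
    ⟨C.hy, C.hyy, e2, e1, e3, Ne.symm e4, e6, e5, rfl, (C.xy_app e).symm⟩
  have dta : DT G (x * y) e (x (y e)) (x e) (y e) :=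
    ⟨C.ha, C.haa, e3, e1, e2, Ne.symm e5, Ne.symm e6, e4, rfl, by
      rw [C.a_app, ← C.xy_app, invol_apply C.hxx]⟩
  have a1 := hyp.alpha_eq dtx C.dt_a
  have a2 := hyp.alpha_eq dty C.dt_a
  have a3 := hyp.alpha_eq dta C.dt_a
  have hset2 : ({e, y e, x e, x (y e)} : Finset α) = {e, x e, y e, x (y e)} := by
    ext c; simp only [Finset.mem_insert, Finset.mem_singleton]; constructor <;> intro h <;> rcases h with h | h | h | h <;> simp [h]
  have hset3 : ({e, x (y e), x e, y e} : Finset α) = {e, x e, y e, x (y e)} := by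
    ext c; simp only [Finset.mem_insert, Finset.mem_singleton]; constructor <;> intro h <;> rcases h with h | h | h | h <;> simp [h]
  rw [hset2] at a2
  rw [hset3] at a3
  rw [a1, a2, a3] at bw2
  -- the points e, x e, y e are not among p1..p4
  have hep3 : e ≠ p3 := fun h => he'.2.1 (by rw [h, C.y3])
  have hep4 : e ≠ p4 := fun h => he'.2.1 (by rw [h, C.y4])
  have hep1 : e ≠ p1 := fun h => he'.1 (by rw [h, C.x1])
  have hep2 : e ≠ p2 := fun h => he'.1 (by rw [h, C.x2])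
  have hxe3 : x e ≠ p3 := by
    intro h
    have := congrArg x h
    rw [invol_apply C.hxx, C.x3] at this
    exact hep4 this
  have hxe4 : x e ≠ p4 := by
    intro h
    have := congrArg x h
    rw [invol_apply C.hxx, C.x4] at this
    exact hep3 this
  have hye1 : y e ≠ p1 := by
    intro h
    have := congrArg y h
    rw [invol_apply C.hyy, C.y1] at this
    exact hep2 this
  have hye2 : y e ≠ p2 := by
    intro h
    have := congrArg y h
    rw [invol_apply C.hyy, C.y2] at this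
    exact hep1 this
  have dtx' : DT G x p3 p4 e (x e) :=
    ⟨C.hx, C.hxx, C.h34, Ne.symm hep3, Ne.symm hxe3, Ne.symm hep4, Ne.symm hxe4, e1, C.x3, rfl⟩
  have dty' : DT G y p1 p2 e (y e) :=
    ⟨C.hy, C.hyy, C.h12, Ne.symm hep1, Ne.symm hye1, Ne.symm hep2, Ne.symm hye2, e2, C.y1, rfl⟩
  have a4 := hyp.alpha_eq dtx' C.dt_a
  have a5 := hyp.alpha_eq dty' C.dt_a
  -- orbit counts
  have c1x := hyp.count1 C.hx C.hxx C.x3 C.h34 he'.1 hep3 hep4
  have c1y := hyp.count1 C.hy C.hyy C.y1 C.h12 he'.2.1 hep1 hep2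
  rw [a4] at c1x
  rw [a5] at c1y
  obtain ⟨o1, o2, ho1, ho2, c2x⟩ := count2 (G := G) (s := x) (S := {p3, p4}) C.x1 C.x2 C.h12
    (by simp [C.h13, C.h14]) (by simp [C.h23, C.h24])
  obtain ⟨o3, o4, ho3, ho4, c2y⟩ := count2 (G := G) (s := y) (S := {p1, p2}) C.y3 C.y4 C.h34
    (by simp [C.h13.symm, C.h23.symm]) (by simp [C.h14.symm, C.h24.symm])
  have hsetx : (insert p2 (insert p1 {p3, p4}) : Finset α) = {p1, p2, p3, p4} := by
    ext c; simp only [Finset.mem_insert, Finset.mem_singleton]; constructor <;> intro h <;> rcases h with h | h | h | h <;> simp [h]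
  have hsety : (insert p4 (insert p3 {p1, p2}) : Finset α) = {p1, p2, p3, p4} := by
    ext c; simp only [Finset.mem_insert, Finset.mem_singleton]; constructor <;> intro h <;> rcases h with h | h | h | h <;> simp [h]
  rw [hsetx] at c2x
  rw [hsety] at c2y
  have c3 := C.count3 hyp
  have c4 := C.count4 hyp he
  have hfy : (fixS y).card = (fixS x).card := by rw [C.card_fy hyp, C.card_fx hyp]
  rw [hfy] at c1y ho3 ho4
  -- arithmetic
  have hαpos : 0 < Nat.card (fixG (centIn G (x * y)) {p1, p2, p3, p4}) := Nat.card_pos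
  have hvpos : 0 < Nat.card (fixG (centIn (centIn G x) y) {e, x e, y e, x (y e)}) := Nat.card_pos
  have e3 : 4 * Nat.card (fixG (centIn (centIn G x) y) {p1, p2, p3, p4})
      = (regE x y).card * Nat.card (fixG (centIn (centIn G x) y) {e, x e, y e, x (y e)}) := by
    rw [← c3, c4]
  have e4 : (Fintype.card α - (fixS x).card - 2) * Nat.card (fixG (centIn G (x * y)) {p1, p2, p3, p4})
      = (o1 * o2) * Nat.card (fixG (centIn G x) {p1, p2, p3, p4}) := by
    rw [← c1x, c2x]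
  have e5 : (Fintype.card α - (fixS x).card - 2) * Nat.card (fixG (centIn G (x * y)) {p1, p2, p3, p4})
      = (o3 * o4) * Nat.card (fixG (centIn G y) {p1, p2, p3, p4}) := by
    rw [← c1y, c2y]
  have e6 : Fintype.card α - (fixS x).card - 2 = (regE x y).card + 2 := by omega
  clear c1x c1y c2x c2y c3 c4 a1 a2 a3 a4 a5
  generalize Nat.card (fixG G {p1, p2, p3, p4}) = Hc at *
  generalize Nat.card (fixG (centIn G (x * y)) {p1, p2, p3, p4}) = av at *
  generalize Nat.card (fixG (centIn G x) {p1, p2, p3, p4}) = bx at *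
  generalize Nat.card (fixG (centIn G y) {p1, p2, p3, p4}) = by' at *
  generalize Nat.card (fixG (centIn (centIn G x) y) {p1, p2, p3, p4}) = w at *
  generalize Nat.card (fixG (centIn (centIn G x) y) {e, x e, y e, x (y e)}) = v at *
  generalize (regE x y).card = ε at *
  generalize (fixS x).card = f at *
  generalize Fintype.card α - f - 2 = N at *
  have key := arith_main (Hc := Hc) (α := av) (βx := bx) (βy := by') (w := w) (v := v) (N := N)
    (ε := ε) (f := f) (o1 := o1) (o2 := o2) (o3 := o3) (o4 := o4) hαpos hvpos hEpos bw1 bw2 e3 e4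
    e5 e6 hf3 ho1 ho2 ho3 ho4
  refine ⟨key.1, key.2, ?_⟩
  have := key.1
  have := key.2
  omega

end Cfsg.Agent.Lib.Helper61.HM
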