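import Mathlib
import Cfsg.Agent.Lib.Helper61.HM6

namespace Cfsg.Agent.Lib.Helper61.HM

open Equiv Equiv.Perm Cfsg.Agent.Lib.Helper61.Miller Cfsg.Agent.Lib.Helper61.KAlt
  Cfsg.Agent.Lib.Helper61.LW Cfsg.Agent.Lib.Helper61.HC

set_option linter.unusedSectionVars false
set_option linter.unusedVariables false
variable {α : Type*} [Fintype α] [DecidableEq α]
variable {G : Subgroup (Perm α)} {x y : Perm α} {p1 p2 p3 p4 : α}

/-- the order of a pointwise stabilizer divides the factorial of the number of remaining points -/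
theorem card_fixG_dvd_factorial (G : Subgroup (Perm α)) (Δ : Finset α) :
    Nat.card (fixG G Δ) ∣ (Fintype.card α - Δ.card).factorial := by
  classical
  have h1 := card_setStab_eq (fixG G Δ) Δᶜ
  have h2 : setStab (fixG G Δ) Δᶜ = fixG G Δ := by
    ext g
    rw [mem_setStab]
    constructor
    · exact fun h => h.1
    · intro h
      refine ⟨h, fun a ha => ?_⟩
      rw [Finset.mem_compl] at ha ⊢
      exact fixG_notin h ha
  have h3 : Nat.card (fixG (fixG G Δ) Δᶜ) = 1 := by
    apply card_bot_of_trivial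
    intro u hu
    ext c
    by_cases hc : c ∈ Δ
    · exact hu.1.2 c hc
    · exact hu.2 c (Finset.mem_compl.mpr hc)
  rw [h2, h3, one_mul] at h1
  rw [h1]
  have h4 : Nat.card (indGroup (fixG G Δ) Δᶜ) ∣ Nat.card (Perm ↥(Δᶜ)) :=
    Subgroup.card_subgroup_dvd_card _
  rw [Nat.card_eq_fintype_card (α := Perm ↥(Δᶜ)), Fintype.card_perm, Fintype.card_coe,
    Finset.card_compl] at h4
  exact h4

/-- an element of odd order preserving a set of at most two points fixes it pointwise -/
theorem fix_of_small {k : Perm α} {a : ℕ} (hk : k ^ (2 * a + 1) = 1) {T : Finset α}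
    (hT : T.card ≤ 2) (hinv : ∀ c ∈ T, k c ∈ T) : ∀ c ∈ T, k c = c := by
  intro c hc
  by_contra hne
  have h1 : k c ∈ T := hinv c hc
  have h2 : k (k c) ∈ T := hinv _ h1
  have h3 : k (k c) ≠ k c := fun h => hne (k.injective h)
  by_cases h4 : k (k c) = c
  · have := swap_pow_odd (x := k) (a := c) (a' := k c) rfl h4 a
    rw [hk] at this
    exact hne this.symm
  · have hsub : ({c, k c, k (k c)} : Finset α) ⊆ T := by
      intro d hd
      simp only [Finset.mem_insert, Finset.mem_singleton] at hd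
      rcases hd with rfl | rfl | rfl
      · exact hc
      · exact h1
      · exact h2
    have hcard : ({c, k c, k (k c)} : Finset α).card = 3 := by
      rw [Finset.card_insert_of_notMem, Finset.card_pair (Ne.symm h3)]
      simp only [Finset.mem_insert, Finset.mem_singleton, not_or]
      exact ⟨Ne.symm hne, Ne.symm h4⟩
    have := Finset.card_le_card hsub
    omega

theorem fixS_inv_iff {k s : Perm α} (h : k * s = s * k) (c : α) : s (k c) = k c ↔ s c = c := by
  rw [← comm_app h]
  exact ⟨fun h' => k.injective h', fun h' => by rw [h']⟩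

theorem Conf.regE_inv (C : Conf G x y p1 p2 p3 p4) {k : Perm α} (hkx : k * x = x * k)
    (hky : k * y = y * k) {c : α} (hc : c ∈ regE x y) : k c ∈ regE x y := by
  rw [mem_regE] at hc ⊢
  obtain ⟨h1, h2, h3⟩ := hc
  refine ⟨?_, ?_, ?_⟩
  · rw [← comm_app hkx]
    exact fun h => h1 (k.injective h)
  · rw [← comm_app hky]
    exact fun h => h2 (k.injective h)
  · rw [C.a_app, ← comm_app hky, ← comm_app hkx]
    exact fun h => h3 (k.injective h)

/-- the centralizer of the four-group in the stabilizer of a regular orbit is trivial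
when there is only one regular orbit -/
theorem Conf.v_eq_one (C : Conf G x y p1 p2 p3 p4) (hyp : Hyp G) (hn : 6 ≤ Fintype.card α)
    {e : α} (he : e ∈ regE x y) (hE4 : (regE x y).card = 4) :
    Nat.card (fixG (centIn (centIn G x) y) {e, x e, y e, x (y e)}) = 1 := by
  classical
  have hΔ' := C.card_delta' he
  have hsub : ({e, x e, y e, x (y e)} : Finset α) ⊆ regE x y := by
    intro c hc
    simp only [Finset.mem_insert, Finset.mem_singleton] at hc
    rcases hc with rfl | rfl | rfl | rfl
    · exact he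
    · exact C.regE_inv rfl C.hxy he
    · exact C.regE_inv C.hxy.symm rfl he
    · exact C.regE_inv rfl C.hxy (C.regE_inv C.hxy.symm rfl he)
  have heq : ({e, x e, y e, x (y e)} : Finset α) = regE x y :=
    Finset.eq_of_subset_of_card_le hsub (by rw [hE4, hΔ'])
  apply card_bot_of_trivial
  intro k hk
  have hkG : k ∈ G := hk.1.1.1
  have hkx : k * x = x * k := hk.1.1.2
  have hky : k * y = y * k := hk.1.2
  have hka : k * (x * y) = (x * y) * k := by
    calc k * (x * y) = (k * x) * y := by group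
      _ = (x * k) * y := by rw [hkx]
      _ = x * (k * y) := by group
      _ = x * (y * k) := by rw [hky]
      _ = (x * y) * k := by group
  have hkfix : ∀ c ∈ regE x y, k c = c := by
    intro c hc
    rw [← heq] at hc
    exact hk.2 c hc
  have hk' : k ∈ fixG G {e, x e, y e, x (y e)} := ⟨hkG, hk.2⟩
  obtain ⟨a, ha⟩ := exists_odd_pow (hyp.hodd _ hΔ') hk'
  -- the four small invariant sets
  have hfx := C.card_fx hyp
  have hfy := C.card_fy hyp
  have hfa := C.card_fa hyp hn
  have hf3 := hyp.fix_le_three C.hx C.hxx C.x_ne_one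
  have T0 : (fixS x ∩ fixS y).card ≤ 2 := by omega
  have T1 : (fixS x \ fixS y).card ≤ 2 := by
    have := Finset.card_sdiff_add_card_inter (fixS x) (fixS y)
    omega
  have T2 : (fixS y \ fixS x).card ≤ 2 := by
    have := Finset.card_sdiff_add_card_inter (fixS y) (fixS x)
    rw [Finset.inter_comm] at this
    omega
  have T3 : (fixS (x * y) \ fixS x).card ≤ 2 := by
    have h1 := Finset.card_sdiff_add_card_inter (fixS (x * y)) (fixS x)
    have h2 : fixS x ∩ fixS y ⊆ fixS (x * y) ∩ fixS x := by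
      intro c hc
      rw [Finset.mem_inter, mem_fixS, mem_fixS] at hc
      rw [Finset.mem_inter, mem_fixS, mem_fixS, C.a_app, hc.2]
      exact ⟨hc.1, hc.1⟩
    have h3 := Finset.card_le_card h2
    omega
  have I0 : ∀ c ∈ fixS x ∩ fixS y, k c ∈ fixS x ∩ fixS y := by
    intro c hc
    rw [Finset.mem_inter, mem_fixS, mem_fixS] at hc ⊢
    exact ⟨(fixS_inv_iff hkx c).mpr hc.1, (fixS_inv_iff hky c).mpr hc.2⟩
  have I1 : ∀ c ∈ fixS x \ fixS y, k c ∈ fixS x \ fixS y := by
    intro c hc
    rw [Finset.mem_sdiff, mem_fixS, mem_fixS] at hc ⊢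
    exact ⟨(fixS_inv_iff hkx c).mpr hc.1, fun h => hc.2 ((fixS_inv_iff hky c).mp h)⟩
  have I2 : ∀ c ∈ fixS y \ fixS x, k c ∈ fixS y \ fixS x := by
    intro c hc
    rw [Finset.mem_sdiff, mem_fixS, mem_fixS] at hc ⊢
    exact ⟨(fixS_inv_iff hky c).mpr hc.1, fun h => hc.2 ((fixS_inv_iff hkx c).mp h)⟩
  have I3 : ∀ c ∈ fixS (x * y) \ fixS x, k c ∈ fixS (x * y) \ fixS x := by
    intro c hc
    rw [Finset.mem_sdiff, mem_fixS, mem_fixS] at hc ⊢
    exact ⟨(fixS_inv_iff hka c).mpr hc.1, fun h => hc.2 ((fixS_inv_iff hkx c).mp h)⟩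
  have F0 := fix_of_small ha T0 I0
  have F1 := fix_of_small ha T1 I1
  have F2 := fix_of_small ha T2 I2
  have F3 := fix_of_small ha T3 I3
  ext c
  rw [Perm.one_apply]
  by_cases hcE : c ∈ regE x y
  · exact hkfix c hcE
  · by_cases hcx : x c = c
    · by_cases hcy : y c = c
      · exact F0 c (by rw [Finset.mem_inter, mem_fixS, mem_fixS]; exact ⟨hcx, hcy⟩)
      · exact F1 c (by rw [Finset.mem_sdiff, mem_fixS, mem_fixS]; exact ⟨hcx, hcy⟩)
    · by_cases hcy : y c = c
      · exact F2 c (by rw [Finset.mem_sdiff, mem_fixS, mem_fixS]; exact ⟨hcy, hcx⟩)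
      · have hca : (x * y) c = c := by
          by_contra h
          exact hcE (mem_regE.mpr ⟨hcx, hcy, h⟩)
        exact F3 c (by rw [Finset.mem_sdiff, mem_fixS, mem_fixS]; exact ⟨hca, hcx⟩)

end Cfsg.Agent.Lib.Helper61.HM
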