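import Mathlib
import Cfsg.Agent.Lib.Helper61.HM7

namespace Cfsg.Agent.Lib.Helper61.HM

open Equiv Equiv.Perm Cfsg.Agent.Lib.Helper61.Miller Cfsg.Agent.Lib.Helper61.KAlt
  Cfsg.Agent.Lib.Helper61.LW Cfsg.Agent.Lib.Helper61.HC

set_option linter.unusedSectionVars false
set_option linter.unusedVariables false
variable {α : Type*} [Fintype α] [DecidableEq α]
variable {G : Subgroup (Perm α)} {x y : Perm α} {p1 p2 p3 p4 : α}

/-- the second Brauer–Wielandt relation -/
theorem Conf.bw_second (C : Conf G x y p1 p2 p3 p4) (hyp : Hyp G) {e : α} (he : e ∈ regE x y) :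
    Nat.card (fixG G {p1, p2, p3, p4})
        * (Nat.card (fixG (centIn (centIn G x) y) {e, x e, y e, x (y e)})) ^ 2
      = Nat.card (fixG (centIn G (x * y)) {p1, p2, p3, p4})
        * Nat.card (fixG (centIn G (x * y)) {p1, p2, p3, p4})
        * Nat.card (fixG (centIn G (x * y)) {p1, p2, p3, p4}) := by
  classical
  obtain ⟨e1, e2, e3, e4, e5, e6⟩ := C.regE_distinct he
  have hΔ := C.card_delta
  have hΔ' := C.card_delta' he
  have bw2 := bw (H := fixG G {e, x e, y e, x (y e)}) (hyp.hodd _ hΔ') C.hxx C.hyy C.hxy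
    (nrm_fixG C.hx C.hxx (C.x_pres' e)) (nrm_fixG C.hy C.hyy (C.y_pres' e))
  rw [cv_eq G y _ C.hxx, ← fixG_centIn G x, ← fixG_centIn G y, ← fixG_centIn G (x * y)] at bw2
  rw [card_fixG_hom (hom_of_ext hyp.hE) hΔ' hΔ] at bw2
  have dtx : DT G x e (x e) (y e) (x (y e)) :=
    ⟨C.hx, C.hxx, e1, e2, e3, e4, e5, e6, rfl, rfl⟩
  have dty : DT G y e (y e) (x e) (x (y e)) :=
    ⟨C.hy, C.hyy, e2, e1, e3, Ne.symm e4, e6, e5, rfl, (C.xy_app e).symm⟩
  have dta : DT G (x * y) e (x (y e)) (x e) (y e) :=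
    ⟨C.ha, C.haa, e3, e1, e2, Ne.symm e5, Ne.symm e6, e4, rfl, by
      rw [C.a_app, ← C.xy_app, invol_apply C.hxx]⟩
  have a1 := hyp.alpha_eq dtx C.dt_a
  have a2 := hyp.alpha_eq dty C.dt_a
  have a3 := hyp.alpha_eq dta C.dt_a
  have hset2 : ({e, y e, x e, x (y e)} : Finset α) = {e, x e, y e, x (y e)} := by
    ext c; simp only [Finset.mem_insert, Finset.mem_singleton]; constructor <;> intro h <;> rcases h with h | h | h | h <;> simp [h]
  have hset3 : ({e, x (y e), x e, y e} : Finset α) = {e, x e, y e, x (y e)} := by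
    ext c; simp only [Finset.mem_insert, Finset.mem_singleton]; constructor <;> intro h <;> rcases h with h | h | h | h <;> simp [h]
  rw [hset2] at a2
  rw [hset3] at a3
  rw [a1, a2, a3] at bw2
  exact bw2

theorem cube_arith {Hc a : ℕ} (h : Hc = a * a * a) (hd : Hc ∣ 5040) (hodd : Odd Hc) : Hc = 1 := by
  have hle : Hc ≤ 5040 := Nat.le_of_dvd (by norm_num) hd
  have ha : a ≤ 17 := by
    by_contra hcon
    push Not at hcon
    have h1 : 18 * 18 ≤ a * a := Nat.mul_le_mul hcon hcon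
    have h2 : 18 * 18 * 18 ≤ a * a * a := Nat.mul_le_mul h1 hcon
    omega
  rw [Nat.odd_iff] at hodd
  subst h
  interval_cases a <;> omega

/-- M. Hall's theorem, main case -/
theorem Conf.final (C : Conf G x y p1 p2 p3 p4) (hyp : Hyp G) (hn : 8 ≤ Fintype.card α) :
    Fintype.card α = 11 ∧ Nat.card G = 7920 := by
  classical
  obtain ⟨hE4, hf, h11⟩ := C.degree hyp hn
  refine ⟨h11, ?_⟩
  have hEpos : 0 < (regE x y).card := by omega
  obtain ⟨e, he⟩ := Finset.card_pos.mp hEpos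
  have hv := C.v_eq_one hyp (by omega) he hE4
  have hb := C.bw_second hyp he
  rw [hv, one_pow, mul_one] at hb
  have hΔ := C.card_delta
  have hd := card_fixG_dvd_factorial G {p1, p2, p3, p4}
  rw [hΔ, h11] at hd
  have h5040 : (11 - 4).factorial = 5040 := by decide
  rw [h5040] at hd
  have h1 := cube_arith hb hd (hyp.hodd _ hΔ)
  have h2 := card_fixG_desc G 4 hyp.hE {p1, p2, p3, p4} hΔ.le
  rw [h1, hΔ, h11, one_mul] at h2
  rw [← h2]
  decide

end Cfsg.Agent.Lib.Helper61.HM
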