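import Mathlib
import Cfsg.Agent.Lib.Helper61.HM8

namespace Cfsg.Agent.Lib.Helper61.HM

open Equiv Equiv.Perm Cfsg.Agent.Lib.Helper61.Miller Cfsg.Agent.Lib.Helper61.KAlt
  Cfsg.Agent.Lib.Helper61.LW Cfsg.Agent.Lib.Helper61.HC

set_option linter.unusedSectionVars false
set_option linter.unusedVariables false
variable {α : Type*} [Fintype α] [DecidableEq α]
variable {G : Subgroup (Perm α)}

/-- `t`-fold transitivity on at most `t + 1` points gives the full symmetric group -/
theorem ext_top {t : ℕ} (hE : Ext G t) (hn : Fintype.card α ≤ t + 1) : G = ⊤ := by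
  classical
  rw [eq_top_iff]
  intro σ _
  by_cases hα : Fintype.card α = 0
  · have : IsEmpty α := Fintype.card_eq_zero_iff.mp hα
    have : σ = 1 := by ext c; exact (IsEmpty.false c).elim
    rw [this]; exact G.one_mem
  · obtain ⟨a⟩ : Nonempty α := Fintype.card_pos_iff.mp (Nat.pos_of_ne_zero hα)
    have hcard : ((Finset.univ : Finset α).erase a).card ≤ t := by
      rw [Finset.card_erase_of_mem (Finset.mem_univ a), Finset.card_univ]; omega
    obtain ⟨g, hg, hgσ⟩ := hE _ hcard σ σ.injective.injOn
    have hga : g a = σ a := by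
      by_contra hne
      have h1 : σ⁻¹ (g a) ≠ a := by
        intro h
        apply hne
        have := congrArg σ h
        rw [hc_app_inv] at this
        exact this
      have h2 := hgσ (σ⁻¹ (g a)) (Finset.mem_erase.mpr ⟨h1, Finset.mem_univ _⟩)
      rw [hc_app_inv] at h2
      exact h1 (g.injective h2)
    have : g = σ := by
      ext c
      by_cases hc : c = a
      · rw [hc, hga]
      · exact hgσ c (Finset.mem_erase.mpr ⟨hc, Finset.mem_univ _⟩)
    rw [← this]; exact hg

theorem alt_or_top (hA : alternatingGroup α ≤ G) (hnt : Nontrivial α) :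
    G = alternatingGroup α ∨ G = ⊤ := by
  have h1 := Subgroup.index_dvd_of_le hA
  rw [alternatingGroup.index_eq_two] at h1
  rcases (Nat.dvd_prime Nat.prime_two).mp h1 with h | h
  · exact Or.inr (Subgroup.index_eq_one.mp h)
  · exact Or.inl (Equiv.Perm.eq_alternatingGroup_of_index_eq_two h)

theorem Hyp.ne_top (hyp : Hyp G) {Δ : Finset α} (hΔ : Δ.card = 4) (hn : 6 ≤ Fintype.card α) :
    G ≠ ⊤ := by
  classical
  intro htop
  have hlt : 1 < (Δᶜ).card := by rw [Finset.card_compl, hΔ]; omega
  obtain ⟨a, ha, b, hb, hab⟩ := Finset.one_lt_card.mp hlt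
  rw [Finset.mem_compl] at ha hb
  have hmem : swap a b ∈ fixG G Δ := by
    refine ⟨by rw [htop]; exact Subgroup.mem_top _, fun c hc => ?_⟩
    apply swap_apply_of_ne_of_ne
    · rintro rfl; exact ha hc
    · rintro rfl; exact hb hc
  have h1 := no_invol_of_odd _ (hyp.hodd Δ hΔ) _ hmem (swap_mul_self a b)
  exact hab (swap_eq_one_iff.mp h1)

theorem support_card (s : Perm α) : s.support.card = Fintype.card α - (fixS s).card := by
  rw [← card_moved]
  rfl

/-- degrees six and seven -/
theorem Hyp.small (hyp : Hyp G) {x y : Perm α} {p1 p2 p3 p4 : α} (C : Conf G x y p1 p2 p3 p4)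
    (hn : Fintype.card α = 6 ∨ Fintype.card α = 7) : G = alternatingGroup α := by
  classical
  have hf3 := hyp.fix_le_three C.hx C.hxx C.x_ne_one
  have hf2 : 2 ≤ (fixS x).card := by
    have hsub : ({p1, p2} : Finset α) ⊆ fixS x := by
      intro c hc
      simp only [Finset.mem_insert, Finset.mem_singleton] at hc
      rw [mem_fixS]
      rcases hc with rfl | rfl
      · exact C.x1
      · exact C.x2
    have := Finset.card_le_card hsub
    rw [Finset.card_pair C.h12] at this
    exact this
  have hpar := fixS_parity C.hxx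
  have hsupp := support_card x
  have hle : (fixS x).card ≤ Fintype.card α := Finset.card_le_univ _
  have hcard : x.support.card ≤ 4 := by
    rw [hsupp]
    rcases hn with h | h
    · omega
    · rw [h] at hpar ⊢
      obtain ⟨r, hr⟩ := hpar
      omega
  have hlt : x.support.card < Fintype.card α := by
    rw [hsupp]; omega
  have hA := alt_le_of_small_support G 4 (by norm_num) hyp.hE C.hx C.x_ne_one hcard hlt
  have hnt : Nontrivial α := by
    rw [← Fintype.one_lt_card_iff_nontrivial]; omega
  rcases alt_or_top hA hnt with h | h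
  · exact h
  · exact absurd h (hyp.ne_top C.card_delta (by omega))

end Cfsg.Agent.Lib.Helper61.HM
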