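import Mathlib
import Cfsg.Prelude.Def_HallClasses
import Cfsg.Agent.Lib.Helper15.HsBasic

/-!
# Hc (S2535): conjugacy of Hall subgroups of symmetric and alternating groups — general lemmas
-/

set_option autoImplicit false

namespace Cfsg.Agent.Lib.Helper61.Hc

open Cfsg Cfsg.Agent.Lib.Helper15.Hs

section general

variable {G : Type*} [Group G] [Finite G] {π : Set ℕ}

/-- A Hall `π`-subgroup is maximal among `π`-subgroups. -/
theorem hall_eq_of_le {H L : Subgroup G} (hH : IsPiHall π H) (hle : H ≤ L)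
    (hL : ∀ p : ℕ, p.Prime → p ∣ Nat.card L → p ∈ π) : H = L := by
  by_contra hne
  have h1 : H.relIndex L ≠ 1 := by
    intro h
    exact hne (le_antisymm hle (Subgroup.relIndex_eq_one.mp h))
  obtain ⟨p, hp, hpd⟩ := Nat.exists_prime_and_dvd h1
  have h2 : H.relIndex L ∣ H.index := Subgroup.relIndex_dvd_index_of_le hle
  have h3 : H.relIndex L ∣ Nat.card L := Subgroup.relIndex_dvd_card H L
  exact hH.2 p hp (hL p hp (hpd.trans h3)) (hpd.trans h2)

/-- The `Sylow` action written with `Subgroup.map`. -/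
theorem sylow_smul_coe {p : ℕ} [Fact p.Prime] (g : G) (P : Sylow p G) :
    ((g • P : Sylow p G) : Subgroup G) = (P : Subgroup G).map (MulAut.conj g).toMonoidHom := by
  rw [Sylow.coe_subgroup_smul]
  rfl

/-- If at most one prime of `π` divides `|G|`, Hall `π`-subgroups are conjugate (Sylow). -/
theorem hall_conj_of_le_one {H K : Subgroup G} (hH : IsPiHall π H) (hK : IsPiHall π K)
    (hone : ∀ r s : ℕ, r.Prime → s.Prime → r ∈ π → s ∈ π → r ∣ Nat.card G → s ∣ Nat.card G →
      r = s) :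
    ∃ g : G, K = H.map (MulAut.conj g).toMonoidHom := by
  by_cases hp : ∃ p : ℕ, p.Prime ∧ p ∈ π ∧ p ∣ Nat.card G
  · obtain ⟨p, hp, hpπ, hpG⟩ := hp
    haveI : Fact p.Prime := ⟨hp⟩
    have hpg : ∀ L : Subgroup G, IsPiHall π L → IsPGroup p L := by
      intro L hL
      have hne : Nat.card L ≠ 0 := Nat.card_pos.ne'
      have := Nat.eq_prime_pow_of_unique_prime_dvd hne (p := p) (fun {d} hd hdL =>
        hone d p hd hp (hL.1 d hd hdL) hpπ (hdL.trans (Subgroup.card_subgroup_dvd_card L)) hpG)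
      exact IsPGroup.of_card this
    let P : Sylow p G := (hpg H hH).toSylow (hH.2 p hp hpπ)
    let Q : Sylow p G := (hpg K hK).toSylow (hK.2 p hp hpπ)
    obtain ⟨g, hg⟩ := MulAction.exists_smul_eq G P Q
    refine ⟨g, ?_⟩
    have h1 : ((g • P : Sylow p G) : Subgroup G) = (Q : Subgroup G) := by rw [hg]
    rw [sylow_smul_coe] at h1
    simpa [P, Q] using h1.symm
  · -- both are trivial
    have htriv : ∀ L : Subgroup G, IsPiHall π L → L = ⊥ := by
      intro L hL
      rw [← Subgroup.card_eq_one]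
      by_contra hne
      obtain ⟨q, hq, hqd⟩ := Nat.exists_prime_and_dvd hne
      exact hp ⟨q, hq, hL.1 q hq hqd, hqd.trans (Subgroup.card_subgroup_dvd_card L)⟩
    refine ⟨1, ?_⟩
    rw [htriv H hH, htriv K hK]
    simp

/-- Transport of a conjugacy along an element normalizing: if `h ∈ H` then `H.map (conj (g*h)) = H.map (conj g)`. -/
theorem map_conj_mul_of_mem {H : Subgroup G} (g h : G) (hh : h ∈ H) :
    H.map (MulAut.conj (g * h)).toMonoidHom = H.map (MulAut.conj g).toMonoidHom := by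
  ext x
  simp only [Subgroup.mem_map, MulEquiv.coe_toMonoidHom, MulAut.conj_apply]
  constructor
  · rintro ⟨y, hy, rfl⟩
    refine ⟨h * y * h⁻¹, H.mul_mem (H.mul_mem hh hy) (H.inv_mem hh), ?_⟩
    group
  · rintro ⟨y, hy, rfl⟩
    refine ⟨h⁻¹ * y * h, H.mul_mem (H.mul_mem (H.inv_mem hh) hy) hh, ?_⟩
    group

end general

end Cfsg.Agent.Lib.Helper61.Hc
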