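import Mathlib
import Cfsg.Agent.Lib.Helper61.HcBasic
import Cfsg.Agent.Lib.Helper78.HsRES
import Cfsg.Agent.Lib.Helper70.HsSTAB
import Cfsg.Agent.Lib.Helper24.HsIDX
import Cfsg.Agent.Lib.Helper24.HsPRIM

/-!
# Hc (S2535): structure of the non-standard Hall subgroups of `Perm α`

* `std_struct` : `|α|` prime, `π ∩ [1,|α|] = {primes < |α|}` : a Hall `π`-subgroup is a point stabilizer;
* `exc7_struct` : `|α| = 7`, `π ∩ [1,7] = {2,3}` : it is the stabilizer of a `3`-set;
* `exc8_struct` : `|α| = 8`, `π ∩ [1,8] = {2,3}` : it is the stabilizer of a partition `{B, Bᶜ}`, `|B| = 4`.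
-/

set_option autoImplicit false

namespace Cfsg.Agent.Lib.Helper61.Hc

open Cfsg Cfsg.Agent.Lib.Helper15.Hs
open scoped Pointwise

/-! ## arithmetic -/

theorem choose_gt (n : ℕ) : ∀ j : ℕ, 2 ≤ j → j + 2 ≤ n → n < Nat.choose n j := by
  induction n with
  | zero => intro j h1 h2; omega
  | succ n ih =>
    intro j h1 h2
    obtain ⟨k, rfl⟩ : ∃ k, j = k + 1 := ⟨j - 1, by omega⟩
    rw [Nat.choose_succ_succ']
    by_cases h : k + 1 + 2 ≤ n
    · have := ih (k + 1) h1 h
      have h3 : 0 < Nat.choose n k := Nat.choose_pos (by omega)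
      omega
    · have hk : k + 2 = n := by omega
      subst hk
      have e1 : Nat.choose (k + 2) (k + 1) = k + 2 := by
        rw [show k + 2 = (k + 1) + 1 from rfl, Nat.choose_succ_self_right]
      have e3 : Nat.choose (k + 2) k = Nat.choose (k + 2) 2 := by
        rw [← Nat.choose_symm (by omega : 2 ≤ k + 2)]; simp
      rw [e1]
      have e4 : 2 ≤ Nat.choose (k + 2) k := by
        rw [e3, Nat.choose_two_right]
        have : 1 ≤ k := by omega
        have h5 : (k + 2) * (k + 2 - 1) ≥ 3 * 2 := Nat.mul_le_mul (by omega) (by omega)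
        omega
      omega

/-- for `n` prime, a binomial coefficient `C(n,j)` with `2 ≤ j ≤ n-2` has a prime factor `< n` -/
theorem choose_prime_factor (n j : ℕ) (hn : n.Prime) (h1 : 2 ≤ j) (h2 : j + 2 ≤ n) :
    ∃ q : ℕ, q.Prime ∧ q < n ∧ q ∣ Nat.choose n j := by
  have hgt := choose_gt n j h1 h2
  obtain ⟨d, hd⟩ : n ∣ Nat.choose n j := hn.dvd_choose_self (by omega) (by omega)
  have hd1 : d ≠ 1 := by
    rintro rfl
    omega
  obtain ⟨q, hq, hqd⟩ := Nat.exists_prime_and_dvd hd1
  refine ⟨q, hq, ?_, hd ▸ Dvd.dvd.mul_left hqd n⟩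
  have h3 : Nat.choose n j ∣ n.factorial := by
    have := Nat.choose_mul_factorial_mul_factorial (show j ≤ n by omega)
    exact ⟨j.factorial * (n - j).factorial, by rw [← this]; ring⟩
  have h4 : q ≤ n :=
    (hq.dvd_factorial).mp ((hd ▸ Dvd.dvd.mul_left hqd n : q ∣ Nat.choose n j).trans h3)
  rcases Nat.lt_or_ge q n with h | h
  · exact h
  · exfalso
    have hqn : q = n := le_antisymm h4 h
    subst hqn
    have h5 : q * q ∣ q.factorial := by
      refine Dvd.dvd.trans ?_ h3
      rw [hd]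
      exact Nat.mul_dvd_mul_left q hqd
    obtain ⟨m, rfl⟩ : ∃ m, q = m + 1 := ⟨q - 1, by have := hq.two_le; omega⟩
    rw [Nat.factorial_succ] at h5
    have h6 : (m + 1) ∣ m.factorial := Nat.dvd_of_mul_dvd_mul_left (by omega) h5
    have := (hq.dvd_factorial).mp h6
    omega

theorem prime_le_of_dvd_fact_mul {p a b : ℕ} (hp : p.Prime) (h : p ∣ a.factorial * b.factorial) :
    p ≤ a ∨ p ≤ b := by
  rcases (Nat.Prime.dvd_mul hp).mp h with h | h
  · exact Or.inl ((hp.dvd_factorial).mp h)
  · exact Or.inr ((hp.dvd_factorial).mp h)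

/-! ## invariant sets -/

section perm

variable {α : Type*} [Fintype α] [DecidableEq α] {π : Set ℕ} {H : Subgroup (Equiv.Perm α)}

omit [Fintype α] [DecidableEq α] in
theorem orbit_invariant (H : Subgroup (Equiv.Perm α)) (x : α) :
    ∀ g ∈ H, ∀ y ∈ MulAction.orbit H x, g y ∈ MulAction.orbit H x := by
  rintro g hg y ⟨h, rfl⟩
  exact ⟨⟨g, hg⟩ * h, by simp [mul_smul, Subgroup.smul_def]⟩

omit [Fintype α] [DecidableEq α] in
theorem compl_invariant (H : Subgroup (Equiv.Perm α)) (s : Set α)
    (hs : ∀ g ∈ H, ∀ x ∈ s, g x ∈ s) : ∀ g ∈ H, ∀ x ∈ sᶜ, g x ∈ sᶜ := by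
  intro g hg x hx h
  exact hx ((res_iff H s hs g hg x).mp h)

omit [Fintype α] [DecidableEq α] in
theorem orbit_ncard_dvd [Finite α] (H : Subgroup (Equiv.Perm α)) (x : α) :
    (MulAction.orbit H x).ncard ∣ Nat.card H := by
  rw [← MulAction.index_stabilizer]
  exact Subgroup.index_dvd_card _

omit [Fintype α] [DecidableEq α] in
theorem smul_set_eq_of_invariant [Finite α] (s : Set α) (g : Equiv.Perm α)
    (hg : ∀ y ∈ s, g y ∈ s) : g • s = s := by
  have h1 : g • s ⊆ s := by
    rintro _ ⟨y, hy, rfl⟩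
    exact hg y hy
  refine Set.eq_of_subset_of_ncard_le h1 ?_ (Set.toFinite s)
  rw [← Set.image_smul, Set.ncard_image_of_injective _ (MulAction.injective g)]

omit [Fintype α] [DecidableEq α] in
theorem preserves_of_smul_eq (s : Set α) (g : Equiv.Perm α) (hg : g • s = s) (x : α) :
    g x ∈ s ↔ x ∈ s := by
  have := Set.smul_mem_smul_set_iff (a := g) (x := x) (s := s)
  rw [hg] at this
  simpa using this

omit [Fintype α] [DecidableEq α] in
/-- a group of permutations preserving `s` has order dividing `|s|! * |sᶜ|!` -/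
theorem card_dvd_of_preserves [Finite α] (W : Subgroup (Equiv.Perm α)) (s : Set α)
    (hW : ∀ g ∈ W, ∀ x, g x ∈ s ↔ x ∈ s) :
    Nat.card W ∣ (Nat.card ↥s).factorial * (Nat.card ↥(sᶜ : Set α)).factorial := by
  have hW' : ∀ g ∈ W, ∀ x, g x ∈ sᶜ ↔ x ∈ sᶜ := fun g hg x => not_congr (hW g hg x)
  let ρ : ↥W →* Equiv.Perm ↥s × Equiv.Perm ↥(sᶜ : Set α) :=
    (res_hom W s hW).prod (res_hom W sᶜ hW')
  have hinj : Function.Injective ρ := by
    rw [injective_iff_map_eq_one]
    intro g hg
    have h1 : res_hom W s hW g = 1 := congrArg Prod.fst hg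
    have h2 : res_hom W sᶜ hW' g = 1 := congrArg Prod.snd hg
    ext x
    by_cases hx : x ∈ s
    · have := res_hom_apply W s hW g ⟨x, hx⟩
      rw [h1] at this
      simpa using this.symm
    · have := res_hom_apply W sᶜ hW' g ⟨x, hx⟩
      rw [h2] at this
      simpa using this.symm
  have := Subgroup.card_dvd_of_injective ρ hinj
  rwa [Nat.card_prod, Nat.card_perm, Nat.card_perm] at this

omit [Fintype α] [DecidableEq α] in
theorem exists_perm_smul_set [Finite α] (s t : Set α) (h : s.ncard = t.ncard) :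
    ∃ g : Equiv.Perm α, g • s = t := by
  classical
  have h1 : Nat.card ↥s = Nat.card ↥t := by rw [Nat.card_coe_set_eq, Nat.card_coe_set_eq, h]
  obtain ⟨e⟩ := Finite.card_eq.mp h1
  let e' : {x // x ∈ s} ≃ {x // x ∈ t} := e
  refine ⟨e'.extendSubtype, ?_⟩
  have h2 : e'.extendSubtype • s ⊆ t := by
    rintro _ ⟨y, hy, rfl⟩
    exact Equiv.extendSubtype_mem e' y hy
  refine Set.eq_of_subset_of_ncard_le h2 ?_ (Set.toFinite t)
  rw [← Set.image_smul, Set.ncard_image_of_injective _ (MulAction.injective _), h]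


/-! ## the standard case -/

omit [DecidableEq α] in
/-- the order of a point stabilizer in `Perm α` -/
theorem card_stabilizer_point (x : α) :
    Nat.card (MulAction.stabilizer (Equiv.Perm α) x) * Nat.card α = (Nat.card α).factorial := by
  classical
  have h1 := Subgroup.card_mul_index (MulAction.stabilizer (Equiv.Perm α) x)
  rw [MulAction.index_stabilizer_of_transitive, Nat.card_perm] at h1
  exact h1

/-- any invariant-set size `j` of a Hall subgroup in the standard case is `1`, `n-1` or `n` -/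
theorem std_invariant_card (hH : IsPiHall π H) (hstd : StdCase π (Nat.card α)) (s : Set α)
    (hs : ∀ g ∈ H, ∀ x ∈ s, g x ∈ s) (h0 : s.ncard ≠ 0) :
    s.ncard = 1 ∨ s.ncard + 1 = Nat.card α ∨ s.ncard = Nat.card α := by
  have hc := (hall_restrict π H hH s hs).2.2
  rw [Nat.card_coe_set_eq] at hc
  have hle : s.ncard ≤ Nat.card α := by
    rw [← Set.ncard_univ]; exact Set.ncard_le_ncard (Set.subset_univ s) (Set.toFinite _)
  by_contra hcon
  rw [not_or, not_or] at hcon
  obtain ⟨q, hq, hqn, hqd⟩ := choose_prime_factor (Nat.card α) s.ncard hstd.1 (by omega) (by omega)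
  exact hc q hq ((hstd.2 q hq hqn.le).mpr hqn) hqd

theorem std_fixed (hH : IsPiHall π H) (hstd : StdCase π (Nat.card α)) :
    ∃ x : α, ∀ g ∈ H, g x = x := by
  have hn : (Nat.card α).Prime := hstd.1
  have hne : Nonempty α := by
    have := hn.pos
    exact (Nat.card_pos_iff.mp this).1
  obtain ⟨x₀⟩ := hne
  have hinv := orbit_invariant H x₀
  have h0 : (MulAction.orbit H x₀).ncard ≠ 0 := by
    have hne : (MulAction.orbit H x₀).Nonempty := ⟨x₀, MulAction.mem_orbit_self x₀⟩
    exact (Set.ncard_pos (Set.toFinite _)).mpr hne |>.ne' 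
  rcases std_invariant_card hH hstd _ hinv h0 with h | h | h
  · -- orbit is a point
    obtain ⟨a, ha⟩ := Set.ncard_eq_one.mp h
    have hx0 : x₀ = a := by
      have : x₀ ∈ MulAction.orbit H x₀ := MulAction.mem_orbit_self x₀
      rw [ha] at this
      exact this
    refine ⟨x₀, fun g hg => ?_⟩
    have := hinv g hg x₀ (MulAction.mem_orbit_self x₀)
    rw [ha] at this
    rw [hx0] at this ⊢
    exact this
  · -- complement is a point
    have h1 := Set.ncard_add_ncard_compl (MulAction.orbit H x₀)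
    have h2 : (MulAction.orbit H x₀)ᶜ.ncard = 1 := by omega
    obtain ⟨y, hy⟩ := Set.ncard_eq_one.mp h2
    refine ⟨y, fun g hg => ?_⟩
    have := compl_invariant H _ hinv g hg y (by rw [hy]; rfl)
    rw [hy] at this
    exact this
  · -- transitive: impossible
    exfalso
    have h1 := orbit_ncard_dvd H x₀
    rw [h] at h1
    have h2 := hH.1 _ hn h1
    have := (hstd.2 _ hn le_rfl).mp h2
    omega

theorem std_struct (hH : IsPiHall π H) (hstd : StdCase π (Nat.card α)) :
    ∃ x : α, H = MulAction.stabilizer (Equiv.Perm α) x := by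
  obtain ⟨x, hx⟩ := std_fixed hH hstd
  refine ⟨x, hall_eq_of_le hH (fun g hg => MulAction.mem_stabilizer_iff.mpr (hx g hg)) ?_⟩
  intro p hp hpd
  have h1 := card_stabilizer_point x
  have hn : (Nat.card α).Prime := hstd.1
  obtain ⟨m, hm⟩ : ∃ m, Nat.card α = m + 1 := ⟨Nat.card α - 1, by have := hn.pos; omega⟩
  rw [hm, Nat.factorial_succ, mul_comm] at h1
  have h2 : Nat.card (MulAction.stabilizer (Equiv.Perm α) x) = m.factorial :=
    Nat.eq_of_mul_eq_mul_left (by omega) h1
  rw [h2] at hpd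
  have h3 := (hp.dvd_factorial).mp hpd
  exact (hstd.2 p hp (by omega)).mpr (by omega)


/-! ## set stabilizers are `π`-groups -/

omit [Fintype α] [DecidableEq α] in
theorem setstab_pi [Finite α] (s : Set α)
    (hπ : ∀ p : ℕ, p.Prime → (p ≤ s.ncard ∨ p ≤ sᶜ.ncard) → p ∈ π) :
    ∀ p : ℕ, p.Prime → p ∣ Nat.card (MulAction.stabilizer (Equiv.Perm α) s) → p ∈ π := by
  intro p hp hpd
  have h1 := card_dvd_of_preserves (MulAction.stabilizer (Equiv.Perm α) s) s
    (fun g hg x => preserves_of_smul_eq s g (MulAction.mem_stabilizer_iff.mp hg) x)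
  rw [Nat.card_coe_set_eq, Nat.card_coe_set_eq] at h1
  exact hπ p hp (prime_le_of_dvd_fact_mul hp (hpd.trans h1))

/-! ## the exceptional case of degree 7 -/

theorem exc7_no_fixed (hH : IsPiHall π H) (h7 : Exc π (Nat.card α) 7) (x : α)
    (hx : ∀ g ∈ H, g x = x) : False := by
  classical
  have hcard : Nat.card α = 7 := h7.1
  have h2 : 2 ∈ π := (h7.2 2 Nat.prime_two (by omega)).mpr (Or.inl rfl)
  have h3 : 3 ∈ π := (h7.2 3 Nat.prime_three (by omega)).mpr (Or.inr rfl)
  have h5 : 5 ∉ π := fun h => by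
    have := (h7.2 5 (by norm_num) (by omega)).mp h
    omega
  have hs : ∀ g ∈ H, ∀ y ∈ ({x} : Set α), g y ∈ ({x} : Set α) := by
    intro g hg y hy
    rw [Set.mem_singleton_iff] at hy ⊢
    rw [hy]
    exact hx g hg
  have hR := (hall_restrict π H hH {x} hs).2.1
  have hc6 : Nat.card ↥(({x} : Set α)ᶜ) = 6 := by
    rw [Nat.card_coe_set_eq]
    have := Set.ncard_add_ncard_compl ({x} : Set α)
    rw [Set.ncard_singleton] at this
    omega
  have hci := Subgroup.card_mul_index (resSub H ({x} : Set α)ᶜ)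
  rw [Nat.card_perm, hc6] at hci
  have hf : Nat.factorial 6 = 144 * 5 := by decide
  have h2i : ¬ 2 ∣ (resSub H ({x} : Set α)ᶜ).index := hR.2 2 Nat.prime_two h2
  have h3i : ¬ 3 ∣ (resSub H ({x} : Set α)ᶜ).index := hR.2 3 Nat.prime_three h3
  have hcop : Nat.Coprime (resSub H ({x} : Set α)ᶜ).index 144 := by
    have e2 : Nat.Coprime (resSub H ({x} : Set α)ᶜ).index 2 :=
      ((Nat.Prime.coprime_iff_not_dvd Nat.prime_two).mpr h2i).symm
    have e3 : Nat.Coprime (resSub H ({x} : Set α)ᶜ).index 3 :=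
      ((Nat.Prime.coprime_iff_not_dvd Nat.prime_three).mpr h3i).symm
    have : (144 : ℕ) = 2 ^ 4 * 3 ^ 2 := by norm_num
    rw [this]
    exact Nat.Coprime.mul_right (e2.pow_right 4) (e3.pow_right 2)
  have hd5 : (resSub H ({x} : Set α)ᶜ).index ∣ 5 := by
    have : (resSub H ({x} : Set α)ᶜ).index ∣ 144 * 5 := by
      rw [← hf, ← hci]
      exact Dvd.intro_left _ rfl
    exact hcop.dvd_of_dvd_mul_left this
  rcases (Nat.dvd_prime (by norm_num : Nat.Prime 5)).mp hd5 with h | h
  · rw [h, mul_one] at hci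
    have : 5 ∣ Nat.card ↥(resSub H ({x} : Set α)ᶜ) := by
      rw [hci, hf]
      exact Dvd.intro_left _ rfl
    exact h5 (hR.1 5 (by norm_num) this)
  · exact no_index_pred (resSub H ({x} : Set α)ᶜ) (by omega) (by rw [h, hc6])

theorem exc7_invariant_card (hH : IsPiHall π H) (h7 : Exc π (Nat.card α) 7) (s : Set α)
    (hs : ∀ g ∈ H, ∀ x ∈ s, g x ∈ s) :
    s.ncard = 0 ∨ s.ncard = 1 ∨ s.ncard = 3 ∨ s.ncard = 4 ∨ s.ncard = 6 ∨ s.ncard = 7 := by
  have hcard : Nat.card α = 7 := h7.1
  have h2 : 2 ∈ π := (h7.2 2 Nat.prime_two (by omega)).mpr (Or.inl rfl)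
  have h3 : 3 ∈ π := (h7.2 3 Nat.prime_three (by omega)).mpr (Or.inr rfl)
  have hc := (hall_restrict π H hH s hs).2.2
  rw [Nat.card_coe_set_eq, hcard] at hc
  have hle : s.ncard ≤ 7 := by
    rw [← hcard, ← Set.ncard_univ]; exact Set.ncard_le_ncard (Set.subset_univ s) (Set.toFinite _)
  have c2 := hc 2 Nat.prime_two h2
  have c3 := hc 3 Nat.prime_three h3
  generalize s.ncard = j at *
  interval_cases j <;> simp_all (config := {decide := true})

theorem exc7_exists_invariant (hH : IsPiHall π H) (h7 : Exc π (Nat.card α) 7) :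
    ∃ s : Set α, s.ncard = 3 ∧ ∀ g ∈ H, ∀ x ∈ s, g x ∈ s := by
  have hcard : Nat.card α = 7 := h7.1
  have hne : Nonempty α := (Nat.card_pos_iff.mp (by omega)).1
  obtain ⟨x₀⟩ := hne
  have hinv := orbit_invariant H x₀
  have h0 : (MulAction.orbit H x₀).ncard ≠ 0 := by
    have hne : (MulAction.orbit H x₀).Nonempty := ⟨x₀, MulAction.mem_orbit_self x₀⟩
    exact (Set.ncard_pos (Set.toFinite _)).mpr hne |>.ne'
  have hcompl := Set.ncard_add_ncard_compl (MulAction.orbit H x₀)
  rcases exc7_invariant_card hH h7 _ hinv with h | h | h | h | h | h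
  · exact absurd h h0
  · exfalso
    obtain ⟨a, ha⟩ := Set.ncard_eq_one.mp h
    have hx0 : x₀ = a := by
      have : x₀ ∈ MulAction.orbit H x₀ := MulAction.mem_orbit_self x₀
      rw [ha] at this
      exact this
    refine exc7_no_fixed hH h7 x₀ (fun g hg => ?_)
    have := hinv g hg x₀ (MulAction.mem_orbit_self x₀)
    rw [ha] at this
    rw [hx0] at this ⊢
    exact this
  · exact ⟨_, h, hinv⟩
  · exact ⟨(MulAction.orbit H x₀)ᶜ, by omega, compl_invariant H _ hinv⟩
  · exfalso
    have h2 : (MulAction.orbit H x₀)ᶜ.ncard = 1 := by omega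
    obtain ⟨y, hy⟩ := Set.ncard_eq_one.mp h2
    refine exc7_no_fixed hH h7 y (fun g hg => ?_)
    have := compl_invariant H _ hinv g hg y (by rw [hy]; rfl)
    rw [hy] at this
    exact this
  · exfalso
    have h1 := orbit_ncard_dvd H x₀
    rw [h] at h1
    have h2 := hH.1 7 (by norm_num) h1
    have := (h7.2 7 (by norm_num) (by omega)).mp h2
    omega

theorem exc7_struct (hH : IsPiHall π H) (h7 : Exc π (Nat.card α) 7) :
    ∃ s : Set α, s.ncard = 3 ∧ H = MulAction.stabilizer (Equiv.Perm α) s := by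
  have hcard : Nat.card α = 7 := h7.1
  obtain ⟨s, hs3, hs⟩ := exc7_exists_invariant hH h7
  refine ⟨s, hs3, hall_eq_of_le hH (fun g hg => ?_) (setstab_pi s ?_)⟩
  · exact MulAction.mem_stabilizer_iff.mpr (smul_set_eq_of_invariant s g (hs g hg))
  · intro p hp hle
    have hcompl := Set.ncard_add_ncard_compl s
    have hp2 := hp.two_le
    have : p ≤ 4 := by omega
    refine (h7.2 p hp (by omega)).mpr ?_
    interval_cases p
    · exact Or.inl rfl
    · exact Or.inr rfl
    · exact absurd hp (by norm_num)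


/-! ## the exceptional case of degree 8 -/

theorem exc8_transitive (hH : IsPiHall π H) (h8 : Exc π (Nat.card α) 8) :
    MulAction.IsPretransitive H α := by
  have hcard : Nat.card α = 8 := h8.1
  have h2 : 2 ∈ π := (h8.2 2 Nat.prime_two (by omega)).mpr (Or.inl rfl)
  refine ⟨fun x y => ?_⟩
  have hinv := orbit_invariant H x
  have hc := (hall_restrict π H hH _ hinv).2.2 2 Nat.prime_two h2
  rw [Nat.card_coe_set_eq, hcard] at hc
  have hle : (MulAction.orbit H x).ncard ≤ 8 := by
    rw [← hcard, ← Set.ncard_univ]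
    exact Set.ncard_le_ncard (Set.subset_univ _) (Set.toFinite _)
  have h0 : (MulAction.orbit H x).ncard ≠ 0 := by
    have hne : (MulAction.orbit H x).Nonempty := ⟨x, MulAction.mem_orbit_self x⟩
    exact (Set.ncard_pos (Set.toFinite _)).mpr hne |>.ne'
  have h8' : (MulAction.orbit H x).ncard = 8 := by
    generalize (MulAction.orbit H x).ncard = j at *
    interval_cases j <;> simp_all (config := {decide := true})
  have huniv : MulAction.orbit H x = Set.univ := by
    refine Set.eq_of_subset_of_ncard_le (Set.subset_univ _) ?_ (Set.toFinite _)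
    rw [Set.ncard_univ, hcard, h8']
  have : y ∈ MulAction.orbit H x := by rw [huniv]; trivial
  exact this

theorem exc8_block (hH : IsPiHall π H) (h8 : Exc π (Nat.card α) 8) :
    ∃ B : Set α, B.ncard = 4 ∧ ∀ g ∈ H, g • B = B ∨ g • B = Bᶜ := by
  classical
  have hcard : Nat.card α = 8 := h8.1
  have h2 : 2 ∈ π := (h8.2 2 Nat.prime_two (by omega)).mpr (Or.inl rfl)
  have h3 : 3 ∈ π := (h8.2 3 Nat.prime_three (by omega)).mpr (Or.inr rfl)
  have h5 : 5 ∉ π := fun h => by
    have := (h8.2 5 (by norm_num) (by omega)).mp h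
    omega
  have htr := exc8_transitive hH h8
  have hnprim : ¬ MulAction.IsPreprimitive H α := by
    intro hprim
    refine h5 (prim_all_primes π H hH hprim ⟨2, 3, Nat.prime_two, Nat.prime_three, by norm_num, h2, h3,
      by omega, by omega⟩ 5 (by norm_num) (by omega))
  obtain ⟨B, hB, hBnt⟩ : ∃ B : Set α, MulAction.IsBlock H B ∧ ¬ MulAction.IsTrivialBlock B := by
    by_contra hcon
    rw [not_exists] at hcon
    refine hnprim { toIsPretransitive := htr, isTrivialBlock_of_isBlock := fun {B} hB => ?_ }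
    by_contra h
    exact hcon B ⟨hB, h⟩
  have hBns : ¬ B.Subsingleton := fun h => hBnt (Or.inl h)
  have hBnu : B ≠ Set.univ := fun h => hBnt (Or.inr h)
  have hBne : B.Nonempty := by
    rw [Set.nonempty_iff_ne_empty]
    rintro rfl
    exact hBns Set.subsingleton_empty
  have hdvd : B.ncard ∣ 8 := hcard ▸ hB.ncard_dvd_card hBne
  have hB1 : B.ncard ≠ 1 := by
    intro h
    obtain ⟨a, rfl⟩ := Set.ncard_eq_one.mp h
    exact hBns Set.subsingleton_singleton
  have hB8 : B.ncard ≠ 8 := by
    intro h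
    refine hBnu (Set.eq_of_subset_of_ncard_le (Set.subset_univ _) ?_ (Set.toFinite _))
    rw [Set.ncard_univ, hcard, h]
  have hB0 : B.ncard ≠ 0 := ((Set.ncard_pos (Set.toFinite _)).mpr hBne).ne'
  obtain ⟨x, hxB⟩ := hBne
  -- elements of `H` fixing `x` fix `B`
  have hfixB : ∀ g ∈ H, g x = x → g • B = B := by
    intro g hg hgx
    rcases MulAction.isBlock_iff_smul_eq_or_disjoint.mp hB ⟨g, hg⟩ with h | h
    · exact h
    · exfalso
      have h1 : x ∈ (⟨g, hg⟩ : ↥H) • B := ⟨x, hxB, hgx⟩
      exact Set.disjoint_left.mp h h1 hxB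
  have hB24 : B.ncard = 2 ∨ B.ncard = 4 := by
    have hle : B.ncard ≤ 8 := Nat.le_of_dvd (by norm_num) hdvd
    generalize B.ncard = j at *
    interval_cases j <;> simp_all (config := {decide := true})
  rcases hB24 with hB2 | hB4
  · -- a block of size 2 gives a fixed point of the stabilizer on the other 7 points
    exfalso
    have h1 : (B \ {x}).ncard = 1 := by
      rw [Set.ncard_sdiff_singleton_of_mem hxB, hB2]
    obtain ⟨y, hy⟩ := Set.ncard_eq_one.mp h1
    have hyB : y ∈ B ∧ y ≠ x := by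
      have : y ∈ B \ {x} := by rw [hy]; rfl
      exact ⟨this.1, this.2⟩
    have hfixy : ∀ g ∈ H, g x = x → g y = y := by
      intro g hg hgx
      have h3 : g y ∈ B := by
        have : g • y ∈ g • B := Set.smul_mem_smul_set hyB.1
        rw [hfixB g hg hgx] at this
        exact this
      have h4 : g y ≠ x := by
        intro h
        rw [← hgx] at h
        exact hyB.2 (g.injective h)
      have : g y ∈ B \ {x} := ⟨h3, h4⟩
      rw [hy] at this
      exact this
    have hR := hall_stabilizer π H hH htr x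
    have hc7 : Nat.card ↥(({x} : Set α)ᶜ) = 7 := by
      rw [Nat.card_coe_set_eq]
      have := Set.ncard_add_ncard_compl ({x} : Set α)
      rw [Set.ncard_singleton] at this
      omega
    have h7' : Exc π (Nat.card ↥(({x} : Set α)ᶜ)) 7 :=
      ⟨hc7, fun r hr hle => h8.2 r hr (by omega)⟩
    refine exc7_no_fixed hR h7' ⟨y, hyB.2⟩ ?_
    rintro σ ⟨g, hg, hσ⟩
    apply Subtype.ext
    rw [hσ]
    have hg' := Subgroup.mem_inf.mp hg
    exact hfixy g hg'.1 (MulAction.mem_stabilizer_iff.mp hg'.2)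
  · refine ⟨B, hB4, fun g hg => ?_⟩
    rcases MulAction.isBlock_iff_smul_eq_or_disjoint.mp hB ⟨g, hg⟩ with h | h
    · exact Or.inl h
    · right
      have h1 : g • B ⊆ Bᶜ := fun z hz hzB => Set.disjoint_left.mp h hz hzB
      refine Set.eq_of_subset_of_ncard_le h1 ?_ (Set.toFinite _)
      have hcompl := Set.ncard_add_ncard_compl B
      rw [← Set.image_smul, Set.ncard_image_of_injective _ (MulAction.injective g)]
      omega

omit [Fintype α] [DecidableEq α] in
/-- the stabilizer of a partition `{B, Bᶜ}` is a `π`-group as soon as `2 ∈ π` and the stabilizer of `B` is -/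
theorem pairstab_pi [Finite α] (B : Set α) (hBne : B.Nonempty) (h2 : 2 ∈ π)
    (hπ : ∀ p : ℕ, p.Prime → (p ≤ B.ncard ∨ p ≤ Bᶜ.ncard) → p ∈ π) :
    ∀ p : ℕ, p.Prime →
      p ∣ Nat.card (MulAction.stabilizer (Equiv.Perm α) ({B, Bᶜ} : Set (Set α))) → p ∈ π := by
  intro p hp hpd
  by_cases hp2 : p = 2
  · rw [hp2]; exact h2
  haveI : Fact p.Prime := ⟨hp⟩
  obtain ⟨g, hg⟩ := exists_prime_orderOf_dvd_card' p hpd
  have hgW : (g : Equiv.Perm α) • ({B, Bᶜ} : Set (Set α)) = {B, Bᶜ} :=
    MulAction.mem_stabilizer_iff.mp g.2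
  have hgB : (g : Equiv.Perm α) • B = B ∨ (g : Equiv.Perm α) • B = Bᶜ := by
    have : (g : Equiv.Perm α) • B ∈ (g : Equiv.Perm α) • ({B, Bᶜ} : Set (Set α)) :=
      Set.smul_mem_smul_set (Set.mem_insert _ _)
    rw [hgW] at this
    simpa using this
  have hgB' : (g : Equiv.Perm α) • B = B := by
    rcases hgB with h | h
    · exact h
    · exfalso
      have hpow : ∀ k : ℕ, ((g : Equiv.Perm α) ^ k) • B = if Even k then B else Bᶜ := by
        intro k
        induction k with
        | zero => simp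
        | succ k ih =>
          rw [pow_succ', mul_smul, ih]
          by_cases hk : Even k
          · have : ¬ Even (k + 1) := by
              rw [Nat.even_add_one]; exact not_not.mpr hk
            rw [if_pos hk, if_neg this, h]
          · have : Even (k + 1) := by
              rw [Nat.even_add_one]; exact hk
            rw [if_neg hk, if_pos this, Set.smul_set_compl, h, compl_compl]
      have hodd : ¬ Even p := by
        rw [Nat.not_even_iff_odd]
        exact hp.odd_of_ne_two hp2
      have h1 := hpow p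
      rw [if_neg hodd] at h1
      have h3 : (g : Equiv.Perm α) ^ p = 1 := by
        have : g ^ p = 1 := by rw [← hg]; exact pow_orderOf_eq_one g
        have := congrArg (Subtype.val) this
        simpa using this
      rw [h3, one_smul] at h1
      obtain ⟨x, hx⟩ := hBne
      have : x ∈ Bᶜ := by rw [← h1]; exact hx
      exact this hx
  -- `g` lies in the stabilizer of `B`, whose order is a `π`-number
  have hmem : (g : Equiv.Perm α) ∈ MulAction.stabilizer (Equiv.Perm α) B :=
    MulAction.mem_stabilizer_iff.mpr hgB'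
  have ho : orderOf (⟨(g : Equiv.Perm α), hmem⟩ : MulAction.stabilizer (Equiv.Perm α) B) = p := by
    rw [← hg, ← Subgroup.orderOf_coe, ← Subgroup.orderOf_coe g]
  have hdvd : p ∣ Nat.card (MulAction.stabilizer (Equiv.Perm α) B) := by
    rw [← ho]
    exact orderOf_dvd_natCard _
  exact setstab_pi B hπ p hp hdvd

theorem exc8_struct (hH : IsPiHall π H) (h8 : Exc π (Nat.card α) 8) :
    ∃ B : Set α, B.ncard = 4 ∧
      H = MulAction.stabilizer (Equiv.Perm α) ({B, Bᶜ} : Set (Set α)) := by
  have hcard : Nat.card α = 8 := h8.1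
  have h2 : 2 ∈ π := (h8.2 2 Nat.prime_two (by omega)).mpr (Or.inl rfl)
  obtain ⟨B, hB4, hB⟩ := exc8_block hH h8
  have hBne : B.Nonempty := by
    rw [Set.nonempty_iff_ne_empty]
    rintro rfl
    simp at hB4
  refine ⟨B, hB4, hall_eq_of_le hH (fun g hg => ?_) (pairstab_pi B hBne h2 ?_)⟩
  · rw [MulAction.mem_stabilizer_iff, Set.smul_set_insert, Set.smul_set_singleton,
      Set.smul_set_compl]
    rcases hB g hg with h | h
    · rw [h]
    · rw [h, compl_compl, Set.pair_comm]
  · intro p hp hle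
    have hcompl := Set.ncard_add_ncard_compl B
    have hp2 := hp.two_le
    have : p ≤ 4 := by omega
    refine (h8.2 p hp (by omega)).mpr ?_
    interval_cases p
    · exact Or.inl rfl
    · exact Or.inr rfl
    · exact absurd hp (by norm_num)

end perm

end Cfsg.Agent.Lib.Helper61.Hc
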