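import Mathlib
import Cfsg.Agent.Lib.Helper61.HcStruct

/-!
# Hc (S2535): Hall `π`-subgroups of `Perm α` are conjugate (given the arithmetic classification S2536)
-/

set_option autoImplicit false

namespace Cfsg.Agent.Lib.Helper61.Hc

open Cfsg Cfsg.Agent.Lib.Helper15.Hs
open scoped Pointwise

section perm

variable {α : Type*} [Fintype α] [DecidableEq α] {π : Set ℕ} {H K : Subgroup (Equiv.Perm α)}

/-- Any two Hall `π`-subgroups of `Perm α` are conjugate, provided the arithmetic classification
(S2536) holds for `|α|`. -/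
theorem hall_perm_conj (hH : IsPiHall π H) (hK : IsPiHall π K)
    (hcls : TwoIn π (Nat.card α) → OneOut π (Nat.card α) →
      StdCase π (Nat.card α) ∨ Exc π (Nat.card α) 7 ∨ Exc π (Nat.card α) 8) :
    ∃ g : Equiv.Perm α, K = H.map (MulAut.conj g).toMonoidHom := by
  by_cases h2 : TwoIn π (Nat.card α)
  · by_cases h1 : OneOut π (Nat.card α)
    · rcases hcls h2 h1 with hstd | h7 | h8
      · obtain ⟨x, hx⟩ := std_struct hH hstd
        obtain ⟨y, hy⟩ := std_struct hK hstd
        refine ⟨Equiv.swap x y, ?_⟩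
        rw [hy, hx, ← MulAction.stabilizer_smul_eq_stabilizer_map_conj]
        congr 1
        simp
      · obtain ⟨s, hs3, hs⟩ := exc7_struct hH h7
        obtain ⟨t, ht3, ht⟩ := exc7_struct hK h7
        obtain ⟨g, hg⟩ := exists_perm_smul_set s t (by rw [hs3, ht3])
        refine ⟨g, ?_⟩
        rw [ht, hs, ← MulAction.stabilizer_smul_eq_stabilizer_map_conj, hg]
      · obtain ⟨B, hB4, hB⟩ := exc8_struct hH h8
        obtain ⟨B', hB'4, hB'⟩ := exc8_struct hK h8
        obtain ⟨g, hg⟩ := exists_perm_smul_set B B' (by rw [hB4, hB'4])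
        refine ⟨g, ?_⟩
        rw [hB', hB, ← MulAction.stabilizer_smul_eq_stabilizer_map_conj, Set.smul_set_insert,
          Set.smul_set_singleton, Set.smul_set_compl, hg]
    · -- all primes `≤ |α|` lie in `π`
      have hall : ∀ r : ℕ, r.Prime → r ≤ Nat.card α → r ∈ π := by
        intro r hr hle
        by_contra hrπ
        exact h1 ⟨r, hr, hle, hrπ⟩
      refine ⟨1, ?_⟩
      rw [hall_eq_top hH hall, hall_eq_top hK hall]
      simp
  · refine hall_conj_of_le_one hH hK ?_
    intro r s hr hs hrπ hsπ hrd hsd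
    by_contra hne
    rw [Nat.card_perm] at hrd hsd
    exact h2 ⟨r, s, hr, hs, hne, hrπ, hsπ, (hr.dvd_factorial).mp hrd, (hs.dvd_factorial).mp hsd⟩

end perm

end Cfsg.Agent.Lib.Helper61.Hc
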