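import Mathlib
import Cfsg.Agent.Lib.Helper61.HcConj

/-!
# Hc (S2535): Hall subgroups of `A_n` are conjugate, given S2538 (`M = M₀ ∩ A_n`) and S2536
-/

set_option autoImplicit false

namespace Cfsg.Agent.Lib.Helper61.Hc

open Cfsg Cfsg.Agent.Lib.Helper15.Hs

section general

variable {G : Type*} [Group G]

/-- conjugating inside a subgroup `N` by an element of `N` -/
theorem subgroupOf_map_conj (N L : Subgroup G) (a : ↥N) :
    (L.map (MulAut.conj (a : G)).toMonoidHom).subgroupOf N =
      (L.subgroupOf N).map (MulAut.conj a).toMonoidHom := by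
  ext x
  simp only [Subgroup.mem_subgroupOf, Subgroup.mem_map, MulEquiv.coe_toMonoidHom,
    MulAut.conj_apply]
  constructor
  · rintro ⟨y, hy, hyx⟩
    refine ⟨a⁻¹ * x * a, ?_, by group⟩
    have : ((a⁻¹ * x * a : ↥N) : G) = y := by
      push_cast
      rw [← hyx]
      group
    rw [this]
    exact hy
  · rintro ⟨z, hz, rfl⟩
    exact ⟨(z : G), hz, by push_cast; rfl⟩

end general

section alt

variable (n : ℕ) (π : Set ℕ)

/-- the image in `S_n` of a Hall `π`-subgroup of `A_n` is a Hall subgroup of `S_n` when `2 ∉ π` -/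
theorem hall_map_subtype_of_two_notin (h2 : 2 ∉ π)
    (M : Subgroup ↥(alternatingGroup (Fin n))) (hM : IsPiHall π M) :
    IsPiHall π (M.map (alternatingGroup (Fin n)).subtype) := by
  refine ⟨fun p hp hpd => ?_, fun p hp hpπ hpd => ?_⟩
  · have : Nat.card ↥(M.map (alternatingGroup (Fin n)).subtype) = Nat.card ↥M :=
      Nat.card_congr (M.equivMapOfInjective _ (Subgroup.subtype_injective _)).symm.toEquiv
    rw [this] at hpd
    exact hM.1 p hp hpd
  · rw [Subgroup.index_map_subtype] at hpd
    rcases (Nat.Prime.dvd_mul hp).mp hpd with h | h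
    · exact hM.2 p hp hpπ h
    · have h3 : (alternatingGroup (Fin n)).index ∣ 2 := by
        rcases Nat.lt_or_ge n 2 with hn | hn
        · have : Subsingleton (Equiv.Perm (Fin n)) := by
            interval_cases n
            · infer_instance
            · infer_instance
          rw [Subgroup.index_eq_one.mpr (Subsingleton.elim _ _)]
          exact one_dvd _
        · haveI : Nontrivial (Fin n) := Fin.nontrivial_iff_two_le.mpr hn
          rw [alternatingGroup.index_eq_two]
      have h4 : p ∣ 2 := h.trans h3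
      have : p = 2 := (Nat.prime_dvd_prime_iff_eq hp Nat.prime_two).mp h4
      exact h2 (this ▸ hpπ)

/-- **Conjugacy of Hall subgroups of `A_n`**, from S2538 (`h38`), conjugacy in `S_n` (`hconjS`)
and the classification S2536 (`h36`). -/
theorem alt_hall_conj
    (h38 : ∀ M : Subgroup ↥(alternatingGroup (Fin n)), IsPiHall π M →
      ∃ M₀ : Subgroup (Equiv.Perm (Fin n)), IsPiHall π M₀ ∧
        M = M₀.subgroupOf (alternatingGroup (Fin n)))
    (hconjS : ∀ H K : Subgroup (Equiv.Perm (Fin n)), IsPiHall π H → IsPiHall π K →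
      ∃ g : Equiv.Perm (Fin n), K = H.map (MulAut.conj g).toMonoidHom)
    (h36 : TwoIn π n → OneOut π n → IsEPiGroup π (Equiv.Perm (Fin n)) →
      StdCase π n ∨ Exc π n 7 ∨ Exc π n 8)
    (M M' : Subgroup ↥(alternatingGroup (Fin n))) (hM : IsPiHall π M) (hM' : IsPiHall π M') :
    ∃ a : ↥(alternatingGroup (Fin n)), M' = M.map (MulAut.conj a).toMonoidHom := by
  by_cases h2 : 2 ∈ π
  · rcases Nat.lt_or_ge n 2 with hn | hn
    · -- trivial group
      have : Subsingleton (Equiv.Perm (Fin n)) := by
        interval_cases n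
        · infer_instance
        · infer_instance
      refine ⟨1, ?_⟩
      ext x
      have hx : x = 1 := Subsingleton.elim _ _
      rw [hx]
      simp [Subgroup.one_mem]
    · haveI : Nontrivial (Fin n) := Fin.nontrivial_iff_two_le.mpr hn
      obtain ⟨M₀, hM₀, rfl⟩ := h38 M hM
      obtain ⟨M₀', hM₀', rfl⟩ := h38 M' hM'
      obtain ⟨g, hg⟩ := hconjS M₀ M₀' hM₀ hM₀'
      -- an odd element of `M₀`
      obtain ⟨h, hh, hodd⟩ : ∃ h ∈ M₀, h ∉ alternatingGroup (Fin n) := by
        by_contra hcon
        have hle : M₀ ≤ alternatingGroup (Fin n) := by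
          intro x hx
          by_contra hxa
          exact hcon ⟨x, hx, hxa⟩
        have := Subgroup.index_dvd_of_le hle
        rw [alternatingGroup.index_eq_two] at this
        exact hM₀.2 2 Nat.prime_two h2 this
      -- make `g` even
      obtain ⟨g', hg'A, hg'⟩ : ∃ g' : Equiv.Perm (Fin n), g' ∈ alternatingGroup (Fin n) ∧
          M₀' = M₀.map (MulAut.conj g').toMonoidHom := by
        by_cases hgA : g ∈ alternatingGroup (Fin n)
        · exact ⟨g, hgA, hg⟩
        · refine ⟨g * h, ?_, ?_⟩
          · rw [Equiv.Perm.mem_alternatingGroup] at hgA hodd ⊢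
            rw [Equiv.Perm.sign_mul]
            rcases Int.units_eq_one_or (Equiv.Perm.sign g) with h1 | h1
            · exact absurd h1 hgA
            · rcases Int.units_eq_one_or (Equiv.Perm.sign h) with h3 | h3
              · exact absurd h3 hodd
              · rw [h1, h3]; rfl
          · rw [map_conj_mul_of_mem g h hh]
            exact hg
      refine ⟨⟨g', hg'A⟩, ?_⟩
      rw [hg']
      exact subgroupOf_map_conj (alternatingGroup (Fin n)) M₀ ⟨g', hg'A⟩
  · by_cases hone : ∀ r s : ℕ, r.Prime → s.Prime → r ∈ π → s ∈ π →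
        r ∣ Nat.card ↥(alternatingGroup (Fin n)) → s ∣ Nat.card ↥(alternatingGroup (Fin n)) → r = s
    · exact hall_conj_of_le_one hM hM' hone
    · exfalso
      simp only [not_forall] at hone
      obtain ⟨r, s, hr, hs, hrπ, hsπ, hrd, hsd, hne⟩ := hone
      have hdvd : Nat.card ↥(alternatingGroup (Fin n)) ∣ n.factorial := by
        have := Subgroup.card_subgroup_dvd_card (alternatingGroup (Fin n))
        rwa [Nat.card_perm, Nat.card_fin] at this
      have hrn : r ≤ n := (hr.dvd_factorial).mp (hrd.trans hdvd)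
      have hsn : s ≤ n := (hs.dvd_factorial).mp (hsd.trans hdvd)
      have h2n : 2 ≤ n := hr.two_le.trans hrn
      have hTwo : TwoIn π n := ⟨r, s, hr, hs, hne, hrπ, hsπ, hrn, hsn⟩
      have hOne : OneOut π n := ⟨2, Nat.prime_two, h2n, h2⟩
      have hE : IsEPiGroup π (Equiv.Perm (Fin n)) :=
        ⟨_, hall_map_subtype_of_two_notin n π h2 M hM⟩
      have h3n : 3 ≤ n := by
        have := hr.two_le
        have := hs.two_le
        omega
      rcases h36 hTwo hOne hE with hstd | h7 | h8
      · exact h2 ((hstd.2 2 Nat.prime_two h2n).mpr (by omega))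
      · exact h2 ((h7.2 2 Nat.prime_two h2n).mpr (Or.inl rfl))
      · exact h2 ((h8.2 2 Nat.prime_two h2n).mpr (Or.inl rfl))

end alt

end Cfsg.Agent.Lib.Helper61.Hc
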