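import Mathlib
import Cfsg.Agent.Lib.Helper61.HcAlt
import Cfsg.Agent.S2536

/-!
# Hc (S2535): `E_π ⟺ C_π` for `S_n` and `A_n`, and `E_π(S_n) ⟺ E_π(A_n)`, from S2536 and the statement of S2538
-/

set_option autoImplicit false

namespace Cfsg.Agent.Lib.Helper61.Hc

open Cfsg Cfsg.Agent.Lib.Helper15.Hs

/-- the arithmetic classification, from S2536 -/
theorem cls_of_s2536 (n : ℕ) (π : Set ℕ) (h2 : TwoIn π n) (h1 : OneOut π n)
    (hE : IsEPiGroup π (Equiv.Perm (Fin n))) : StdCase π n ∨ Exc π n 7 ∨ Exc π n 8 := by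
  rcases (Cfsg.Agent.S2536.result n π h2 h1).mp hE with h | ⟨h7 | h8, h⟩
  · exact Or.inl h
  · exact Or.inr (Or.inl ⟨h7, h⟩)
  · exact Or.inr (Or.inr ⟨h8, h⟩)

/-- **Conjugacy of Hall subgroups of `Perm (Fin n)`** (unconditional). -/
theorem hall_perm_fin_conj (n : ℕ) (π : Set ℕ) (H K : Subgroup (Equiv.Perm (Fin n)))
    (hH : IsPiHall π H) (hK : IsPiHall π K) :
    ∃ g : Equiv.Perm (Fin n), K = H.map (MulAut.conj g).toMonoidHom := by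
  refine hall_perm_conj hH hK ?_
  rw [Nat.card_fin]
  exact fun h2 h1 => cls_of_s2536 n π h2 h1 ⟨H, hH⟩

/-- S2535 from the statement of S2538. -/
theorem s2535_of_s2538 (n : ℕ) (π : Set ℕ)
    (h38 : ∀ M : Subgroup ↥(alternatingGroup (Fin n)), IsPiHall π M ↔
      ∃ M₀ : Subgroup (Equiv.Perm (Fin n)), IsPiHall π M₀ ∧
        M = M₀.subgroupOf (alternatingGroup (Fin n))) :
    (Cfsg.IsEPiGroup π (Equiv.Perm (Fin n)) ↔ Cfsg.IsCPiGroup π (Equiv.Perm (Fin n))) ∧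
    (Cfsg.IsEPiGroup π (Equiv.Perm (Fin n)) ↔ Cfsg.IsEPiGroup π ↥(alternatingGroup (Fin n))) ∧
    (Cfsg.IsEPiGroup π ↥(alternatingGroup (Fin n)) ↔
      Cfsg.IsCPiGroup π ↥(alternatingGroup (Fin n))) := by
  refine ⟨⟨fun hE => ⟨hE, fun H K hH hK => hall_perm_fin_conj n π H K hH hK⟩, fun h => h.1⟩,
    ⟨?_, ?_⟩, ⟨fun hE => ⟨hE, fun M M' hM hM' => ?_⟩, fun h => h.1⟩⟩
  · rintro ⟨M₀, hM₀⟩
    exact ⟨_, (h38 _).mpr ⟨M₀, hM₀, rfl⟩⟩
  · rintro ⟨M, hM⟩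
    obtain ⟨M₀, hM₀, -⟩ := (h38 M).mp hM
    exact ⟨M₀, hM₀⟩
  · exact alt_hall_conj n π (fun M hM => (h38 M).mp hM)
      (fun H K hH hK => hall_perm_fin_conj n π H K hH hK)
      (fun h2 h1 hE => cls_of_s2536 n π h2 h1 hE) M M' hM hM'

end Cfsg.Agent.Lib.Helper61.Hc
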