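import Mathlib
import Cfsg.Agent.Lib.Helper94.Iso8Defs
import Cfsg.Agent.Lib.Helper8.OddFpfMinus

/-!
# ISO8-MT: the minus-type torus, an isometry of order `q^(m+1) + 1` of the standard minus-type form
(characteristic 2)
-/

set_option autoImplicit false

namespace Cfsg.Agent.Lib.Helper94.Iso8

open Module Matrix

section transport

variable {F : Type*} [Field F] {ι : Type} [Fintype ι] [DecidableEq ι]
  {L : Type*} [Field L] [Algebra F L]

/-- multiplication by `x` in the coordinates `Θ`, as a matrix -/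
noncomputable def mt_phi (Θ : L ≃ₗ[F] (ι → F)) : L →* Matrix ι ι F where
  toFun x := LinearMap.toMatrix'
    ((Θ : L →ₗ[F] (ι → F)) ∘ₗ LinearMap.mulLeft F x ∘ₗ (Θ.symm : (ι → F) →ₗ[F] L))
  map_one' := by
    rw [← LinearMap.toMatrix'_id]
    congr 1
    apply LinearMap.ext
    intro v
    simp
  map_mul' := by
    intro x y
    rw [← LinearMap.toMatrix'_comp]
    congr 1
    apply LinearMap.ext
    intro v
    simp

theorem mt_phi_mulVec (Θ : L ≃ₗ[F] (ι → F)) (x : L) (a : ι → F) :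
    mt_phi Θ x *ᵥ a = Θ (x * Θ.symm a) := by
  show (LinearMap.toMatrix' _) *ᵥ a = _
  rw [← Matrix.toLin'_apply, Matrix.toLin'_toMatrix']
  rfl

theorem mt_phi_injective (Θ : L ≃ₗ[F] (ι → F)) : Function.Injective (mt_phi Θ) := by
  intro x y h
  have h1 := mt_phi_mulVec Θ x (Θ 1)
  rw [h, mt_phi_mulVec, LinearEquiv.symm_apply_apply, mul_one, mul_one] at h1
  exact (Θ.injective h1).symm

/-- a unit of `L` preserving a form `q` that is `Q` in the coordinates `Θ` gives an isometry of `Q`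
of the same order -/
theorem mt_transport (Θ : L ≃ₗ[F] (ι → F)) (Q : (ι → F) → F) (q : L → F)
    (hΘ : ∀ v, Q (Θ v) = q v) (ζ : Lˣ) (hζ : ∀ v, q ((ζ : L) * v) = q v) :
    ∃ g : ↥(Cfsg.isometryGroup F Q), orderOf g = orderOf ζ := by
  have hmem : Units.map (mt_phi Θ) ζ ∈ Cfsg.isometryGroup F Q := by
    intro u v
    show Q ((mt_phi Θ (ζ : L)) *ᵥ u) = Q u
    rw [mt_phi_mulVec, hΘ, hζ, ← hΘ, LinearEquiv.apply_symm_apply]
  refine ⟨⟨Units.map (mt_phi Θ) ζ, hmem⟩, ?_⟩
  rw [Subgroup.orderOf_mk]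
  exact orderOf_injective (Units.map (mt_phi Θ)) (Units.map_injective (mt_phi_injective Θ)) ζ

end transport

/-- ISO8-MT: the minus-type torus: an isometry of order `q^(m+1) + 1` -/
theorem has_MT {F : Type*} [Field F] [Fintype F] [CharP F 2] (a b : F)
    (han : ∀ z₁ z₂ : F, z₁ ^ 2 + a * z₁ * z₂ + b * z₂ ^ 2 = 0 → z₁ = 0 ∧ z₂ = 0) (m : ℕ) :
    HasMinus F a b m (Fintype.card F ^ (m + 1) + 1) := by
  have h2 : (2 : F) = 0 := by
    have := CharP.cast_eq_zero F 2
    exact_mod_cast this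
  have hq1 : 1 ≤ Fintype.card F := Fintype.card_pos
  have hq2' : 2 ≤ Fintype.card F := Fintype.one_lt_card
  have hq2 : 2 ∣ Fintype.card F := by
    obtain ⟨n, -, hn⟩ := FiniteField.card F 2
    rw [hn]
    exact dvd_pow_self 2 n.ne_zero
  let L := FiniteField.Extension F 2 (2 * m + 1 + 1)
  have : Finite L := inferInstance
  let _ : Fintype L := Fintype.ofFinite L
  have hdimL : Module.finrank F L = 2 * m + 2 := FiniteField.finrank_extension F 2 (2 * m + 1 + 1)
  have hcardL : Fintype.card L = Fintype.card F ^ (2 * m + 2) := by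
    rw [← Nat.card_eq_fintype_card, FiniteField.natCard_extension, Nat.card_eq_fintype_card]
  have h2L : (2 : L) = 0 := by
    have h : (algebraMap F L) 2 = 2 := map_ofNat _ 2
    rw [← h, h2, map_zero]
  set A := Fintype.card F ^ (m + 1) with hA
  have hA2 : 2 ≤ A := by
    calc 2 ≤ Fintype.card F := hq2'
      _ = Fintype.card F ^ 1 := (pow_one _).symm
      _ ≤ Fintype.card F ^ (m + 1) := Nat.pow_le_pow_right hq1 (by omega)
  have hA1 : 1 ≤ A := by omega
  have hAA : Fintype.card F ^ (2 * m + 2) = A * A := by rw [hA, ← pow_add]; congr 1; ring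
  have hcardU : Nat.card Lˣ = (A - 1) * (A + 1) := by
    rw [Nat.card_units, Nat.card_eq_fintype_card, hcardL, hAA]
    zify [hA1, Nat.one_le_iff_ne_zero.2 (Nat.mul_ne_zero (by omega : A ≠ 0) (by omega : A ≠ 0))]
    ring
  -- an element of order exactly `A + 1`
  obtain ⟨γ, hγ⟩ := IsCyclic.exists_ofOrder_eq_natCard (α := Lˣ)
  have hζord : orderOf (γ ^ (A - 1)) = A + 1 := by
    rw [orderOf_pow_of_dvd (by omega) (by rw [hγ, hcardU]; exact Dvd.intro _ rfl), hγ, hcardU]
    exact Nat.mul_div_cancel_left _ (by omega)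
  set ζ : Lˣ := γ ^ (A - 1) with hζdef
  -- the involution
  let σ : L ≃ₐ[F] L := (FiniteField.Extension.frob F 2 (2 * m + 1 + 1)) ^ (m + 1)
  have hσn : ∀ x : L, σ x = x ^ A := by
    intro x
    show ((FiniteField.Extension.frob F 2 (2 * m + 1 + 1)) ^ (m + 1)) x = x ^ A
    rw [FiniteField.Extension.frob_iterate_apply, Nat.card_eq_fintype_card]
  have hσ : ∀ x, σ (σ x) = x := by
    intro x
    rw [hσn, hσn, ← pow_mul, ← hAA, ← hcardL]
    exact FiniteField.pow_card x
  have hζσ : (ζ : L) * σ ζ = 1 := by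
    rw [hσn, ← pow_succ']
    have h1 : ζ ^ (A + 1) = 1 := by
      rw [← orderOf_dvd_iff_pow_eq_one, hζord]
    have := congrArg (fun u : Lˣ => (u : L)) h1
    simpa using this
  have hσζ : σ (ζ : L) ≠ ζ := by
    intro h
    rw [h] at hζσ
    have h1 : ζ ^ 2 = 1 := by
      apply Units.ext
      rw [Units.val_pow_eq_pow_val, pow_two]
      exact hζσ
    have h3 := orderOf_dvd_of_pow_eq_one h1
    rw [hζord] at h3
    have := Nat.le_of_dvd (by norm_num) h3
    omega
  -- the element λ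
  set y₀ : L := (ζ : L) + σ ζ with hy₀
  have hy₀0 : y₀ ≠ 0 := by
    intro h
    apply hσζ
    have : σ (ζ : L) = (ζ : L) + (2 : L) * σ ζ - y₀ := by rw [hy₀]; ring
    rw [this, h, h2L]
    ring
  have hσy₀ : σ y₀ = y₀ := by
    rw [hy₀, map_add, hσ]
    ring
  set lam : L := (ζ : L) * y₀⁻¹ with hlamdef
  have hlam : lam + σ lam = 1 := by
    rw [hlamdef, map_mul, map_inv₀, hσy₀, ← add_mul, ← hy₀, mul_inv_cancel₀ hy₀0]
  -- coordinates
  obtain ⟨Θ, hΘ⟩ := Cfsg.Agent.Lib.Helper8.exists_coords_sigQ (σ := σ) (lam := lam) h2 hq2 hσ hlam m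
    hdimL hσn a b han
  obtain ⟨g, hg⟩ := mt_transport Θ (Cfsg.quadFormMinus m F a b)
    (⇑(Cfsg.Agent.Lib.Helper8.sigQ F L σ lam)) hΘ ζ
    (fun v => Cfsg.Agent.Lib.Helper8.unitMul_isometry ζ hζσ v)
  exact ⟨g, by rw [hg, hζord]⟩

end Cfsg.Agent.Lib.Helper94.Iso8
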