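import Mathlib
import Cfsg.Agent.Lib.Helper94.Iso8bDefs
import Cfsg.Agent.Lib.Helper8.OrthFormsMinus
import Cfsg.Agent.Lib.Helper43.OrthCardMinus
import Cfsg.Agent.Lib.Helper44.Transport

/-!
# ISO8B-DK (core) : the Dickson invariant of `GO⁻_{2m+2}(q)`, `q` even, as a homomorphism, with the leaves
ISO8B-D1 (`fix_parity`) and ISO8B-D3 (`refl_gen`) as hypotheses
-/

set_option autoImplicit false

namespace Cfsg.Agent.Lib.Helper94.Iso8

open Module QuadraticMap Cfsg.Agent.Lib.Helper43

universe u v w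

section abs
variable {F : Type v} [Field F]

/-- the abstract Dickson homomorphism, when the orthogonal transvections generate -/
theorem dk_abs {V : Type u} [AddCommGroup V] [Module F V] [FiniteDimensional F V]
    (h2 : (2 : F) = 0) (Q : QuadraticForm F V) (hnd : (polarBilin Q).Nondegenerate)
    (heven : Even (finrank F V))
    (hpar : ∀ (g : OG Q) (v : V) (hv : Q v ≠ 0),
      Odd (finrank F (fixSub (otv h2 Q v hv * g).1) + finrank F (fixSub g.1)))
    (hgen : ∀ g : OG Q, g ∈ Subgroup.closure (reflSet h2 Q)) :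
    ∃ D : ↥(OG Q) →* Multiplicative (ZMod 2),
      ∀ g : OG Q, D g = Multiplicative.ofAdd ((finrank F (fixSub g.1) : ℕ) : ZMod 2) := by
  classical
  set d : OG Q → ZMod 2 := fun g => ((finrank F (fixSub g.1) : ℕ) : ZMod 2) with hd
  have hself : ∀ x : ZMod 2, x + x = 0 := fun x => CharTwo.add_self_eq_zero x
  have h1 : d 1 = 0 := by
    show ((finrank F (fixSub (1 : OG Q).1) : ℕ) : ZMod 2) = 0
    have htop : fixSub (1 : OG Q).1 = ⊤ := by
      rw [eq_top_iff]
      intro x _
      rw [mem_fixSub]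
      rfl
    rw [htop, finrank_top]
    exact (ZMod.natCast_eq_zero_iff_even).2 heven
  have ht : ∀ t ∈ reflSet h2 Q, ∀ g : OG Q, d (t * g) = d g + 1 := by
    rintro t ⟨v, hv, rfl⟩ g
    have hodd := hpar g v hv
    have h3 := (ZMod.natCast_eq_one_iff_odd).2 hodd
    push_cast at h3
    have h4 := hself (d g)
    show ((finrank F (fixSub (otv h2 Q v hv * g).1) : ℕ) : ZMod 2)
      = ((finrank F (fixSub g.1) : ℕ) : ZMod 2) + 1
    linear_combination h3 - h4
  have main : ∀ r : OG Q, r ∈ Subgroup.closure (reflSet h2 Q) → ∀ g : OG Q, d (r * g) = d r + d g := by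
    intro r hr
    induction hr using Subgroup.closure_induction with
    | mem t ht' =>
      intro g
      have e1 := ht t ht' g
      have e2 := ht t ht' 1
      rw [mul_one, h1, zero_add] at e2
      rw [e1, e2, add_comm]
    | one =>
      intro g
      rw [one_mul, h1, zero_add]
    | mul x y _ _ hx hy =>
      intro g
      rw [mul_assoc, hx, hy, hx y, add_assoc]
    | inv x _ hx =>
      intro g
      have e1 := hx (x⁻¹ * g)
      rw [mul_inv_cancel_left] at e1
      have e2 := hx x⁻¹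
      rw [mul_inv_cancel, h1] at e2
      linear_combination (-1 : ZMod 2) * e1 + e2
  refine ⟨MonoidHom.mk' (fun g => Multiplicative.ofAdd (d g)) ?_, fun g => _root_.rfl⟩
  intro g g'
  show Multiplicative.ofAdd (d (g * g')) = Multiplicative.ofAdd (d g) * Multiplicative.ofAdd (d g')
  rw [main g (hgen g) g', ofAdd_add]

end abs

section mat

open Cfsg.Agent.Lib.Helper8 in
/-- ISO8B-DK with the two leaves as hypotheses. -/
theorem dk_core {F : Type*} [Field F] [Fintype F] [CharP F 2] (a b : F)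
    (han : ∀ z₁ z₂ : F, z₁ ^ 2 + a * z₁ * z₂ + b * z₂ ^ 2 = 0 → z₁ = 0 ∧ z₂ = 0) (m : ℕ)
    (h2 : (2 : F) = 0)
    (hpar : ∀ (g : OG (minusForm m F a b)) (v : (Fin m ⊕ Fin m) ⊕ Fin 2 → F)
      (hv : minusForm m F a b v ≠ 0),
      Odd (finrank F (fixSub (otv h2 (minusForm m F a b) v hv * g).1) + finrank F (fixSub g.1)))
    (hgen : ∀ g : OG (minusForm m F a b),
      g ∈ Subgroup.closure (reflSet h2 (minusForm m F a b))) :
    ∃ D : ↥(Cfsg.isometryGroup F (Cfsg.quadFormMinus m F a b)) →* Multiplicative (ZMod 2),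
      ∀ g, D g = Multiplicative.ofAdd
        ((fixdim (matOf g) : ℕ) : ZMod 2) := by
  classical
  have ha : a ≠ 0 := by
    rintro rfl
    obtain ⟨e, he⟩ := FiniteField.isSquare_of_char_two (ringChar.eq F 2) b
    have := han e 1 (by rw [he]; linear_combination (e * e) * h2)
    exact one_ne_zero this.2
  set Q : QuadraticForm F ((Fin m ⊕ Fin m) ⊕ Fin 2 → F) := minusForm m F a b with hQ
  have hnd : (polarBilin Q).Nondegenerate := minusForm_nondegenerate m F a b h2 ha
  have heven : Even (finrank F ((Fin m ⊕ Fin m) ⊕ Fin 2 → F)) := by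
    rw [Module.finrank_fintype_fun_eq_card]
    simp only [Fintype.card_sum, Fintype.card_fin]
    exact ⟨m + 1, by ring⟩
  obtain ⟨D, hD⟩ := dk_abs h2 Q hnd heven hpar hgen
  obtain ⟨φ, hφ⟩ := Cfsg.Agent.Lib.Helper44.exists_mulEquiv_isometryGroup
    (Cfsg.quadFormMinus m F a b) (⇑Q) (LinearEquiv.refl F _)
    (fun v => by rw [minusForm_coe]; rfl)
  have heq : Cfsg.Agent.Lib.Helper44.absIsometryGroup F (⇑Q) = OG Q := by
    ext g
    exact Iff.rfl
  let e := MulEquiv.subgroupCongr heq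
  refine ⟨D.comp (e.toMonoidHom.comp φ.symm.toMonoidHom), ?_⟩
  intro g
  show D (e (φ.symm g)) = _
  rw [hD]
  congr 2
  -- the two fixed spaces agree
  set g₀ := φ.symm g with hg₀
  have hg : g = φ g₀ := by rw [hg₀, MulEquiv.apply_symm_apply]
  have hlin : Matrix.toLin' (matOf g) =
      ((g₀ : ((Fin m ⊕ Fin m) ⊕ Fin 2 → F) ≃ₗ[F] ((Fin m ⊕ Fin m) ⊕ Fin 2 → F)) :
        ((Fin m ⊕ Fin m) ⊕ Fin 2 → F) →ₗ[F] ((Fin m ⊕ Fin m) ⊕ Fin 2 → F)) := by
    apply LinearMap.ext
    intro u
    rw [Matrix.toLin'_apply, hg]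
    exact hφ g₀ u
  unfold fixdim
  rw [hlin]
  rfl

end mat

end Cfsg.Agent.Lib.Helper94.Iso8
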