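import Mathlib
import Cfsg.Agent.Lib.Helper94.Iso8bDefs
import Cfsg.Agent.Lib.Helper8.OrthFormsMinus
import Cfsg.Agent.Lib.Helper43.OrthCardMinus
import Cfsg.Agent.Lib.Helper44.Transport
import Cfsg.Agent.Lib.Helper61.Iso8bDKcore
import Cfsg.Agent.Lib.Helper45.Iso8bD1
import Cfsg.Agent.Lib.Helper69.Iso8bD3

/-!
# ISO8B-DK : the Dickson invariant of `GO⁻_{2m+2}(q)`, `q` even, as a homomorphism
-/

set_option autoImplicit false

namespace Cfsg.Agent.Lib.Helper94.Iso8

open Module QuadraticMap Cfsg.Agent.Lib.Helper43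

section mat

open Cfsg.Agent.Lib.Helper8 in
/-- ISO8B-DK (the Dickson invariant of `GO⁻_{2m+2}(q)`, `q` even, as a homomorphism). -/
theorem dickson_minus {F : Type*} [Field F] [Fintype F] [CharP F 2] (a b : F)
    (han : ∀ z₁ z₂ : F, z₁ ^ 2 + a * z₁ * z₂ + b * z₂ ^ 2 = 0 → z₁ = 0 ∧ z₂ = 0) (m : ℕ) :
    ∃ D : ↥(Cfsg.isometryGroup F (Cfsg.quadFormMinus m F a b)) →* Multiplicative (ZMod 2),
      ∀ g, D g = Multiplicative.ofAdd
        ((fixdim (matOf g) : ℕ) : ZMod 2) := by
  have h2 : (2 : F) = 0 := by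
    have := CharP.cast_eq_zero F 2
    exact_mod_cast this
  have ha : a ≠ 0 := by
    rintro rfl
    obtain ⟨e, he⟩ := FiniteField.isSquare_of_char_two (ringChar.eq F 2) b
    have := han e 1 (by rw [he]; linear_combination (e * e) * h2)
    exact one_ne_zero this.2
  have hnd : (polarBilin (minusForm m F a b)).Nondegenerate := minusForm_nondegenerate m F a b h2 ha
  have hQ₁ : (polarBilin (minusForm 0 F a b)).Nondegenerate := minusForm_nondegenerate 0 F a b h2 ha
  have han₁ : ∀ x : (Fin 0 ⊕ Fin 0) ⊕ Fin 2 → F, minusForm 0 F a b x = 0 → x = 0 := by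
    intro x hx
    rw [← minusForm_coe] at hx
    have h3 : x (Sum.inr 0) ^ 2 + a * x (Sum.inr 0) * x (Sum.inr 1) + b * x (Sum.inr 1) ^ 2 = 0 := by
      simpa [Cfsg.quadFormMinus] using hx
    obtain ⟨h4, h5⟩ := han _ _ h3
    funext t
    rcases t with (t | t) | t
    · exact t.elim0
    · exact t.elim0
    · fin_cases t
      · exact h4
      · exact h5
  have hd : finrank F ((Fin 0 ⊕ Fin 0) ⊕ Fin 2 → F) = 2 := by
    rw [Module.finrank_fintype_fun_eq_card]
    simp
  exact dk_core a b han m h2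
    (fun g v hv => fix_parity h2 (minusForm m F a b) hnd g v hv)
    (refl_gen h2 (minusForm 0 F a b) hQ₁ han₁ hd m _ (minusForm m F a b) (minusIncl m F) _ _
      (minus_family m F a b))

end mat

end Cfsg.Agent.Lib.Helper94.Iso8
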