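import Mathlib
import Cfsg.Agent.S0736
import Cfsg.Agent.Lib.Helper61.LW9

namespace Cfsg.Agent.Lib.Helper61.LW

open Equiv Equiv.Perm Cfsg.Agent.Lib.Helper61.Miller Cfsg.Agent.Lib.Helper61.KAlt

set_option linter.unusedSectionVars false
set_option linter.unusedVariables false
variable {α : Type*} [Fintype α] [DecidableEq α]

theorem hom_of_pretrans {G : Subgroup (Perm α)} {k : ℕ}
    (hh : MulAction.IsPretransitive G (Set.powersetCard α k)) : Hom G k := by
  intro S T hS hT
  obtain ⟨g, hg⟩ := hh.exists_smul_eq (⟨S, hS⟩ : Set.powersetCard α k) ⟨T, hT⟩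
  have := (Cfsg.Agent.S0736.smul_iff G S T hS hT g).mp hg
  refine ⟨g.1, g.2, fun a ha => ?_⟩
  rw [← this]
  exact Finset.mem_image_of_mem _ ha

theorem pretrans_of_hom {G : Subgroup (Perm α)} {k : ℕ} (hH : Hom G k) :
    MulAction.IsPretransitive G (Set.powersetCard α k) := by
  constructor
  rintro ⟨S, hS⟩ ⟨T, hT⟩
  have hS' : S.card = k := hS
  have hT' : T.card = k := hT
  obtain ⟨g, hg, hgm⟩ := hH S T hS' hT'
  exact ⟨⟨g, hg⟩, (Cfsg.Agent.S0736.smul_iff G S T hS' hT' ⟨g, hg⟩).mpr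
    (image_eq_of_maps hgm (by rw [hS', hT']))⟩

theorem hom_pred {G : Subgroup (Perm α)} {k : ℕ} (hk : 2 ≤ k) (hkn : 2 * k ≤ Fintype.card α)
    (hH : Hom G k) : Hom G (k - 1) := by
  apply hom_of_pretrans
  apply Cfsg.Agent.S0736.result G hk (pretrans_of_hom hH)
  intro q _ hqk
  have := Nat.le_of_dvd (by omega) hqk
  omega

theorem ext_one_of_hom_two {G : Subgroup (Perm α)} (hn : 3 ≤ Fintype.card α) (hH : Hom G 2) :
    Ext G 1 := by
  classical
  have key : ∀ x y : α, x ≠ y → ∃ g ∈ G, g x = y := by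
    intro x y hxy
    obtain ⟨z, -, hz⟩ := exists_notin (Γ := (Finset.univ : Finset α)) {x, y}
      (lt_of_le_of_lt Finset.card_le_two (by rw [Finset.card_univ]; omega))
    rw [Finset.mem_insert, Finset.mem_singleton] at hz
    push Not at hz
    obtain ⟨hzx, hzy⟩ := hz
    obtain ⟨g₁, hg₁, hm₁⟩ := hH {x, y} {y, z} (Finset.card_pair hxy) (Finset.card_pair hzy.symm)
    obtain ⟨g₂, hg₂, hm₂⟩ := hH {x, y} {x, z} (Finset.card_pair hxy) (Finset.card_pair hzx.symm)
    have a1 := hm₁ x (by simp)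
    have a2 := hm₂ y (by simp)
    have a3 := hm₂ x (by simp)
    rw [Finset.mem_insert, Finset.mem_singleton] at a1 a2 a3
    rcases a1 with a1 | a1
    · exact ⟨g₁, hg₁, a1⟩
    rcases a2 with a2 | a2
    · exact ⟨g₂⁻¹, G.inv_mem hg₂, inv_apply_of a2⟩
    -- g₁ x = z, g₂ y = z
    refine ⟨g₂⁻¹ * g₁, G.mul_mem (G.inv_mem hg₂) hg₁, ?_⟩
    rw [Perm.mul_apply, a1]
    exact inv_apply_of a2
  intro s hs f hf
  have hne : Nonempty α := by
    rw [← Fintype.card_pos_iff]; omega
  rcases Finset.card_le_one_iff_subset_singleton.mp hs with ⟨x, hx⟩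
  by_cases hfx : f x = x
  · exact ⟨1, G.one_mem, fun a ha => by
      have := Finset.mem_singleton.mp (hx ha)
      rw [this, hfx]; rfl⟩
  · obtain ⟨g, hg, hgx⟩ := key x (f x) (Ne.symm hfx)
    exact ⟨g, hg, fun a ha => by
      have := Finset.mem_singleton.mp (hx ha)
      rw [this, hgx]⟩

/-- Livingstone-Wagner, first form, in finset language -/
theorem lw_first {G : Subgroup (Perm α)} : ∀ k : ℕ, 2 ≤ k → 2 * k ≤ Fintype.card α → Hom G k →
    Ext G (k - 1) := by
  intro k
  induction k using Nat.strong_induction_on with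
  | _ k ih =>
    intro hk hkn hH
    by_cases hk2 : k = 2
    · subst hk2
      exact ext_one_of_hom_two (by omega) hH
    · have hH1 : Hom G (k - 1) := hom_pred hk hkn hH
      have hE : Ext G (k - 1 - 1) := ih (k - 1) (by omega) (by omega) (by omega) hH1
      have h1 : k - 1 - 1 = k - 2 := by omega
      rw [h1] at hE
      have := lw_restricted (t := k - 2) (by omega) hE
        (by rw [show k - 2 + 1 = k - 1 by omega]; exact hH1)
        (by rw [show k - 2 + 2 = k by omega]; exact hH) (by omega)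
      rw [show k - 2 + 1 = k - 1 by omega] at this
      exact this

end Cfsg.Agent.Lib.Helper61.LW
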