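import Mathlib
import Cfsg.Agent.Lib.Helper75.LoCountDefs

/-! COUNT-LEVEL sub-leaf of helper75's LO-COUNT sub-split (Lo sub-hive of helper21, We hive S2347). -/

set_option autoImplicit false
set_option linter.style.haveILetI false

namespace Cfsg.Agent.Lib.Helper21.Lo

open Matrix

variable {F : Type*} [Field F] [Fintype F] [DecidableEq F]

omit [Fintype F] [DecidableEq F] in
theorem countlevel_symm {n : ℕ} (M : Matrix (Fin n) (Fin n) F) (hM : M.transpose = M)
    (x y : Fin n → F) : x ⬝ᵥ M *ᵥ y = y ⬝ᵥ M *ᵥ x := by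
  rw [Matrix.dotProduct_mulVec, ← Matrix.mulVec_transpose, hM, dotProduct_comm]

omit [Fintype F] [DecidableEq F] in
theorem countlevel_expand {n : ℕ} (M : Matrix (Fin n) (Fin n) F) (hM : M.transpose = M)
    (x v : Fin n → F) (s : F) :
    (x + s • v) ⬝ᵥ M *ᵥ (x + s • v) =
      x ⬝ᵥ M *ᵥ x + s * (2 * (v ⬝ᵥ M *ᵥ x)) + s ^ 2 * (v ⬝ᵥ M *ᵥ v) := by
  rw [Matrix.mulVec_add, Matrix.mulVec_smul, dotProduct_add, add_dotProduct, add_dotProduct,
    smul_dotProduct, smul_dotProduct, dotProduct_smul, dotProduct_smul,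
    countlevel_symm M hM x v]
  simp only [smul_eq_mul]
  ring

/-- COUNT-LEVEL (M). The level set `{x | Q x = Q v}` (`Q v ≠ 0`) has at most `2 q^m` elements, `n = m + 1`. -/
theorem count_level_card_le (m : ℕ) (M : Matrix (Fin (m + 1)) (Fin (m + 1)) F)
    (hM : M.transpose = M) (v : Fin (m + 1) → F) (hv : v ⬝ᵥ M *ᵥ v ≠ 0) :
    Nat.card {x : Fin (m + 1) → F // x ⬝ᵥ M *ᵥ x = v ⬝ᵥ M *ᵥ v} ≤ 2 * Fintype.card F ^ m := by
  classical
  obtain ⟨Qv, hQv⟩ : ∃ Qv : F, Qv = v ⬝ᵥ M *ᵥ v := ⟨_, rfl⟩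
  rw [← hQv] at hv ⊢
  -- the functional
  obtain ⟨φ, hφ⟩ : ∃ φ : (Fin (m + 1) → F) →ₗ[F] F, ∀ x, φ x = (v ⬝ᵥ M *ᵥ x) / Qv := by
    refine ⟨{ toFun := fun x => (v ⬝ᵥ M *ᵥ x) / Qv
              map_add' := ?_
              map_smul' := ?_ }, fun x => rfl⟩
    · intro x y
      rw [Matrix.mulVec_add, dotProduct_add, add_div]
    · intro c x
      rw [Matrix.mulVec_smul, dotProduct_smul, smul_eq_mul, RingHom.id_apply, smul_eq_mul, mul_div_assoc]
  have hφv : φ v = 1 := by rw [hφ, ← hQv, div_self hv]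
  have hφne : φ ≠ 0 := by
    intro h
    rw [h] at hφv
    simp at hφv
  have hBv : ∀ x, v ⬝ᵥ M *ᵥ x = φ x * Qv := by
    intro x
    rw [hφ, div_mul_cancel₀ _ hv]
  -- the kernel has `q^m` elements
  have hker : Fintype.card (LinearMap.ker φ) = Fintype.card F ^ m := by
    have h1 := Module.Dual.finrank_ker_add_one_of_ne_zero hφne
    rw [Module.finrank_fin_fun] at h1
    have h2 : Module.finrank F (LinearMap.ker φ) = m := by omega
    rw [Module.card_eq_pow_finrank (K := F), h2]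
  -- the projection
  obtain ⟨π, hπ⟩ : ∃ π : (Fin (m + 1) → F) → (Fin (m + 1) → F), ∀ x, π x = x - φ x • v := ⟨_, fun x => rfl⟩
  obtain ⟨s, hs⟩ : ∃ s : Finset (Fin (m + 1) → F), s = Finset.univ.filter (fun x => x ⬝ᵥ M *ᵥ x = Qv) :=
    ⟨_, rfl⟩
  have hmem : ∀ x, x ∈ s ↔ x ⬝ᵥ M *ᵥ x = Qv := by
    intro x
    rw [hs]
    simp
  have hcardL : Nat.card {x : Fin (m + 1) → F // x ⬝ᵥ M *ᵥ x = Qv} = s.card := by
    rw [Nat.card_eq_fintype_card, Fintype.card_subtype, hs]
  rw [hcardL]
  -- fibres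
  have hfib : ∀ b ∈ s.image π, (s.filter (fun a => π a = b)).card ≤ 2 := by
    intro b hb
    obtain ⟨x0, hx0, hx0b⟩ := Finset.mem_image.mp hb
    have hsub : s.filter (fun a => π a = b) ⊆ {x0, x0 - (2 * φ x0) • v} := by
      intro x hx
      obtain ⟨hxs, hxb⟩ := Finset.mem_filter.mp hx
      rw [hmem] at hxs hx0
      -- `x = x0 + t • v`
      obtain ⟨t, ht⟩ : ∃ t : F, t = φ x - φ x0 := ⟨_, rfl⟩
      have hx' : x = x0 + t • v := by
        have h1 : π x = π x0 := by rw [hxb, hx0b]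
        rw [hπ, hπ] at h1
        rw [ht, sub_smul]
        calc x = (x - φ x • v) + φ x • v := by abel
          _ = (x0 - φ x0 • v) + φ x • v := by rw [h1]
          _ = x0 + (φ x • v - φ x0 • v) := by abel
      have h3 := countlevel_expand M hM x0 v t
      rw [← hx', hxs, hx0, hBv x0, ← hQv] at h3
      have h4 : t * (2 * φ x0 + t) * Qv = 0 := by linear_combination -h3
      rcases mul_eq_zero.mp h4 with h5 | h5
      · rcases mul_eq_zero.mp h5 with h6 | h6
        · rw [h6, zero_smul, add_zero] at hx'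
          rw [hx']
          simp
        · have h7 : t = -(2 * φ x0) := by linear_combination h6
          rw [h7] at hx'
          rw [hx', neg_smul, ← sub_eq_add_neg]
          simp
      · exact absurd h5 hv
    calc (s.filter (fun a => π a = b)).card ≤ ({x0, x0 - (2 * φ x0) • v} : Finset _).card :=
          Finset.card_le_card hsub
      _ ≤ 2 := Finset.card_le_two
  have h1 := Finset.card_le_mul_card_image s 2 hfib
  -- the image lies in the kernel
  have himg : (s.image π).card ≤ Fintype.card F ^ m := by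
    rw [← hker, ← Finset.card_univ (α := LinearMap.ker φ)]
    have hmaps : ∀ b ∈ s.image π, b ∈ LinearMap.ker φ := by
      intro b hb
      obtain ⟨x, _, rfl⟩ := Finset.mem_image.mp hb
      rw [LinearMap.mem_ker, hπ, map_sub, map_smul, hφv, smul_eq_mul, mul_one, sub_self]
    have : s.image π = (Finset.univ.filter (fun b : LinearMap.ker φ => (b : Fin (m + 1) → F) ∈ s.image π)).map
        ⟨Subtype.val, Subtype.val_injective⟩ := by
      ext b
      simp only [Finset.mem_map, Finset.mem_filter, Finset.mem_univ, true_and,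
        Function.Embedding.coeFn_mk]
      constructor
      · intro hb
        exact ⟨⟨b, hmaps b hb⟩, hb, rfl⟩
      · rintro ⟨c, hc, rfl⟩
        exact hc
    rw [this, Finset.card_map]
    exact Finset.card_le_card (Finset.filter_subset _ _)
  calc s.card ≤ 2 * (s.image π).card := h1
    _ ≤ 2 * Fintype.card F ^ m := Nat.mul_le_mul_left _ himg

end Cfsg.Agent.Lib.Helper21.Lo
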