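import Mathlib
import Cfsg.Agent.Lib.Helper61.OcOBSSSb
import Cfsg.Agent.Lib.Helper35.OcEJ

/-! # OC-IDX (helper44's Oc hive), route via Sylow conjugation, part a: the block step

For `4 ∣ i = ord_r(q)` and an isometry `T` of order `r`: on `W = ker φ(T)` the map `s = g(T)` with
`g² ≡ δ (mod φ)` is self-adjoint, and `V = ker φ(T) ⊕ ker ψ(T)` orthogonally (`X^r - 1 = φ ψ`). -/

set_option autoImplicit false

namespace Cfsg.Agent.Lib.Helper44.Oc

open Polynomial Module

universe u v

/-- Euler, even exponent: `δ ^ ((q^m - 1)/2) = 1` for even `m` -/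
theorem idxrj_euler_even {F : Type v} [Field F] [Fintype F] (h2 : (2 : F) ≠ 0) (δ : F) (hδ0 : δ ≠ 0)
    (m : ℕ) (hm : Even m) (e : ℕ) (he : 2 * e + 1 = Fintype.card F ^ m) : δ ^ e = 1 := by
  have hchar : ringChar F ≠ 2 := by
    intro h
    apply h2
    have := ringChar.Nat.cast_ringChar (R := F)
    rw [h] at this
    exact_mod_cast this
  have hq_odd : Fintype.card F % 2 = 1 := FiniteField.odd_card_of_char_ne_two hchar
  set q := Fintype.card F with hq
  have hsq : (δ ^ (q / 2)) ^ 2 = 1 := by
    rw [← pow_mul]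
    have : q / 2 * 2 = q - 1 := by omega
    rw [this]
    exact FiniteField.pow_card_sub_one_eq_one δ hδ0
  set S := ∑ j ∈ Finset.range m, q ^ j with hS
  have hgeom : (q - 1) * S + 1 = q ^ m := by
    have hq2 : 2 ≤ q := Fintype.one_lt_card
    have h := Nat.geomSum_eq (m := q) hq2 m
    rw [← hS] at h
    have hdvd : (q - 1) ∣ q ^ m - 1 := by
      have := Nat.sub_dvd_pow_sub_pow q 1 m
      rwa [one_pow] at this
    have hpos : 1 ≤ q ^ m := Nat.one_le_pow _ _ (by omega)
    rw [h, Nat.mul_div_cancel' hdvd]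
    omega
  have hSeven : Even S := by
    rw [hS, ← Nat.not_odd_iff_even, Finset.odd_sum_iff_odd_card_odd]
    have hall : (Finset.range m).filter (fun j => Odd (q ^ j)) = Finset.range m := by
      apply Finset.filter_true_of_mem
      intro j _
      exact Odd.pow (Nat.odd_iff.2 hq_odd)
    rw [hall, Finset.card_range, Nat.not_odd_iff_even]
    exact hm
  have he' : e = (q / 2) * S := by
    have h1 : q - 1 = 2 * (q / 2) := by omega
    rw [h1] at hgeom
    have : 2 * e = 2 * ((q / 2) * S) := by
      have : 2 * (q / 2) * S + 1 = 2 * e + 1 := by rw [hgeom, he]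
      nlinarith
    omega
  obtain ⟨k, hk⟩ := hSeven
  rw [he', hk, ← two_mul, pow_mul, pow_mul, hsq, one_pow]

section lin

variable {F : Type v} [Field F] {V : Type u} [AddCommGroup V] [Module F V]

/-- some irreducible factor of `P` has a nonzero kernel at `T` when `P(T)` kills a nonzero vector -/
theorem idxrj_exists_irred (T : Module.End F V) :
    ∀ (n : ℕ) (P : F[X]), P.natDegree = n → P ≠ 0 → ∀ w : V, w ≠ 0 → aeval T P w = 0 →
      ∃ φ : F[X], Irreducible φ ∧ φ ∣ P ∧ LinearMap.ker (aeval T φ) ≠ ⊥ := by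
  intro n
  induction n using Nat.strong_induction_on with
  | _ n ih =>
    intro P hn hP0 w hw hPw
    have hnu : ¬ IsUnit P := by
      intro hu
      obtain ⟨c, hc, rfl⟩ := Polynomial.isUnit_iff.1 hu
      rw [aeval_C, Module.algebraMap_end_apply] at hPw
      exact hw ((smul_eq_zero.1 hPw).resolve_left hc.ne_zero)
    obtain ⟨φ, hφ, P', rfl⟩ := WfDvdMonoid.exists_irreducible_factor hnu hP0
    by_cases hP'w : aeval T P' w = 0
    · have hP'0 : P' ≠ 0 := right_ne_zero_of_mul hP0
      have hdeg : P'.natDegree < n := by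
        rw [← hn, natDegree_mul hφ.ne_zero hP'0]
        have := hφ.natDegree_pos
        omega
      obtain ⟨φ', hφ', hdvd, hker⟩ := ih _ hdeg P' rfl hP'0 w hw hP'w
      exact ⟨φ', hφ', hdvd.trans (dvd_mul_left _ _), hker⟩
    · refine ⟨φ, hφ, dvd_mul_right _ _, ?_⟩
      intro hbot
      apply hP'w
      have hmem : aeval T P' w ∈ LinearMap.ker (aeval T φ) := by
        rw [LinearMap.mem_ker, ← Module.End.mul_apply, ← map_mul]
        exact hPw
      rw [hbot, Submodule.mem_bot] at hmem
      exact hmem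

end lin

end Cfsg.Agent.Lib.Helper44.Oc
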