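import Mathlib
import Cfsg.Agent.Lib.Helper61.OcIdxRJa

/-! # OC-IDX (helper44's Oc hive), route via Sylow conjugation, part b: block step and gluing -/

set_option autoImplicit false

namespace Cfsg.Agent.Lib.Helper44.Oc

open Polynomial Module

universe u v

section block

variable {F : Type v} [Field F] [Fintype F] {V : Type u} [AddCommGroup V] [Module F V]

/-- the block step: for `4 ∣ ord_r(q)`, an isometry `T` with `T ^ r = 1` and an irreducible factor `φ` of the
`r`-th cyclotomic polynomial -/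
theorem idxrj_block {p : ℕ} [Fact p.Prime] [CharP F p] (h2 : (2 : F) ≠ 0)
    (B : LinearMap.BilinForm F V) (δ : F) (hδ0 : δ ≠ 0) (T : Module.End F V)
    (hTB : ∀ u v, B (T u) (T v) = B u v) (r : ℕ) [Fact r.Prime] (hrp : r ≠ p) (hTr : T ^ r = 1)
    (hi0 : orderOf ((Fintype.card F : ℕ) : ZMod r) ≠ 0)
    (h4 : 4 ∣ orderOf ((Fintype.card F : ℕ) : ZMod r))
    (φ : F[X]) (hφ : Irreducible φ) (hφr : φ ∣ cyclotomic r F) :
    ∃ g ψ a b : F[X], X ^ r - 1 = φ * ψ ∧ a * φ + b * ψ = 1 ∧
      (∀ w ∈ LinearMap.ker (aeval T φ), aeval T g (aeval T g w) = δ • w) ∧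
      (∀ u ∈ LinearMap.ker (aeval T φ), ∀ v ∈ LinearMap.ker (aeval T φ),
        B (aeval T g u) v = B u (aeval T g v)) ∧
      (∀ u ∈ LinearMap.ker (aeval T φ), ∀ v ∈ LinearMap.ker (aeval T ψ), B u v = 0) := by
  classical
  set q := Fintype.card F with hq
  set i := orderOf ((q : ℕ) : ZMod r) with hi
  have hiev : Even i := by
    obtain ⟨k, hk⟩ := h4
    exact ⟨2 * k, by omega⟩
  have hmev : Even (i / 2) := by
    obtain ⟨k, hk⟩ := h4
    exact ⟨k, by omega⟩
  have hrdvd : r ∣ q ^ (i / 2) + 1 := obsss_dvd_pow_half_add_one r q hi0 hiev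
  set m := i / 2 with hm
  set N := q ^ m with hN
  have hTT' : T ^ N * T = 1 := by
    obtain ⟨k, hk⟩ := hrdvd
    rw [← pow_succ, hk, pow_mul, hTr, one_pow]
  have hT'T : T * T ^ N = 1 := by
    obtain ⟨k, hk⟩ := hrdvd
    rw [← pow_succ', hk, pow_mul, hTr, one_pow]
  have hadj : ∀ a b, B (T a) b = B a ((T ^ N) b) := by
    intro a b
    have hb : b = T ((T ^ N) b) := by
      rw [← Module.End.mul_apply, hT'T, Module.End.one_apply]
    conv_lhs => rw [hb]
    exact hTB a _
  have hadj' : ∀ a b, B ((T ^ N) a) b = B a (T b) := by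
    intro a b
    have ha : a = T ((T ^ N) a) := by
      rw [← Module.End.mul_apply, hT'T, Module.End.one_apply]
    conv_rhs => rw [ha]
    exact (hTB _ b).symm
  have hdeg : φ.natDegree = i :=
    Cfsg.Agent.Lib.Helper44.Tns.o2b_natDegree_of_dvd_cyclotomic (p := p) r hrp hφr hφ
  obtain ⟨g, hg⟩ := obsss_exists_sqrt h2 φ hφ (hdeg ▸ hiev) δ
  set W := LinearMap.ker (aeval T φ) with hW
  set s := aeval T g with hs
  have hss : ∀ w ∈ W, s (s w) = δ • w := fun w hw => obsss_sq_on_ker T φ g δ hg w hw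
  have hsW : ∀ w ∈ W, s w ∈ W := fun w hw =>
    obsss_ker_inv T s (obsss_commute_aeval (F := F) T T rfl g).symm φ w hw
  have hs' : aeval (T ^ N) g = s ^ N := Cfsg.Agent.Lib.Helper8.SpBlk.aeval_pow_card T g m
  have hqodd : q % 2 = 1 := by
    have hchar : ringChar F ≠ 2 := by
      intro h
      apply h2
      have := ringChar.Nat.cast_ringChar (R := F)
      rw [h] at this
      exact_mod_cast this
    exact FiniteField.odd_card_of_char_ne_two hchar
  obtain ⟨e, he⟩ : ∃ e, 2 * e + 1 = N := by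
    have : N % 2 = 1 := by rw [hN, Nat.pow_mod, hqodd, one_pow]; rfl
    exact ⟨N / 2, by omega⟩
  have hδe : δ ^ e = 1 := idxrj_euler_even h2 δ hδ0 m hmev e he
  have hsN : ∀ w ∈ W, (s ^ N) w = s w := by
    intro w hw
    rw [← he, pow_succ, Module.End.mul_apply, obsss_pow_two_mul s δ W hsW hss e (s w) (hsW w hw), hδe,
      one_smul]
  have hadjs : ∀ u, ∀ v ∈ W, B (s u) v = B u (s v) := by
    intro u v hv
    rw [hs, Cfsg.Agent.Lib.Helper8.SpBlk.aeval_adj hadj g u v, hs', hsN v hv]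
  -- coprime factorisation of `X ^ r - 1`
  have hr0 : ((r : ℕ) : F) ≠ 0 := by
    intro h0
    have hdvd := (CharP.cast_eq_zero_iff F p r).1 h0
    have := (Nat.prime_dvd_prime_iff_eq (Fact.out : p.Prime) (Fact.out : r.Prime)).1 hdvd
    exact hrp this.symm
  have hφX : φ ∣ X ^ r - 1 := hφr.trans (cyclotomic.dvd_X_pow_sub_one r F)
  obtain ⟨ψ, hψ⟩ := hφX
  have hsep : (φ * ψ).Separable := by
    rw [← hψ]
    have := separable_X_pow_sub_C (1 : F) hr0 one_ne_zero
    simpa using this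
  obtain ⟨a, b, hab⟩ := hsep.isCoprime
  refine ⟨g, ψ, a, b, hψ, hab, hss, fun u _ v hv => hadjs u v hv, ?_⟩
  intro u hu v hv
  have hv0 : v = aeval T (a * φ) v + aeval T (b * ψ) v := by
    rw [← LinearMap.add_apply, ← map_add, hab, map_one, Module.End.one_apply]
  have hv2 : aeval T (b * ψ) v = 0 := by
    rw [map_mul, Module.End.mul_apply, LinearMap.mem_ker.1 hv, map_zero]
  have hv1 : B u (aeval T (a * φ) v) = 0 := by
    rw [← Cfsg.Agent.Lib.Helper8.SpBlk.aeval_adj hadj' (a * φ) u v, map_mul,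
      Module.End.mul_apply, Cfsg.Agent.Lib.Helper8.SpBlk.aeval_pow_card T φ m]
    have hN1 : 1 ≤ N := by omega
    have h0 : ((aeval T φ) ^ N) u = 0 := by
      rw [← Nat.sub_add_cancel hN1, pow_succ, Module.End.mul_apply, LinearMap.mem_ker.1 hu,
        map_zero]
    rw [h0, map_zero, map_zero, LinearMap.zero_apply]
  rw [hv0, map_add, hv1, hv2, map_zero, add_zero]

end block

section glue

variable {F : Type v} [Field F] {V : Type u} [AddCommGroup V] [Module F V]

/-- gluing `s` on `W` and `J'` on `W'` along an orthogonal decomposition `V = W ⊕ W'` with projections `e`, `e'` -/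
theorem idxrj_glue (B : LinearMap.BilinForm F V) (hsymm : ∀ u v, B u v = B v u) (δ : F)
    (W W' : Submodule F V) (e e' : Module.End F V) (he : ∀ v, e v ∈ W) (he' : ∀ v, e' v ∈ W')
    (hee : ∀ v, e v + e' v = v) (heW : ∀ w ∈ W, e' w = 0) (heW' : ∀ w ∈ W', e w = 0)
    (horth : ∀ u ∈ W, ∀ v ∈ W', B u v = 0) (s : Module.End F V) (hsW : ∀ w ∈ W, s w ∈ W)
    (hss : ∀ w ∈ W, s (s w) = δ • w) (hsadj : ∀ u ∈ W, ∀ v ∈ W, B (s u) v = B u (s v))
    (J' : Module.End F W') (hJJ' : J' * J' = δ • (1 : Module.End F W'))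
    (hJadj' : ∀ u v : W', B (J' u : V) (v : V) = B (u : V) (J' v : V)) :
    ∃ J : Module.End F V, (∀ w ∈ W, J w = s w) ∧ (∀ w : W', J (w : V) = (J' w : V)) ∧
      J * J = δ • (1 : Module.End F V) ∧ ∀ u v, B (J u) v = B u (J v) := by
  set J : Module.End F V := s ∘ₗ e + W'.subtype ∘ₗ J' ∘ₗ (e'.codRestrict W' he') with hJ
  have heW1 : ∀ w ∈ W, e w = w := by
    intro w hw
    have := hee w
    rw [heW w hw, add_zero] at this
    exact this
  have heW'1 : ∀ w ∈ W', e' w = w := by
    intro w hw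
    have := hee w
    rw [heW' w hw, zero_add] at this
    exact this
  have hJW : ∀ w ∈ W, J w = s w := by
    intro w hw
    have h0 : e'.codRestrict W' he' w = 0 := by
      apply Subtype.ext
      rw [LinearMap.codRestrict_apply]
      exact heW w hw
    rw [hJ, LinearMap.add_apply, LinearMap.comp_apply, LinearMap.comp_apply, LinearMap.comp_apply,
      heW1 w hw, h0, map_zero, map_zero, add_zero]
  have hJW' : ∀ w : W', J (w : V) = (J' w : V) := by
    intro w
    have h0 : e'.codRestrict W' he' (w : V) = w := by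
      apply Subtype.ext
      rw [LinearMap.codRestrict_apply]
      exact heW'1 w w.2
    rw [hJ, LinearMap.add_apply, LinearMap.comp_apply, LinearMap.comp_apply, LinearMap.comp_apply,
      heW' w w.2, map_zero, zero_add, h0, Submodule.subtype_apply]
  have hJJw' : ∀ w : W', J' (J' w) = δ • w := by
    intro w
    have h1 := congrArg (fun f : Module.End F W' => f w) hJJ'
    simpa only [Module.End.mul_apply, LinearMap.smul_apply, Module.End.one_apply] using h1
  refine ⟨J, hJW, hJW', ?_, ?_⟩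
  · apply LinearMap.ext
    intro v
    rw [Module.End.mul_apply, LinearMap.smul_apply, Module.End.one_apply, ← hee v, map_add, map_add,
      smul_add]
    congr 1
    · rw [hJW _ (he v), hJW _ (hsW _ (he v)), hss _ (he v)]
    · have h1 := hJW' ⟨e' v, he' v⟩
      simp only at h1
      rw [h1, hJW' (J' ⟨e' v, he' v⟩), hJJw']
      rfl
  · intro u v
    have hu := hee u
    have hv := hee v
    have h1 : J u = s (e u) + (J' ⟨e' u, he' u⟩ : V) := by
      conv_lhs => rw [← hu]
      rw [map_add, hJW _ (he u)]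
      congr 1
      exact hJW' ⟨e' u, he' u⟩
    have h2 : J v = s (e v) + (J' ⟨e' v, he' v⟩ : V) := by
      conv_lhs => rw [← hv]
      rw [map_add, hJW _ (he v)]
      congr 1
      exact hJW' ⟨e' v, he' v⟩
    rw [h1, h2]
    conv_lhs => rw [← hv]
    conv_rhs => rw [← hu]
    simp only [map_add, LinearMap.add_apply]
    have c1 : B (s (e u)) (e' v) = 0 := horth _ (hsW _ (he u)) _ (he' v)
    have c2 : B (J' ⟨e' u, he' u⟩ : V) (e v) = 0 := by
      rw [hsymm]
      exact horth _ (he v) _ (J' ⟨e' u, he' u⟩).2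
    have c3 : B (e u) (J' ⟨e' v, he' v⟩ : V) = 0 := horth _ (he u) _ (J' ⟨e' v, he' v⟩).2
    have c4 : B (e' u) (s (e v)) = 0 := by
      rw [hsymm]
      exact horth _ (hsW _ (he v)) _ (he' u)
    have c5 : B (s (e u)) (e v) = B (e u) (s (e v)) := hsadj _ (he u) _ (he v)
    have c6 : B (J' ⟨e' u, he' u⟩ : V) (e' v) = B (e' u) (J' ⟨e' v, he' v⟩ : V) :=
      hJadj' ⟨e' u, he' u⟩ ⟨e' v, he' v⟩
    rw [c1, c2, c3, c4, c5, c6]

end glue

end Cfsg.Agent.Lib.Helper44.Oc
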