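import Mathlib
import Cfsg.Agent.Lib.Helper61.OcIdxRJb

/-! # OC-IDX (helper44's Oc hive), route via Sylow conjugation, part c: every finite `r`-group of isometries
(`4 ∣ ord_r(q)`) centralises a self-adjoint `J` with `J² = δ` -/

set_option autoImplicit false

namespace Cfsg.Agent.Lib.Helper44.Oc

open Polynomial Module

universe u v w

section main

variable {F : Type v} [Field F] [Fintype F]

/-- a central element of order `r` in the image of a nontrivial representation of an `r`-group -/
theorem idxrj_exists_central {V : Type u} [AddCommGroup V] [Module F V] (r : ℕ) [Fact r.Prime]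
    {G : Type w} [Group G] [Finite G] (hG : IsPGroup r G) (ρ : G →* Module.End F V)
    (hne : ∃ g, ρ g ≠ 1) :
    ∃ z : G, ρ z ≠ 1 ∧ (ρ z) ^ r = 1 ∧ ∀ g, ρ g * ρ z = ρ z * ρ g := by
  classical
  set ρu : G →* (Module.End F V)ˣ := ρ.toHomUnits with hρu
  have hcoe : ∀ g, ((ρu g : (Module.End F V)ˣ) : Module.End F V) = ρ g := fun g => rfl
  set H := ρu.range with hH
  haveI : Finite H := Finite.of_surjective ρu.rangeRestrict ρu.rangeRestrict_surjective
  have hHp : IsPGroup r H := hG.of_surjective ρu.rangeRestrict ρu.rangeRestrict_surjective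
  haveI : Nontrivial H := by
    obtain ⟨g0, hg0⟩ := hne
    refine ⟨⟨⟨ρu g0, ⟨g0, rfl⟩⟩, 1, ?_⟩⟩
    intro h
    apply hg0
    have h1 := congrArg (fun x : H => ((x : (Module.End F V)ˣ) : Module.End F V)) h
    simp only [Subgroup.coe_one, Units.val_one] at h1
    rw [← hcoe]
    exact h1
  haveI : Nontrivial (Subgroup.center H) := hHp.center_nontrivial
  have hZp : IsPGroup r (Subgroup.center H) := hHp.to_subgroup _
  have hdvd : r ∣ Nat.card (Subgroup.center H) := by
    rcases hZp.card_eq_or_dvd with h | h
    · exact absurd h (Finite.one_lt_card_iff_nontrivial.2 inferInstance).ne'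
    · exact h
  obtain ⟨c, hc⟩ := exists_prime_orderOf_dvd_card' r hdvd
  obtain ⟨z, hz⟩ : ∃ z, ρu z = ((c : H) : (Module.End F V)ˣ) := (c : H).2
  have hc1 : c ≠ 1 := by
    intro h
    rw [h, orderOf_one] at hc
    exact (Fact.out : r.Prime).one_lt.ne hc
  refine ⟨z, ?_, ?_, ?_⟩
  · intro h
    apply hc1
    apply Subtype.ext
    apply Subtype.ext
    apply Units.ext
    rw [← hz, hcoe, h]
    rfl
  · have h1 : c ^ r = 1 := by rw [← hc]; exact pow_orderOf_eq_one c
    have h2 := congrArg (fun x : Subgroup.center H => (((x : H) : (Module.End F V)ˣ) : Module.End F V)) h1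
    simp only [Subgroup.coe_pow, Units.val_pow_eq_pow_val, Subgroup.coe_one, Units.val_one] at h2
    rw [← hz, hcoe] at h2
    exact h2
  · intro g
    have hmem := Subgroup.mem_center_iff.1 c.2 ⟨ρu g, ⟨g, rfl⟩⟩
    have h2 := congrArg (fun x : H => ((x : (Module.End F V)ˣ) : Module.End F V)) hmem
    simp only [Subgroup.coe_mul, Units.val_mul] at h2
    rw [← hz, hcoe, hcoe] at h2
    exact h2

/-- the restriction of a representation to an invariant submodule -/
def idxrjRestrict {V : Type u} [AddCommGroup V] [Module F V] {G : Type w} [Group G]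
    (ρ : G →* Module.End F V) (W : Submodule F V) (hW : ∀ g, ∀ w ∈ W, ρ g w ∈ W) :
    G →* Module.End F W where
  toFun g := (ρ g).restrict (hW g)
  map_one' := by
    apply LinearMap.ext
    intro w
    apply Subtype.ext
    rw [LinearMap.coe_restrict_apply, map_one]
    rfl
  map_mul' a b := by
    apply LinearMap.ext
    intro w
    apply Subtype.ext
    rw [LinearMap.coe_restrict_apply, map_mul, Module.End.mul_apply]
    rfl

theorem idxrjRestrict_apply {V : Type u} [AddCommGroup V] [Module F V] {G : Type w} [Group G]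
    (ρ : G →* Module.End F V) (W : Submodule F V) (hW : ∀ g, ∀ w ∈ W, ρ g w ∈ W) (g : G) (w : W) :
    ((idxrjRestrict ρ W hW g w : W) : V) = ρ g (w : V) := rfl

/-- every finite `r`-group of isometries of an even-dimensional nondegenerate symmetric space centralises a
self-adjoint `J` with `J² = δ`, when `4 ∣ ord_r(q)` -/
theorem idxrj_main {p : ℕ} [Fact p.Prime] [CharP F p] (h2 : (2 : F) ≠ 0) (δ : F) (hδ : ¬ IsSquare δ)
    (r : ℕ) [Fact r.Prime] (hrp : r ≠ p)
    (hi0 : orderOf ((Fintype.card F : ℕ) : ZMod r) ≠ 0)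
    (h4 : 4 ∣ orderOf ((Fintype.card F : ℕ) : ZMod r))
    {G : Type w} [Group G] [Finite G] (hG : IsPGroup r G) :
    ∀ (n : ℕ) (V : Type u) [AddCommGroup V] [Module F V] [FiniteDimensional F V],
      finrank F V = n → Even n → ∀ (B : LinearMap.BilinForm F V), (∀ u v, B u v = B v u) →
      (∀ u, (∀ v, B u v = 0) → u = 0) → ∀ ρ : G →* Module.End F V,
      (∀ g u v, B (ρ g u) (ρ g v) = B u v) →
      ∃ J : Module.End F V, J * J = δ • (1 : Module.End F V) ∧ (∀ u v, B (J u) v = B u (J v)) ∧
        ∀ g, ρ g * J = J * ρ g := by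
  intro n
  induction n using Nat.strong_induction_on with
  | _ n ih =>
    intro V _ _ _ hn hev B hsymm hBnd ρ hρ
    have hδ0 : δ ≠ 0 := by
      rintro rfl
      exact hδ ⟨0, by simp⟩
    by_cases hne : ∃ g, ρ g ≠ 1
    swap
    · push_neg at hne
      have hs : LinearMap.IsSymm B := ⟨fun u v => by
        simp only [RingHom.id_apply]; exact hsymm _ _⟩
      obtain ⟨f, hff, hfB⟩ := ej_exists_on h2 B hs hBnd (hn ▸ hev) δ
      refine ⟨f, ?_, ?_, ?_⟩
      · apply LinearMap.ext
        intro v
        rw [Module.End.mul_apply, hff, LinearMap.smul_apply, Module.End.one_apply]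
      · intro u v
        have hv : v = δ⁻¹ • f (f v) := by
          rw [hff, smul_smul, inv_mul_cancel₀ hδ0, one_smul]
        conv_lhs => rw [hv]
        rw [map_smul, hfB, smul_eq_mul, ← mul_assoc, inv_mul_cancel₀ hδ0, one_mul]
      · intro g
        rw [hne g, one_mul, mul_one]
    -- the nontrivial case
    obtain ⟨z, hz1, hzr, hzc⟩ := idxrj_exists_central r hG ρ hne
    set T := ρ z with hT
    have hTB : ∀ u v, B (T u) (T v) = B u v := hρ z
    -- an irreducible factor of the cyclotomic polynomial with nonzero kernel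
    obtain ⟨φ, hφ, hφr, hker⟩ : ∃ φ : F[X], Irreducible φ ∧ φ ∣ cyclotomic r F ∧
        LinearMap.ker (aeval T φ) ≠ ⊥ := by
      have hex : ∃ v, T v ≠ v := by
        by_contra hcon
        push_neg at hcon
        apply hz1
        apply LinearMap.ext
        intro v
        rw [hcon v, Module.End.one_apply]
      obtain ⟨v, hv⟩ := hex
      have hw0 : T v - v ≠ 0 := sub_ne_zero.2 hv
      have hcyc : aeval T (cyclotomic r F) (T v - v) = 0 := by
        have h1 : aeval T (cyclotomic r F * (X - 1)) v = 0 := by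
          rw [cyclotomic_prime_mul_X_sub_one, map_sub, map_pow, aeval_X, map_one, hzr, sub_self,
            LinearMap.zero_apply]
        rw [map_mul, Module.End.mul_apply, map_sub, aeval_X, map_one, LinearMap.sub_apply,
          Module.End.one_apply] at h1
        exact h1
      exact idxrj_exists_irred T _ (cyclotomic r F) rfl (cyclotomic_ne_zero r F) _ hw0 hcyc
    obtain ⟨g, ψ, a, b, hψ, hab, hss, hsadj, horth⟩ :=
      idxrj_block (p := p) h2 B δ hδ0 T hTB r hrp hzr hi0 h4 φ hφ hφr
    set W := LinearMap.ker (aeval T φ) with hW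
    set W' := LinearMap.ker (aeval T ψ) with hW'
    set s := aeval T g with hs
    set e := aeval T (b * ψ) with he_def
    set e' := aeval T (a * φ) with he'_def
    have hφψ : aeval T (φ * ψ) = 0 := by
      rw [← hψ, map_sub, map_pow, aeval_X, map_one, hzr, sub_self]
    have he : ∀ v, e v ∈ W := by
      intro v
      rw [hW, LinearMap.mem_ker, he_def, ← Module.End.mul_apply, ← map_mul,
        show φ * (b * ψ) = b * (φ * ψ) by ring, map_mul, hφψ, mul_zero, LinearMap.zero_apply]
    have he' : ∀ v, e' v ∈ W' := by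
      intro v
      rw [hW', LinearMap.mem_ker, he'_def, ← Module.End.mul_apply, ← map_mul,
        show ψ * (a * φ) = a * (φ * ψ) by ring, map_mul, hφψ, mul_zero, LinearMap.zero_apply]
    have hee : ∀ v, e v + e' v = v := by
      intro v
      rw [he_def, he'_def, ← LinearMap.add_apply, ← map_add, add_comm, hab, map_one,
        Module.End.one_apply]
    have heW : ∀ w ∈ W, e' w = 0 := by
      intro w hw
      rw [he'_def, map_mul, Module.End.mul_apply, LinearMap.mem_ker.1 hw, map_zero]
    have heW' : ∀ w ∈ W', e w = 0 := by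
      intro w hw
      rw [he_def, map_mul, Module.End.mul_apply, LinearMap.mem_ker.1 hw, map_zero]
    have hsW : ∀ w ∈ W, s w ∈ W := fun w hw =>
      obsss_ker_inv T s (obsss_commute_aeval (F := F) T T rfl g).symm φ w hw
    -- invariance under the group
    have hcomm : ∀ x, T * ρ x = ρ x * T := fun x => (hzc x).symm
    have hWinv : ∀ x, ∀ w ∈ W, ρ x w ∈ W := fun x w hw => obsss_ker_inv T (ρ x) (hcomm x) φ w hw
    have hW'inv : ∀ x, ∀ w ∈ W', ρ x w ∈ W' := fun x w hw => obsss_ker_inv T (ρ x) (hcomm x) ψ w hw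
    -- dimensions
    have hinf : W ⊓ W' = ⊥ := by
      rw [eq_bot_iff]
      intro x hx
      obtain ⟨hx1, hx2⟩ := Submodule.mem_inf.1 hx
      rw [Submodule.mem_bot, ← hee x, heW x hx1, heW' x hx2, add_zero]
    have hsup : W ⊔ W' = ⊤ := by
      rw [eq_top_iff]
      intro x _
      rw [← hee x]
      exact Submodule.add_mem_sup (he x) (he' x)
    have hdim : finrank F W + finrank F W' = n := by
      have h := Submodule.finrank_sup_add_finrank_inf_eq W W'
      rw [hinf, hsup, finrank_bot, add_zero, finrank_top, hn] at h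
      exact h.symm
    have hdeg : φ.natDegree = orderOf ((Fintype.card F : ℕ) : ZMod r) :=
      Cfsg.Agent.Lib.Helper44.Tns.o2b_natDegree_of_dvd_cyclotomic (p := p) r hrp hφr hφ
    have hWdvd : 4 ∣ finrank F W := by
      have h1 := Cfsg.Agent.Lib.Helper44.Tns.o2a_dvd_finrank_ker T φ hφ
      rw [hdeg] at h1
      exact h4.trans h1
    have hWpos : 0 < finrank F W := by
      rw [Nat.pos_iff_ne_zero]
      intro h0
      exact hker (Submodule.finrank_eq_zero.1 h0)
    have hW'lt : finrank F W' < n := by omega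
    have hW'ev : Even (finrank F W') := by
      obtain ⟨k, hk⟩ := hWdvd
      obtain ⟨l, hl⟩ := hev
      exact ⟨l - 2 * k, by omega⟩
    -- the restricted data on `W'`
    set B' : LinearMap.BilinForm F W' := B.compl₁₂ W'.subtype W'.subtype with hB'
    have hB'a : ∀ u v : W', B' u v = B (u : V) (v : V) := fun u v => rfl
    have hB'symm : ∀ u v : W', B' u v = B' v u := fun u v => by rw [hB'a, hB'a, hsymm]
    have hB'nd : ∀ u : W', (∀ v : W', B' u v = 0) → u = 0 := by
      intro u hu
      apply Subtype.ext
      apply hBnd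
      intro v
      rw [← hee v, map_add]
      have h1 : B (u : V) (e v) = 0 := by
        rw [hsymm]
        exact horth _ (he v) _ u.2
      have h2' : B (u : V) (e' v) = 0 := hu ⟨e' v, he' v⟩
      rw [h1, h2', add_zero]
    set ρ' := idxrjRestrict ρ W' hW'inv with hρ'
    have hρ'B : ∀ x (u v : W'), B' (ρ' x u) (ρ' x v) = B' u v := by
      intro x u v
      rw [hB'a, hB'a, idxrjRestrict_apply, idxrjRestrict_apply]
      exact hρ x _ _
    obtain ⟨J', hJJ', hJadj', hJcomm'⟩ :=
      ih (finrank F W') hW'lt W' rfl hW'ev B' hB'symm hB'nd ρ' hρ'B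
    obtain ⟨J, hJW, hJW', hJJ, hJadj⟩ := idxrj_glue B hsymm δ W W' e e' he he' hee heW heW' horth s
      hsW hss hsadj J' hJJ' (fun u v => hJadj' u v)
    refine ⟨J, hJJ, hJadj, ?_⟩
    intro x
    apply LinearMap.ext
    intro v
    rw [Module.End.mul_apply, Module.End.mul_apply, ← hee v, map_add, map_add, map_add, map_add]
    congr 1
    · rw [hJW _ (he v), hJW _ (hWinv x _ (he v))]
      have h := obsss_commute_aeval (F := F) T (ρ x) (hcomm x) g
      have h1 := congrArg (fun f : Module.End F V => f (e v)) h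
      simp only [Module.End.mul_apply] at h1
      exact h1.symm
    · have h1 := hJW' ⟨e' v, he' v⟩
      simp only at h1
      have h2' := hJW' (ρ' x ⟨e' v, he' v⟩)
      rw [idxrjRestrict_apply] at h2'
      simp only at h2'
      rw [h1, h2']
      have h3 := congrArg (fun f : Module.End F W' => ((f ⟨e' v, he' v⟩ : W') : V)) (hJcomm' x)
      simp only [Module.End.mul_apply] at h3
      exact h3

end main

end Cfsg.Agent.Lib.Helper44.Oc
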