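import Mathlib
import Cfsg.Prelude.Def_GeometricClasses
import Cfsg.Agent.Lib.Helper44.OcDefs
import Cfsg.Agent.Lib.Helper61.OcOBSSS
import Cfsg.Agent.Lib.Helper61.OcIdxRJc
import Cfsg.Agent.Lib.Helper32.OcT1
import Cfsg.Agent.Lib.Helper74.OcNORM

/-! # OC-IDX (helper44's Oc hive): `4 ∤ ord_r(q)` for an odd prime `r ≠ p` dividing the index of `N(K) ∩ Ω` in `Ω`.

Route via Sylow conjugation: for `4 ∣ ord_r(q)` a Sylow `r`-subgroup `R` of `Ω` centralises some `J₁` (`idxrj_main`);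
OC-T1 conjugates `J₁` to `J` inside `O(Q)`, so a conjugate of `R` lies in `N(K) ∩ Ω`. -/

set_option autoImplicit false
open scoped MatrixGroups
open Matrix Polynomial

namespace Cfsg.Agent.Lib.Helper44.Oc

universe v

variable {F : Type v} [Field F] {ι : Type} [Fintype ι] [DecidableEq ι]

/-- the action of a subgroup of `GL` on `ι → F` as a representation -/
noncomputable def idxrjRep (H : Subgroup (GL ι F)) : H →* Module.End F (ι → F) where
  toFun g := Matrix.toLin' ((g : GL ι F) : Matrix ι ι F)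
  map_one' := by
    rw [Subgroup.coe_one, Units.val_one, Matrix.toLin'_one]
    rfl
  map_mul' a b := by
    rw [Subgroup.coe_mul, Units.val_mul, Matrix.toLin'_mul]
    rfl

theorem idxrjRep_apply (H : Subgroup (GL ι F)) (g : H) :
    idxrjRep H g = Matrix.toLin' ((g : GL ι F) : Matrix ι ι F) := rfl

/-- the order of a unit of `ZMod r` is positive -/
theorem idxrj_orderOf_ne_zero [Fintype F] {p : ℕ} [Fact p.Prime] [CharP F p] (r : ℕ) [Fact r.Prime]
    (hrp : r ≠ p) : orderOf ((Fintype.card F : ℕ) : ZMod r) ≠ 0 := by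
  obtain ⟨f, -, hK⟩ := FiniteField.card F p
  have hne : ((Fintype.card F : ℕ) : ZMod r) ≠ 0 := by
    intro h0
    rw [ZMod.natCast_eq_zero_iff, hK] at h0
    have h1 := (Fact.out : r.Prime).dvd_of_dvd_pow h0
    exact hrp ((Nat.prime_dvd_prime_iff_eq (Fact.out : r.Prime) (Fact.out : p.Prime)).1 h1)
  have hpow := ZMod.pow_card_sub_one_eq_one hne
  have hpos : 0 < r - 1 := by
    have := (Fact.out : r.Prime).two_le
    omega
  exact (orderOf_pos_iff.2 (isOfFinOrder_iff_pow_eq_one.2 ⟨r - 1, hpos, hpow⟩)).ne'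

/-- for `4 ∣ ord_r(q)` a conjugate of a Sylow `r`-subgroup of `Ω` lies in `N(K) ∩ Ω` -/
theorem idxrj_not_dvd [Fintype F] {p : ℕ} [Fact p.Prime] [CharP F p] (h2 : (2 : F) ≠ 0) (d : ℕ)
    (hcard : Fintype.card ι = 2 * d) (Q : (ι → F) → F)
    (hQ : Cfsg.Geo.IsNondegenerateQuadraticForm Q) (K : Subalgebra F (Matrix ι ι F)) (J : Matrix ι ι F) (δ : F)
    (hδ : ¬ IsSquare δ) (hJ : IsJ Q δ J) (hJK : J ∈ K)
    (hK : ∀ k ∈ K, ∃ a b : F, k = a • (1 : Matrix ι ι F) + b • J)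
    (r : ℕ) [Fact r.Prime] (hrp : r ≠ p)
    (h4 : 4 ∣ orderOf ((Fintype.card F : ℕ) : ZMod r)) :
    ¬ r ∣ (Cfsg.Geo.subalgebraNormalizer K).relIndex (Cfsg.Geo.omegaGL Q) := by
  classical
  have hi0 := idxrj_orderOf_ne_zero (F := F) (p := p) r hrp
  set Ω := Cfsg.Geo.omegaGL Q with hΩ
  set N := Cfsg.Geo.subalgebraNormalizer K with hN
  have hΩO : Ω ≤ Cfsg.isometryGroup F Q := by
    rw [hΩ]
    unfold Cfsg.Geo.omegaGL
    exact Subgroup.map_subtype_le _
  -- a Sylow subgroup of `Ω`, as a subgroup of `GL`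
  let R : Sylow r Ω := default
  set R' : Subgroup (GL ι F) := (R : Subgroup Ω).map Ω.subtype with hR'
  have hR'Ω : R' ≤ Ω := Subgroup.map_subtype_le _
  have hR'card : Nat.card R' = Nat.card (R : Subgroup Ω) :=
    Subgroup.card_map_of_injective (Subgroup.subtype_injective Ω)
  have hR'p : IsPGroup r R' := R.isPGroup'.map Ω.subtype
  -- the form
  set B := obsssPolarB Q hQ with hB
  have hsymm : ∀ u v, B u v = B v u := fun u v => by
    rw [obsssPolarB_apply, obsssPolarB_apply, QuadraticMap.polar_comm]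
  have hBnd : ∀ u, (∀ v, B u v = 0) → u = 0 := by
    intro u hu
    by_contra hne
    obtain ⟨-, ⟨x, hx⟩⟩ := hQ.nondegenerate u hne
    exact hx (hu x)
  have hρ : ∀ (g : R') u v, B (idxrjRep R' g u) (idxrjRep R' g v) = B u v := by
    intro g u v
    have hy : (g : GL ι F) ∈ Cfsg.isometryGroup F Q := hΩO (hR'Ω g.2)
    have hyQ : ∀ x : ι → F, Q (((g : GL ι F) : Matrix ι ι F) *ᵥ x) = Q x := fun x => hy x 0
    rw [obsssPolarB_apply, obsssPolarB_apply, idxrjRep_apply, Matrix.toLin'_apply, Matrix.toLin'_apply]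
    unfold QuadraticMap.polar
    rw [← Matrix.mulVec_add, hyQ, hyQ, hyQ]
  have hfin : Module.finrank F (ι → F) = 2 * d := by
    rw [Module.finrank_fintype_fun_eq_card, hcard]
  obtain ⟨J1, hJJ1, hJadj1, hJcomm1⟩ :=
    idxrj_main (p := p) h2 δ hδ r hrp hi0 h4 hR'p (2 * d) (ι → F) hfin ⟨d, by ring⟩ B hsymm hBnd
      (idxrjRep R') hρ
  set J1m : Matrix ι ι F := LinearMap.toMatrix' J1 with hJ1m
  have hJ1lin : Matrix.toLin' J1m = J1 := Matrix.toLin'_toMatrix' J1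
  have hJ1 : IsJ Q δ J1m := by
    refine ⟨?_, ?_⟩
    · rw [hJ1m, ← LinearMap.toMatrix'_mul, hJJ1, map_smul, LinearMap.toMatrix'_one]
    · intro u v
      have := hJadj1 u v
      rw [obsssPolarB_apply, obsssPolarB_apply, ← hJ1lin, Matrix.toLin'_apply, Matrix.toLin'_apply] at this
      exact this
  obtain ⟨h, hhO, hhJ⟩ := exists_conj_J h2 Q hQ δ hδ J1m J hJ1 hJ
  -- the conjugate subgroup
  set P : Subgroup (GL ι F) := R'.map (MulAut.conj h).toMonoidHom with hP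
  have hPcard : Nat.card P = Nat.card R' :=
    Subgroup.card_map_of_injective (MulAut.conj h).injective
  have hhinv : ((h⁻¹ : GL ι F) : Matrix ι ι F) * (h : Matrix ι ι F) = 1 := by
    rw [← Units.val_mul, inv_mul_cancel, Units.val_one]
  have hhinv' : (h : Matrix ι ι F) * ((h⁻¹ : GL ι F) : Matrix ι ι F) = 1 := by
    rw [← Units.val_mul, mul_inv_cancel, Units.val_one]
  have hPN : P ≤ N := by
    rintro _ ⟨g, hg, rfl⟩
    rw [hN, mem_normalizer_iff h2 K J δ hδ hJ.1 hJK hK]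
    left
    have hc := hJcomm1 ⟨g, hg⟩
    rw [idxrjRep_apply, ← hJ1lin] at hc
    have hc' : (g : Matrix ι ι F) * J1m = J1m * (g : Matrix ι ι F) := by
      have h1 : Matrix.toLin' ((g : Matrix ι ι F) * J1m) = Matrix.toLin' (J1m * (g : Matrix ι ι F)) := by
        rw [Matrix.toLin'_mul, Matrix.toLin'_mul]
        exact hc
      exact Matrix.toLin'.injective h1
    have hconj : ((MulAut.conj h).toMonoidHom g : GL ι F) = h * g * h⁻¹ := rfl
    rw [hconj, Units.val_mul, Units.val_mul, ← hhJ]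
    calc (h : Matrix ι ι F) * (g : Matrix ι ι F) * ((h⁻¹ : GL ι F) : Matrix ι ι F) *
          ((h : Matrix ι ι F) * J1m * ((h⁻¹ : GL ι F) : Matrix ι ι F))
        = (h : Matrix ι ι F) * (g : Matrix ι ι F) *
            (((h⁻¹ : GL ι F) : Matrix ι ι F) * (h : Matrix ι ι F)) * J1m *
              ((h⁻¹ : GL ι F) : Matrix ι ι F) := by simp only [Matrix.mul_assoc]
      _ = (h : Matrix ι ι F) * ((g : Matrix ι ι F) * J1m) * ((h⁻¹ : GL ι F) : Matrix ι ι F) := by
          rw [hhinv, Matrix.mul_one, Matrix.mul_assoc (h : Matrix ι ι F)]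
      _ = (h : Matrix ι ι F) * (J1m * (g : Matrix ι ι F)) * ((h⁻¹ : GL ι F) : Matrix ι ι F) := by
          rw [hc']
      _ = (h : Matrix ι ι F) * J1m * (((h⁻¹ : GL ι F) : Matrix ι ι F) * (h : Matrix ι ι F)) *
            (g : Matrix ι ι F) * ((h⁻¹ : GL ι F) : Matrix ι ι F) := by
          rw [hhinv, Matrix.mul_one]
          simp only [Matrix.mul_assoc]
      _ = (h : Matrix ι ι F) * J1m * ((h⁻¹ : GL ι F) : Matrix ι ι F) *
            ((h : Matrix ι ι F) * (g : Matrix ι ι F) * ((h⁻¹ : GL ι F) : Matrix ι ι F)) := by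
          simp only [Matrix.mul_assoc]
  have hPΩ : P ≤ Ω := by
    rintro _ ⟨g, hg, rfl⟩
    have hgΩ : g ∈ Ω := hR'Ω hg
    rw [hΩ] at hgΩ ⊢
    unfold Cfsg.Geo.omegaGL at hgΩ ⊢
    obtain ⟨g0, hg0, rfl⟩ := hgΩ
    have hnorm : (Cfsg.Omega F Q).Normal := inferInstance
    refine ⟨(⟨h, hhO⟩ : Cfsg.isometryGroup F Q) * g0 * (⟨h, hhO⟩ : Cfsg.isometryGroup F Q)⁻¹,
      hnorm.conj_mem g0 hg0 _, ?_⟩
    rfl
  -- counting
  have hle : P ≤ N ⊓ Ω := le_inf hPN hPΩ
  have hdvd1 : Nat.card P ∣ Nat.card (N ⊓ Ω : Subgroup (GL ι F)) := Subgroup.card_dvd_of_le hle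
  have hcardH : Nat.card (N.subgroupOf Ω) = Nat.card (N ⊓ Ω : Subgroup (GL ι F)) := by
    rw [← Subgroup.inf_subgroupOf_right]
    exact Nat.card_congr (Subgroup.subgroupOfEquivOfLe (inf_le_right : N ⊓ Ω ≤ Ω)).toEquiv
  have h1 : Nat.card (N.subgroupOf Ω) * N.relIndex Ω = Nat.card Ω :=
    Subgroup.card_mul_index (N.subgroupOf Ω)
  have h3 : Nat.card (R : Subgroup Ω) * (R : Subgroup Ω).index = Nat.card Ω :=
    Subgroup.card_mul_index (R : Subgroup Ω)
  have hRpos : 0 < Nat.card (R : Subgroup Ω) := Nat.card_pos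
  obtain ⟨k, hk⟩ := hdvd1
  rw [hPcard, hR'card] at hk
  have hrel : N.relIndex Ω ∣ (R : Subgroup Ω).index := by
    refine ⟨k, ?_⟩
    have h5 : Nat.card (R : Subgroup Ω) * (k * N.relIndex Ω) =
        Nat.card (R : Subgroup Ω) * (R : Subgroup Ω).index := by
      rw [h3, ← h1, hcardH, hk]
      ring
    have := Nat.eq_of_mul_eq_mul_left hRpos h5
    rw [← this]
    ring
  intro hr
  exact R.not_dvd_index (hr.trans hrel)

/-- OC-IDX -/
theorem ord_mod_four_of_dvd_index [Fintype F] {p : ℕ} [Fact p.Prime] [CharP F p] (h2 : (2 : F) ≠ 0) (d : ℕ)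
    (hd : 4 ≤ d) (hcard : Fintype.card ι = 2 * d) (Q : (ι → F) → F)
    (hQ : Cfsg.Geo.IsNondegenerateQuadraticForm Q) (K : Subalgebra F (Matrix ι ι F)) (J : Matrix ι ι F) (δ : F)
    (hδ : ¬ IsSquare δ) (hJ : IsJ Q δ J) (hJK : J ∈ K)
    (hK : ∀ k ∈ K, ∃ a b : F, k = a • (1 : Matrix ι ι F) + b • J)
    (r : ℕ) [Fact r.Prime] (hr2 : r ≠ 2) (hrp : r ≠ p)
    (hΩ : r ∣ (Cfsg.Geo.subalgebraNormalizer K).relIndex (Cfsg.Geo.omegaGL Q)) :
    orderOf ((Fintype.card F : ℕ) : ZMod r) % 4 ≠ 0 := by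
  intro h40
  exact idxrj_not_dvd h2 d hcard Q hQ K J δ hδ hJ hJK hK r hrp (Nat.dvd_of_mod_eq_zero h40) hΩ

end Cfsg.Agent.Lib.Helper44.Oc
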