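import Mathlib
import Cfsg.Agent.Lib.Helper67.OgDefs
import Cfsg.Agent.Lib.Helper67.OgFam
import Cfsg.Agent.Lib.Helper43.OrthCardForms

/-! # Og hive (helper67, S2413 / S2414 / S2415), leaf OG-W: the orthogonal complement of the standard
hyperbolic family in the three concrete forms -/

set_option autoImplicit false
set_option linter.unusedSectionVars false
set_option linter.unusedVariables false

namespace Cfsg.Agent.Lib.Helper67.Og

open Matrix Module QuadraticMap
open Cfsg.Agent.Lib.Helper37 Cfsg.Agent.Lib.Helper8 Cfsg.Agent.Lib.Helper43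

section concrete

variable (F : Type*) [Field F]

theorem w_polar_plus_inl (m : ℕ) (i : Fin m) (y : Fin m ⊕ Fin m → F) :
    polar (⇑(plusForm m F)) (Pi.single (Sum.inl i) 1) y = y (Sum.inr i) := by
  rw [polar_plusForm]
  simp [Pi.single_apply, Finset.sum_add_distrib]

theorem w_polar_plus_inr (m : ℕ) (i : Fin m) (y : Fin m ⊕ Fin m → F) :
    polar (⇑(plusForm m F)) (Pi.single (Sum.inr i) 1) y = y (Sum.inl i) := by
  rw [polar_plusForm]
  simp [Pi.single_apply, Finset.sum_add_distrib]

theorem w_polar_minus_inl (m : ℕ) (a b : F) (i : Fin m) (y : (Fin m ⊕ Fin m) ⊕ Fin 2 → F) :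
    polar (⇑(minusForm m F a b)) (Pi.single (Sum.inl (Sum.inl i)) 1) y = y (Sum.inl (Sum.inr i)) := by
  rw [polar_minusForm]
  simp [Pi.single_apply, Finset.sum_add_distrib]

theorem w_polar_minus_inr (m : ℕ) (a b : F) (i : Fin m) (y : (Fin m ⊕ Fin m) ⊕ Fin 2 → F) :
    polar (⇑(minusForm m F a b)) (Pi.single (Sum.inl (Sum.inr i)) 1) y = y (Sum.inl (Sum.inl i)) := by
  rw [polar_minusForm]
  simp [Pi.single_apply, Finset.sum_add_distrib]

theorem inW_plus (m : ℕ) (w : Fin m ⊕ Fin m → F)
    (hw : InW (plusForm m F) (eP F m) (fP F m) w) : w = 0 := by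
  funext j
  rcases j with i | i
  · have := (hw i).2
    rw [w_polar_plus_inr] at this
    exact this
  · have := (hw i).1
    rw [w_polar_plus_inl] at this
    exact this

theorem inW_minus_iff (m : ℕ) (a b : F) (w : (Fin m ⊕ Fin m) ⊕ Fin 2 → F) :
    InW (minusForm m F a b) (eM F m) (fM F m) w ↔
      w = w (Sum.inr 0) • Pi.single (Sum.inr 0) 1 + w (Sum.inr 1) • Pi.single (Sum.inr 1) 1 := by
  constructor
  · intro hw
    funext j
    rcases j with (i | i) | i
    · have := (hw i).2
      rw [w_polar_minus_inr] at this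
      simp [this]
    · have := (hw i).1
      rw [w_polar_minus_inl] at this
      simp [this]
    · fin_cases i <;> simp
  · intro hw i
    rw [w_polar_minus_inl, w_polar_minus_inr]
    constructor
    · rw [hw]
      simp
    · rw [hw]
      simp

theorem inW_odd_iff (m : ℕ) (w : Unit ⊕ (Fin m ⊕ Fin m) → F) :
    InW (oddForm m F) (eO F m) (fO F m) w ↔ w = w (Sum.inl ()) • Pi.single (Sum.inl ()) 1 := by
  constructor
  · intro hw
    funext j
    rcases j with u | i | i
    · simp
    · have := (hw i).2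
      rw [polar_oddForm_inr] at this
      simp [this]
    · have := (hw i).1
      rw [polar_oddForm_inl] at this
      simp [this]
  · intro hw i
    rw [polar_oddForm_inl, polar_oddForm_inr]
    constructor
    · rw [hw]
      simp
    · rw [hw]
      simp

/-- `W` is two-dimensional: two independent vectors of `W` span it -/
theorem span_minus (m : ℕ) (a b : F) (w1 w2 : (Fin m ⊕ Fin m) ⊕ Fin 2 → F)
    (h1 : InW (minusForm m F a b) (eM F m) (fM F m) w1)
    (h2 : InW (minusForm m F a b) (eM F m) (fM F m) w2) (hne : w1 ≠ 0)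
    (hind : ∀ c : F, w2 ≠ c • w1) (w : (Fin m ⊕ Fin m) ⊕ Fin 2 → F)
    (hw : InW (minusForm m F a b) (eM F m) (fM F m) w) :
    w ∈ Submodule.span F ({w1, w2} : Set ((Fin m ⊕ Fin m) ⊕ Fin 2 → F)) := by
  have e1 := (inW_minus_iff F m a b w1).1 h1
  have e2 := (inW_minus_iff F m a b w2).1 h2
  have e := (inW_minus_iff F m a b w).1 hw
  set s0 : (Fin m ⊕ Fin m) ⊕ Fin 2 → F := Pi.single (Sum.inr 0) 1 with hs0
  set s1 : (Fin m ⊕ Fin m) ⊕ Fin 2 → F := Pi.single (Sum.inr 1) 1 with hs1
  set p1 := w1 (Sum.inr 0) with hp1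
  set q1 := w1 (Sum.inr 1) with hq1
  set p2 := w2 (Sum.inr 0) with hp2
  set q2 := w2 (Sum.inr 1) with hq2
  set p := w (Sum.inr 0) with hp
  set q := w (Sum.inr 1) with hq
  have hD : p1 * q2 - p2 * q1 ≠ 0 := by
    intro hD
    by_cases hp10 : p1 = 0
    · have hq10 : q1 ≠ 0 := by
        intro hq10
        apply hne
        rw [e1, hp10, hq10, zero_smul, zero_smul, add_zero]
      have hp20 : p2 = 0 := by
        rw [hp10, zero_mul, zero_sub, neg_eq_zero] at hD
        exact (mul_eq_zero.1 hD).resolve_right hq10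
      apply hind (q2 / q1)
      rw [e2, e1, hp10, hp20]
      simp only [zero_smul, zero_add]
      rw [smul_smul, div_mul_cancel₀ _ hq10]
    · apply hind (p2 / p1)
      have hq2' : q2 = p2 / p1 * q1 := by
        rw [div_mul_eq_mul_div, eq_div_iff hp10]
        linear_combination hD
      rw [e2, e1, smul_add, smul_smul, smul_smul, div_mul_cancel₀ _ hp10, ← hq2']
  rw [Submodule.mem_span_pair]
  refine ⟨(p * q2 - q * p2) / (p1 * q2 - p2 * q1), (p1 * q - q1 * p) / (p1 * q2 - p2 * q1), ?_⟩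
  have hc0 : (p * q2 - q * p2) / (p1 * q2 - p2 * q1) * p1 +
      (p1 * q - q1 * p) / (p1 * q2 - p2 * q1) * p2 = p := by
    rw [div_mul_eq_mul_div, div_mul_eq_mul_div, ← add_div, div_eq_iff hD]
    ring
  have hc1 : (p * q2 - q * p2) / (p1 * q2 - p2 * q1) * q1 +
      (p1 * q - q1 * p) / (p1 * q2 - p2 * q1) * q2 = q := by
    rw [div_mul_eq_mul_div, div_mul_eq_mul_div, ← add_div, div_eq_iff hD]
    ring
  conv_rhs => rw [e, ← hc0, ← hc1]
  conv_lhs => rw [e1, e2]
  module

/-- core of `exists_polar_ne_minus`: the polar form is not identically zero on `W` when `2 ≠ 0` or `a ≠ 0` -/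
theorem w_exists_polar_ne_minus_core (m : ℕ) (a b : F) (h2a : (2 : F) ≠ 0 ∨ a ≠ 0) :
    ∃ w w', InW (minusForm m F a b) (eM F m) (fM F m) w ∧
      InW (minusForm m F a b) (eM F m) (fM F m) w' ∧ polar ⇑(minusForm m F a b) w w' ≠ 0 := by
  have hs0 : InW (minusForm m F a b) (eM F m) (fM F m) (Pi.single (Sum.inr 0) 1) := by
    rw [inW_minus_iff]
    simp
  have hs1 : InW (minusForm m F a b) (eM F m) (fM F m) (Pi.single (Sum.inr 1) 1) := by
    rw [inW_minus_iff]
    simp
  rcases h2a with h2 | ha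
  · refine ⟨_, _, hs0, hs0, ?_⟩
    rw [polar_minusForm]
    simpa using h2
  · refine ⟨_, _, hs0, hs1, ?_⟩
    rw [polar_minusForm]
    simpa using ha

/-- the polar form is not identically zero on `W` (minus type, `W` anisotropic, `F` finite) -/
theorem w_exists_polar_ne_minus_finite [Finite F] (m : ℕ) (a b : F)
    (hab : ∀ z₁ z₂ : F, z₁ ^ 2 + a * z₁ * z₂ + b * z₂ ^ 2 = 0 → z₁ = 0 ∧ z₂ = 0) :
    ∃ w w', InW (minusForm m F a b) (eM F m) (fM F m) w ∧
      InW (minusForm m F a b) (eM F m) (fM F m) w' ∧ polar ⇑(minusForm m F a b) w w' ≠ 0 := by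
  apply w_exists_polar_ne_minus_core
  by_contra hcon
  push_neg at hcon
  obtain ⟨h2, ha⟩ := hcon
  -- characteristic two and `a = 0`: `b` is a square, so the form is isotropic
  haveI : CharP F 2 := by
    have h2' : ((2 : ℕ) : F) = 0 := by exact_mod_cast h2
    exact CharTwo.of_one_ne_zero_of_two_eq_zero one_ne_zero h2'
  letI : Fintype F := Fintype.ofFinite F
  obtain ⟨c, hc⟩ : ∃ c : F, c ^ 2 = b := by
    obtain ⟨c, hc⟩ := isSquare_of_charTwo' b
    exact ⟨c, by rw [hc, pow_two]⟩
  have := hab c 1 (by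
    rw [ha, hc]
    have hbb : b + b = 0 := by
      rw [← two_mul, h2, zero_mul]
    linear_combination hbb)
  exact one_ne_zero this.2

/-- the polar form is not identically zero on `W` (minus type, `W` anisotropic) -/
theorem exists_polar_ne_minus [Fintype F] (m : ℕ) (a b : F)
    (hab : ∀ z₁ z₂ : F, z₁ ^ 2 + a * z₁ * z₂ + b * z₂ ^ 2 = 0 → z₁ = 0 ∧ z₂ = 0) :
    ∃ w w', InW (minusForm m F a b) (eM F m) (fM F m) w ∧
      InW (minusForm m F a b) (eM F m) (fM F m) w' ∧ polar ⇑(minusForm m F a b) w w' ≠ 0 :=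
  w_exists_polar_ne_minus_finite F m a b hab

/-- the polar form is not identically zero on `W` (odd type, `2 ≠ 0`) -/
theorem exists_polar_ne_odd (h2 : (2 : F) ≠ 0) (m : ℕ) :
    ∃ w w', InW (oddForm m F) (eO F m) (fO F m) w ∧
      InW (oddForm m F) (eO F m) (fO F m) w' ∧ polar ⇑(oddForm m F) w w' ≠ 0 := by
  have hs : InW (oddForm m F) (eO F m) (fO F m) (Pi.single (Sum.inl ()) 1) := by
    rw [inW_odd_iff]
    simp
  refine ⟨_, _, hs, hs, ?_⟩
  rw [polar_oddForm]
  simpa using h2

end concrete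

end Cfsg.Agent.Lib.Helper67.Og
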