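import Mathlib
import Cfsg.Agent.Lib.Helper67.OgDefs
import Cfsg.Agent.Lib.Helper67.OgFam
import Cfsg.Agent.Lib.Helper54.OgEE
import Cfsg.Agent.Lib.Helper82.OgDEC
import Cfsg.Agent.Lib.Helper61.OgW

/-! # Og hive (helper67, S2413 / S2414 / S2415), leaves OG-O-RHOU and OG-M-RHOU: the unipotent extra element
`ρ = Ee (e i2 - f i2 + w0) (s • (e i2 + f i2))`, `s ∉ {0, 1, -1}`, `Q w0 = 1`, `w0 ∈ W`. -/

set_option autoImplicit false
set_option linter.unusedSectionVars false
set_option linter.unusedVariables false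

namespace Cfsg.Agent.Lib.Helper67.Og

open Matrix Module QuadraticMap
open Cfsg.Agent.Lib.Helper37 Cfsg.Agent.Lib.Helper8 Cfsg.Agent.Lib.Helper43
open Cfsg.Agent.Lib.Helper37.OrthField

section abstract

variable {ι : Type} [Fintype ι] [DecidableEq ι] {F : Type*} [Field F]
variable (Q : QuadraticForm F (ι → F)) (hQ : (QuadraticMap.polarBilin Q).Nondegenerate)
variable {k : ℕ} {e f : Fin k → ι → F}

theorem rhou_wpart_add (x y : ι → F) : Wpart Q e f (x + y) = Wpart Q e f x + Wpart Q e f y := by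
  unfold Wpart
  simp only [polar_add_right, add_smul, Finset.sum_add_distrib]
  abel

theorem rhou_wpart_smul (c : F) (x : ι → F) : Wpart Q e f (c • x) = c • Wpart Q e f x := by
  unfold Wpart
  simp only [polar_smul_right, smul_eq_mul, mul_smul, smul_sub, Finset.smul_sum, smul_add]

theorem rhou_wpart_sub (x y : ι → F) : Wpart Q e f (x - y) = Wpart Q e f x - Wpart Q e f y := by
  rw [sub_eq_add_neg, ← neg_one_smul F y, rhou_wpart_add, rhou_wpart_smul, neg_one_smul,
    ← sub_eq_add_neg]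

theorem rhou_wpart_e (h : HypFam Q k e f) (i : Fin k) : Wpart Q e f (e i) = 0 := by
  unfold Wpart
  have hfe : ∀ j, polar ⇑Q (f j) (e i) = if i = j then 1 else 0 := by
    intro j
    rw [polar_comm, h.ef]
  simp only [hfe, h.ee, zero_smul, add_zero, ite_smul, one_smul]
  rw [Finset.sum_ite_eq Finset.univ i]
  simp

theorem rhou_wpart_f (h : HypFam Q k e f) (i : Fin k) : Wpart Q e f (f i) = 0 := by
  unfold Wpart
  have hef : ∀ j, polar ⇑Q (e j) (f i) = if i = j then 1 else 0 := by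
    intro j
    rw [h.ef]
    by_cases hij : j = i
    · rw [if_pos hij, if_pos hij.symm]
    · rw [if_neg hij, if_neg (fun h' => hij h'.symm)]
  simp only [hef, h.ff, zero_smul, zero_add, ite_smul, one_smul]
  rw [Finset.sum_ite_eq Finset.univ i]
  simp

include hQ in
/-- the abstract core of OG-O-RHOU / OG-M-RHOU -/
theorem rhou_core [Fintype F] (h : HypFam Q k e f) (w0 : ι → F) (hw0 : InW Q e f w0) (hQw0 : Q w0 = 1)
    (hw0ne : w0 ≠ 0)
    (hn : 5 ≤ finrank F (ι → F)) (hn2 : (2 : F) = 0 → 7 ≤ finrank F (ι → F))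
    (hcard : 3 < Fintype.card F) (i2 : Fin k) :
    ∃ ρ : ↥(Cfsg.isometryGroup F ⇑Q),
      ρ ∈ commutator ↥(Cfsg.isometryGroup F ⇑Q) ∧ ρ ^ (ringChar F) = 1 ∧
      (∀ i, i ≠ i2 → act Q ρ (e i) = e i ∧ act Q ρ (f i) = f i) ∧
      Wpart Q e f (act Q ρ (f i2)) ≠ 0 ∧ Wpart Q e f (act Q ρ (e i2)) ≠ 0 := by
  classical
  -- a scalar outside `{0, 1, -1}`
  obtain ⟨s, hs0, hs1, hsm1⟩ : ∃ s : F, s ≠ 0 ∧ s ≠ 1 ∧ s ≠ -1 := by
    by_contra hcon
    push_neg at hcon
    have hsub : (Finset.univ : Finset F) ⊆ {0, 1, -1} := by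
      intro s _
      simp only [Finset.mem_insert, Finset.mem_singleton]
      by_cases h0 : s = 0
      · exact Or.inl h0
      · by_cases h1 : s = 1
        · exact Or.inr (Or.inl h1)
        · exact Or.inr (Or.inr (hcon s h0 h1))
    have hle := Finset.card_le_card hsub
    rw [Finset.card_univ] at hle
    have h3 : ({0, 1, -1} : Finset F).card ≤ 3 := Finset.card_le_three
    omega
  set u : ι → F := e i2 - f i2 + w0 with hu
  set v : ι → F := s • (e i2 + f i2) with hv
  have hfe : ∀ i j, polar ⇑Q (f i) (e j) = if j = i then 1 else 0 := by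
    intro i j
    rw [polar_comm, h.ef]
  have hew : ∀ i, polar ⇑Q (e i) w0 = 0 := fun i => (hw0 i).1
  have hfw : ∀ i, polar ⇑Q (f i) w0 = 0 := fun i => (hw0 i).2
  have hwe : ∀ i, polar ⇑Q w0 (e i) = 0 := fun i => by rw [polar_comm]; exact hew i
  have hwf : ∀ i, polar ⇑Q w0 (f i) = 0 := fun i => by rw [polar_comm]; exact hfw i
  have hQu : Q u = 0 := by
    have h1 : Q (e i2 - f i2) = -1 := by
      have := h.Q_comb i2 1 (-1)
      rw [one_smul, neg_one_smul, ← sub_eq_add_neg] at this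
      rw [this]
      ring
    rw [hu, QuadraticMap.map_add Q (e i2 - f i2) w0, h1, hQw0, polar_sub_left, hew, hfw]
    ring
  have hpue : ∀ i, polar ⇑Q u (e i) = if i = i2 then -1 else 0 := by
    intro i
    rw [hu, polar_add_left, polar_sub_left, h.ee, hfe, hwe]
    by_cases hi : i = i2
    · rw [if_pos hi, if_pos hi]; ring
    · rw [if_neg hi, if_neg hi]; ring
  have hpuf : ∀ i, polar ⇑Q u (f i) = if i2 = i then 1 else 0 := by
    intro i
    rw [hu, polar_add_left, polar_sub_left, h.ef, h.ff, hwf]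
    ring
  have hpve : ∀ i, polar ⇑Q v (e i) = if i = i2 then s else 0 := by
    intro i
    rw [hv, polar_smul_left, polar_add_left, h.ee, hfe, smul_eq_mul]
    by_cases hi : i = i2
    · rw [if_pos hi, if_pos hi]; ring
    · rw [if_neg hi, if_neg hi]; ring
  have hpvf : ∀ i, polar ⇑Q v (f i) = if i2 = i then s else 0 := by
    intro i
    rw [hv, polar_smul_left, polar_add_left, h.ef, h.ff, smul_eq_mul]
    by_cases hi : i2 = i
    · rw [if_pos hi, if_pos hi]; ring
    · rw [if_neg hi, if_neg hi]; ring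
  have huv : polar ⇑Q u v = 0 := by
    rw [hv, polar_smul_right, polar_add_right, hpue, hpuf, if_pos rfl, if_pos rfl, smul_eq_mul]
    ring
  have hQv : Q v = s * s := by
    have := h.Q_comb i2 1 1
    rw [one_smul, one_smul] at this
    rw [hv, QuadraticMap.map_smul, this, smul_eq_mul]
    ring
  have hWu : Wpart Q e f u = w0 := by
    rw [hu, rhou_wpart_add, rhou_wpart_sub, rhou_wpart_e Q h, rhou_wpart_f Q h,
      wpart_of_inW Q h hw0]
    simp
  have hWv : Wpart Q e f v = 0 := by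
    rw [hv, rhou_wpart_smul, rhou_wpart_add, rhou_wpart_e Q h, rhou_wpart_f Q h]
    simp
  clear_value u v
  refine ⟨Ee Q hQ u v, Ee_mem_omega Q hQ hn hn2 u v, ?_, ?_, ?_, ?_⟩
  · rw [Ee_pow Q hQ hQu huv, ringChar.Nat.cast_ringChar, zero_smul, Ee_zero]
  · intro i hi
    constructor
    · rw [act_Ee Q hQ hQu huv, hpue, hpve, if_neg hi, if_neg hi]
      simp
    · rw [act_Ee Q hQ hQu huv, hpuf, hpvf, if_neg (fun h' => hi h'.symm),
        if_neg (fun h' => hi h'.symm)]
      simp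
  · rw [act_Ee Q hQ hQu huv, hpuf, hpvf, if_pos rfl, if_pos rfl, hQv]
    rw [rhou_wpart_sub, rhou_wpart_sub, rhou_wpart_add, rhou_wpart_smul, rhou_wpart_smul,
      rhou_wpart_smul, rhou_wpart_f Q h, hWu, hWv]
    intro hzero
    have h1 : (-(s * (1 + s))) • w0 = 0 := by
      rw [← hzero]
      module
    rcases smul_eq_zero.1 h1 with h2 | h2
    · have h3 : s * (1 + s) = 0 := by linear_combination -h2
      rcases mul_eq_zero.1 h3 with h4 | h4
      · exact hs0 h4
      · exact hsm1 (by linear_combination h4)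
    · exact hw0ne h2
  · rw [act_Ee Q hQ hQu huv, hpue, hpve, if_pos rfl, if_pos rfl, hQv]
    rw [rhou_wpart_sub, rhou_wpart_sub, rhou_wpart_add, rhou_wpart_smul, rhou_wpart_smul,
      rhou_wpart_smul, rhou_wpart_e Q h, hWu, hWv]
    intro hzero
    have h1 : (s * (s - 1)) • w0 = 0 := by
      rw [← hzero]
      module
    rcases smul_eq_zero.1 h1 with h2 | h2
    · rcases mul_eq_zero.1 h2 with h4 | h4
      · exact hs0 h4
      · exact hs1 (by linear_combination h4)
    · exact hw0ne h2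

end abstract

section concrete

variable (F : Type*) [Field F]

theorem rhou_hypFam_odd (m : ℕ) : HypFam (oddForm m F) m (eO F m) (fO F m) :=
  let h := odd_family m F
  ⟨h.qe, h.qf, h.ee, h.ff, h.ef⟩

theorem exists_rho_odd_unip [Fintype F] (h2 : (2 : F) ≠ 0) (hF : 3 < Fintype.card F) (m : ℕ)
    (hm : 3 ≤ m) (i2 : Fin m) :
    ∃ ρ : ↥(Cfsg.isometryGroup F ⇑(oddForm m F)),
      ρ ∈ commutator ↥(Cfsg.isometryGroup F ⇑(oddForm m F)) ∧ ρ ^ (ringChar F) = 1 ∧
      (∀ i, i ≠ i2 → act (oddForm m F) ρ (eO F m i) = eO F m i ∧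
        act (oddForm m F) ρ (fO F m i) = fO F m i) ∧
      Wpart (oddForm m F) (eO F m) (fO F m) (act (oddForm m F) ρ (fO F m i2)) ≠ 0 ∧
      Wpart (oddForm m F) (eO F m) (fO F m) (act (oddForm m F) ρ (eO F m i2)) ≠ 0 := by
  have hQ : (QuadraticMap.polarBilin (oddForm m F)).Nondegenerate :=
    (odd_family m F).nondegenerate (sq_nondegenerate F h2)
  have hw0 : InW (oddForm m F) (eO F m) (fO F m) (Pi.single (Sum.inl ()) 1) := by
    rw [inW_odd_iff]
    simp
  have hQw0 : oddForm m F (Pi.single (Sum.inl ()) 1) = 1 := by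
    rw [← oddForm_coe]
    simp [Cfsg.quadFormOdd]
  have hne : (Pi.single (Sum.inl ()) 1 : Unit ⊕ (Fin m ⊕ Fin m) → F) ≠ 0 := by
    intro h0
    have := congrFun h0 (Sum.inl ())
    simp at this
  have hfin : finrank F (Unit ⊕ (Fin m ⊕ Fin m) → F) = 1 + (m + m) := by
    rw [Module.finrank_fintype_fun_eq_card]
    simp
  exact rhou_core (oddForm m F) hQ (rhou_hypFam_odd F m) _ hw0 hQw0 hne (by omega)
    (fun _ => by omega) hF i2

theorem exists_rho_minus_unip [Fintype F] (hF : 3 < Fintype.card F) (m : ℕ) (hm : 3 ≤ m)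
    (a b : F) (hab : ∀ z₁ z₂ : F, z₁ ^ 2 + a * z₁ * z₂ + b * z₂ ^ 2 = 0 → z₁ = 0 ∧ z₂ = 0)
    (i2 : Fin m) :
    ∃ ρ : ↥(Cfsg.isometryGroup F ⇑(minusForm m F a b)),
      ρ ∈ commutator ↥(Cfsg.isometryGroup F ⇑(minusForm m F a b)) ∧ ρ ^ (ringChar F) = 1 ∧
      (∀ i, i ≠ i2 → act (minusForm m F a b) ρ (eM F m i) = eM F m i ∧
        act (minusForm m F a b) ρ (fM F m i) = fM F m i) ∧
      Wpart (minusForm m F a b) (eM F m) (fM F m) (act (minusForm m F a b) ρ (fM F m i2)) ≠ 0 ∧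
      Wpart (minusForm m F a b) (eM F m) (fM F m) (act (minusForm m F a b) ρ (eM F m i2)) ≠ 0 := by
  have hQ : (QuadraticMap.polarBilin (minusForm m F a b)).Nondegenerate :=
    Cfsg.Agent.Lib.Helper43.ZeroCount.minusForm_nondeg F a b hab m
  have hfam : HypFam (minusForm m F a b) m (eM F m) (fM F m) :=
    let h := minus_family m F a b
    ⟨h.qe, h.qf, h.ee, h.ff, h.ef⟩
  have hw0 : InW (minusForm m F a b) (eM F m) (fM F m) (Pi.single (Sum.inr 0) 1) := by
    rw [inW_minus_iff]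
    simp
  have hQw0 : minusForm m F a b (Pi.single (Sum.inr 0) 1) = 1 := by
    rw [← minusForm_coe]
    simp [Cfsg.quadFormMinus]
  have hne : (Pi.single (Sum.inr 0) 1 : (Fin m ⊕ Fin m) ⊕ Fin 2 → F) ≠ 0 := by
    intro h0
    have := congrFun h0 (Sum.inr 0)
    simp at this
  have hfin : finrank F ((Fin m ⊕ Fin m) ⊕ Fin 2 → F) = m + m + 2 := by
    rw [Module.finrank_fintype_fun_eq_card]
    simp
  exact rhou_core (minusForm m F a b) hQ hfam _ hw0 hQw0 hne (by omega) (fun _ => by omega) hF i2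

end concrete

end Cfsg.Agent.Lib.Helper67.Og
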