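import Mathlib
import Cfsg.Prelude.Def_Sporadic_a
import Cfsg.Agent.Lib.Helper6.Steiner

set_option autoImplicit false
set_option linter.unusedVariables false
set_option linter.unusedSectionVars false

/-! Counting in a Steiner system `S(3,6,22)`. -/

namespace Cfsg.Agent.Lib.Helper61.S3622

open Cfsg Finset Cfsg.Agent.Lib.Helper6.Steiner

variable {α : Type*} [Fintype α] [DecidableEq α] {B : Set (Finset α)}

/-- double counting of incidences between a family of sets and a set. -/
theorem sum_card_inter_eq (S : Finset (Finset α)) (c : Finset α) :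
    ∑ d ∈ S, (d ∩ c).card = ∑ x ∈ c, (S.filter (fun d => x ∈ d)).card := by
  have h1 : ∀ d ∈ S, (d ∩ c).card = (c.filter (fun x => x ∈ d)).card := by
    intro d _
    congr 1
    ext x
    simp [and_comm]
  rw [sum_congr rfl h1]
  exact sum_card_bipartiteAbove_eq_sum_card_bipartiteBelow (fun (d : Finset α) (x : α) => x ∈ d)

theorem card_blocks_subtype (p : Finset α → Prop) [DecidablePred p] :
    Nat.card {w : ↥B // p (w : Finset α)} = ((blocks B).filter p).card := by
  rw [Nat.card_congr (Equiv.subtypeSubtypeEquivSubtypeInter (fun c => c ∈ B) p)]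
  rw [← ncard_sep_eq p]
  exact Nat.card_coe_set_eq _

section
variable (hα : Fintype.card α = 22) (hB : IsSteinerSystem 3 6 B)
include hα hB

theorem card_blocks : (blocks B).card = 77 := by
  have h := card_blocks_containing hB (∅ : Finset α) (by simp)
  simp only [card_empty, Nat.sub_zero, hα] at h
  have e1 : Nat.choose 6 3 = 20 := by decide
  have e2 : Nat.choose 22 3 = 1540 := by decide
  rw [e1, e2] at h
  have : (blocks B).filter ((∅ : Finset α) ⊆ ·) = blocks B := by
    apply filter_true_of_mem
    intro c _
    exact empty_subset c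
  rw [this] at h
  omega

theorem card_through_one (x : α) : ((blocks B).filter (fun c => x ∈ c)).card = 21 := by
  have h := card_blocks_containing hB ({x} : Finset α) (by simp)
  simp only [card_singleton, hα] at h
  have e1 : Nat.choose (6 - 1) (3 - 1) = 10 := by decide
  have e2 : Nat.choose (22 - 1) (3 - 1) = 210 := by decide
  rw [e1, e2] at h
  have : (blocks B).filter (({x} : Finset α) ⊆ ·) = (blocks B).filter (fun c => x ∈ c) := by
    apply filter_congr
    intro c _
    exact singleton_subset_iff
  rw [this] at h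
  omega

theorem card_through_two (x y : α) (hxy : x ≠ y) :
    ((blocks B).filter (fun c => x ∈ c ∧ y ∈ c)).card = 5 := by
  have hc : ({x, y} : Finset α).card = 2 := card_pair hxy
  have h := card_blocks_containing hB ({x, y} : Finset α) (by rw [hc]; norm_num)
  rw [hc, hα] at h
  have e1 : Nat.choose (6 - 2) (3 - 2) = 4 := by decide
  have e2 : Nat.choose (22 - 2) (3 - 2) = 20 := by decide
  rw [e1, e2] at h
  have : (blocks B).filter (({x, y} : Finset α) ⊆ ·) =
      (blocks B).filter (fun c => x ∈ c ∧ y ∈ c) := by
    apply filter_congr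
    intro c _
    rw [insert_subset_iff, singleton_subset_iff]
  rw [this] at h
  omega

theorem nInter_values {b : Finset α} (hb : b ∈ B) :
    nInter B b 0 = 16 ∧ nInter B b 1 = 0 ∧ nInter B b 2 = 60 := by
  have h3 : nInter B b 3 = 0 := nInter_eq_zero hB hb (by norm_num) (by norm_num)
  have h4 : nInter B b 4 = 0 := nInter_eq_zero hB hb (by norm_num) (by norm_num)
  have h5 : nInter B b 5 = 0 := nInter_eq_zero hB hb (by norm_num) (by norm_num)
  have h6 : nInter B b 6 = 1 := nInter_k hB hb (by norm_num)
  have s0 := sum_nInter hB hb 0 (by norm_num)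
  have s1 := sum_nInter hB hb 1 (by norm_num)
  have s2 := sum_nInter hB hb 2 (by norm_num)
  simp only [sum_range_succ, range_zero, sum_empty, zero_add, hα, h3, h4, h5, h6] at s0 s1 s2
  have c1 : Nat.choose 6 3 = 20 := by decide
  have c2 : Nat.choose 22 3 = 1540 := by decide
  have c3 : Nat.choose (6 - 1) (3 - 1) = 10 := by decide
  have c4 : Nat.choose (22 - 1) (3 - 1) = 210 := by decide
  have c5 : Nat.choose (6 - 2) (3 - 2) = 4 := by decide
  have c6 : Nat.choose (22 - 2) (3 - 2) = 20 := by decide
  have c7 : Nat.choose 6 2 = 15 := by decide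
  have c8 : Nat.choose 6 1 = 6 := by decide
  simp only [Nat.choose_zero_right, Nat.sub_zero, c1, c2, c3, c4, c5, c6, c7, c8,
    Nat.choose_one_right, Nat.choose_self, Nat.choose_succ_self, Nat.choose_zero_succ,
    mul_zero, mul_one, zero_mul, add_zero, zero_add, one_mul] at s0 s1 s2

  omega

theorem inter_card {b c : Finset α} (hb : b ∈ B) (hc : c ∈ B) (hne : c ≠ b) :
    (c ∩ b).card = 0 ∨ (c ∩ b).card = 2 := by
  have h1 := inter_card_lt hB hb hc hne
  have h2 := nInter_pos (B := B) (b := b) hc
  obtain ⟨-, v1, -⟩ := nInter_values hα hB hb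
  have : (c ∩ b).card ≠ 1 := by
    intro h
    rw [h, v1] at h2
    exact lt_irrefl _ h2
  omega

/-- the blocks disjoint from `b`. -/
theorem card_disjoint {b : Finset α} (hb : b ∈ B) :
    ((blocks B).filter (fun c => Disjoint c b)).card = 16 := by
  obtain ⟨v0, -, -⟩ := nInter_values hα hB hb
  rw [← v0]
  unfold nInter
  congr 1
  apply filter_congr
  intro c _
  rw [card_eq_zero, disjoint_iff_inter_eq_empty]

/-- sum of intersection sizes over a family of blocks different from `c`. -/
theorem sum_inter_eq_two_mul {c : Finset α} (hc : c ∈ B) (S : Finset (Finset α))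
    (hS : ∀ d ∈ S, d ∈ B ∧ d ≠ c) :
    ∑ d ∈ S, (d ∩ c).card = 2 * (S.filter (fun d => ¬ Disjoint d c)).card := by
  have h1 : ∀ d ∈ S, (d ∩ c).card = if ¬ Disjoint d c then 2 else 0 := by
    intro d hd
    obtain ⟨hdB, hdc⟩ := hS d hd
    rcases inter_card hα hB hc hdB hdc with h | h
    · have : Disjoint d c := by
        rw [disjoint_iff_inter_eq_empty, ← card_eq_zero]; exact h
      rw [h, if_neg (not_not.mpr this)]
    · have : ¬ Disjoint d c := by
        rw [disjoint_iff_inter_eq_empty, ← card_eq_zero, h]; norm_num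
      rw [h, if_pos this]
  rw [sum_congr rfl h1, sum_ite, sum_const, sum_const, smul_eq_mul, smul_eq_mul, mul_zero,
    add_zero, mul_comm]

theorem card_through_disjoint {b : Finset α} (hb : b ∈ B) (x : α) (hx : x ∉ b) :
    ((blocks B).filter (fun c => x ∈ c ∧ Disjoint c b)).card = 6 := by
  set S := (blocks B).filter (fun c => x ∈ c) with hS
  have hScard : S.card = 21 := card_through_one hα hB x
  have hSB : ∀ d ∈ S, d ∈ B ∧ d ≠ b := by
    intro d hd
    rw [hS, mem_filter, mem_blocks] at hd
    refine ⟨hd.1, ?_⟩
    rintro rfl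
    exact hx hd.2
  have h1 := sum_inter_eq_two_mul hα hB hb S hSB
  have h2 := sum_card_inter_eq S b
  have h3 : ∀ y ∈ b, (S.filter (fun d => y ∈ d)).card = 5 := by
    intro y hy
    have hxy : x ≠ y := by
      rintro rfl
      exact hx hy
    rw [← card_through_two hα hB x y hxy, hS, filter_filter]
  rw [sum_congr rfl h3, sum_const, hB.1 b hb, smul_eq_mul] at h2
  have h4 := card_filter_add_card_filter_not (s := S) (fun d => ¬ Disjoint d b)
  have h5 : (S.filter (fun d => ¬ ¬ Disjoint d b)) =
      (blocks B).filter (fun c => x ∈ c ∧ Disjoint c b) := by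
    rw [hS, filter_filter]
    apply filter_congr
    intro d _
    rw [not_not]
  rw [h5] at h4
  omega

/-- No three pairwise disjoint blocks. -/
theorem not_disjoint_of_disjoint {b c d : Finset α} (hb : b ∈ B) (hc : c ∈ B) (hd : d ∈ B)
    (hcb : Disjoint c b) (hdb : Disjoint d b) (hdc : d ≠ c) : ¬ Disjoint d c := by
  set D := (blocks B).filter (fun e => Disjoint e b) with hD
  have hDcard : D.card = 16 := card_disjoint hα hB hb
  have hcD : c ∈ D := by
    rw [hD, mem_filter, mem_blocks]; exact ⟨hc, hcb⟩
  have hdD : d ∈ D := by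
    rw [hD, mem_filter, mem_blocks]; exact ⟨hd, hdb⟩
  have h2 := sum_card_inter_eq D c
  have h3 : ∀ x ∈ c, (D.filter (fun e => x ∈ e)).card = 6 := by
    intro x hx
    have hxb : x ∉ b := fun h => (disjoint_left.mp hcb hx) h
    rw [← card_through_disjoint hα hB hb x hxb, hD, filter_filter]
    apply congrArg
    apply filter_congr
    intro e _
    exact and_comm
  rw [sum_congr rfl h3, sum_const, hB.1 c hc, smul_eq_mul] at h2
  rw [← add_sum_erase D _ hcD, inter_self, hB.1 c hc] at h2
  have hE : ∀ e ∈ D.erase c, e ∈ B ∧ e ≠ c := by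
    intro e he
    rw [mem_erase, hD, mem_filter, mem_blocks] at he
    exact ⟨he.2.1, he.1⟩
  have h1 := sum_inter_eq_two_mul hα hB hc (D.erase c) hE
  have hEcard : (D.erase c).card = 15 := by
    rw [card_erase_of_mem hcD, hDcard]
  have h6 : ((D.erase c).filter (fun e => ¬ Disjoint e c)).card = (D.erase c).card := by
    omega
  rw [card_filter_eq_iff] at h6
  exact h6 d (mem_erase.mpr ⟨hdc, hdD⟩)

/-- Two distinct meeting blocks have exactly four blocks disjoint from both. -/
theorem card_disjoint_both {b c : Finset α} (hb : b ∈ B) (hc : c ∈ B) (hcb : c ≠ b)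
    (hnd : ¬ Disjoint c b) :
    ((blocks B).filter (fun e => Disjoint e b ∧ Disjoint e c)).card = 4 := by
  set D := (blocks B).filter (fun e => Disjoint e b) with hD
  have hDcard : D.card = 16 := card_disjoint hα hB hb
  have hinter : (c ∩ b).card = 2 := by
    rcases inter_card hα hB hb hc hcb with h | h
    · exfalso
      apply hnd
      rw [disjoint_iff_inter_eq_empty, ← card_eq_zero]; exact h
    · exact h
  have h2 := sum_card_inter_eq D c
  have h3 : ∀ x ∈ c, (D.filter (fun e => x ∈ e)).card = if x ∈ b then 0 else 6 := by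
    intro x hx
    by_cases hxb : x ∈ b
    · rw [if_pos hxb, card_eq_zero, filter_eq_empty_iff]
      intro e he hxe
      rw [hD, mem_filter] at he
      exact (disjoint_left.mp he.2 hxe) hxb
    · rw [if_neg hxb, ← card_through_disjoint hα hB hb x hxb, hD, filter_filter]
      apply congrArg
      apply filter_congr
      intro e _
      exact and_comm
  rw [sum_congr rfl h3, sum_ite, sum_const, sum_const, smul_eq_mul, smul_eq_mul, mul_zero,
    zero_add] at h2
  have h4 : (c.filter (fun x => ¬ x ∈ b)).card = 4 := by
    have h5 := card_filter_add_card_filter_not (s := c) (fun x => x ∈ b)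
    have h6 : c.filter (fun x => x ∈ b) = c ∩ b := by
      ext x; simp
    rw [h6, hinter, hB.1 c hc] at h5
    omega
  rw [h4] at h2
  have hE : ∀ e ∈ D, e ∈ B ∧ e ≠ c := by
    intro e he
    rw [hD, mem_filter, mem_blocks] at he
    refine ⟨he.1, ?_⟩
    rintro rfl
    exact hnd he.2
  have h1 := sum_inter_eq_two_mul hα hB hc D hE
  have h7 := card_filter_add_card_filter_not (s := D) (fun e => ¬ Disjoint e c)
  have h8 : (D.filter (fun e => ¬ ¬ Disjoint e c)) =
      (blocks B).filter (fun e => Disjoint e b ∧ Disjoint e c) := by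
    rw [hD, filter_filter]
    apply filter_congr
    intro e _
    rw [not_not]
  rw [h8] at h7
  omega

end

end Cfsg.Agent.Lib.Helper61.S3622
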