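import Cfsg.Agent.Lib.Helper61.S3C1BG5core
import Cfsg.Agent.Lib.Helper66.S3.CLS
import Cfsg.Agent.Lib.Helper66.S3.D1p

/-! # S3 hive (S4305, helper66), C1B sub-split (helper32) — leaf C1B-G5 `c1b_sig_one_point` -/

set_option autoImplicit false

namespace Cfsg.Agent.Lib.Helper66.S3

universe u

section c1b

variable {H V : Type u} [Group H] [CommGroup V] [MulDistribMulAction A3 H]
  [MulDistribMulAction A3 V] [MulDistribMulAction H V] {p r : ℕ} {F : Subgroup H}

/-- C1B-G5: `σ` fixes at most one point of an `H`-orbit of components. -/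
theorem c1b_sig_one_point (cfg : Config H V p r F)
    (hfpf : ∀ h : H, h⁻¹ * sig • h ∈ F → h ∈ F)
    (C : Subgroup H) (hC : comp (V := V) F C ≠ ⊥) (hsC : mapA sig C = C) (h : H)
    (hsh : mapA sig (mapH h C) = mapH h C) : mapH h C = C := by
  have := cfg.hyp.finH
  have hCF : C ≤ F := comp_le C hC
  refine c1b_sig_one_point_core cfg hfpf C ?_ ?_ hsC h hsh
  · intro f hf
    ext x
    rw [c1bg5_mem_mapH]
    constructor
    · intro hx
      have hxF : x ∈ F := by
        have h1 : x = f * (f⁻¹ * x * f) * f⁻¹ := by group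
        rw [h1]
        exact F.mul_mem (F.mul_mem hf (hCF hx)) (F.inv_mem hf)
      have h2 : f⁻¹ * x * f = x := by
        rw [mul_assoc, cfg.Fcomm x hxF f hf, ← mul_assoc, inv_mul_cancel, one_mul]
      rwa [h2] at hx
    · intro hx
      have hxF : x ∈ F := hCF hx
      have h2 : f⁻¹ * x * f = x := by
        rw [mul_assoc, cfg.Fcomm x hxF f hf, ← mul_assoc, inv_mul_cancel, one_mul]
      rwa [h2]
  · intro N _ hs hc hNB g hg
    exact coprime_lift_solv N hs hc hNB g hg

end c1b

end Cfsg.Agent.Lib.Helper66.S3
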