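import Cfsg.Agent.Lib.Helper66.S3Defs

/-! # S3 hive (S4305, helper66), C1B sub-split (helper32) — leaf C1B-G5, core version

`σ` fixes at most one point of an `H`-orbit of components.  The two facts not yet on main
(`c1b_F_le_stab` and `coprime_lift_solv`) are hypotheses of the core lemma. -/

set_option autoImplicit false
set_option linter.unusedSectionVars false

namespace Cfsg.Agent.Lib.Helper66.S3

universe u

open scoped commutatorElement

section c1bg5

variable {H V : Type u} [Group H] [CommGroup V] [MulDistribMulAction A3 H]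
  [MulDistribMulAction A3 V] [MulDistribMulAction H V] {p r : ℕ} {F : Subgroup H}

theorem c1bg5_mem_mapH (h x : H) (C : Subgroup H) : x ∈ mapH h C ↔ h⁻¹ * x * h ∈ C := by
  unfold mapH
  rw [Subgroup.mem_map]
  constructor
  · rintro ⟨c, hc, rfl⟩
    simpa [MulAut.conj_apply, mul_assoc] using hc
  · intro hx
    exact ⟨h⁻¹ * x * h, hx, by simp [MulAut.conj_apply, mul_assoc]⟩

theorem c1bg5_mem_mapA (a : A3) (x : H) (C : Subgroup H) : x ∈ mapA a C ↔ a⁻¹ • x ∈ C := by
  show (∃ c ∈ C, (MulDistribMulAction.toMonoidEnd A3 H a) c = x) ↔ _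
  constructor
  · rintro ⟨c, hc, rfl⟩
    have h1 : (MulDistribMulAction.toMonoidEnd A3 H a) c = a • c := rfl
    rw [h1, inv_smul_smul]
    exact hc
  · intro hx
    refine ⟨a⁻¹ • x, hx, ?_⟩
    have h1 : (MulDistribMulAction.toMonoidEnd A3 H a) (a⁻¹ • x) = a • (a⁻¹ • x) := rfl
    rw [h1, smul_inv_smul]

theorem c1bg5_mapH_mul (h k : H) (C : Subgroup H) : mapH (h * k) C = mapH h (mapH k C) := by
  ext x
  simp only [c1bg5_mem_mapH]
  simp [mul_assoc]

theorem c1bg5_mapH_one (C : Subgroup H) : mapH 1 C = C := by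
  ext x
  simp [c1bg5_mem_mapH]

theorem c1bg5_mapA_mul (a b : A3) (C : Subgroup H) : mapA (a * b) C = mapA a (mapA b C) := by
  ext x
  simp only [c1bg5_mem_mapA]
  simp [mul_smul]

theorem c1bg5_mapA_one (C : Subgroup H) : mapA 1 C = C := by
  ext x
  simp [c1bg5_mem_mapA]

theorem c1bg5_mapA_mapH (a : A3) (h : H) (C : Subgroup H) :
    mapA a (mapH h C) = mapH (a • h) (mapA a C) := by
  ext x
  simp only [c1bg5_mem_mapA, c1bg5_mem_mapH]
  have : a⁻¹ • ((a • h)⁻¹ * x * (a • h)) = h⁻¹ * a⁻¹ • x * h := by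
    simp [smul_mul', smul_inv']
  rw [this]

/-- the stabiliser of `C` under conjugation -/
def c1bg5_stab (C : Subgroup H) : Subgroup H where
  carrier := {k | mapH k C = C}
  one_mem' := c1bg5_mapH_one C
  mul_mem' := by
    intro a b ha hb
    show mapH (a * b) C = C
    rw [c1bg5_mapH_mul, (show mapH b C = C from hb), (show mapH a C = C from ha)]
  inv_mem' := by
    intro a ha
    show mapH a⁻¹ C = C
    have h1 : mapH a⁻¹ (mapH a C) = C := by
      rw [← c1bg5_mapH_mul, inv_mul_cancel, c1bg5_mapH_one]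
    rwa [(show mapH a C = C from ha)] at h1

theorem c1bg5_mem_stab (C : Subgroup H) (k : H) : k ∈ c1bg5_stab C ↔ mapH k C = C := Iff.rfl

theorem c1bg5_normal_of_comm_le (K : Subgroup H) (hK : commutator H ≤ K) : K.Normal := by
  constructor
  intro n hn g
  have h1 : g * n * g⁻¹ = ⁅g, n⁆ * n := by simp [commutatorElement_def]
  rw [h1]
  refine K.mul_mem (hK ?_) hn
  rw [commutator_def]
  exact Subgroup.commutator_mem_commutator (Subgroup.mem_top g) (Subgroup.mem_top n)

theorem c1bg5_orderOf_sig : orderOf sig = 3 := by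
  have : Fact (Nat.Prime 3) := ⟨Nat.prime_three⟩
  exact orderOf_eq_prime (by unfold sig; decide) (by unfold sig; decide)

/-- C1B-G5, core: `c1b_F_le_stab` and `coprime_lift_solv` (for `B = zpowers sig`) as hypotheses. -/
theorem c1b_sig_one_point_core (cfg : Config H V p r F)
    (hfpf : ∀ h : H, h⁻¹ * sig • h ∈ F → h ∈ F)
    (C : Subgroup H) (hFstab : ∀ f ∈ F, mapH f C = C)
    (hlift : ∀ (N : Subgroup H) [N.Normal], Group.IsSolvable N →
      (Nat.card N).Coprime (Nat.card ↥(Subgroup.zpowers sig)) →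
      (∀ b : ↥(Subgroup.zpowers sig), ∀ n ∈ N, b • n ∈ N) → ∀ g : H,
      (∀ b : ↥(Subgroup.zpowers sig), g⁻¹ * b • g ∈ N) →
      ∃ n ∈ N, ∀ b : ↥(Subgroup.zpowers sig), b • (g * n) = g * n)
    (hsC : mapA sig C = C) (h : H)
    (hsh : mapA sig (mapH h C) = mapH h C) : mapH h C = C := by
  classical
  have := cfg.hyp.finH
  have hFle : F ≤ c1bg5_stab C := fun f hf => hFstab f hf
  have : (c1bg5_stab C).Normal := c1bg5_normal_of_comm_le _ (le_trans cfg.quot_comm hFle)
  have hP : ∀ b : ↥(Subgroup.zpowers sig),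
      mapA (b : A3) C = C ∧ mapA (b : A3) (mapH h C) = mapH h C := by
    rintro ⟨b, hb⟩
    let S : Subgroup A3 :=
      { carrier := {a | mapA a C = C ∧ mapA a (mapH h C) = mapH h C}
        one_mem' := ⟨c1bg5_mapA_one _, c1bg5_mapA_one _⟩
        mul_mem' := by
          rintro a b ⟨ha1, ha2⟩ ⟨hb1, hb2⟩
          exact ⟨by rw [c1bg5_mapA_mul, hb1, ha1], by rw [c1bg5_mapA_mul, hb2, ha2]⟩
        inv_mem' := by
          rintro a ⟨ha1, ha2⟩
          constructor
          · have h1 : mapA a⁻¹ (mapA a C) = C := by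
              rw [← c1bg5_mapA_mul, inv_mul_cancel, c1bg5_mapA_one]
            rwa [ha1] at h1
          · have h1 : mapA a⁻¹ (mapA a (mapH h C)) = mapH h C := by
              rw [← c1bg5_mapA_mul, inv_mul_cancel, c1bg5_mapA_one]
            rwa [ha2] at h1 }
    have hle : Subgroup.zpowers sig ≤ S := (Subgroup.zpowers_le).mpr ⟨hsC, hsh⟩
    exact hle hb
  have hinv : ∀ b : ↥(Subgroup.zpowers sig), ∀ n ∈ c1bg5_stab C, b • n ∈ c1bg5_stab C := by
    intro b n hn
    show mapH ((b : A3) • n) C = C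
    have h1 := c1bg5_mapA_mapH (b : A3) n C
    rw [(hP b).1, (show mapH n C = C from hn), (hP b).1] at h1
    exact h1.symm
  have hg : ∀ b : ↥(Subgroup.zpowers sig), h⁻¹ * b • h ∈ c1bg5_stab C := by
    intro b
    show mapH (h⁻¹ * (b : A3) • h) C = C
    have h1 := c1bg5_mapA_mapH (b : A3) h C
    rw [(hP b).1, (hP b).2] at h1
    rw [c1bg5_mapH_mul, ← h1, ← c1bg5_mapH_mul, inv_mul_cancel, c1bg5_mapH_one]
  have hsolv : Group.IsSolvable ↥(c1bg5_stab C) := by
    have := cfg.hyp.solv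
    infer_instance
  have hcard3 : Nat.card ↥(Subgroup.zpowers sig) = 3 := by
    rw [Nat.card_zpowers]; exact c1bg5_orderOf_sig
  have hcop : (Nat.card ↥(c1bg5_stab C)).Coprime (Nat.card ↥(Subgroup.zpowers sig)) := by
    rw [hcard3]
    have h6 := cfg.hyp.copH
    have hdvd : Nat.card ↥(c1bg5_stab C) ∣ Nat.card H := Subgroup.card_subgroup_dvd_card _
    exact (Nat.Coprime.coprime_dvd_left hdvd h6).coprime_dvd_right (by norm_num : 3 ∣ 6)
  obtain ⟨n, hn, hfix⟩ := hlift (c1bg5_stab C) hsolv hcop hinv h hg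
  have hs : sig • (h * n) = h * n := hfix ⟨sig, Subgroup.mem_zpowers sig⟩
  have hF : h * n ∈ F := hfpf (h * n) (by rw [hs, inv_mul_cancel]; exact F.one_mem)
  have hh : h ∈ c1bg5_stab C := by
    have h2 : h = (h * n) * n⁻¹ := by group
    rw [h2]
    exact (c1bg5_stab C).mul_mem (hFle hF) ((c1bg5_stab C).inv_mem hn)
  exact hh

end c1bg5

end Cfsg.Agent.Lib.Helper66.S3
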