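import Mathlib

namespace Cfsg.Agent.Lib.Helper61.SchurRing

open Equiv

set_option linter.unusedSectionVars false
set_option linter.unusedVariables false

theorem inv_app {Ω : Type*} (f : Perm Ω) (x : Ω) : f⁻¹ (f x) = x := by simp

theorem app_inv {Ω : Type*} (f : Perm Ω) (x : Ω) : f (f⁻¹ x) = x := by simp

section Abstract

variable {Ω : Type*} [Fintype Ω] [DecidableEq Ω] (G : Subgroup (Perm Ω))
variable {A : Type*} [AddCommGroup A] [Fintype A] [DecidableEq A]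
variable (τ : A → Perm Ω) (ω₀ : Ω)

/-- two elements of `A` are related when a point stabilizer element carries one to the other -/
def Rel (a b : A) : Prop := ∃ g₀ ∈ G, g₀ ω₀ = ω₀ ∧ g₀ (τ a ω₀) = τ b ω₀

/-- `τ` is a regular additive family inside `G` -/
def Reg : Prop :=
  (∀ a, τ a ∈ G) ∧ (∀ a b, τ (a + b) = τ a * τ b) ∧ Function.Bijective (fun a => τ a ω₀)

variable {G τ ω₀}

theorem Reg.tau_zero (h : Reg G τ ω₀) : τ 0 = 1 := by
  have := h.2.1 0 0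
  rw [add_zero] at this
  exact (mul_eq_left (a := τ 0) (b := τ 0)).mp this.symm

theorem Reg.tau_neg (h : Reg G τ ω₀) (a : A) : τ (-a) = (τ a)⁻¹ := by
  have := h.2.1 (-a) a
  rw [neg_add_cancel, h.tau_zero] at this
  exact eq_inv_of_mul_eq_one_left this.symm

theorem Reg.inj (h : Reg G τ ω₀) {a b : A} (hab : τ a ω₀ = τ b ω₀) : a = b :=
  h.2.2.1 hab

theorem Reg.surj (h : Reg G τ ω₀) (ω : Ω) : ∃ a, τ a ω₀ = ω := h.2.2.2 ω

theorem rel_refl (a : A) : Rel G τ ω₀ a a := ⟨1, G.one_mem, rfl, rfl⟩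

theorem rel_symm {a b : A} (hab : Rel G τ ω₀ a b) : Rel G τ ω₀ b a := by
  obtain ⟨g₀, hg, h0, h1⟩ := hab
  refine ⟨g₀⁻¹, G.inv_mem hg, ?_, ?_⟩
  · rw [Perm.inv_eq_iff_eq]; exact h0.symm
  · rw [Perm.inv_eq_iff_eq]; exact h1.symm

theorem rel_trans {a b c : A} (hab : Rel G τ ω₀ a b) (hbc : Rel G τ ω₀ b c) :
    Rel G τ ω₀ a c := by
  obtain ⟨g₀, hg, h0, h1⟩ := hab
  obtain ⟨g₁, hg', h0', h1'⟩ := hbc
  refine ⟨g₁ * g₀, G.mul_mem hg' hg, ?_, ?_⟩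
  · rw [Perm.mul_apply, h0, h0']
  · rw [Perm.mul_apply, h1, h1']

theorem rel_zero_left (h : Reg G τ ω₀) {b : A} (hb : Rel G τ ω₀ 0 b) : b = 0 := by
  obtain ⟨g₀, hg, h0, h1⟩ := hb
  rw [h.tau_zero, Perm.one_apply, h0] at h1
  apply h.inj
  rw [← h1, h.tau_zero, Perm.one_apply]

theorem rel_zero_right (h : Reg G τ ω₀) {b : A} (hb : Rel G τ ω₀ b 0) : b = 0 :=
  rel_zero_left h (rel_symm hb)

/-- the shift lemma -/
theorem rel_sub (h : Reg G τ ω₀) {g₀ : Perm Ω} (hg : g₀ ∈ G)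
    {x x' z z' : A} (hx : g₀ (τ x ω₀) = τ x' ω₀) (hz : g₀ (τ z ω₀) = τ z' ω₀) :
    Rel G τ ω₀ (z - x) (z' - x') := by
  refine ⟨(τ x')⁻¹ * g₀ * τ x, G.mul_mem (G.mul_mem (G.inv_mem (h.1 x')) hg) (h.1 x), ?_, ?_⟩
  · rw [Perm.mul_apply, Perm.mul_apply, hx, inv_app]
  · have e1 : τ x (τ (z - x) ω₀) = τ z ω₀ := by
      rw [← Perm.mul_apply, ← h.2.1, add_sub_cancel]
    have e2 : τ z' ω₀ = τ x' (τ (z' - x') ω₀) := by
      rw [← Perm.mul_apply, ← h.2.1, add_sub_cancel]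
    rw [Perm.mul_apply, Perm.mul_apply, e1, hz, e2, inv_app]

theorem rel_neg (h : Reg G τ ω₀) {a b : A} (hab : Rel G τ ω₀ a b) : Rel G τ ω₀ (-a) (-b) := by
  obtain ⟨g₀, hg, h0, h1⟩ := hab
  have := rel_sub h hg h1 (z := 0) (z' := 0) (by rw [h.tau_zero, Perm.one_apply, h0])
  simpa using this

/-- the permutation of `A` induced by a point-stabilizer element -/
noncomputable def perm (h : Reg G τ ω₀) (g₀ : Perm Ω) : Perm A :=
  (Equiv.ofBijective _ h.2.2).trans (g₀.trans (Equiv.ofBijective _ h.2.2).symm)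

theorem perm_spec (h : Reg G τ ω₀) (g₀ : Perm Ω) (x : A) :
    τ (perm h g₀ x) ω₀ = g₀ (τ x ω₀) := by
  exact (Equiv.ofBijective _ h.2.2).apply_symm_apply (g₀ (τ x ω₀))

end Abstract

end Cfsg.Agent.Lib.Helper61.SchurRing
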