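import Mathlib

namespace Cfsg.Agent.Lib.Helper61.SchurRing

open Equiv

set_option linter.unusedSectionVars false
set_option linter.unusedVariables false

section SRdef

variable {A : Type*} [AddCommGroup A] [Fintype A] [DecidableEq A]

/-- abstract orbit relation of a point stabilizer on a regular abelian subgroup -/
def SR (r : A → A → Prop) : Prop :=
  (∀ a, r a a) ∧ (∀ a b, r a b → r b a) ∧ (∀ a b c, r a b → r b c → r a c) ∧
  (∀ b, r 0 b → b = 0) ∧
  (∀ z z', r z z' → ∃ π : Perm A, π 0 = 0 ∧ π z = z' ∧ ∀ x y, r (y - x) (π y - π x))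

variable {r : A → A → Prop}

theorem SR.refl (h : SR r) (a : A) : r a a := h.1 a

theorem SR.symm (h : SR r) {a b : A} (hab : r a b) : r b a := h.2.1 a b hab

theorem SR.trans (h : SR r) {a b c : A} (hab : r a b) (hbc : r b c) : r a c :=
  h.2.2.1 a b c hab hbc

theorem SR.zero_left (h : SR r) {b : A} (hb : r 0 b) : b = 0 := h.2.2.2.1 b hb

theorem SR.zero_right (h : SR r) {b : A} (hb : r b 0) : b = 0 := h.zero_left (h.symm hb)

theorem SR.shift (h : SR r) {z z' : A} (hz : r z z') :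
    ∃ π : Perm A, π 0 = 0 ∧ π z = z' ∧ ∀ x y, r (y - x) (π y - π x) := h.2.2.2.2 z z' hz

theorem SR.neg (h : SR r) {a b : A} (hab : r a b) : r (-a) (-b) := by
  obtain ⟨π, h0, hz, hπ⟩ := h.shift hab
  have := hπ a 0
  rwa [h0, hz, zero_sub, zero_sub] at this

/-- the pair form -/
theorem SR.pair (h : SR r) {z z' : A} (hz : r z z') :
    ∃ π : Perm A, ∀ x, r x (π x) ∧ r (z - x) (z' - π x) := by
  obtain ⟨π, h0, hz, hπ⟩ := h.shift hz
  refine ⟨π, fun x => ⟨?_, ?_⟩⟩
  · have := hπ 0 x; rwa [h0, sub_zero, sub_zero] at this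
  · have := hπ x z; rwa [hz] at this

theorem SR.pair_add (h : SR r) {z z' : A} (hz : r z z') :
    ∃ π : Perm A, ∀ x, r x (π x) ∧ r (x + z) (π x + z') := by
  obtain ⟨π, hπ⟩ := h.pair (h.neg hz)
  refine ⟨π, fun x => ⟨(hπ x).1, ?_⟩⟩
  have := h.neg (hπ x).2
  have e1 : -(-z - x) = x + z := by abel
  have e2 : -(-z' - π x) = π x + z' := by abel
  rwa [e1, e2] at this

theorem SR.closure_closed (h : SR r) (S : Set A) (hS : ∀ a b, r a b → a ∈ S → b ∈ S) :
    ∀ a b, r a b → a ∈ AddSubgroup.closure S → b ∈ AddSubgroup.closure S := by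
  intro a b hab ha
  revert b
  induction ha using AddSubgroup.closure_induction with
  | mem x hx => intro b hb; exact AddSubgroup.subset_closure (hS x b hb hx)
  | zero => intro b hb; rw [h.zero_left hb]; exact zero_mem _
  | add x y hx hy ihx ihy =>
      intro b hb
      obtain ⟨π, hπ⟩ := h.pair hb
      have h1 := (hπ x).1
      have h2 := (hπ x).2
      rw [add_sub_cancel_left] at h2
      have := add_mem (ihx _ h1) (ihy _ h2)
      rwa [add_sub_cancel] at this
  | neg x hx ih =>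
      intro b hb
      have h1 := h.neg hb
      rw [neg_neg] at h1
      have := neg_mem (ih _ h1)
      rwa [neg_neg] at this

theorem SR.card_sub (h : SR r) (S₁ S₂ : Finset A)
    (h₁ : ∀ a b, r a b → a ∈ S₁ → b ∈ S₁) (h₂ : ∀ a b, r a b → a ∈ S₂ → b ∈ S₂)
    {z z' : A} (hz : r z z') :
    (S₁.filter (fun t => z - t ∈ S₂)).card = (S₁.filter (fun t => z' - t ∈ S₂)).card := by
  obtain ⟨π, hπ⟩ := h.pair hz
  apply Finset.card_equiv π
  intro t
  simp only [Finset.mem_filter]
  constructor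
  · rintro ⟨h1, h2⟩; exact ⟨h₁ _ _ (hπ t).1 h1, h₂ _ _ (hπ t).2 h2⟩
  · rintro ⟨h1, h2⟩; exact ⟨h₁ _ _ (h.symm (hπ t).1) h1, h₂ _ _ (h.symm (hπ t).2) h2⟩

theorem SR.card_add (h : SR r) (S₁ S₂ : Finset A)
    (h₁ : ∀ a b, r a b → a ∈ S₁ → b ∈ S₁) (h₂ : ∀ a b, r a b → a ∈ S₂ → b ∈ S₂)
    {z z' : A} (hz : r z z') :
    (S₁.filter (fun t => t + z ∈ S₂)).card = (S₁.filter (fun t => t + z' ∈ S₂)).card := by
  obtain ⟨π, hπ⟩ := h.pair_add hz
  apply Finset.card_equiv π
  intro t
  simp only [Finset.mem_filter]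
  constructor
  · rintro ⟨h1, h2⟩; exact ⟨h₁ _ _ (hπ t).1 h1, h₂ _ _ (hπ t).2 h2⟩
  · rintro ⟨h1, h2⟩; exact ⟨h₁ _ _ (h.symm (hπ t).1) h1, h₂ _ _ (h.symm (hπ t).2) h2⟩

section SInvSec

variable {R : Type*} [Semiring R]

/-- class-constant elements of the group algebra -/
def SInv (r : A → A → Prop) (x : AddMonoidAlgebra R A) : Prop :=
  ∀ a b, r a b → x.coeff a = x.coeff b

theorem sinv_one (h : SR r) : SInv r (1 : AddMonoidAlgebra R A) := by
  intro a b hab
  rw [AddMonoidAlgebra.one_def, AddMonoidAlgebra.coeff_single, Finsupp.single_apply,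
    Finsupp.single_apply]
  by_cases ha : a = 0
  · subst ha; rw [h.zero_left hab]
  · have hb : b ≠ 0 := fun hb => ha (by subst hb; exact h.zero_right hab)
    rw [if_neg (Ne.symm ha), if_neg (Ne.symm hb)]

theorem sinv_mul (h : SR r) {x y : AddMonoidAlgebra R A} (hx : SInv r x) (hy : SInv r y) :
    SInv r (x * y) := by
  intro z z' hz
  obtain ⟨π, hπ⟩ := h.pair hz
  rw [AddMonoidAlgebra.coeff_mul_apply_left, AddMonoidAlgebra.coeff_mul_apply_left,
    Finsupp.sum_fintype _ _ (by simp), Finsupp.sum_fintype _ _ (by simp)]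
  rw [← Equiv.sum_comp π (fun h => x.coeff h * y.coeff (-h + z'))]
  apply Finset.sum_congr rfl
  intro t _
  rw [hx _ _ (hπ t).1, neg_add_eq_sub, neg_add_eq_sub, hy _ _ (hπ t).2]

theorem sinv_pow (h : SR r) {x : AddMonoidAlgebra R A} (hx : SInv r x) (n : ℕ) :
    SInv r (x ^ n) := by
  induction n with
  | zero => rw [pow_zero]; exact sinv_one h
  | succ n ih => rw [pow_succ]; exact sinv_mul h ih hx

end SInvSec

theorem SR.frob (h : SR r) (p : ℕ) [Fact p.Prime] (S : Finset A)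
    (hS : ∀ a b, r a b → a ∈ S → b ∈ S) {z z' : A} (hz : r z z') :
    ((S.filter (fun a => p • a = z)).card : ZMod p)
      = ((S.filter (fun a => p • a = z')).card : ZMod p) := by
  have hch : CharP (AddMonoidAlgebra (ZMod p) A) p :=
    charP_of_injective_ringHom (f := AddMonoidAlgebra.singleZeroRingHom)
      AddMonoidAlgebra.single_right_injective p
  obtain ⟨x, hxdef⟩ : ∃ x : AddMonoidAlgebra (ZMod p) A,
      x = ∑ a ∈ S, AddMonoidAlgebra.single a 1 := ⟨_, rfl⟩
  have hxc : ∀ w, x.coeff w = if w ∈ S then 1 else 0 := by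
    intro w
    rw [hxdef, AddMonoidAlgebra.coeff_sum, Finsupp.finsetSum_apply]
    simp only [AddMonoidAlgebra.coeff_single, Finsupp.single_apply]
    rw [Finset.sum_ite_eq' S w]
  have hx : SInv r x := by
    intro a b hab
    rw [hxc, hxc]
    by_cases ha : a ∈ S
    · rw [if_pos ha, if_pos (hS a b hab ha)]
    · have hb : b ∉ S := fun hb => ha (hS b a (h.symm hab) hb)
      rw [if_neg ha, if_neg hb]
  have hpow : x ^ p = ∑ a ∈ S, AddMonoidAlgebra.single (p • a) 1 := by
    rw [hxdef, sum_pow_char]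
    apply Finset.sum_congr rfl
    intro a _
    rw [AddMonoidAlgebra.single_pow, one_pow]
  have hcoeff : ∀ w, (x ^ p).coeff w = ((S.filter (fun a => p • a = w)).card : ZMod p) := by
    intro w
    rw [hpow, AddMonoidAlgebra.coeff_sum, Finsupp.finsetSum_apply]
    simp only [AddMonoidAlgebra.coeff_single, Finsupp.single_apply]
    rw [Finset.sum_boole]
  rw [← hcoeff, ← hcoeff]
  exact sinv_pow h hx p _ _ hz

end SRdef

end Cfsg.Agent.Lib.Helper61.SchurRing
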