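import Cfsg.Agent.Lib.Helper61.SchurRing2

namespace Cfsg.Agent.Lib.Helper61.SchurRing

open Equiv

set_option linter.unusedSectionVars false
set_option linter.unusedVariables false

section Main

variable {A : Type*} [AddCommGroup A] [Fintype A] [DecidableEq A]
variable {r : A → A → Prop}

/-- abstract primitivity: no proper nontrivial class-closed subgroup -/
def Prim (r : A → A → Prop) : Prop :=
  ∀ E : AddSubgroup A, (∀ a b, r a b → a ∈ E → b ∈ E) → E = ⊥ ∨ E = ⊤

/-- the arithmetic hypotheses on the group `A` -/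
def PHyp (p : ℕ) (u₀ : A) : Prop :=
  p.Prime ∧ u₀ ≠ 0 ∧ p • u₀ = 0 ∧
    (Finset.univ.filter (fun a : A => p • a = 0)).card ≤ p ∧ ∃ a : A, p • a ≠ 0

theorem modp_card (p : ℕ) (hp : p.Prime) (W : Finset A) (u : A) (hu0 : u ≠ 0)
    (hpu : p • u = 0) (hW : ∀ t ∈ W, t + u ∈ W) : p ∣ W.card := by
  have : Fact p.Prime := ⟨hp⟩
  let f : Function.End W := fun t => ⟨t.1 + u, hW t.1 t.2⟩
  have hf : ∀ (k : ℕ) (t : W), ((f ^ k) t : A) = t.1 + k • u := by
    intro k
    induction k with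
    | zero => intro t; rw [pow_zero, zero_nsmul, add_zero]; rfl
    | succ k ih =>
        intro t
        rw [pow_succ]
        show ((f ^ k) (f t) : A) = _
        rw [ih]
        show t.1 + u + k • u = _
        rw [succ_nsmul]; abel
  have hfp : f ^ p ^ 1 = 1 := by
    rw [pow_one]
    funext t
    apply Subtype.ext
    rw [hf, hpu, add_zero]
    rfl
  have h := Equiv.Perm.card_fixedPoints_modEq hfp
  have h0 : Fintype.card (Function.fixedPoints f) = 0 := by
    rw [Fintype.card_eq_zero_iff]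
    constructor
    rintro ⟨t, ht⟩
    have h1 : (f t : A) = t.1 := congrArg Subtype.val ht
    have h2 : t.1 + u = t.1 := h1
    apply hu0
    simpa using h2
  rw [h0, Fintype.card_coe] at h
  exact (Nat.modEq_zero_iff_dvd).mp h

theorem PHyp.not_surj {p : ℕ} {u₀ : A} (hyp : PHyp p u₀) : ∃ z : A, ∀ a : A, p • a ≠ z := by
  by_contra hcon
  push Not at hcon
  have hs : Function.Surjective (fun a : A => p • a) := fun z => hcon z
  have hi : Function.Injective (fun a : A => p • a) := Finite.injective_iff_surjective.mpr hs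
  apply hyp.2.1
  apply hi
  show p • u₀ = p • 0
  rw [hyp.2.2.1, smul_zero]

theorem Prim.exists_not_mem (h : SR r) (hP : Prim r) {a : A} (ha : a ≠ 0) (E : AddSubgroup A)
    (hE : E ≠ ⊤) : ∃ b, r a b ∧ b ∉ E := by
  by_contra hcon
  push Not at hcon
  have hcl := h.closure_closed {b | r a b} (fun x y hxy hx => h.trans hx hxy)
  rcases hP (AddSubgroup.closure {b | r a b}) hcl with h1 | h1
  · have : a ∈ AddSubgroup.closure {b | r a b} := AddSubgroup.subset_closure (h.refl a)
    rw [h1, AddSubgroup.mem_bot] at this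
    exact ha this
  · apply hE
    rw [eq_top_iff, ← h1, AddSubgroup.closure_le]
    exact fun b hb => hcon b hb

theorem Prim.exists_not_range (h : SR r) (hP : Prim r) {p : ℕ} {u₀ : A} (hyp : PHyp p u₀)
    {a : A} (ha : a ≠ 0) : ∃ b, r a b ∧ ∀ x : A, p • x ≠ b := by
  obtain ⟨z, hz⟩ := hyp.not_surj
  obtain ⟨b, hb, hbE⟩ := hP.exists_not_mem h ha (nsmulAddMonoidHom (α := A) p).range (by
    intro htop
    have : z ∈ (nsmulAddMonoidHom (α := A) p).range := by rw [htop]; trivial
    obtain ⟨x, hx⟩ := this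
    exact hz x hx)
  refine ⟨b, hb, fun x hx => hbE ⟨x, hx⟩⟩

theorem Prim.exists_not_ker (h : SR r) (hP : Prim r) {p : ℕ} {u₀ : A} (hyp : PHyp p u₀)
    {a : A} (ha : a ≠ 0) : ∃ b, r a b ∧ p • b ≠ 0 := by
  obtain ⟨z, hz⟩ := hyp.2.2.2.2
  obtain ⟨b, hb, hbE⟩ := hP.exists_not_mem h ha (nsmulAddMonoidHom (α := A) p).ker (by
    intro htop
    have : z ∈ (nsmulAddMonoidHom (α := A) p).ker := by rw [htop]; trivial
    exact hz this)
  refine ⟨b, hb, fun hx => hbE hx⟩

/-- Step 1: class-closed sets are unions of cosets of the `p`-torsion outside it -/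
theorem full (h : SR r) (hP : Prim r) {p : ℕ} {u₀ : A} (hyp : PHyp p u₀) (S : Finset A)
    (hS : ∀ a b, r a b → a ∈ S → b ∈ S) {t u : A} (ht : t ∈ S) (hpt : p • t ≠ 0)
    (hu : p • u = 0) : t + u ∈ S := by
  have : Fact p.Prime := ⟨hyp.1⟩
  obtain ⟨z', hz', hz'r⟩ := hP.exists_not_range h hyp hpt
  have hfr := h.frob p S hS hz'
  have hempty : S.filter (fun a => p • a = z') = ∅ := by
    rw [Finset.filter_eq_empty_iff]
    intro a _
    exact hz'r a
  rw [hempty, Finset.card_empty, Nat.cast_zero, ZMod.natCast_eq_zero_iff] at hfr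
  have hsub : S.filter (fun a => p • a = p • t) ⊆ Finset.univ.filter (fun a => p • a = p • t) :=
    Finset.filter_subset_filter _ (Finset.subset_univ _)
  have hFle : (Finset.univ.filter (fun a : A => p • a = p • t)).card ≤ p := by
    refine le_trans ?_ hyp.2.2.2.1
    apply Finset.card_le_card_of_injOn (fun a => a - t)
    · intro a ha
      have ha' : p • a = p • t := (Finset.mem_filter.mp (Finset.mem_coe.mp ha)).2
      apply Finset.mem_coe.mpr
      apply Finset.mem_filter.mpr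
      refine ⟨Finset.mem_univ _, ?_⟩
      rw [smul_sub, ha', sub_self]
    · intro a _ b _ hab
      exact sub_left_injective hab
  have hpos : 0 < (S.filter (fun a => p • a = p • t)).card :=
    Finset.card_pos.mpr ⟨t, Finset.mem_filter.mpr ⟨ht, rfl⟩⟩
  have hge : p ≤ (S.filter (fun a => p • a = p • t)).card := Nat.le_of_dvd hpos hfr
  have heq : S.filter (fun a => p • a = p • t) = Finset.univ.filter (fun a => p • a = p • t) :=
    Finset.eq_of_subset_of_card_le hsub (le_trans hFle hge)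
  have hmem : t + u ∈ Finset.univ.filter (fun a : A => p • a = p • t) := by
    simp only [Finset.mem_filter, Finset.mem_univ, true_and]
    rw [smul_add, hu, add_zero]
  rw [← heq] at hmem
  exact (Finset.mem_filter.mp hmem).1

/-- translation invariance propagates along classes -/
theorem transl_class (h : SR r) (T : Finset A) (hT : ∀ a b, r a b → a ∈ T → b ∈ T)
    {z z' : A} (hz : r z z') (hQ : ∀ t ∈ T, t + z ∈ T) : ∀ t ∈ T, t + z' ∈ T := by
  have hc := h.card_add T T hT hT hz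
  have h1 : (T.filter (fun t => t + z ∈ T)).card = T.card := by
    rw [Finset.card_filter_eq_iff]; exact hQ
  rw [h1] at hc
  exact Finset.card_filter_eq_iff.mp hc.symm

/-- Step 2: every nonzero class meets the `p`-torsion -/
theorem meets_P (h : SR r) (hP : Prim r) {p : ℕ} {u₀ : A} (hyp : PHyp p u₀)
    {a : A} (ha : a ≠ 0) : ∃ b, r a b ∧ p • b = 0 := by
  classical
  by_contra hcon
  push Not at hcon
  obtain ⟨T, hTdef⟩ : ∃ T : Finset A, T = Finset.univ.filter (fun b => r a b) := ⟨_, rfl⟩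
  have hTmem : ∀ b, b ∈ T ↔ r a b := by
    intro b; rw [hTdef]; simp
  have hT : ∀ x y, r x y → x ∈ T → y ∈ T := by
    intro x y hxy hx
    rw [hTmem] at hx ⊢
    exact h.trans hx hxy
  have hQP : ∀ u : A, p • u = 0 → ∀ t ∈ T, t + u ∈ T := by
    intro u hu t ht
    exact full h hP hyp T hT ht (hcon t ((hTmem t).mp ht)) hu
  have hQ' : ∀ x ∈ AddSubgroup.closure {b | r u₀ b},
      (∀ t ∈ T, t + x ∈ T) ∧ (∀ t ∈ T, t + -x ∈ T) := by
    intro x hx
    induction hx using AddSubgroup.closure_induction with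
    | mem x hx =>
        refine ⟨transl_class h T hT hx (hQP u₀ hyp.2.2.1), ?_⟩
        refine transl_class h T hT (h.neg hx) (hQP (-u₀) ?_)
        rw [smul_neg, hyp.2.2.1, neg_zero]
    | zero =>
        refine ⟨fun t ht => by rwa [add_zero], fun t ht => by rwa [neg_zero, add_zero]⟩
    | add x y hx hy ihx ihy =>
        refine ⟨fun t ht => ?_, fun t ht => ?_⟩
        · have := ihy.1 _ (ihx.1 t ht)
          rwa [add_assoc] at this
        · have := ihy.2 _ (ihx.2 t ht)
          rwa [add_assoc, ← neg_add] at this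
    | neg x hx ih =>
        refine ⟨ih.2, ?_⟩
        rw [neg_neg]; exact ih.1
  have hcl := h.closure_closed {b | r u₀ b} (fun x y hxy hx => h.trans hx hxy)
  have htop : AddSubgroup.closure {b | r u₀ b} = ⊤ := by
    rcases hP _ hcl with h1 | h1
    · exfalso
      have : u₀ ∈ AddSubgroup.closure {b | r u₀ b} := AddSubgroup.subset_closure (h.refl u₀)
      rw [h1, AddSubgroup.mem_bot] at this
      exact hyp.2.1 this
    · exact h1
  have haT : a ∈ T := (hTmem a).mpr (h.refl a)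
  have h0 := (hQ' a (by rw [htop]; trivial)).2 a haT
  rw [add_neg_cancel, hTmem] at h0
  exact ha (h.zero_right h0)

/-- counting for `z` in the torsion -/
theorem count_tors (h : SR r) (hP : Prim r) {p : ℕ} {u₀ : A} (hyp : PHyp p u₀)
    (Tk Tl : Finset A) (hTk : ∀ a b, r a b → a ∈ Tk → b ∈ Tk)
    (hTl : ∀ a b, r a b → a ∈ Tl → b ∈ Tl) {z : A} (hz : p • z = 0) :
    ∃ w, (Tk.filter (fun t => z - t ∈ Tl)).card =
      ((Tk.filter (fun t => p • t = 0)).filter
        (fun t => z - t ∈ Tl.filter (fun t => p • t = 0))).card + p * w := by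
  have hsplit := Finset.card_filter_add_card_filter_not (s := Tk.filter (fun t => z - t ∈ Tl))
    (fun t => p • t = 0)
  have h1 : (Tk.filter (fun t => z - t ∈ Tl)).filter (fun t => p • t = 0) =
      (Tk.filter (fun t => p • t = 0)).filter
        (fun t => z - t ∈ Tl.filter (fun t => p • t = 0)) := by
    ext t
    simp only [Finset.mem_filter]
    constructor
    · rintro ⟨⟨h1, h2⟩, h3⟩
      exact ⟨⟨h1, h3⟩, h2, by rw [smul_sub, hz, h3, sub_zero]⟩
    · rintro ⟨⟨h1, h3⟩, h2, _⟩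
      exact ⟨⟨h1, h2⟩, h3⟩
  have h2 : p ∣ ((Tk.filter (fun t => z - t ∈ Tl)).filter (fun t => ¬ p • t = 0)).card := by
    apply modp_card p hyp.1 _ u₀ hyp.2.1 hyp.2.2.1
    intro t ht
    simp only [Finset.mem_filter] at ht ⊢
    obtain ⟨⟨h1, h2⟩, h3⟩ := ht
    refine ⟨⟨full h hP hyp Tk hTk h1 h3 hyp.2.2.1, ?_⟩, ?_⟩
    · have e : z - (t + u₀) = (z - t) + (-u₀) := by abel
      rw [e]
      apply full h hP hyp Tl hTl h2
      · rw [smul_sub, hz, zero_sub]
        exact neg_ne_zero.mpr h3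
      · rw [smul_neg, hyp.2.2.1, neg_zero]
    · rw [smul_add, hyp.2.2.1, add_zero]; exact h3
  obtain ⟨w, hw⟩ := h2
  refine ⟨w, ?_⟩
  rw [← hsplit, h1, hw]

/-- counting for `z` outside the torsion -/
theorem count_nontors (h : SR r) (hP : Prim r) {p : ℕ} {u₀ : A} (hyp : PHyp p u₀)
    (Tk Tl : Finset A) (hTk : ∀ a b, r a b → a ∈ Tk → b ∈ Tk)
    (hTl : ∀ a b, r a b → a ∈ Tl → b ∈ Tl) (hdisj : ∀ t, t ∈ Tk → t ∉ Tl)
    {z : A} (hzT : z ∈ Tl) (hz : p • z ≠ 0) :
    ∃ w, (Tk.filter (fun t => z - t ∈ Tl)).card =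
      (Tk.filter (fun t => p • t = 0)).card + p * w := by
  have hsplit := Finset.card_filter_add_card_filter_not (s := Tk.filter (fun t => z - t ∈ Tl))
    (fun t => p • t = 0)
  have h1 : (Tk.filter (fun t => z - t ∈ Tl)).filter (fun t => p • t = 0) =
      Tk.filter (fun t => p • t = 0) := by
    ext t
    simp only [Finset.mem_filter]
    constructor
    · rintro ⟨⟨h1, h2⟩, h3⟩
      exact ⟨h1, h3⟩
    · rintro ⟨h1, h3⟩
      refine ⟨⟨h1, ?_⟩, h3⟩
      rw [sub_eq_add_neg]
      apply full h hP hyp Tl hTl hzT hz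
      rw [smul_neg, h3, neg_zero]
  have h2 : p ∣ ((Tk.filter (fun t => z - t ∈ Tl)).filter (fun t => ¬ p • t = 0)).card := by
    apply modp_card p hyp.1 _ u₀ hyp.2.1 hyp.2.2.1
    intro t ht
    simp only [Finset.mem_filter] at ht ⊢
    obtain ⟨⟨h1, h2⟩, h3⟩ := ht
    have h4 : p • (z - t) ≠ 0 := by
      intro h4
      apply hdisj t h1
      have e : t = z + (-(z - t)) := by abel
      rw [e]
      apply full h hP hyp Tl hTl hzT hz
      rw [smul_neg, h4, neg_zero]
    refine ⟨⟨full h hP hyp Tk hTk h1 h3 hyp.2.2.1, ?_⟩, ?_⟩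
    · have e : z - (t + u₀) = (z - t) + (-u₀) := by abel
      rw [e]
      apply full h hP hyp Tl hTl h2 h4
      rw [smul_neg, hyp.2.2.1, neg_zero]
    · rw [smul_add, hyp.2.2.1, add_zero]; exact h3
  obtain ⟨w, hw⟩ := h2
  refine ⟨w, ?_⟩
  rw [← hsplit, h1, hw]

/-- Step 3: under abstract primitivity, all nonzero elements are related -/
theorem all_rel (h : SR r) (hP : Prim r) {p : ℕ} {u₀ : A} (hyp : PHyp p u₀)
    {a b : A} (ha : a ≠ 0) (hb : b ≠ 0) : r a b := by
  classical
  by_contra hab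
  obtain ⟨Tk, hTkdef⟩ : ∃ T : Finset A, T = Finset.univ.filter (fun x => r a x) := ⟨_, rfl⟩
  obtain ⟨Tl, hTldef⟩ : ∃ T : Finset A, T = Finset.univ.filter (fun x => r b x) := ⟨_, rfl⟩
  have hTkmem : ∀ x, x ∈ Tk ↔ r a x := by intro x; rw [hTkdef]; simp
  have hTlmem : ∀ x, x ∈ Tl ↔ r b x := by intro x; rw [hTldef]; simp
  have hTk : ∀ x y, r x y → x ∈ Tk → y ∈ Tk := by
    intro x y hxy hx
    rw [hTkmem] at hx ⊢
    exact h.trans hx hxy
  have hTl : ∀ x y, r x y → x ∈ Tl → y ∈ Tl := by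
    intro x y hxy hx
    rw [hTlmem] at hx ⊢
    exact h.trans hx hxy
  have hdisj : ∀ t, t ∈ Tk → t ∉ Tl := fun t h1 h2 =>
    hab (h.trans ((hTkmem t).mp h1) (h.symm ((hTlmem t).mp h2)))
  obtain ⟨a', ha'r, ha'p⟩ := meets_P h hP hyp ha
  obtain ⟨b', hb'r, hb'p⟩ := meets_P h hP hyp hb
  obtain ⟨z'', hz''r, hz''p⟩ := hP.exists_not_ker h hyp hb
  have hlt : ∀ (T : Finset A), (0 : A) ∉ T → (T.filter (fun t => p • t = 0)).card < p := by
    intro T h0
    have hsub : T.filter (fun t => p • t = 0) ⊆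
        (Finset.univ.filter (fun a : A => p • a = 0)).erase 0 := by
      intro t ht
      rw [Finset.mem_filter] at ht
      rw [Finset.mem_erase, Finset.mem_filter]
      refine ⟨fun h0' => h0 (h0' ▸ ht.1), Finset.mem_univ _, ht.2⟩
    have h0mem : (0 : A) ∈ Finset.univ.filter (fun a : A => p • a = 0) := by
      rw [Finset.mem_filter]; exact ⟨Finset.mem_univ _, smul_zero _⟩
    exact lt_of_le_of_lt (Finset.card_le_card hsub)
      (lt_of_lt_of_le (Finset.card_erase_lt_of_mem h0mem) hyp.2.2.2.1)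
  have h0k : (0 : A) ∉ Tk := fun h0 => ha (h.zero_right ((hTkmem 0).mp h0))
  have h0l : (0 : A) ∉ Tl := fun h0 => hb (h.zero_right ((hTlmem 0).mp h0))
  have hAk_lt := hlt Tk h0k
  have hAl_lt := hlt Tl h0l
  have key : ∀ z ∈ Tl.filter (fun t => p • t = 0), ∀ t ∈ Tk.filter (fun t => p • t = 0),
      z - t ∈ Tl.filter (fun t => p • t = 0) := by
    intro z hz
    have hzT : z ∈ Tl := (Finset.mem_filter.mp hz).1
    have hzp : p • z = 0 := (Finset.mem_filter.mp hz).2
    obtain ⟨w₁, e₁⟩ := count_tors h hP hyp Tk Tl hTk hTl hzp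
    obtain ⟨w₂, e₂⟩ := count_nontors h hP hyp Tk Tl hTk hTl hdisj (z := z'')
      ((hTlmem _).mpr hz''r) hz''p
    have hc := h.card_sub Tk Tl hTk hTl (z := z) (z' := z'')
      (h.trans (h.symm ((hTlmem z).mp hzT)) hz''r)
    rw [e₁, e₂] at hc
    have hn₁ : ((Tk.filter (fun t => p • t = 0)).filter
        (fun t => z - t ∈ Tl.filter (fun t => p • t = 0))).card ≤
        (Tk.filter (fun t => p • t = 0)).card := Finset.card_filter_le _ _
    have hc' := congrArg (· % p) hc
    simp only [Nat.add_mul_mod_self_left] at hc'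
    rw [Nat.mod_eq_of_lt (lt_of_le_of_lt hn₁ hAk_lt), Nat.mod_eq_of_lt hAk_lt] at hc'
    exact Finset.card_filter_eq_iff.mp hc'
  have ha'Ak : a' ∈ Tk.filter (fun t => p • t = 0) :=
    Finset.mem_filter.mpr ⟨(hTkmem a').mpr ha'r, ha'p⟩
  have ha'0 : a' ≠ 0 := fun h0 => ha (h.zero_right (h0 ▸ ha'r))
  have hdvd := modp_card p hyp.1 (Tl.filter (fun t => p • t = 0)) (-a')
    (neg_ne_zero.mpr ha'0) (by rw [smul_neg, ha'p, neg_zero])
    (fun z hz => by rw [← sub_eq_add_neg]; exact key z hz a' ha'Ak)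
  have hpos : 0 < (Tl.filter (fun t => p • t = 0)).card :=
    Finset.card_pos.mpr ⟨b', Finset.mem_filter.mpr ⟨(hTlmem b').mpr hb'r, hb'p⟩⟩
  exact absurd (Nat.le_of_dvd hpos hdvd) (not_le.mpr hAl_lt)

end Main

end Cfsg.Agent.Lib.Helper61.SchurRing
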