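import Cfsg.Agent.Lib.Helper61.SchurRing1
import Cfsg.Agent.Lib.Helper61.SchurRing3

namespace Cfsg.Agent.Lib.Helper61.SchurRing

open Equiv
open scoped Pointwise

set_option linter.unusedSectionVars false
set_option linter.unusedVariables false

section Bridge

variable {Ω : Type*} [Fintype Ω] [DecidableEq Ω] {G : Subgroup (Perm Ω)}
variable {A : Type*} [AddCommGroup A] [Fintype A] [DecidableEq A]
variable {τ : A → Perm Ω} {ω₀ : Ω}

theorem sr_of_reg (h : Reg G τ ω₀) : SR (Rel G τ ω₀) := by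
  refine ⟨rel_refl, fun a b => rel_symm, fun a b c => rel_trans, fun b => rel_zero_left h, ?_⟩
  rintro z z' ⟨g₀, hg, h0, h1⟩
  refine ⟨perm h g₀, ?_, ?_, ?_⟩
  · apply h.inj; rw [perm_spec, h.tau_zero, Perm.one_apply, h0]
  · apply h.inj; rw [perm_spec, h1]
  · intro x y
    exact rel_sub h hg (perm_spec h g₀ x).symm (perm_spec h g₀ y).symm

theorem prim_of_preprimitive (h : Reg G τ ω₀) (hprim : MulAction.IsPreprimitive G Ω) :
    Prim (Rel G τ ω₀) := by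
  intro E hE
  obtain ⟨B, hBdef⟩ : ∃ B : Set Ω, B = {ω | ∃ a ∈ E, τ a ω₀ = ω} := ⟨_, rfl⟩
  have hBmem : ∀ ω, ω ∈ B ↔ ∃ a ∈ E, τ a ω₀ = ω := by intro ω; rw [hBdef]; rfl
  have hinv : ∀ (g : G) (a b : A), a ∈ E → b ∈ E → (g : Perm Ω) (τ a ω₀) = τ b ω₀ →
      ∀ e ∈ E, ∃ e' ∈ E, (g : Perm Ω) (τ e ω₀) = τ e' ω₀ := by
    intro g a b ha hb hgab e he
    obtain ⟨e', he'⟩ := h.surj ((g : Perm Ω) (τ e ω₀))
    refine ⟨e', ?_, he'.symm⟩
    have hrel : Rel G τ ω₀ (e - a) (e' - b) := rel_sub h g.2 hgab he'.symm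
    have h1 := hE _ _ hrel (sub_mem he ha)
    have h2 := add_mem h1 hb
    rwa [sub_add_cancel] at h2
  have hB : MulAction.IsBlock G B := by
    rw [MulAction.isBlock_iff_smul_eq_of_mem]
    intro g ω hω hgω
    rw [hBmem] at hω hgω
    obtain ⟨a, ha, rfl⟩ := hω
    obtain ⟨b, hb, hb'⟩ := hgω
    have hsub : g • B ⊆ B := by
      rintro _ ⟨ω', hω', rfl⟩
      rw [hBmem] at hω'
      obtain ⟨e, he, rfl⟩ := hω'
      obtain ⟨e', he', hee⟩ := hinv g a b ha hb hb'.symm e he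
      rw [hBmem]
      exact ⟨e', he', hee.symm⟩
    apply Set.eq_of_subset_of_ncard_le hsub
    rw [Set.ncard_smul_set]
  rcases hprim.isTrivialBlock_of_isBlock hB with hsub | huniv
  · left
    rw [eq_bot_iff]
    intro a ha
    rw [AddSubgroup.mem_bot]
    apply h.inj
    exact hsub ((hBmem _).mpr ⟨a, ha, rfl⟩) ((hBmem _).mpr ⟨0, zero_mem _, rfl⟩)
  · right
    rw [eq_top_iff]
    intro a _
    have : τ a ω₀ ∈ B := by rw [huniv]; trivial
    rw [hBmem] at this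
    obtain ⟨e, he, hee⟩ := this
    rw [← h.inj hee]
    exact he

theorem two_trans_of_all_rel (h : Reg G τ ω₀)
    (hall : ∀ a b : A, a ≠ 0 → b ≠ 0 → Rel G τ ω₀ a b) :
    MulAction.IsMultiplyPretransitive G Ω 2 := by
  rw [MulAction.is_two_pretransitive_iff]
  intro a b c d hab hcd
  obtain ⟨x, rfl⟩ := h.surj a
  obtain ⟨y, rfl⟩ := h.surj b
  obtain ⟨x', rfl⟩ := h.surj c
  obtain ⟨y', rfl⟩ := h.surj d
  have hyx : y - x ≠ 0 := fun e => hab (by rw [sub_eq_zero.mp e])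
  have hyx' : y' - x' ≠ 0 := fun e => hcd (by rw [sub_eq_zero.mp e])
  obtain ⟨g₀, hg, h0, h1⟩ := hall _ _ hyx hyx'
  refine ⟨⟨τ x' * g₀ * (τ x)⁻¹, mul_mem (mul_mem (h.1 x') hg) (inv_mem (h.1 x))⟩, ?_, ?_⟩
  · show (τ x' * g₀ * (τ x)⁻¹) (τ x ω₀) = τ x' ω₀
    rw [Perm.mul_apply, Perm.mul_apply, inv_app, h0]
  · show (τ x' * g₀ * (τ x)⁻¹) (τ y ω₀) = τ y' ω₀
    have e1 : (τ x)⁻¹ (τ y ω₀) = τ (y - x) ω₀ := by
      rw [Perm.inv_eq_iff_eq, ← Perm.mul_apply, ← h.2.1, add_sub_cancel]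
    rw [Perm.mul_apply, Perm.mul_apply, e1, h1, ← Perm.mul_apply, ← h.2.1, add_sub_cancel]

/-- Schur: a primitive group with a regular abelian subgroup satisfying the arithmetic
hypotheses is doubly transitive -/
theorem two_trans_of_prim (h : Reg G τ ω₀) (hprim : MulAction.IsPreprimitive G Ω)
    {p : ℕ} {u₀ : A} (hyp : PHyp p u₀) : MulAction.IsMultiplyPretransitive G Ω 2 :=
  two_trans_of_all_rel h fun a b ha hb =>
    all_rel (sr_of_reg h) (prim_of_preprimitive h hprim) hyp ha hb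

end Bridge

end Cfsg.Agent.Lib.Helper61.SchurRing
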