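import Cfsg.Agent.Lib.Helper61.SchurRing4

namespace Cfsg.Agent.Lib.Helper61.SchurRing

open Equiv
open scoped Pointwise

set_option linter.unusedSectionVars false
set_option linter.unusedVariables false

section Cycle

variable {Ω : Type*} [Fintype Ω] [DecidableEq Ω]

theorem full_cycle {p m : ℕ} (hp : p.Prime) (hm : 1 ≤ m) (hΩ : Fintype.card Ω = p ^ m)
    (c : Perm Ω) (hc : orderOf c = p ^ m) : c.IsCycle ∧ ∀ ω, c ω ≠ ω := by
  have h1 : p ^ m ∈ c.cycleType := by
    by_contra hnot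
    have hall : ∀ n ∈ c.cycleType, n ∣ p ^ (m - 1) := by
      intro n hn
      have hd : n ∣ p ^ m := hc ▸ Equiv.Perm.dvd_of_mem_cycleType hn
      obtain ⟨j, hj, rfl⟩ := (Nat.dvd_prime_pow hp).mp hd
      have hjm : j ≠ m := fun e => hnot (e ▸ hn)
      exact pow_dvd_pow p (by omega)
    have h2 := Multiset.lcm_dvd.mpr hall
    rw [Equiv.Perm.lcm_cycleType, hc] at h2
    have h3 := (Nat.pow_dvd_pow_iff_le_right hp.one_lt).mp h2
    omega
  have h2 : c.support.card = p ^ m := by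
    apply le_antisymm
    · rw [← hΩ]; exact Finset.card_le_univ _
    · rw [← Equiv.Perm.sum_cycleType]; exact Multiset.le_sum_of_mem h1
  have h3 : c.cycleType = {p ^ m} := by
    obtain ⟨t, ht⟩ := Multiset.exists_cons_of_mem h1
    have hs := Equiv.Perm.sum_cycleType c
    rw [ht, Multiset.sum_cons, h2] at hs
    have ht0 : t.sum = 0 := by omega
    have : t = 0 := by
      by_contra hne
      obtain ⟨x, hx⟩ := Multiset.exists_mem_of_ne_zero hne
      have hx2 : 2 ≤ x := Equiv.Perm.two_le_of_mem_cycleType (σ := c)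
        (by rw [ht]; exact Multiset.mem_cons_of_mem hx)
      have := Multiset.le_sum_of_mem hx
      omega
    rw [ht, this]; rfl
  constructor
  · rw [← Equiv.Perm.card_cycleType_eq_one, h3]; rfl
  · intro ω
    rw [← Equiv.Perm.mem_support]
    have : c.support = Finset.univ := Finset.eq_univ_of_card _ (by rw [h2, hΩ])
    rw [this]; exact Finset.mem_univ _

theorem reg_of_cycle {n : ℕ} [NeZero n] (G : Subgroup (Perm Ω)) (c : Perm Ω) (hcG : c ∈ G)
    (hn : orderOf c = n) (hΩ : Fintype.card Ω = n) (hcyc : c.IsCycle) (hmov : ∀ ω, c ω ≠ ω)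
    (ω₀ : Ω) : Reg G (fun a : ZMod n => c ^ a.val) ω₀ := by
  have key : ∀ k : ℕ, c ^ (k % n) = c ^ k := by
    intro k
    have := pow_mod_orderOf c k
    rwa [hn] at this
  have hinj : ∀ i j : ℕ, i ≤ j → j < n → (c ^ i) ω₀ = (c ^ j) ω₀ → i = j := by
    intro i j hij hj h
    have e : c ^ j = c ^ i * c ^ (j - i) := by rw [← pow_add]; congr 1; omega
    rw [e, Perm.mul_apply] at h
    have h1 : (c ^ (j - i)) ω₀ = ω₀ := ((c ^ i).injective h).symm
    have h2 : c ^ (j - i) = 1 := (hcyc.pow_eq_one_iff' (hmov ω₀)).mpr h1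
    have h3 : n ∣ j - i := hn ▸ orderOf_dvd_of_pow_eq_one h2
    have h4 : j - i = 0 := Nat.eq_zero_of_dvd_of_lt h3 (by omega)
    omega
  refine ⟨fun a => pow_mem hcG _, ?_, ?_⟩
  · intro a b
    show c ^ (a + b).val = c ^ a.val * c ^ b.val
    rw [ZMod.val_add, key, pow_add]
  · rw [Fintype.bijective_iff_injective_and_card]
    refine ⟨?_, by rw [ZMod.card, hΩ]⟩
    intro a b hab
    have hab' : (c ^ a.val) ω₀ = (c ^ b.val) ω₀ := hab
    apply ZMod.val_injective n
    rcases le_total a.val b.val with hle | hle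
    · exact hinj _ _ hle (ZMod.val_lt b) hab'
    · exact (hinj _ _ hle (ZMod.val_lt a) hab'.symm).symm

theorem phyp_zmod {p m : ℕ} (hp : p.Prime) (hm : 2 ≤ m) [NeZero (p ^ m)] :
    PHyp p (((p ^ (m - 1) : ℕ) : ZMod (p ^ m))) := by
  refine ⟨hp, ?_, ?_, ?_, ?_⟩
  · rw [Ne, ZMod.natCast_eq_zero_iff]
    intro h
    have := (Nat.pow_dvd_pow_iff_le_right hp.one_lt).mp h
    omega
  · rw [nsmul_eq_mul, ← Nat.cast_mul, ← pow_succ']
    have : m - 1 + 1 = m := by omega
    rw [this]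
    exact ZMod.natCast_self _
  · have := IsAddCyclic.card_nsmul_eq_zero_le (α := ZMod (p ^ m)) hp.pos
    convert this
  · refine ⟨1, ?_⟩
    rw [nsmul_eq_mul, mul_one, Ne, ZMod.natCast_eq_zero_iff]
    intro h
    have h' : p ^ m ∣ p ^ 1 := by rwa [pow_one]
    have := (Nat.pow_dvd_pow_iff_le_right hp.one_lt).mp h'
    omega

end Cycle

end Cfsg.Agent.Lib.Helper61.SchurRing
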