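import Cfsg.Agent.Lib.Helper61.SchurRing5

namespace Cfsg.Agent.Lib.Helper61.SchurRing

open Equiv
open scoped Pointwise

set_option linter.unusedSectionVars false
set_option linter.unusedVariables false

section Second

variable {Ω : Type*} [Fintype Ω] [DecidableEq Ω]

theorem exists_nontrivial_block (G : Subgroup (Perm Ω)) (htr : MulAction.IsPretransitive G Ω)
    (hnp : ¬ MulAction.IsPreprimitive G Ω) :
    ∃ B : Set Ω, MulAction.IsBlock G B ∧ ¬ MulAction.IsTrivialBlock B := by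
  by_contra hcon
  push Not at hcon
  exact hnp { toIsPretransitive := htr, isTrivialBlock_of_isBlock := fun {B} hB => hcon B hB }

/-- exponents stabilising a block form a "subgroup" of `ℕ`; its least positive element
divides all the others -/
theorem dvd_of_closed (K : ℕ → Prop) (hadd : ∀ k l, K k → K l → K (k + l))
    (hsub : ∀ k l, k ≤ l → K k → K l → K (l - k)) (d : ℕ) (hd0 : 0 < d) (hd : K d)
    (hmin : ∀ e, 0 < e → K e → d ≤ e) (k : ℕ) (hk : K k) : d ∣ k := by
  have h0 : K 0 := by simpa using hsub d d le_rfl hd hd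
  have hmul : ∀ q, K (d * q) := by
    intro q
    induction q with
    | zero => simpa using h0
    | succ q ih => rw [Nat.mul_succ]; exact hadd _ _ ih hd
  have hmod : K (k % d) := by
    have e : k % d = k - d * (k / d) := by
      have := Nat.div_add_mod k d
      omega
    rw [e]
    exact hsub _ _ (Nat.mul_div_le k d) (hmul _) hk
  by_contra hnd
  have hpos : 0 < k % d := Nat.pos_of_ne_zero (fun h => hnd (Nat.dvd_of_mod_eq_zero h))
  have := hmin _ hpos hmod
  have := Nat.mod_lt k hd0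
  omega

theorem normalClosure_intrans {p m : ℕ} (hp : p.Prime) (hm : 1 ≤ m)
    (hΩ : Fintype.card Ω = p ^ m) (G : Subgroup (Perm Ω))
    (htr : MulAction.IsPretransitive G Ω) (hnp : ¬ MulAction.IsPreprimitive G Ω)
    (g : G) (hg : orderOf g = p ^ m) :
    ¬ MulAction.IsPretransitive (Subgroup.normalClosure ({g ^ (p ^ (m - 1))} : Set G)) Ω := by
  have : NeZero (p ^ m) := ⟨pow_ne_zero m hp.ne_zero⟩
  obtain ⟨B, hB, hBnt⟩ := exists_nontrivial_block G htr hnp
  have hBns : ¬ B.Subsingleton := fun h => hBnt (Or.inl h)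
  have hBnu : B ≠ Set.univ := fun h => hBnt (Or.inr h)
  rw [Set.not_subsingleton_iff] at hBns
  obtain ⟨ω₀, hω₀, ω₁, hω₁, hne⟩ := hBns
  have hc : orderOf (g : Perm Ω) = p ^ m := by rw [Subgroup.orderOf_coe]; exact hg
  obtain ⟨hcyc, hmov⟩ := full_cycle hp hm hΩ (g : Perm Ω) hc
  have hreg := reg_of_cycle G (g : Perm Ω) g.2 hc hΩ hcyc hmov ω₀
  -- the exponent set
  have hsm : ∀ (k : ℕ) (ω : Ω), (g ^ k) • ω = ((g : Perm Ω) ^ k) ω := by
    intro k ω; rfl
  have hKB : ∀ k : ℕ, (g ^ k) • ω₀ ∈ B → (g ^ k) • B = B := fun k hk =>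
    hB.smul_eq_of_mem hω₀ hk
  have hBK : ∀ k : ℕ, (g ^ k) • B = B → (g ^ k) • ω₀ ∈ B := fun k hk => by
    rw [← hk]; exact Set.smul_mem_smul_set hω₀
  have hadd : ∀ k l, (g ^ k) • ω₀ ∈ B → (g ^ l) • ω₀ ∈ B → (g ^ (k + l)) • ω₀ ∈ B := by
    intro k l hk hl
    apply hBK
    rw [pow_add, mul_smul, hKB l hl, hKB k hk]
  have hsub : ∀ k l, k ≤ l → (g ^ k) • ω₀ ∈ B → (g ^ l) • ω₀ ∈ B →
      (g ^ (l - k)) • ω₀ ∈ B := by
    intro k l hkl hk hl
    apply hBK
    have e : g ^ l = g ^ (l - k) * g ^ k := by rw [← pow_add]; congr 1; omega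
    have h1 := hKB l hl
    rw [e, mul_smul, hKB k hk] at h1
    exact h1
  -- a positive exponent below `p ^ m`
  obtain ⟨a, ha⟩ := hreg.surj ω₁
  have ha' : (g ^ a.val) • ω₀ = ω₁ := ha
  have haval : 0 < a.val := by
    rcases Nat.eq_zero_or_pos a.val with h0 | h0
    · exfalso
      rw [h0, pow_zero, one_smul] at ha'
      exact hne ha'
    · exact h0
  have hex : ∃ d, 0 < d ∧ (g ^ d) • ω₀ ∈ B := ⟨a.val, haval, by rw [ha']; exact hω₁⟩
  classical
  obtain ⟨d, ⟨hd0, hdK⟩, hdmin⟩ : ∃ d, (0 < d ∧ (g ^ d) • ω₀ ∈ B) ∧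
      ∀ e, 0 < e ∧ (g ^ e) • ω₀ ∈ B → d ≤ e :=
    ⟨Nat.find hex, Nat.find_spec hex, fun e he => Nat.find_min' hex he⟩
  have hdle : d ≤ a.val := hdmin _ ⟨haval, by rw [ha']; exact hω₁⟩
  have hpmK : (g ^ (p ^ m)) • ω₀ ∈ B := by
    rw [← hg, pow_orderOf_eq_one, one_smul]; exact hω₀
  have hdvd : d ∣ p ^ m := dvd_of_closed (fun k => (g ^ k) • ω₀ ∈ B) hadd hsub d hd0 hdK
    (fun e he0 he => hdmin e ⟨he0, he⟩) _ hpmK
  obtain ⟨j, hj, rfl⟩ := (Nat.dvd_prime_pow hp).mp hdvd
  have hjm : j ≠ m := by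
    intro e
    have := ZMod.val_lt a
    rw [e] at hdle
    omega
  have hdvd' : p ^ j ∣ p ^ (m - 1) := pow_dvd_pow p (by omega)
  obtain ⟨q, hq⟩ := hdvd'
  have hzK : (g ^ (p ^ (m - 1))) • ω₀ ∈ B := by
    rw [hq]
    have hmul : ∀ q, (g ^ (p ^ j * q)) • ω₀ ∈ B := by
      intro q
      induction q with
      | zero => rw [Nat.mul_zero, pow_zero, one_smul]; exact hω₀
      | succ q ih => rw [Nat.mul_succ]; exact hadd _ _ ih hdK
    exact hmul q
  have hzB : (g ^ (p ^ (m - 1))) • B = B := hKB _ hzK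
  -- every translate of `B` is fixed by `z`
  have hzall : ∀ h : G, (g ^ (p ^ (m - 1))) • (h • B) = h • B := by
    intro h
    obtain ⟨b, hb⟩ := hreg.surj (h • ω₀)
    have hb' : (g ^ b.val) • ω₀ = h • ω₀ := hb
    have heq : h • B = (g ^ b.val) • B := by
      by_contra hneq
      have hdisj := hB hneq
      rw [Set.disjoint_left] at hdisj
      apply hdisj (Set.smul_mem_smul_set hω₀)
      rw [← hb']
      exact Set.smul_mem_smul_set hω₀
    rw [heq, ← mul_smul, ← pow_add, add_comm, pow_add, mul_smul, hzB]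
  -- hence by all of the normal closure
  have hN : ∀ n ∈ Subgroup.normalClosure ({g ^ (p ^ (m - 1))} : Set G),
      ∀ h : G, n • (h • B) = h • B := by
    intro n hn
    rw [Subgroup.normalClosure] at hn
    induction hn using Subgroup.closure_induction with
    | mem x hx =>
        intro h
        rw [Group.mem_conjugatesOfSet_iff] at hx
        obtain ⟨z, hz, hconj⟩ := hx
        rw [Set.mem_singleton_iff] at hz
        subst hz
        rw [isConj_iff] at hconj
        obtain ⟨k, rfl⟩ := hconj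
        rw [mul_smul, mul_smul, ← mul_smul k⁻¹ h B, hzall, mul_smul, smul_inv_smul]
    | one => intro h; rw [one_smul]
    | mul x y hx hy ihx ihy => intro h; rw [mul_smul, ihy, ihx]
    | inv x hx ih =>
        intro h
        rw [inv_smul_eq_iff, ih]
  intro htrN
  apply hBnu
  rw [Set.eq_univ_iff_forall]
  intro ω
  obtain ⟨n, hn⟩ := htrN.exists_smul_eq ω₀ ω
  have h1 := hN n.1 n.2 1
  rw [one_smul] at h1
  rw [← hn, ← h1]
  exact Set.smul_mem_smul_set hω₀

end Second

end Cfsg.Agent.Lib.Helper61.SchurRing
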