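import Cfsg.Agent.Lib.Helper9.SlK3Defs

set_option autoImplicit false

/-! Definitions for the K3-MODB sub-sub-hive (owner helper61) of helper9's K3 sub-hive (Sl hive S2332, owner helper76). -/

namespace Cfsg.Agent.Lib.Helper76.Sl

/-- the fixed space `C_W(A)` of a set `A` of group elements in a representation. -/
def k3modbFix {G : Type*} [Group G] {W : Type*} [AddCommGroup W] [Module ℂ W]
    (ρ : Representation ℂ G W) (A : Set G) : Submodule ℂ W where
  carrier := {w | ∀ x ∈ A, ρ x w = w}
  add_mem' := by
    intro a b ha hb x hx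
    rw [map_add, ha x hx, hb x hx]
  zero_mem' := by
    intro x _
    rw [map_zero]
  smul_mem' := by
    intro c w hw x hx
    rw [map_smul, hw x hx]

theorem k3modb_mem_fix {G : Type*} [Group G] {W : Type*} [AddCommGroup W] [Module ℂ W]
    (ρ : Representation ℂ G W) (A : Set G) (w : W) :
    w ∈ k3modbFix ρ A ↔ ∀ x ∈ A, ρ x w = w := Iff.rfl

end Cfsg.Agent.Lib.Helper76.Sl
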