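import Cfsg.Agent.Lib.Helper73.SlK5Defs

set_option autoImplicit false

/-! SL-K5-QGRP leaf of helper73's K5 sub-hive (Sl hive S2332, owner helper76): `Qset` is closed under
`1`, `*`, `⁻¹`, and its elements have `(0,0)` entry `1`. -/

namespace Cfsg.Agent.Lib.Helper76.Sl

open Matrix Cfsg

variable {F : Type*} [Field F] [Fintype F] [DecidableEq F]

/-- SL-K5-QGRP (a) -/
theorem k5_Q_one (m : ℕ) : (1 : Gm F m) ∈ Qset F m := by
  intro i j _
  rfl

/-- SL-K5-QGRP (b): rows `i ≠ 0` of `x * y` are `∑ k, x i k * y k j = y i j` = identity rows. -/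
theorem k5_Q_mul (m : ℕ) {x y : Gm F m} (hx : x ∈ Qset F m) (hy : y ∈ Qset F m) : x * y ∈ Qset F m := by
  intro i j hi
  rw [Matrix.SpecialLinearGroup.coe_mul, Matrix.mul_apply]
  have h1 : ∀ k : Fin (m + 2), x.1 i k * y.1 k j = (1 : Matrix (Fin (m + 2)) (Fin (m + 2)) F) i k * y.1 k j := by
    intro k
    rw [hx i k hi]
  rw [Finset.sum_congr rfl (fun k _ => h1 k)]
  rw [← Matrix.mul_apply, Matrix.one_mul]
  exact hy i j hi

theorem qgrp_pow (m : ℕ) {x : Gm F m} (hx : x ∈ Qset F m) (n : ℕ) : x ^ n ∈ Qset F m := by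
  induction n with
  | zero => rw [pow_zero]; exact k5_Q_one m
  | succ n ih => rw [pow_succ]; exact k5_Q_mul m ih hx

/-- SL-K5-QGRP (c): e.g. `x⁻¹ = x ^ (orderOf x - 1)` in the finite group `Gm F m` + (a) + (b). -/
theorem k5_Q_inv (m : ℕ) {x : Gm F m} (hx : x ∈ Qset F m) : x⁻¹ ∈ Qset F m := by
  have hpos : 0 < orderOf x := orderOf_pos x
  have h1 : x * x ^ (orderOf x - 1) = 1 := by
    rw [← pow_succ', Nat.sub_add_cancel hpos, pow_orderOf_eq_one]
  rw [inv_eq_of_mul_eq_one_right h1]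
  exact qgrp_pow m hx _

/-- SL-K5-QGRP (d): `x` is upper triangular with diagonal `(x 0 0, 1, ..., 1)`, so `1 = det x = x 0 0`. -/
theorem k5_Q_zero_zero (m : ℕ) {x : Gm F m} (hx : x ∈ Qset F m) : x.1 0 0 = 1 := by
  have htri : x.1.BlockTriangular id := by
    intro i j hij
    simp only [id] at hij
    have hi : i ≠ 0 := by
      intro h
      rw [h] at hij
      exact absurd hij (Fin.not_lt_zero j)
    rw [hx i j hi, Matrix.one_apply_ne (ne_of_gt hij)]
  have hdet := Matrix.det_of_upperTriangular htri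
  rw [x.2, Fin.prod_univ_succ] at hdet
  have h2 : ∏ i : Fin (m + 1), x.1 i.succ i.succ = 1 := by
    apply Finset.prod_eq_one
    intro i _
    rw [hx i.succ i.succ (Fin.succ_ne_zero i), Matrix.one_apply_eq]
  rw [h2, mul_one] at hdet
  exact hdet.symm

end Cfsg.Agent.Lib.Helper76.Sl
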