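import Mathlib
import Cfsg.Agent.Lib.Helper61.Miller2

set_option autoImplicit false
set_option linter.unusedVariables false
set_option linter.unusedSectionVars false

/-!
General lemmas for the theorem on doubly transitive groups of degree `≡ 2 (mod 4)`.
-/

namespace Cfsg.Agent.Lib.Helper61.TT

open MulAction Cfsg.Agent.Lib.Helper61.Miller

/-- a fixed-point-free involution on `2 m` points, `m` odd, is an odd permutation -/
theorem sign_fpf_invol {X : Type*} [Fintype X] [DecidableEq X] (σ : Equiv.Perm X)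
    (h2 : σ * σ = 1) (hf : ∀ x, σ x ≠ x) (m : ℕ) (hm : Fintype.card X = 2 * m) (hodd : Odd m) :
    Equiv.Perm.sign σ = -1 := by
  have : Fact (Nat.Prime 2) := ⟨Nat.prime_two⟩
  have hne : Nonempty X := by
    rcases isEmpty_or_nonempty X with h | h
    · exfalso
      rw [Fintype.card_eq_zero] at hm
      obtain ⟨k, hk⟩ := hodd
      omega
    · exact h
  obtain ⟨x0⟩ := hne
  have hσ1 : σ ≠ 1 := by
    intro h
    apply hf x0
    rw [h]; rfl
  have ho : orderOf σ = 2 := orderOf_eq_prime (by rw [pow_two]; exact h2) hσ1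
  obtain ⟨k, hk⟩ := Equiv.Perm.cycleType_prime_order (σ := σ) (by rw [ho]; exact Nat.prime_two)
  rw [ho] at hk
  have hsupp : σ.support = Finset.univ := by
    rw [Finset.eq_univ_iff_forall]
    intro x
    rw [Equiv.Perm.mem_support]
    exact hf x
  have hsum := Equiv.Perm.sum_cycleType σ
  rw [hk, hsupp, Finset.card_univ, hm, Multiset.sum_replicate, smul_eq_mul] at hsum
  have hkm : k + 1 = m := by omega
  rw [Equiv.Perm.sign_of_cycleType, hk, Multiset.sum_replicate, Multiset.card_replicate,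
    smul_eq_mul, hkm]
  have : m * 2 + m = 2 * m + m := by ring
  rw [this, pow_add, pow_mul]
  simp [hodd.neg_one_pow]

section
variable {G : Type*} [Group G] [Finite G] {Ω : Type*} [MulAction G Ω]

/-- orbit-stabilizer for a subgroup, with the stabilizer taken inside the ambient group -/
theorem card_orbit_mul_card_inf (H : Subgroup G) (x : Ω) :
    Nat.card (orbit ↥H x) * Nat.card ↥(H ⊓ stabilizer G x) = Nat.card ↥H := by
  classical
  have := Fintype.ofFinite ↥H
  have hfo : Finite (orbit ↥H x) := (Set.finite_range (fun g : ↥H => g • x)).to_subtype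
  have := Fintype.ofFinite (orbit ↥H x)
  have h1 := MulAction.card_orbit_mul_card_stabilizer_eq_card_group ↥H x
  simp only [← Nat.card_eq_fintype_card] at h1
  have h2 : stabilizer ↥H x = (H ⊓ stabilizer G x).subgroupOf H := by
    ext g
    rw [mem_stabilizer_iff, Subgroup.mem_subgroupOf, Subgroup.mem_inf, mem_stabilizer_iff]
    constructor
    · intro h; exact ⟨g.2, h⟩
    · intro h; exact h.2
  rw [h2] at h1
  rw [← h1]
  congr 1
  exact Nat.card_congr (Subgroup.subgroupOfEquivOfLe inf_le_left).toEquiv.symm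

end

section
variable {G : Type*} [Group G] [Finite G]

/-- 2-adic valuation of the order of a subgroup -/
noncomputable def v2 (K : Subgroup G) : ℕ := (Nat.card K).factorization 2

theorem v2_mono {H K : Subgroup G} (h : H ≤ K) : v2 H ≤ v2 K := by
  unfold v2
  have hd := Subgroup.card_dvd_of_le h
  exact (Nat.factorization_le_iff_dvd Nat.card_pos.ne' Nat.card_pos.ne').mpr hd 2

theorem v2_of_card_eq {H K : Subgroup G} (h : Nat.card H = Nat.card K) : v2 H = v2 K := by
  unfold v2; rw [h]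

/-- the order of a 2-subgroup of `K` divides `2 ^ v2 K` -/
theorem card_le_of_isPGroup {Q K : Subgroup G} (hQK : Q ≤ K) (hQ : IsPGroup 2 Q) :
    ∃ j, j ≤ v2 K ∧ Nat.card Q = 2 ^ j := by
  have : Fact (Nat.Prime 2) := ⟨Nat.prime_two⟩
  obtain ⟨j, hj⟩ := IsPGroup.iff_card.mp hQ
  refine ⟨j, ?_, hj⟩
  have hd := Subgroup.card_dvd_of_le hQK
  rw [hj] at hd
  exact (Nat.Prime.pow_dvd_iff_le_factorization Nat.prime_two Nat.card_pos.ne').mp hd

theorem isSyl_card_eq {K P : Subgroup G} (h : IsSyl 2 K P) : Nat.card P = 2 ^ v2 K := h.2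

/-- a `p`-subgroup of `K` lies in a Sylow `p`-subgroup of `K` -/
theorem exists_isSyl_ge {p : ℕ} [Fact p.Prime] {K Q : Subgroup G} (hQK : Q ≤ K)
    (hQ : IsPGroup p Q) : ∃ P, IsSyl p K P ∧ Q ≤ P := by
  have hQ' : IsPGroup p (Q.subgroupOf K) := hQ.comap_subtype
  obtain ⟨S, hS⟩ := hQ'.exists_le_sylow
  refine ⟨(S : Subgroup ↥K).map K.subtype, ⟨Subgroup.map_subtype_le _, ?_⟩, ?_⟩
  · rw [Subgroup.card_map_of_injective K.subtype_injective]
    exact S.card_eq_multiplicity
  · intro y hy
    refine ⟨⟨y, hQK hy⟩, hS ?_, rfl⟩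
    rw [Subgroup.mem_subgroupOf]
    exact hy

/-- a Sylow 2-subgroup of `K` which lies in a subgroup `H ≤ K` with the same 2-part is Sylow
in `H` -/
theorem isSyl_of_le {K H P : Subgroup G} (h : IsSyl 2 K P) (hPH : P ≤ H) (hv : v2 H = v2 K) :
    IsSyl 2 H P := by
  refine ⟨hPH, ?_⟩
  rw [h.2]
  unfold v2 at hv
  rw [hv]

/-- a 2-subgroup containing a Sylow 2-subgroup (inside `K`) equals it -/
theorem isSyl_eq_of_le {K P Q : Subgroup G} (h : IsSyl 2 K P) (hPQ : P ≤ Q) (hQK : Q ≤ K)
    (hQ : IsPGroup 2 Q) : Q = P := by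
  obtain ⟨j, hj, hjc⟩ := card_le_of_isPGroup hQK hQ
  have h1 : Nat.card Q ≤ Nat.card P := by
    rw [hjc, isSyl_card_eq h]
    exact Nat.pow_le_pow_right (by norm_num) hj
  have h2 : Nat.card P ≤ Nat.card Q := Nat.le_of_dvd Nat.card_pos (Subgroup.card_dvd_of_le hPQ)
  have h3 : Nat.card P = Nat.card Q := le_antisymm h2 h1
  symm
  apply Subgroup.eq_of_le_of_card_ge hPQ
  rw [h3]

end

end Cfsg.Agent.Lib.Helper61.TT
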