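import Mathlib
import Cfsg.Agent.Lib.Helper61.TT1

set_option autoImplicit false
set_option linter.unusedVariables false
set_option linter.unusedSectionVars false

/-!
Normal subgroups of doubly transitive groups of degree `≡ 2 (mod 4)`: basic counting.
-/

namespace Cfsg.Agent.Lib.Helper61.TT

open MulAction Cfsg.Agent.Lib.Helper61.Miller
open scoped Pointwise

section
variable {G : Type*} [Group G] [Finite G] {Ω : Type*} [Fintype Ω] [DecidableEq Ω] [MulAction G Ω]

/-- the stabilizer in `M` of the point `x` -/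
def Mx (M : Subgroup G) (x : Ω) : Subgroup G := M ⊓ stabilizer G x

/-- the stabilizer in `M` of the points `x` and `y` -/
def Mxy (M : Subgroup G) (x y : Ω) : Subgroup G := M ⊓ stabilizer G x ⊓ stabilizer G y

/-- the stabilizer in `M` of the set `{x, y}` -/
def Mset (M : Subgroup G) (x y : Ω) : Subgroup G := M ⊓ stabilizer G ({x, y} : Set Ω)

theorem mem_Mx {M : Subgroup G} {x : Ω} {g : G} : g ∈ Mx M x ↔ g ∈ M ∧ g • x = x := by
  unfold Mx
  rw [Subgroup.mem_inf, mem_stabilizer_iff]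

theorem mem_Mxy {M : Subgroup G} {x y : Ω} {g : G} :
    g ∈ Mxy M x y ↔ g ∈ M ∧ g • x = x ∧ g • y = y := by
  unfold Mxy
  rw [Subgroup.mem_inf, Subgroup.mem_inf, mem_stabilizer_iff, mem_stabilizer_iff, and_assoc]

theorem mem_Mset {M : Subgroup G} {x y : Ω} {g : G} :
    g ∈ Mset M x y ↔ g ∈ M ∧ ((g • x = x ∧ g • y = y) ∨ (g • x = y ∧ g • y = x)) := by
  unfold Mset
  rw [Subgroup.mem_inf, mem_stabilizer_iff, Set.smul_set_insert, Set.smul_set_singleton,
    Set.pair_eq_pair_iff]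

theorem Mxy_le_Mx (M : Subgroup G) (x y : Ω) : Mxy M x y ≤ Mx M x := by
  intro g hg
  rw [mem_Mxy] at hg
  exact mem_Mx.mpr ⟨hg.1, hg.2.1⟩

theorem Mx_le (M : Subgroup G) (x : Ω) : Mx M x ≤ M := fun g hg => (mem_Mx.mp hg).1

theorem Mxy_le_Mset (M : Subgroup G) (x y : Ω) : Mxy M x y ≤ Mset M x y := by
  intro g hg
  rw [mem_Mxy] at hg
  exact mem_Mset.mpr ⟨hg.1, Or.inl hg.2⟩

/-- the hypotheses: `G` doubly transitive and faithful of degree `≡ 2 (mod 4)`, `M` a non-trivial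
normal subgroup -/
structure Hyp (M : Subgroup G) : Prop where
  two : ∀ a b c d : Ω, a ≠ b → c ≠ d → ∃ g : G, g • a = c ∧ g • b = d
  norm : M.Normal
  mod4 : Fintype.card Ω % 4 = 2
  faith : ∀ g : G, (∀ x : Ω, g • x = x) → g = 1
  ne : M ≠ ⊥

variable {M : Subgroup G}

theorem Hyp.conj_mem (h : Hyp (Ω := Ω) M) {m : G} (hm : m ∈ M) (g : G) : g * m * g⁻¹ ∈ M :=
  h.norm.conj_mem m hm g

theorem Hyp.exists_ne (h : Hyp (Ω := Ω) M) (x : Ω) : ∃ y : Ω, y ≠ x := by
  have h1 : 1 < Fintype.card Ω := by have := h.mod4; omega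
  exact Fintype.exists_ne_of_one_lt_card h1 x

/-- `M` is transitive -/
theorem Hyp.trans (h : Hyp (Ω := Ω) M) (x y : Ω) : ∃ m ∈ M, m • x = y := by
  by_cases hxy : x = y
  · exact ⟨1, M.one_mem, by rw [one_smul, hxy]⟩
  obtain ⟨m0, hm0, hm01⟩ : ∃ m0 ∈ M, m0 ≠ 1 := by
    by_contra hcon
    push Not at hcon
    exact h.ne ((Subgroup.eq_bot_iff_forall M).mpr hcon)
  obtain ⟨c, hc⟩ : ∃ c : Ω, m0 • c ≠ c := by
    by_contra hcon
    push Not at hcon
    exact hm01 (h.faith m0 hcon)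
  obtain ⟨g, hg1, hg2⟩ := h.two c (m0 • c) x y (Ne.symm hc) hxy
  refine ⟨g * m0 * g⁻¹, h.conj_mem hm0 g, ?_⟩
  rw [← hg1, mul_smul, mul_smul, inv_smul_smul, hg2]

/-- the order of `M` -/
theorem Hyp.card_M (h : Hyp (Ω := Ω) M) (x : Ω) :
    Nat.card M = Fintype.card Ω * Nat.card (Mx M x) := by
  have h1 := card_orbit_mul_card_inf M x
  have h2 : orbit ↥M x = Set.univ := by
    rw [Set.eq_univ_iff_forall]
    intro y
    obtain ⟨m, hm, hmy⟩ := h.trans x y
    exact ⟨⟨m, hm⟩, hmy⟩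
  rw [h2, Nat.card_congr (Equiv.Set.univ Ω), Nat.card_eq_fintype_card] at h1
  unfold Mx
  rw [h1]

/-- any two points are interchanged by an element of `M` -/
theorem Hyp.swap (h : Hyp (Ω := Ω) M) {x y : Ω} (hxy : x ≠ y) :
    ∃ m ∈ M, m • x = y ∧ m • y = x := by
  have : Fact (Nat.Prime 2) := ⟨Nat.prime_two⟩
  have heven : 2 ∣ Nat.card M := by
    rw [h.card_M x]
    have := h.mod4
    exact Dvd.dvd.mul_right (by omega) _
  obtain ⟨u, hu⟩ := exists_prime_orderOf_dvd_card' 2 heven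
  have hu1 : (u : G) ≠ 1 := by
    intro h1
    have : u = 1 := Subtype.ext h1
    rw [this, orderOf_one] at hu
    omega
  have hu2 : (u : G) * (u : G) = 1 := by
    have := pow_orderOf_eq_one u
    rw [hu, pow_two] at this
    exact congrArg Subtype.val this
  obtain ⟨c, hc⟩ : ∃ c : Ω, (u : G) • c ≠ c := by
    by_contra hcon
    push Not at hcon
    exact hu1 (h.faith _ hcon)
  obtain ⟨g, hg1, hg2⟩ := h.two c ((u : G) • c) x y (Ne.symm hc) hxy
  refine ⟨g * u * g⁻¹, h.conj_mem u.2 g, ?_, ?_⟩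
  · rw [← hg1, mul_smul, mul_smul, inv_smul_smul, hg2]
  · rw [← hg2]
    simp only [mul_smul, inv_smul_smul]
    rw [← mul_smul (u : G) (u : G), hu2, one_smul, hg1]

/-- two-point stabilizers in `M` all have the same order -/
theorem Hyp.card_Mxy_eq (h : Hyp (Ω := Ω) M) {x y a b : Ω} (hxy : x ≠ y) (hab : a ≠ b) :
    Nat.card (Mxy M x y) = Nat.card (Mxy M a b) := by
  obtain ⟨g, hg1, hg2⟩ := h.two a b x y hab hxy
  have hmap : (Mxy M a b).map (MulAut.conj g).toMonoidHom = Mxy M x y := by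
    ext k
    rw [Subgroup.mem_map, mem_Mxy]
    constructor
    · rintro ⟨k0, hk0, rfl⟩
      rw [mem_Mxy] at hk0
      simp only [MulEquiv.coe_toMonoidHom, MulAut.conj_apply]
      refine ⟨h.conj_mem hk0.1 g, ?_, ?_⟩
      · rw [← hg1, mul_smul, mul_smul, inv_smul_smul, hk0.2.1]
      · rw [← hg2, mul_smul, mul_smul, inv_smul_smul, hk0.2.2]
    · rintro ⟨hk1, hk2, hk3⟩
      refine ⟨g⁻¹ * k * g, mem_Mxy.mpr ⟨?_, ?_, ?_⟩, ?_⟩
      · have := h.conj_mem hk1 g⁻¹
        rwa [inv_inv] at this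
      · rw [mul_smul, mul_smul, hg1, hk2, ← hg1, inv_smul_smul]
      · rw [mul_smul, mul_smul, hg2, hk3, ← hg2, inv_smul_smul]
      · simp only [MulEquiv.coe_toMonoidHom, MulAut.conj_apply]
        group
  rw [← hmap]
  exact Subgroup.card_map_of_injective (MulAut.conj g).injective

/-- the 2-part of a point stabilizer in `M` is that of a two-point stabilizer -/
theorem Hyp.v2_Mx (h : Hyp (Ω := Ω) M) {x y : Ω} (hxy : x ≠ y) :
    v2 (Mx M x) = v2 (Mxy M x y) := by
  have : Fact (Nat.Prime 2) := ⟨Nat.prime_two⟩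
  apply le_antisymm
  · obtain ⟨Q, hQ⟩ := exists_isSyl 2 (Mx M x)
    have hQp : IsPGroup 2 Q := hQ.isPGroup
    have hmod := hQp.card_modEq_card_fixedPoints Ω
    have hxfix : x ∈ fixedPoints ↥Q Ω := fun q => (mem_Mx.mp (hQ.1 q.2)).2
    obtain ⟨y', hy'fix, hy'x⟩ : ∃ y' ∈ fixedPoints ↥Q Ω, y' ≠ x := by
      by_contra hcon
      push Not at hcon
      have hfp : fixedPoints ↥Q Ω = {x} := by
        ext z
        constructor
        · intro hz; exact hcon z hz
        · rintro rfl; exact hxfix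
      rw [hfp, Nat.card_eq_fintype_card] at hmod
      have h1 : Nat.card ↥({x} : Set Ω) = 1 := by
        rw [Nat.card_eq_fintype_card]; simp
      rw [h1] at hmod
      have := h.mod4
      have h2 := hmod
      unfold Nat.ModEq at h2
      omega
    have hQle : Q ≤ Mxy M x y' := by
      intro q hq
      have h1 := mem_Mx.mp (hQ.1 hq)
      exact mem_Mxy.mpr ⟨h1.1, h1.2, hy'fix ⟨q, hq⟩⟩
    have hd := Subgroup.card_dvd_of_le hQle
    rw [hQ.2, h.card_Mxy_eq (Ne.symm hy'x) hxy] at hd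
    exact (Nat.Prime.pow_dvd_iff_le_factorization Nat.prime_two Nat.card_pos.ne').mp hd
  · exact v2_mono (Mxy_le_Mx M x y)

theorem two_mod_four_factorization {n : ℕ} (hn : n % 4 = 2) : n.factorization 2 = 1 := by
  obtain ⟨q, hq⟩ : ∃ q, n = 2 * (2 * q + 1) := ⟨n / 4, by omega⟩
  rw [hq, Nat.factorization_mul (by norm_num) (by omega)]
  simp only [Finsupp.coe_add, Pi.add_apply]
  rw [Nat.Prime.factorization_self Nat.prime_two,
    Nat.factorization_eq_zero_of_not_dvd (by omega)]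

/-- the 2-part of `M` -/
theorem Hyp.v2_M (h : Hyp (Ω := Ω) M) (x : Ω) : v2 M = v2 (Mx M x) + 1 := by
  unfold v2
  rw [h.card_M x, Nat.factorization_mul (by have := h.mod4; omega) Nat.card_pos.ne']
  simp only [Finsupp.coe_add, Pi.add_apply]
  rw [two_mod_four_factorization h.mod4, add_comm]

/-- the order of the stabilizer of a pair -/
theorem Hyp.card_Mset (h : Hyp (Ω := Ω) M) {x y : Ω} (hxy : x ≠ y) :
    Nat.card (Mset M x y) = 2 * Nat.card (Mxy M x y) := by
  have h1 := card_orbit_mul_card_inf (Mset M x y) x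
  have h2 : orbit ↥(Mset M x y) x = {x, y} := by
    ext z
    constructor
    · rintro ⟨k, rfl⟩
      have hk := (mem_Mset.mp k.2).2
      rcases hk with hk | hk
      · left; exact hk.1
      · right; exact hk.1
    · intro hz
      rcases hz with rfl | hz
      · exact ⟨1, one_smul _ _⟩
      · rw [Set.mem_singleton_iff] at hz
        subst hz
        obtain ⟨m, hm, hm1, hm2⟩ := h.swap hxy
        exact ⟨⟨m, mem_Mset.mpr ⟨hm, Or.inr ⟨hm1, hm2⟩⟩⟩, hm1⟩
  have h3 : Mset M x y ⊓ stabilizer G x = Mxy M x y := by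
    ext k
    rw [Subgroup.mem_inf, mem_Mset, mem_Mxy, mem_stabilizer_iff]
    constructor
    · rintro ⟨⟨hk, hk2⟩, hkx⟩
      rcases hk2 with hk2 | hk2
      · exact ⟨hk, hk2⟩
      · exfalso; exact hxy (hkx.symm.trans hk2.1)
    · rintro ⟨hk, hk1, hk2⟩
      exact ⟨⟨hk, Or.inl ⟨hk1, hk2⟩⟩, hk1⟩
  rw [h2, h3] at h1
  rw [← h1]
  congr 1
  rw [Nat.card_eq_fintype_card]
  simp [hxy]

theorem Hyp.v2_Mset (h : Hyp (Ω := Ω) M) {x y : Ω} (hxy : x ≠ y) :
    v2 (Mset M x y) = v2 (Mxy M x y) + 1 := by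
  unfold v2
  rw [h.card_Mset hxy, Nat.factorization_mul (by norm_num) Nat.card_pos.ne']
  simp only [Finsupp.coe_add, Pi.add_apply]
  rw [Nat.Prime.factorization_self Nat.prime_two, add_comm]

end

end Cfsg.Agent.Lib.Helper61.TT
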