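import Mathlib
import Cfsg.Agent.Lib.Helper61.TT2

set_option autoImplicit false
set_option linter.unusedVariables false
set_option linter.unusedSectionVars false

/-!
Normal subgroups of doubly transitive groups of degree `≡ 2 (mod 4)`: a Sylow 2-subgroup of a
two-point stabilizer and the elements interchanging two of its fixed points.
-/

namespace Cfsg.Agent.Lib.Helper61.TT

open MulAction Cfsg.Agent.Lib.Helper61.Miller
open scoped Pointwise

section
variable {G : Type*} [Group G] [Finite G] {Ω : Type*} [Fintype Ω] [DecidableEq Ω] [MulAction G Ω]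

/-- the set of fixed points of a subgroup -/
def fixT (T : Subgroup G) : Set Ω := {z | ∀ τ ∈ T, τ • z = z}

theorem mem_fixT {T : Subgroup G} {z : Ω} : z ∈ fixT T ↔ ∀ τ ∈ T, τ • z = z := Iff.rfl

/-- the configuration: `T` is a Sylow 2-subgroup of the stabilizer of `a` and `b` in `M` -/
structure Cfg (M : Subgroup G) (a b : Ω) (T : Subgroup G) : Prop where
  hyp : Hyp (Ω := Ω) M
  hab : a ≠ b
  syl : IsSyl 2 (Mxy M a b) T

variable {M T : Subgroup G} {a b : Ω}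

theorem Cfg.T_le_M (c : Cfg M a b T) : T ≤ M :=
  fun τ hτ => (mem_Mxy.mp (c.syl.1 hτ)).1

theorem Cfg.card_T (c : Cfg M a b T) : Nat.card T = 2 ^ v2 (Mxy M a b) := c.syl.2

theorem Cfg.isPGroup_T (c : Cfg M a b T) : IsPGroup 2 T := by
  have : Fact (Nat.Prime 2) := ⟨Nat.prime_two⟩
  exact c.syl.isPGroup

theorem Cfg.a_mem (c : Cfg M a b T) : a ∈ fixT T :=
  fun τ hτ => (mem_Mxy.mp (c.syl.1 hτ)).2.1

theorem Cfg.b_mem (c : Cfg M a b T) : b ∈ fixT T :=
  fun τ hτ => (mem_Mxy.mp (c.syl.1 hτ)).2.2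

theorem Cfg.v2_Mxy (c : Cfg M a b T) {x y : Ω} (hxy : x ≠ y) :
    v2 (Mxy M x y) = v2 (Mxy M a b) :=
  v2_of_card_eq (c.hyp.card_Mxy_eq hxy c.hab)

theorem Cfg.v2_Mx (c : Cfg M a b T) (x : Ω) : v2 (Mx M x) = v2 (Mxy M a b) := by
  obtain ⟨y, hy⟩ := c.hyp.exists_ne x
  rw [c.hyp.v2_Mx (Ne.symm hy), c.v2_Mxy (Ne.symm hy)]

theorem Cfg.v2_M (c : Cfg M a b T) : v2 M = v2 (Mxy M a b) + 1 := by
  rw [c.hyp.v2_M a, c.v2_Mx a]

/-- a 2-subgroup of `M` fixing a point has order at most `|T|` -/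
theorem Cfg.card_le_of_fix (c : Cfg M a b T) {Q : Subgroup G} (hQM : Q ≤ M) (hQ : IsPGroup 2 Q)
    (z : Ω) (hz : ∀ q ∈ Q, q • z = z) : Nat.card Q ≤ Nat.card T := by
  have hQle : Q ≤ Mx M z := fun q hq => mem_Mx.mpr ⟨hQM hq, hz q hq⟩
  obtain ⟨j, hj, hjc⟩ := card_le_of_isPGroup hQle hQ
  rw [hjc, c.card_T]
  rw [c.v2_Mx z] at hj
  exact Nat.pow_le_pow_right (by norm_num) hj

/-- a 2-subgroup of `M` containing `T` and fixing a point is `T` -/
theorem Cfg.eq_T_of_fix (c : Cfg M a b T) {Q : Subgroup G} (hQM : Q ≤ M) (hQ : IsPGroup 2 Q)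
    (hTQ : T ≤ Q) (z : Ω) (hz : ∀ q ∈ Q, q • z = z) : Q = T := by
  symm
  exact Subgroup.eq_of_le_of_card_ge hTQ (c.card_le_of_fix hQM hQ z hz)

/-- two fixed points of `T` are interchanged by a 2-element of `M` normalizing `T` -/
theorem Cfg.exists_swap (c : Cfg M a b T) {x y : Ω} (hx : x ∈ fixT T) (hy : y ∈ fixT T)
    (hxy : x ≠ y) :
    ∃ T' : Subgroup G, T ≤ T' ∧ T' ≤ M ∧ T' ≤ Subgroup.normalizer (T : Set G) ∧
      Nat.card T' = 2 ^ (v2 (Mxy M a b) + 1) ∧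
      ∃ w ∈ T', w • x = y ∧ w • y = x ∧ w * w ∈ T ∧ ∀ z ∈ fixT (Ω := Ω) T, w • z ≠ z := by
  have : Fact (Nat.Prime 2) := ⟨Nat.prime_two⟩
  have hTle : T ≤ Mset M x y := fun τ hτ =>
    mem_Mset.mpr ⟨c.T_le_M hτ, Or.inl ⟨hx τ hτ, hy τ hτ⟩⟩
  obtain ⟨T', hT', hTT'⟩ := exists_isSyl_ge (p := 2) hTle c.isPGroup_T
  have hcardT' : Nat.card T' = 2 ^ (v2 (Mxy M a b) + 1) := by
    have := hT'.2
    rw [this]
    have h1 := c.hyp.v2_Mset hxy
    unfold v2 at h1
    rw [h1]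
    have h2 := c.v2_Mxy hxy
    unfold v2 at h2
    rw [h2]
    rfl
  have hT'M : T' ≤ M := fun u hu => (mem_Mset.mp (hT'.1 hu)).1
  have hT'p : IsPGroup 2 T' := hT'.isPGroup
  have hidx : (T.subgroupOf T').index = 2 := by
    have h1 := Subgroup.index_mul_card (T.subgroupOf T')
    have h2 : Nat.card (T.subgroupOf T') = Nat.card T :=
      Nat.card_congr (Subgroup.subgroupOfEquivOfLe hTT').toEquiv
    rw [h2, hcardT', c.card_T, pow_succ, mul_comm (2 ^ v2 (Mxy M a b)) 2] at h1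
    exact Nat.eq_of_mul_eq_mul_right (by positivity) h1
  have hnormal : (T.subgroupOf T').Normal := Subgroup.normal_of_index_eq_two hidx
  have hconj : ∀ u ∈ T', ∀ τ ∈ T, u * τ * u⁻¹ ∈ T := by
    intro u hu τ hτ
    have h1 : (⟨τ, hTT' hτ⟩ : ↥T') ∈ T.subgroupOf T' := by
      rw [Subgroup.mem_subgroupOf]; exact hτ
    have h2 := hnormal.conj_mem _ h1 ⟨u, hu⟩
    rw [Subgroup.mem_subgroupOf] at h2
    simpa using h2
  have hT'norm : T' ≤ Subgroup.normalizer (T : Set G) := by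
    intro u hu
    rw [Subgroup.mem_normalizer_iff]
    intro τ
    constructor
    · exact hconj u hu τ
    · intro hτ'
      have := hconj u⁻¹ (T'.inv_mem hu) _ hτ'
      have e : u⁻¹ * (u * τ * u⁻¹) * u⁻¹⁻¹ = τ := by group
      rwa [e] at this
  obtain ⟨w, hw, hwT⟩ : ∃ w ∈ T', w ∉ T := by
    by_contra hcon
    push Not at hcon
    have hle : T' ≤ T := hcon
    have := Subgroup.card_le_of_le hle
    rw [hcardT', c.card_T, pow_succ] at this
    have hpos : 0 < 2 ^ v2 (Mxy M a b) := by positivity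
    omega
  have hwfix : ∀ z ∈ fixT (Ω := Ω) T, w • z ≠ z := by
    intro z hz hwz
    have hQT' : T ⊔ Subgroup.zpowers w ≤ T' :=
      sup_le hTT' ((Subgroup.zpowers_le).mpr hw)
    have hQp : IsPGroup 2 ↥(T ⊔ Subgroup.zpowers w) := hT'p.to_le hQT'
    have hQfix : ∀ q ∈ T ⊔ Subgroup.zpowers w, q • z = z := by
      have hle : T ⊔ Subgroup.zpowers w ≤ stabilizer G z := by
        apply sup_le
        · intro τ hτ; exact mem_stabilizer_iff.mpr (hz τ hτ)
        · rw [Subgroup.zpowers_le]; exact mem_stabilizer_iff.mpr hwz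
      intro q hq
      exact mem_stabilizer_iff.mp (hle hq)
    have := c.eq_T_of_fix (hQT'.trans hT'M) hQp le_sup_left z hQfix
    apply hwT
    rw [← this]
    exact (le_sup_right : Subgroup.zpowers w ≤ _) (Subgroup.mem_zpowers w)
  refine ⟨T', hTT', hT'M, hT'norm, hcardT', w, hw, ?_, ?_, ?_, hwfix⟩
  · have hwM := (mem_Mset.mp (hT'.1 hw)).2
    rcases hwM with hwM | hwM
    · exact absurd hwM.1 (hwfix x hx)
    · exact hwM.1
  · have hwM := (mem_Mset.mp (hT'.1 hw)).2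
    rcases hwM with hwM | hwM
    · exact absurd hwM.1 (hwfix x hx)
    · exact hwM.2
  · have := Subgroup.mul_self_mem_of_index_two hidx ⟨w, hw⟩
    rw [Subgroup.mem_subgroupOf] at this
    simpa using this

end

end Cfsg.Agent.Lib.Helper61.TT
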