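import Mathlib
import Cfsg.Agent.Lib.Helper61.TT3

set_option autoImplicit false
set_option linter.unusedVariables false
set_option linter.unusedSectionVars false

/-!
Normal subgroups of doubly transitive groups of degree `≡ 2 (mod 4)` are doubly transitive.
-/

namespace Cfsg.Agent.Lib.Helper61.TT

open MulAction Cfsg.Agent.Lib.Helper61.Miller
open scoped Pointwise

section
variable {G : Type*} [Group G] [Finite G] {Ω : Type*} [Fintype Ω] [DecidableEq Ω] [MulAction G Ω]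

/-- the normalizer of `T` in `M` -/
def NT (M T : Subgroup G) : Subgroup G := M ⊓ Subgroup.normalizer (T : Set G)

theorem fixT_smul {T : Subgroup G} {g : G} (hg : g ∈ Subgroup.normalizer (T : Set G)) {z : Ω}
    (hz : z ∈ fixT T) : g • z ∈ fixT T := by
  intro τ hτ
  have h1 : g⁻¹ * τ * g ∈ T := by
    apply (Subgroup.mem_normalizer_iff.mp hg (g⁻¹ * τ * g)).mpr
    have e : g * (g⁻¹ * τ * g) * g⁻¹ = τ := by group
    rw [e]; exact hτ
  have h2 := hz _ h1
  calc τ • g • z = g • (g⁻¹ * τ * g) • z := by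
        simp only [mul_smul, smul_inv_smul]
    _ = g • z := by rw [h2]

variable (Ω) in
/-- the action of the normalizer of `T` on the fixed points of `T` -/
def FS (M T : Subgroup G) : SubMulAction ↥(NT M T) Ω where
  carrier := fixT T
  smul_mem' := by
    intro g z hz
    exact fixT_smul g.2.2 hz

theorem mem_FS {M T : Subgroup G} {z : Ω} : z ∈ FS Ω M T ↔ z ∈ fixT T := Iff.rfl

variable {M T : Subgroup G} {a b : Ω}

/-- the number of fixed points of `T` is twice an odd number -/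
theorem Cfg.card_fix (c : Cfg M a b T) :
    ∃ m, Odd m ∧ Nat.card ↥(FS Ω M T) = 2 * m := by
  have : Fact (Nat.Prime 2) := ⟨Nat.prime_two⟩
  have horb : orbit ↥(NT M T) a = fixT T := by
    ext z
    constructor
    · rintro ⟨g, rfl⟩
      exact fixT_smul g.2.2 c.a_mem
    · intro hz
      by_cases hza : z = a
      · subst hza; exact mem_orbit_self _
      · obtain ⟨T', _, hT'M, hT'n, _, w, hw, hwa, _⟩ := c.exists_swap c.a_mem hz (Ne.symm hza)
        exact ⟨⟨w, hT'M hw, hT'n hw⟩, hwa⟩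
  have h1 := card_orbit_mul_card_inf (NT M T) a
  have hvN : v2 (NT M T) = v2 (Mxy M a b) + 1 := by
    apply le_antisymm
    · have h2 : v2 (NT M T) ≤ v2 M := v2_mono inf_le_left
      rwa [c.v2_M] at h2
    · obtain ⟨T', _, hT'M, hT'n, hcard, _⟩ := c.exists_swap c.a_mem c.b_mem c.hab
      have hle : T' ≤ NT M T := fun u hu => ⟨hT'M hu, hT'n hu⟩
      have hd := Subgroup.card_dvd_of_le hle
      rw [hcard] at hd
      exact (Nat.Prime.pow_dvd_iff_le_factorization Nat.prime_two Nat.card_pos.ne').mp hd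
  have hvNa : v2 (NT M T ⊓ stabilizer G a) = v2 (Mxy M a b) := by
    apply le_antisymm
    · have hle : NT M T ⊓ stabilizer G a ≤ Mx M a := by
        intro g hg
        exact mem_Mx.mpr ⟨hg.1.1, mem_stabilizer_iff.mp hg.2⟩
      have := v2_mono hle
      rwa [c.v2_Mx a] at this
    · have hle : T ≤ NT M T ⊓ stabilizer G a := by
        intro τ hτ
        exact ⟨⟨c.T_le_M hτ, Subgroup.le_normalizer hτ⟩, mem_stabilizer_iff.mpr (c.a_mem τ hτ)⟩
      have hd := Subgroup.card_dvd_of_le hle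
      rw [c.card_T] at hd
      exact (Nat.Prime.pow_dvd_iff_le_factorization Nat.prime_two Nat.card_pos.ne').mp hd
  have hpos : Nat.card (orbit ↥(NT M T) a) ≠ 0 := by
    intro h0
    rw [h0, zero_mul] at h1
    exact Nat.card_pos.ne' h1.symm
  have hfac : (Nat.card (orbit ↥(NT M T) a)).factorization 2 = 1 := by
    have h2 := congrArg (fun n => n.factorization 2) h1
    rw [Nat.factorization_mul hpos Nat.card_pos.ne'] at h2
    simp only [Finsupp.coe_add, Pi.add_apply] at h2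
    unfold v2 at hvN hvNa
    rw [hvN, hvNa] at h2
    omega
  have hcardFS : Nat.card ↥(FS Ω M T) = Nat.card (orbit ↥(NT M T) a) := by
    rw [horb]
    rfl
  rw [hcardFS]
  refine ⟨Nat.card (orbit ↥(NT M T) a) / 2 ^ 1, ?_, ?_⟩
  · have := Nat.not_dvd_ordCompl (n := Nat.card (orbit ↥(NT M T) a)) Nat.prime_two hpos
    rw [hfac] at this
    exact Nat.odd_iff.mpr (by omega)
  · have := Nat.ordProj_mul_ordCompl_eq_self (Nat.card (orbit ↥(NT M T) a)) 2
    rw [hfac] at this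
    omega

section psi
variable [Fintype ↥(FS Ω M T)] [DecidableEq ↥(FS Ω M T)]

variable (Ω) in
/-- the sign of the action of the normalizer of `T` on the fixed points of `T` -/
noncomputable def psi (M T : Subgroup G) [Fintype ↥(FS Ω M T)] [DecidableEq ↥(FS Ω M T)] :
    ↥(NT M T) →* ℤˣ :=
  Equiv.Perm.sign.comp (MulAction.toPermHom ↥(NT M T) ↥(FS Ω M T))

theorem toPerm_eq_one_of_mem {g : ↥(NT M T)} (hg : (g : G) ∈ T) :
    MulAction.toPermHom ↥(NT M T) ↥(FS Ω M T) g = 1 := by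
  ext z
  simp only [MulAction.toPermHom_apply, MulAction.toPerm_apply, Equiv.Perm.coe_one, id_eq,
    SubMulAction.val_smul]
  exact z.2 _ hg

theorem psi_of_mem_T {g : ↥(NT M T)} (hg : (g : G) ∈ T) : psi Ω M T g = 1 := by
  unfold psi
  rw [MonoidHom.comp_apply, toPerm_eq_one_of_mem hg, map_one]

theorem Cfg.psi_swap (c : Cfg M a b T) (w : ↥(NT M T)) (hww : (w : G) * (w : G) ∈ T)
    (hwfix : ∀ z ∈ fixT (Ω := Ω) T, (w : G) • z ≠ z) : psi Ω M T w = -1 := by
  obtain ⟨m, hm, hcard⟩ := c.card_fix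
  unfold psi
  rw [MonoidHom.comp_apply]
  apply sign_fpf_invol _ _ _ m _ hm
  · rw [← map_mul]
    apply toPerm_eq_one_of_mem
    exact hww
  · intro z hz
    apply hwfix z.1 z.2
    exact congrArg Subtype.val hz
  · rw [← Nat.card_eq_fintype_card]
    exact hcard

theorem Cfg.psi_of_fix (c : Cfg M a b T) (g : ↥(NT M T)) (hga : (g : G) • a = a) :
    psi Ω M T g = 1 := by
  have : Fact (Nat.Prime 2) := ⟨Nat.prime_two⟩
  obtain ⟨k, o, ho, hgo⟩ := Nat.exists_eq_two_pow_mul_odd (orderOf_pos g).ne'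
  -- the 2-part of g
  have hh : (g ^ o) ^ (2 ^ k) = 1 := by
    rw [← pow_mul, mul_comm, ← hgo, pow_orderOf_eq_one]
  have hhG : ((g : G) ^ o) ^ (2 ^ k) = 1 := by
    have := congrArg Subtype.val hh
    simpa using this
  have hzp : IsPGroup 2 ↥(Subgroup.zpowers ((g : G) ^ o)) := by
    have hd : orderOf ((g : G) ^ o) ∣ 2 ^ k := orderOf_dvd_of_pow_eq_one hhG
    obtain ⟨j, _, hj⟩ := (Nat.dvd_prime_pow Nat.prime_two).mp hd
    apply IsPGroup.of_card (n := j)
    rw [Nat.card_zpowers, hj]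
  have hgN : (g : G) ^ o ∈ NT M T := (NT M T).pow_mem g.2 o
  have hQp : IsPGroup 2 ↥(Subgroup.zpowers ((g : G) ^ o) ⊔ T) := by
    apply IsPGroup.to_sup_of_normal_right' hzp c.isPGroup_T
    rw [Subgroup.zpowers_le]
    exact hgN.2
  have hQM : Subgroup.zpowers ((g : G) ^ o) ⊔ T ≤ M := by
    apply sup_le
    · rw [Subgroup.zpowers_le]; exact hgN.1
    · exact c.T_le_M
  have hQfix : ∀ q ∈ Subgroup.zpowers ((g : G) ^ o) ⊔ T, q • a = a := by
    have hle : Subgroup.zpowers ((g : G) ^ o) ⊔ T ≤ stabilizer G a := by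
      apply sup_le
      · rw [Subgroup.zpowers_le]
        exact (stabilizer G a).pow_mem (mem_stabilizer_iff.mpr hga) o
      · intro τ hτ; exact mem_stabilizer_iff.mpr (c.a_mem τ hτ)
    intro q hq
    exact mem_stabilizer_iff.mp (hle hq)
  have hQT := c.eq_T_of_fix hQM hQp le_sup_right a hQfix
  have hgoT : (g : G) ^ o ∈ T := by
    have h0 : (g : G) ^ o ∈ Subgroup.zpowers ((g : G) ^ o) ⊔ T :=
      (le_sup_left : Subgroup.zpowers ((g : G) ^ o) ≤ _) (Subgroup.mem_zpowers _)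
    rw [hQT] at h0
    exact h0
  have h1 : psi Ω M T (g ^ o) = 1 := psi_of_mem_T (by simpa using hgoT)
  rw [map_pow] at h1
  rcases Int.units_eq_one_or (psi Ω M T g) with h2 | h2
  · exact h2
  · rw [h2, ho.neg_one_pow] at h1
    exact absurd h1 (by decide)

/-- the fixed points of `T` are `a` and `b` -/
theorem Cfg.fix_eq (c : Cfg M a b T) {z : Ω} (hz : z ∈ fixT T) : z = a ∨ z = b := by
  by_contra hcon
  push Not at hcon
  obtain ⟨T1, _, hT1M, hT1n, _, w1, hw1, hw1a, hw1b, hw1w, hw1f⟩ :=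
    c.exists_swap c.a_mem c.b_mem c.hab
  obtain ⟨T2, _, hT2M, hT2n, _, w2, hw2, hw2b, hw2z, hw2w, hw2f⟩ :=
    c.exists_swap c.b_mem hz (Ne.symm hcon.2)
  obtain ⟨T3, _, hT3M, hT3n, _, w3, hw3, hw3z, hw3a, hw3w, hw3f⟩ :=
    c.exists_swap hz c.a_mem hcon.1
  let W1 : ↥(NT M T) := ⟨w1, hT1M hw1, hT1n hw1⟩
  let W2 : ↥(NT M T) := ⟨w2, hT2M hw2, hT2n hw2⟩
  let W3 : ↥(NT M T) := ⟨w3, hT3M hw3, hT3n hw3⟩
  have h1 : psi Ω M T W1 = -1 := c.psi_swap W1 hw1w hw1f
  have h2 : psi Ω M T W2 = -1 := c.psi_swap W2 hw2w hw2f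
  have h3 : psi Ω M T W3 = -1 := c.psi_swap W3 hw3w hw3f
  have hg : ((W3 * W2 * W1 : ↥(NT M T)) : G) • a = a := by
    show (w3 * w2 * w1) • a = a
    rw [mul_smul, mul_smul, hw1a, hw2b, hw3z]
  have h4 := c.psi_of_fix (W3 * W2 * W1) hg
  rw [map_mul, map_mul, h1, h2, h3] at h4
  exact absurd h4 (by decide)

end psi

/-- the stabilizer of `a` in `M` is transitive on the remaining points -/
theorem Cfg.stab_trans (c : Cfg M a b T) {y : Ω} (hy : y ≠ a) :
    ∃ k ∈ M, k • a = a ∧ k • b = y := by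
  classical
  have : Fact (Nat.Prime 2) := ⟨Nat.prime_two⟩
  have := Fintype.ofFinite ↥(FS Ω M T)
  obtain ⟨T2, hT2⟩ := exists_isSyl 2 (Mxy M a y)
  have hs1 : IsSyl 2 (Mx M a) T := by
    refine ⟨c.syl.1.trans (Mxy_le_Mx M a b), ?_⟩
    rw [c.card_T]
    have := c.v2_Mx a
    unfold v2 at this
    rw [this]
    rfl
  have hs2 : IsSyl 2 (Mx M a) T2 := by
    refine ⟨hT2.1.trans (Mxy_le_Mx M a y), ?_⟩
    rw [hT2.2]
    have h1 := c.v2_Mx a
    have h2 := c.v2_Mxy (Ne.symm hy)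
    unfold v2 at h1 h2
    rw [h1, h2]
  obtain ⟨k, hk, hk2⟩ := isSyl_conj 2 (Mx M a) T T2 hs1 hs2
  have hka := (mem_Mx.mp hk).2
  have hfix : k⁻¹ • y ∈ fixT T := by
    intro τ hτ
    have h1 : k * τ * k⁻¹ ∈ T2 := by
      rw [hk2]
      have e : k⁻¹ * (k * τ * k⁻¹) * k = τ := by group
      rw [e]; exact hτ
    have h2 := (mem_Mxy.mp (hT2.1 h1)).2.2
    calc τ • k⁻¹ • y = k⁻¹ • (k * τ * k⁻¹) • y := by
          simp only [mul_smul, inv_smul_smul]
      _ = k⁻¹ • y := by rw [h2]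
  rcases c.fix_eq hfix with h1 | h1
  · exfalso
    apply hy
    rw [inv_smul_eq_iff] at h1
    rw [h1, hka]
  · refine ⟨k, (mem_Mx.mp hk).1, hka, ?_⟩
    rw [inv_smul_eq_iff] at h1
    exact h1.symm

/-- **Main theorem**: a non-trivial normal subgroup of a doubly transitive group of degree
`≡ 2 (mod 4)` is doubly transitive. -/
theorem Hyp.two_trans (h : Hyp (Ω := Ω) M) {x y x' y' : Ω} (hxy : x ≠ y) (hxy' : x' ≠ y') :
    ∃ m ∈ M, m • x = x' ∧ m • y = y' := by
  have : Fact (Nat.Prime 2) := ⟨Nat.prime_two⟩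
  obtain ⟨m1, hm1, hm1x⟩ := h.trans x x'
  have hne : x' ≠ m1 • y := by
    rw [← hm1x]
    intro h1
    exact hxy (smul_left_cancel m1 h1)
  obtain ⟨T, hT⟩ := exists_isSyl 2 (Mxy M x' (m1 • y))
  have c : Cfg M x' (m1 • y) T := ⟨h, hne, hT⟩
  obtain ⟨k, hk, hkx, hky⟩ := c.stab_trans (Ne.symm hxy')
  refine ⟨k * m1, M.mul_mem hk hm1, ?_, ?_⟩
  · rw [mul_smul, hm1x, hkx]
  · rw [mul_smul, hky]

end

end Cfsg.Agent.Lib.Helper61.TT
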