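import Mathlib
import Cfsg.Agent.Lib.Helper61.TT4

set_option autoImplicit false
set_option linter.unusedVariables false
set_option linter.unusedSectionVars false

/-!
A minimal normal subgroup of a doubly transitive group of degree `≡ 2 (mod 4)`, `> 2`, is simple.
-/

namespace Cfsg.Agent.Lib.Helper61.TT

open MulAction Cfsg.Agent.Lib.Helper61.Miller
open scoped Pointwise

section
variable {G : Type*} [Group G] [Finite G] {Ω : Type*} [Fintype Ω] [DecidableEq Ω] [MulAction G Ω]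

/-- `K` is a subgroup of `M` normalized by `M` -/
def IsMN (M K : Subgroup G) : Prop := K ≤ M ∧ ∀ m ∈ M, ∀ k ∈ K, m * k * m⁻¹ ∈ K

theorem IsMN.inf {M K L : Subgroup G} (hK : IsMN M K) (hL : IsMN M L) : IsMN M (K ⊓ L) :=
  ⟨inf_le_left.trans hK.1, fun m hm k hk => ⟨hK.2 m hm k hk.1, hL.2 m hm k hk.2⟩⟩

theorem IsMN.inf_normal {M K A : Subgroup G} (hK : IsMN M K) (hA : A.Normal) : IsMN M (K ⊓ A) :=
  ⟨inf_le_left.trans hK.1, fun m hm k hk => ⟨hK.2 m hm k hk.1, hA.conj_mem k hk.2 m⟩⟩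

theorem IsMN.conj {M K : Subgroup G} (hM : M.Normal) (hK : IsMN M K) (g : G) :
    IsMN M (K.map (MulAut.conj g).toMonoidHom) := by
  constructor
  · rintro _ ⟨k, hk, rfl⟩
    simp only [MulEquiv.coe_toMonoidHom, MulAut.conj_apply]
    exact hM.conj_mem k (hK.1 hk) g
  · rintro m hm _ ⟨k, hk, rfl⟩
    simp only [MulEquiv.coe_toMonoidHom, MulAut.conj_apply]
    have h1 : g⁻¹ * m * g ∈ M := by
      have := hM.conj_mem m hm g⁻¹
      rwa [inv_inv] at this
    have h2 := hK.2 _ h1 k hk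
    refine ⟨(g⁻¹ * m * g) * k * (g⁻¹ * m * g)⁻¹, h2, ?_⟩
    simp only [MulEquiv.coe_toMonoidHom, MulAut.conj_apply]
    group

variable {M : Subgroup G}

/-- a non-trivial subgroup of `M` normalized by `M` is transitive -/
theorem Hyp.trans_of_isMN (h : Hyp (Ω := Ω) M) {K : Subgroup G} (hK : IsMN M K) (hK1 : K ≠ ⊥)
    (x y : Ω) : ∃ k ∈ K, k • x = y := by
  by_cases hxy : x = y
  · exact ⟨1, K.one_mem, by rw [one_smul, hxy]⟩
  obtain ⟨k0, hk0, hk01⟩ : ∃ k0 ∈ K, k0 ≠ 1 := by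
    by_contra hcon
    push Not at hcon
    exact hK1 ((Subgroup.eq_bot_iff_forall K).mpr hcon)
  obtain ⟨c, hc⟩ : ∃ c : Ω, k0 • c ≠ c := by
    by_contra hcon
    push Not at hcon
    exact hk01 (h.faith k0 hcon)
  obtain ⟨m, hm, hm1, hm2⟩ := h.two_trans (Ne.symm hc) hxy
  refine ⟨m * k0 * m⁻¹, hK.2 m hm k0 hk0, ?_⟩
  rw [← hm1, mul_smul, mul_smul, inv_smul_smul, hm2]

/-- the sign character of the action -/
noncomputable def sgn (G : Type*) [Group G] (Ω : Type*) [Fintype Ω] [DecidableEq Ω]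
    [MulAction G Ω] : G →* ℤˣ :=
  Equiv.Perm.sign.comp (MulAction.toPermHom G Ω)

/-- a fixed-point-free involution is odd -/
theorem Hyp.sgn_invol (h : Hyp (Ω := Ω) M) {u : G} (hu2 : u * u = 1)
    (hfix : ∀ x : Ω, u • x ≠ x) : sgn G Ω u = -1 := by
  unfold sgn
  rw [MonoidHom.comp_apply]
  obtain ⟨m, hm⟩ : ∃ m, Fintype.card Ω = 2 * (2 * m + 1) :=
    ⟨Fintype.card Ω / 4, by have := h.mod4; omega⟩
  apply sign_fpf_invol _ _ _ (2 * m + 1) hm ⟨m, rfl⟩
  · rw [← map_mul, hu2, map_one]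
  · intro x
    exact hfix x

/-- the hypotheses for simplicity -/
structure Hyp2 (M : Subgroup G) : Prop where
  hyp : Hyp (Ω := Ω) M
  min : ∀ N : Subgroup G, N.Normal → N ≤ M → N = ⊥ ∨ N = M
  big : 2 < Fintype.card Ω

/-- a minimal normal subgroup has no proper non-trivial normal subgroups -/
theorem Hyp2.simple (h : Hyp2 (Ω := Ω) M) (K : Subgroup G) (hK : IsMN M K) : K = ⊥ ∨ K = M := by
  classical
  have : Fact (Nat.Prime 2) := ⟨Nat.prime_two⟩
  by_contra hcon
  push Not at hcon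
  have hex : ∃ n, ∃ K : Subgroup G, IsMN M K ∧ K ≠ ⊥ ∧ K ≠ M ∧ Nat.card K = n :=
    ⟨_, K, hK, hcon.1, hcon.2, rfl⟩
  obtain ⟨K, hK, hK1, hKM, hKn⟩ := Nat.find_spec hex
  have hmin : ∀ K' : Subgroup G, IsMN M K' → K' ≠ ⊥ → K' ≠ M → Nat.card K ≤ Nat.card K' := by
    intro K' hK' hK'1 hK'M
    rw [hKn]
    exact Nat.find_min' hex ⟨K', hK', hK'1, hK'M, rfl⟩
  have hM := h.hyp.norm
  -- proper subgroups of `K` normalized by `M` are trivial
  have hsub : ∀ L : Subgroup G, IsMN M L → L ≤ K → L ≠ K → L = ⊥ := by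
    intro L hL hLK hLne
    by_contra hL1
    have hLM : L ≠ M := by
      intro h1
      apply hKM
      exact le_antisymm hK.1 (h1 ▸ hLK)
    have := hmin L hL hL1 hLM
    exact hLne (Subgroup.eq_of_le_of_card_ge hLK this)
  -- a conjugate of `K` different from `K`
  obtain ⟨g, hg⟩ : ∃ g : G, K.map (MulAut.conj g).toMonoidHom ≠ K := by
    by_contra hall
    push Not at hall
    have hKn : K.Normal := by
      constructor
      intro k hk g
      have : g * k * g⁻¹ ∈ K.map (MulAut.conj g).toMonoidHom := ⟨k, hk, rfl⟩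
      rwa [hall g] at this
    rcases h.min K hKn hK.1 with h1 | h1
    · exact hK1 h1
    · exact hKM h1
  set K' := K.map (MulAut.conj g).toMonoidHom with hK'def
  have hK' : IsMN M K' := hK.conj hM g
  have hcard' : Nat.card K' = Nat.card K :=
    Subgroup.card_map_of_injective (MulAut.conj g).injective
  have hK'1 : K' ≠ ⊥ := by
    intro h1
    apply hK1
    rw [h1] at hcard'
    exact (Subgroup.card_eq_one).mp (by rw [← hcard']; simp)
  have hinf : K ⊓ K' = ⊥ := by
    apply hsub (K ⊓ K') (hK.inf hK') inf_le_left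
    intro h1
    have hle : K ≤ K' := by rw [← h1]; exact inf_le_right
    apply hg
    symm
    exact Subgroup.eq_of_le_of_card_ge hle hcard'.le
  -- `K` and `K'` commute elementwise
  have hcomm : ∀ k ∈ K, ∀ k' ∈ K', k * k' = k' * k := by
    intro k hk k' hk'
    have h1 : k * k' * k⁻¹ * k'⁻¹ ∈ K ⊓ K' := by
      constructor
      · have h2 : k' * k⁻¹ * k'⁻¹ ∈ K := hK.2 k' (hK'.1 hk') k⁻¹ (K.inv_mem hk)
        have h3 := K.mul_mem hk h2
        have e : k * (k' * k⁻¹ * k'⁻¹) = k * k' * k⁻¹ * k'⁻¹ := by group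
        rwa [e] at h3
      · have h2 : k * k' * k⁻¹ ∈ K' := hK'.2 k (hK.1 hk) k' hk'
        exact K'.mul_mem h2 (K'.inv_mem hk')
    rw [hinf, Subgroup.mem_bot] at h1
    have e : k * k' = (k * k' * k⁻¹ * k'⁻¹) * (k' * k) := by group
    rw [e, h1, one_mul]
  -- `K` is regular
  have hKtr := h.hyp.trans_of_isMN hK hK1
  have hK'tr := h.hyp.trans_of_isMN hK' hK'1
  have hsemi : ∀ k ∈ K, ∀ x : Ω, k • x = x → k = 1 := by
    intro k hk x hkx
    apply h.hyp.faith
    intro z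
    obtain ⟨k', hk', hk'z⟩ := hK'tr x z
    rw [← hk'z, ← mul_smul, hcomm k hk k' hk', mul_smul, hkx]
  have hcardK : Nat.card K = Fintype.card Ω := by
    obtain ⟨x0⟩ : Nonempty Ω := by
      rw [← Fintype.card_pos_iff]
      have := h.big
      omega
    have h1 := card_orbit_mul_card_inf K x0
    have h2 : orbit ↥K x0 = Set.univ := by
      rw [Set.eq_univ_iff_forall]
      intro y
      obtain ⟨k, hk, hky⟩ := hKtr x0 y
      exact ⟨⟨k, hk⟩, hky⟩
    have h3 : K ⊓ stabilizer G x0 = ⊥ := by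
      rw [Subgroup.eq_bot_iff_forall]
      intro k hk
      exact hsemi k hk.1 x0 (mem_stabilizer_iff.mp hk.2)
    rw [h2, h3, Nat.card_congr (Equiv.Set.univ Ω), Nat.card_eq_fintype_card] at h1
    rw [← h1]
    simp
  -- an involution in `K`
  have heven : 2 ∣ Nat.card K := by
    rw [hcardK]
    have := h.hyp.mod4
    omega
  obtain ⟨u, hu⟩ := exists_prime_orderOf_dvd_card' 2 heven
  have hu1 : (u : G) ≠ 1 := by
    intro h1
    have : u = 1 := Subtype.ext h1
    rw [this, orderOf_one] at hu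
    omega
  have hu2 : (u : G) * (u : G) = 1 := by
    have := pow_orderOf_eq_one u
    rw [hu, pow_two] at this
    exact congrArg Subtype.val this
  have hufix : ∀ x : Ω, (u : G) • x ≠ x := fun x hx => hu1 (hsemi _ u.2 x hx)
  have husgn := h.hyp.sgn_invol hu2 hufix
  -- the even elements of `K`
  have hK0 : K ⊓ (sgn G Ω).ker = ⊥ := by
    apply hsub _ (hK.inf_normal (MonoidHom.normal_ker _)) inf_le_left
    intro h1
    have hu0 : (u : G) ∈ K ⊓ (sgn G Ω).ker := by rw [h1]; exact u.2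
    have := MonoidHom.mem_ker.mp hu0.2
    rw [husgn] at this
    exact absurd this (by decide)
  -- `K` embeds in `ℤˣ`
  have hinj : Function.Injective (fun k : ↥K => sgn G Ω (k : G)) := by
    intro k1 k2 h12
    simp only at h12
    have h1 : (k1 : G) * (k2 : G)⁻¹ ∈ K ⊓ (sgn G Ω).ker := by
      refine ⟨K.mul_mem k1.2 (K.inv_mem k2.2), ?_⟩
      show (k1 : G) * (k2 : G)⁻¹ ∈ (sgn G Ω).ker
      rw [MonoidHom.mem_ker, map_mul, map_inv, h12, mul_inv_cancel]
    rw [hK0, Subgroup.mem_bot] at h1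
    apply Subtype.ext
    exact mul_inv_eq_one.mp h1
  have hle := Nat.card_le_card_of_injective _ hinj
  have h2 : Nat.card ℤˣ = 2 := by simp
  rw [h2, hcardK] at hle
  have := h.big
  omega

end

end Cfsg.Agent.Lib.Helper61.TT
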